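import Groth.Agent.AlgSpWA.Basic
import Groth.Agent.AlgSpDec.Fibres
import Groth.Prelude.Def_AlgSpOX2
import Groth.Prelude.Def_AlgSp3

/-!
# Weakly associated points of direct images along affine morphisms
-/

set_option autoImplicit false
set_option linter.style.haveILetI false
set_option backward.isDefEq.respectTransparency false
set_option backward.isDefEq.respectTransparency.types false

noncomputable section

universe u v

open CategoryTheory CategoryTheory.Limits AlgebraicGeometry Opposite AlgSp TensorProduct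
open Groth.Agent.QCart13 Groth.Agent.WeakAss

namespace Groth.Agent.AlgSpWA

section algebra

variable {A B : Type u} [CommRing A] [CommRing B] (φ : A →+* B) {N : Type v} [AddCommGroup N] [Module B N]

theorem exists_weakAss_of_minimal (x : N) {p : Ideal A} (hp : p ∈ ((annEl B x).comap φ).minimalPrimes) :
    ∃ t ∈ FlatCA.weakAss B N, t.comap φ = p := by
  obtain ⟨t, ht, htp⟩ := Ideal.exists_minimalPrimes_comap_eq φ p hp
  exact ⟨t, ⟨x, ht⟩, htp⟩

theorem exists_minimal_of_finite (hφ : φ.Finite) {t : Ideal B} (ht : t ∈ FlatCA.weakAss B N) :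
    ∃ x : N, t.comap φ ∈ ((annEl B x).comap φ).minimalPrimes := by
  haveI : t.IsPrime := by
    obtain ⟨x, hx⟩ := ht
    exact hx.1.1
  algebraize [φ]
  haveI : t.LiesOver (t.comap φ) := ⟨rfl⟩
  exact exists_minimal_under (A := A) (p := t.comap φ) ht

theorem exists_minimal_of_noetherian [IsNoetherianRing B] {t : Ideal B} (ht : t ∈ FlatCA.weakAss B N) :
    ∃ x : N, t.comap φ ∈ ((annEl B x).comap φ).minimalPrimes := by
  obtain ⟨htp, x, hx⟩ := mem_ass_iff.1 (mem_ass_of_mem_weakAss_of_fg (IsNoetherian.noetherian t) ht)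
  haveI := htp
  subst hx
  exact ⟨x, ⟨inferInstance, le_rfl⟩, fun q hq _ => hq.2⟩

end algebra

variable {S : Scheme.{u}} {X Y : Sp S} {f : X ⟶ Y} (hf : Representable f)

theorem isAffine_bcObj (haff : IsAffineMor f) (E : EtOver Y) [hE : IsAffine E.obj.left.left] :
    Aff (EtOver.bcObj hf E) := by
  obtain ⟨W, i, fst, sq, hW⟩ := haff hE E.obj.hom
  let e : W ≅ (EtOver.bcObj hf E).obj.left :=
    (yon S).preimageIso (sq.isoIsPullback _ _ (hf.isPullback E.obj.hom))
  exact IsAffine.of_isIso (Y := W.left) ((Over.forget S).mapIso e).inv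

theorem isAffineMor_of_isFiniteMor (h : IsFiniteMor f) : IsAffineMor f := fun Z hZ g => by
  obtain ⟨W, i, fst, sq, hW, -⟩ := h hZ g
  exact ⟨W, i, fst, sq, hW⟩

theorem finite_bcπ (hfin : IsFiniteMor f) (E : EtOver Y) [hE : IsAffine E.obj.left.left] :
    (EtOver.bcπ hf E).left.appTop.hom.Finite := by
  haveI := isAffine_bcObj hf (isAffineMor_of_isFiniteMor hfin) E
  obtain ⟨W, i, fst, sq, hW, hi⟩ := hfin hE E.obj.hom
  let e : W ≅ (EtOver.bcObj hf E).obj.left :=
    (yon S).preimageIso (sq.isoIsPullback _ _ (hf.isPullback E.obj.hom))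
  have h : e.hom ≫ EtOver.bcπ hf E = i := (yon S).map_injective (by
    simp only [e, (yon S).map_comp, Functor.preimageIso_hom, Functor.map_preimage]
    exact IsPullback.isoIsPullback_hom_snd _ _ _ _)
  haveI : IsFinite (EtOver.bcπ hf E).left := by
    have hh : (EtOver.bcπ hf E).left = e.inv.left ≫ i.left := by
      rw [← Over.comp_left, Iso.eq_inv_comp e |>.2 h]
    rw [hh]
    infer_instance
  exact ((HasAffineProperty.iff_of_isAffine (P := @IsFinite)).1 ‹IsFinite (EtOver.bcπ hf E).left›).2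

theorem isWeakAssOn_push_iff (M : ModEt X) (E : EtOver Y) [IsAffine E.obj.left.left] (u : ↥E.obj.left.left) :
    IsWeakAssOn ((pushModEt hf).obj M) E u ↔ ∃ x : sectModEt M (EtOver.bcObj hf E),
      primeAtPt E.obj.left.left u ∈
        ((annEl (Fn (EtOver.bcObj hf E)) x).comap (EtOver.bcπ hf E).left.appTop.hom).minimalPrimes := by
  have key : ∀ s : sectModEt ((pushModEt hf).obj M) E, annSect s =
      (annEl (Fn (EtOver.bcObj hf E)) (show sectModEt M (EtOver.bcObj hf E) from s)).comap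
        (EtOver.bcπ hf E).left.appTop.hom := fun s => by
    ext a
    rw [Ideal.mem_comap, mem_annEl, mem_annSect_iff]
    rfl
  refine ⟨fun ⟨s, hs⟩ => ⟨_, key s ▸ hs⟩, fun ⟨x, hx⟩ => ⟨x, ?_⟩⟩
  rw [key]
  exact hx

theorem weakAssEt_push_subset (haff : IsAffineMor f) (M : ModEt X) :
    WeakAssEt ((pushModEt hf).obj M) ⊆ Points.map f '' WeakAssEt M := by
  rintro y ⟨E, hE, u, rfl, hu⟩
  obtain ⟨x, hx⟩ := (isWeakAssOn_push_iff hf M E u).1 hu
  haveI : IsAffine (EtOver.bcObj hf E).obj.left.left := isAffine_bcObj hf haff E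
  obtain ⟨t, ht, htu⟩ := exists_weakAss_of_minimal _ x hx
  obtain ⟨w, rfl, hw⟩ := exists_mem_of_weakAss M (EtOver.bcObj hf E) ht
  refine ⟨_, hw, ?_⟩
  have hwu : (EtOver.bcπ hf E).left w = u := primeAtPt_injective ((primeAtPt_comap _ w).symm.trans htu)
  rw [Points.map_ofPt, (EtOver.isPullback_bcObj hf E).w, AlgSpLib.ofPt_comp, hwu]

theorem exists_bc_point (E : EtOver Y) (u : ↥E.obj.left.left) (x : Points X)
    (h : Points.map f x = Points.ofPt E.obj.hom u) :
    ∃ w : ↥(EtOver.bcObj hf E).obj.left.left,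
      Points.ofPt (EtOver.bcObj hf E).obj.hom w = x ∧ (EtOver.bcπ hf E).left w = u := by
  rw [Points.ofPt_eq_map_ofScheme] at h
  obtain ⟨z, hz₁, hz₂⟩ := AlgSpLib.exists_point_of_isPullback (EtOver.isPullback_bcObj hf E) h
  refine ⟨Points.toScheme _ z, ?_, ?_⟩
  · rw [Points.ofPt_eq_map_ofScheme, Points.ofScheme_toScheme, hz₁]
  · rw [← Points.ofScheme_toScheme _ z, Points.map_ofPt, Category.id_comp] at hz₂
    exact ((Points.toScheme_ofPt _ _).symm.trans (congrArg (Points.toScheme _) hz₂)).trans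
      (Points.toScheme_ofScheme _ u)

theorem weakAssEt_push_eq_of (hX : IsAlgSpace X) (hY : IsAlgSpace Y) (haff : IsAffineMor f) (M : ModEt X)
    [M.IsQuasicoherent]
    (h : ∀ (E : EtOver Y), IsAffine E.obj.left.left → ∀ t ∈ FlatCA.weakAss (Fn (EtOver.bcObj hf E))
      (sectModEt M (EtOver.bcObj hf E)), ∃ x : sectModEt M (EtOver.bcObj hf E),
        t.comap (EtOver.bcπ hf E).left.appTop.hom ∈
          ((annEl (Fn (EtOver.bcObj hf E)) x).comap (EtOver.bcπ hf E).left.appTop.hom).minimalPrimes) :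
    WeakAssEt ((pushModEt hf).obj M) = Points.map f '' WeakAssEt M := by
  refine (weakAssEt_push_subset hf haff M).antisymm ?_
  rintro _ ⟨x, hx, rfl⟩
  obtain ⟨E, hE, u, hu⟩ := exists_aff_over hY (Points.map f x)
  haveI : IsAffine E.obj.left.left := hE
  haveI : IsAffine (EtOver.bcObj hf E).obj.left.left := isAffine_bcObj hf haff E
  obtain ⟨w, hw, hwu⟩ := exists_bc_point hf E u x hu.symm
  have hwa := (isWeakAssOn_iff M _ w).1 (isWeakAssOn_of_mem hX (hw.symm ▸ hx))
  obtain ⟨z, hz⟩ := h E hE _ hwa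
  rw [primeAtPt_comap, hwu] at hz
  exact ⟨E, hE, u, hu, (isWeakAssOn_push_iff hf M E u).2 ⟨z, hz⟩⟩

theorem weakAssEt_push_finite (hX : IsAlgSpace X) (hY : IsAlgSpace Y) (hfin : IsFiniteMor f) (M : ModEt X)
    [M.IsQuasicoherent] : WeakAssEt ((pushModEt hf).obj M) = Points.map f '' WeakAssEt M :=
  weakAssEt_push_eq_of hf hX hY (isAffineMor_of_isFiniteMor hfin) M fun E hE _ ht =>
    exists_minimal_of_finite _ (finite_bcπ hf hfin E) ht

theorem weakAssEt_push_noetherian (hX : IsAlgSpace X) (hY : IsAlgSpace Y) (haff : IsAffineMor f)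
    (hN : IsLocNoethSp X) (M : ModEt X) [M.IsQuasicoherent] :
    WeakAssEt ((pushModEt hf).obj M) = Points.map f '' WeakAssEt M :=
  weakAssEt_push_eq_of hf hX hY haff M fun E hE _ ht => by
    haveI : IsAffine (EtOver.bcObj hf E).obj.left.left := isAffine_bcObj hf haff E
    haveI := AlgSpDec.isLocallyNoetherian_chart (EtOver.bcObj hf E).property hN
    haveI : IsNoetherianRing (Fn (EtOver.bcObj hf E)) :=
      IsLocallyNoetherian.component_noetherian ⟨⊤, isAffineOpen_top (EtOver.bcObj hf E).obj.left.left⟩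
    exact exists_minimal_of_noetherian _ ht

end Groth.Agent.AlgSpWA

end
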