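import Groth.Agent.AlgSpWA.AffVanish
import Groth.Agent.AlgSpWA.Push
import Groth.Agent.SitePullUnit.DerivedClass

/-!
# Sheaves without Čech cohomology on the affines of the small etale site of a space
-/

set_option autoImplicit false
set_option backward.isDefEq.respectTransparency false
set_option backward.isDefEq.respectTransparency.types false

noncomputable section

universe u

open CategoryTheory CategoryTheory.Limits AlgebraicGeometry Opposite AlgSp

namespace Groth.Agent.AlgSpWA.AffAcyclic

variable {S : Scheme.{u}} {X : Sp S}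

/-- No higher Čech cohomology on the affines of every chart. -/
def IsAcyclic (G : AbEt X) : Prop :=
  ∀ E : EtOver X, IsAffine E.obj.left.left →
    EtLC12.AffineCartan.IsAffAcyclic ((ChartGen.restr E.obj.hom E.property).obj G)

theorem isAcyclic_of_isQuasicoherent (M : ModEt X) [M.IsQuasicoherent] : IsAcyclic ((toAbEt X).obj M) :=
  fun E _ => AffVanish.isAffAcyclic E.obj.hom E.property M

theorem isAcyclic_of_injective (I : AbEt X) [Injective I] : IsAcyclic I := fun E _ =>
  haveI := ChartGen.injective_restr E.obj.hom E.property I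
  EtLC12.AffineCartan.isAffAcyclic_of_injective _

variable {S' : ShortComplex (AbEt X)} (hS : S'.ShortExact)
include hS

theorem isAcyclic_X₃ (h1 : IsAcyclic S'.X₁) (h2 : IsAcyclic S'.X₂) : IsAcyclic S'.X₃ := fun E hE =>
  EtLC12.AffineCartan.isAffAcyclic_X₃ (S'.map (ChartGen.restr E.obj.hom E.property))
    (ChartGen.shortExact_restr E.obj.hom E.property hS) (h1 E hE) (h2 E hE)

theorem sections_surjective (h1 : IsAcyclic S'.X₁) (E : EtOver X) [IsAffine E.obj.left.left] :
    Function.Surjective (S'.g.hom.app (op E)).hom := by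
  let j := EtOver.ofChart E.obj.hom E.property
  haveI : IsAffine (EtCoh.top E.obj.left.left).left := ‹IsAffine E.obj.left.left›
  have h := EtLC12.AffineCartan.sections_surjective (S'.map (ChartGen.restr E.obj.hom E.property))
    (ChartGen.shortExact_restr E.obj.hom E.property hS) (h1 E ‹_›) (V := EtCoh.top E.obj.left.left)
  let a : j.obj (EtCoh.top E.obj.left.left) ⟶ E :=
    EtOver.homMk (EtOver.homOfEtale (EtCoh.top E.obj.left.left)) rfl
  have hw : (yon S).map (Over.homMk (U := E.obj.left) (V := (j.obj (EtCoh.top E.obj.left.left)).obj.left)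
      (𝟙 E.obj.left.left) (Category.id_comp _ |>.trans (Category.id_comp _))) ≫
        (j.obj (EtCoh.top E.obj.left.left)).obj.hom = E.obj.hom := by
    change (yon S).map _ ≫ (yon S).map _ ≫ E.obj.hom = E.obj.hom
    rw [← Category.assoc, ← Functor.map_comp]
    conv_rhs => rw [← Category.id_comp E.obj.hom, ← CategoryTheory.Functor.map_id]
    congr 2
  let b : E ⟶ j.obj (EtCoh.top E.obj.left.left) := EtOver.homMk _ hw
  intro z
  obtain ⟨t, ht⟩ := h (S'.X₃.obj.map a.op z)
  refine ⟨S'.X₂.obj.map b.op t, ?_⟩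
  refine (NatTrans.naturality_apply S'.g.hom b.op t).trans ((congrArg (S'.X₃.obj.map b.op) ht).trans ?_)
  rw [← ConcreteCategory.comp_apply, ← Functor.map_comp, ← op_comp]
  have hba : b ≫ a = 𝟙 E := EtOver.hom_ext _ _ (Over.OverMorphism.ext (Category.id_comp _))
  rw [hba, op_id, CategoryTheory.Functor.map_id]
  rfl

omit hS

variable {Y : Sp S} {f : X ⟶ Y} (hf : Representable f) (haff : IsAffineMor f)
include haff

theorem epi_push_map (S' : ShortComplex (AbEt X)) (hS : S'.ShortExact) (h1 : IsAcyclic S'.X₁) :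
    Epi ((pushEt hf AddCommGrpCat.{u + 1}).map S'.g) := by
  refine (Sheaf.isLocallySurjective_iff_epi' (J := etTop Y) AddCommGrpCat.{u + 1}
    ((pushEt hf AddCommGrpCat.{u + 1}).map S'.g)).1 ⟨fun {V} s => ?_⟩
  refine QCart13.mem_etTop_of_exists _ fun y => ?_
  obtain ⟨W, k, hW, hy⟩ := QCart13.exists_aff_open V y
  haveI : IsAffine W.obj.left.left := hW
  haveI : IsAffine (EtOver.bcObj hf W).obj.left.left := isAffine_bcObj hf haff W
  refine ⟨W, k, ?_, hy⟩
  obtain ⟨t, ht⟩ := sections_surjective hS h1 (EtOver.bcObj hf W)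
    (((pushEt hf AddCommGrpCat.{u + 1}).obj S'.X₃).obj.map k.op s)
  exact ⟨t, ht⟩

theorem isZero_rpushEt {G : AbEt X} (hG : IsAcyclic G) (q : ℕ) (hq : 0 < q) : IsZero ((RpushEt hf q).obj G) := by
  obtain ⟨n, rfl⟩ : ∃ n, q = n + 1 := ⟨q - 1, by omega⟩
  exact SitePullUnit.isZero_rightDerived_of_class (pushEt hf AddCommGrpCat.{u + 1}) IsAcyclic
    (fun E hE h1 hI => isAcyclic_X₃ hE h1 (haveI := hI; isAcyclic_of_injective E.X₂))
    (fun E hE h1 _ => epi_push_map hf haff E hE h1) hG n

end Groth.Agent.AlgSpWA.AffAcyclic
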