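import Groth.Agent.DescLib.AmitsurAll

/-!
# The Amitsur complex with coefficients in a module of any universe
-/

universe w u

set_option autoImplicit false
set_option backward.isDefEq.respectTransparency false
set_option backward.isDefEq.respectTransparency.types false

open TensorProduct

namespace Groth.Agent.AlgSpWA.AmitsurModU

open Groth.Agent.DescLib

variable {R A : Type u} [CommRing R] [CommRing A] [Algebra R A] (M : Type w) [AddCommGroup M] [Module R M]

variable (R A) in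
/-- The differential with coefficients. -/
noncomputable def DM (n : ℕ) : AmitsurAll.T R A n ⊗[R] M →ₗ[R] AmitsurAll.T R A (n + 1) ⊗[R] M :=
  (AmitsurAll.D R A n).rTensor M

lemma DM_apply (n : ℕ) (z : AmitsurAll.T R A n ⊗[R] M) :
    DM R A M n z = ∑ i : Fin (n + 2), (-1 : ℤ) ^ (i : ℕ) • (AmitsurAll.face R A n i).toLinearMap.rTensor M z := by
  induction z using TensorProduct.induction_on with
  | zero => simp
  | add a b ha hb => simp only [map_add, ha, hb, smul_add, Finset.sum_add_distrib]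
  | tmul t m =>
    simp only [DM, LinearMap.rTensor_tmul, AmitsurAll.D, LinearMap.sum_apply, TensorProduct.sum_tmul,
      LinearMap.smul_apply]
    exact Finset.sum_congr rfl fun i _ => (TensorProduct.smul_tmul' _ _ _).symm

/-- An element lies in a range as soon as it does after tensoring with a faithfully flat algebra. -/
lemma mem_range_of_one_tmul_mem' {R A : Type u} [CommRing R] [CommRing A] [Algebra R A] [Module.FaithfullyFlat R A]
    {M' N : Type (max w u)} [AddCommGroup M'] [Module R M'] [AddCommGroup N] [Module R N]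
    (g : M' →ₗ[R] N) (x : N) (h : (1 : A) ⊗ₜ[R] x ∈ LinearMap.range (g.lTensor A)) : x ∈ LinearMap.range g := by
  rw [← Submodule.Quotient.mk_eq_zero (LinearMap.range g)]
  apply Module.FaithfullyFlat.tensorProduct_mk_injective (A := R) (B := A) (N ⧸ LinearMap.range g)
  obtain ⟨z, hz⟩ := h
  have := congrArg ((LinearMap.range g).mkQ.lTensor A) hz
  rw [← LinearMap.comp_apply, ← LinearMap.lTensor_comp, LinearMap.range_mkQ_comp, LinearMap.lTensor_zero,
    LinearMap.zero_apply] at this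
  simpa using this.symm

theorem exact_DM [Module.FaithfullyFlat R A] (n : ℕ) (x : AmitsurAll.T R A (n + 1) ⊗[R] M)
    (hx : DM R A M (n + 1) x = 0) : x ∈ LinearMap.range (DM R A M n) := by
  have key₀ : ∀ (a : A) (w : A ⊗[R] AmitsurAll.T R A n),
      AmitsurAll.h R A (AmitsurAll.T R A (n + 1))
          (LinearMap.lTensor A (AmitsurAll.D R A (n + 1)) (a ⊗ₜ[R] (w : AmitsurAll.T R A (n + 1)))) +
        LinearMap.lTensor A (AmitsurAll.D R A n) (AmitsurAll.h R A (AmitsurAll.T R A n) (a ⊗ₜ[R] w)) =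
          (a ⊗ₜ[R] w : A ⊗[R] AmitsurAll.T R A (n + 1)) := by
    intro a w
    rw [LinearMap.lTensor_tmul, AmitsurAll.D_succ_apply, TensorProduct.tmul_sub, map_sub,
      show AmitsurAll.h R A (AmitsurAll.T R A (n + 1)) (a ⊗ₜ[R] ((1 : A) ⊗ₜ[R] w)) = (a * 1) ⊗ₜ[R] w from
        AmitsurAll.h_tmul a 1 w, mul_one]
    have : AmitsurAll.h R A (AmitsurAll.T R A (n + 1)) (a ⊗ₜ[R] LinearMap.lTensor A (AmitsurAll.D R A n) w) =
        LinearMap.lTensor A (AmitsurAll.D R A n) (AmitsurAll.h R A (AmitsurAll.T R A n) (a ⊗ₜ[R] w)) := by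
      induction w using TensorProduct.induction_on with
      | zero => simp
      | tmul b t => rw [LinearMap.lTensor_tmul, AmitsurAll.h_tmul, AmitsurAll.h_tmul, LinearMap.lTensor_tmul]
      | add y z hy hz => simp only [map_add, TensorProduct.tmul_add, hy, hz]
    rw [this, sub_add_cancel]
  let c₀ := TensorProduct.assoc R A (AmitsurAll.T R A n) M
  let c₁ := TensorProduct.assoc R A (AmitsurAll.T R A (n + 1)) M
  let H : A ⊗[R] (AmitsurAll.T R A (n + 1) ⊗[R] M) →ₗ[R] A ⊗[R] (AmitsurAll.T R A n ⊗[R] M) :=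
    c₀.toLinearMap ∘ₗ (AmitsurAll.h R A (AmitsurAll.T R A n) : A ⊗[R] AmitsurAll.T R A (n + 1) →ₗ[R] _).rTensor M
      ∘ₗ c₁.symm.toLinearMap
  let H' : A ⊗[R] (AmitsurAll.T R A (n + 2) ⊗[R] M) →ₗ[R] A ⊗[R] (AmitsurAll.T R A (n + 1) ⊗[R] M) :=
    c₁.toLinearMap ∘ₗ (AmitsurAll.h R A (AmitsurAll.T R A (n + 1)) : A ⊗[R] AmitsurAll.T R A (n + 2) →ₗ[R] _).rTensor M
      ∘ₗ (TensorProduct.assoc R A (AmitsurAll.T R A (n + 2)) M).symm.toLinearMap
  have key : ∀ z : A ⊗[R] (AmitsurAll.T R A (n + 1) ⊗[R] M),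
      H' (LinearMap.lTensor A (DM R A M (n + 1)) z) + LinearMap.lTensor A (DM R A M n) (H z) = z := by
    suffices h : H' ∘ₗ LinearMap.lTensor A (DM R A M (n + 1)) + LinearMap.lTensor A (DM R A M n) ∘ₗ H =
        LinearMap.id from fun z => DFunLike.congr_fun h z
    refine TensorProduct.ext' fun a y => ?_
    induction y using TensorProduct.induction_on with
    | zero => simp
    | add p q hp hq => rw [TensorProduct.tmul_add, map_add, map_add, hp, hq]
    | tmul w m =>
      show H' (LinearMap.lTensor A (DM R A M (n + 1)) (a ⊗ₜ[R] (w ⊗ₜ[R] m))) +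
        LinearMap.lTensor A (DM R A M n) (H (a ⊗ₜ[R] (w ⊗ₜ[R] m))) = a ⊗ₜ[R] (w ⊗ₜ[R] m)
      have h₀ := key₀ a w
      rw [LinearMap.lTensor_tmul] at h₀
      have e : ∀ u : A ⊗[R] AmitsurAll.T R A n, LinearMap.lTensor A (DM R A M n) (c₀ (u ⊗ₜ[R] m)) =
          c₁ (LinearMap.lTensor A (AmitsurAll.D R A n) u ⊗ₜ[R] m) := fun u => by
        induction u using TensorProduct.induction_on with
        | zero => simp
        | add p q hp hq => simp only [map_add, TensorProduct.add_tmul, hp, hq]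
        | tmul b t => simp [c₀, c₁, DM]
      show c₁ (AmitsurAll.h R A (AmitsurAll.T R A (n + 1)) (a ⊗ₜ[R] AmitsurAll.D R A (n + 1) w) ⊗ₜ[R] m) +
          LinearMap.lTensor A (DM R A M n) (c₀ (AmitsurAll.h R A (AmitsurAll.T R A n) (a ⊗ₜ[R] w) ⊗ₜ[R] m)) =
        a ⊗ₜ[R] (w ⊗ₜ[R] m)
      rw [e, ← map_add, ← TensorProduct.add_tmul, h₀]
      exact TensorProduct.assoc_tmul _ _ _
  refine mem_range_of_one_tmul_mem'.{w, u} (R := R) (A := A) (DM R A M n) x ⟨H ((1 : A) ⊗ₜ[R] x), ?_⟩
  have := key ((1 : A) ⊗ₜ[R] x)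
  rwa [LinearMap.lTensor_tmul, hx, TensorProduct.tmul_zero, map_zero, zero_add] at this

end Groth.Agent.AlgSpWA.AmitsurModU
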