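import Groth.Agent.AlgSpWA.CofreeBig
import Groth.Agent.QCart13.Cover
import Groth.Agent.EtLC12.AffineCartan
import Groth.Prelude.Def_EtCore
import Mathlib.CategoryTheory.Sites.Equivalence

/-!
# Restriction of sheaves on the small etale site of a space to the small etale site of a chart
-/

set_option autoImplicit false
set_option backward.isDefEq.respectTransparency false
set_option backward.isDefEq.respectTransparency.types false

noncomputable section

universe u

open CategoryTheory CategoryTheory.Limits AlgebraicGeometry Opposite AlgSp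

namespace Groth.Agent.AlgSpWA.ChartGen

variable {S : Scheme.{u}} {X : Sp S} {T : Over S} (p : (yon S).obj T ⟶ X) (hp : RepWith @Etale p)

/-- The chart as an object of the site. -/
abbrev base : EtOver X := EtOver.mk p hp

/-- An etale scheme over the chart as an object over the chart. -/
def toSlice : T.left.Etale ⥤ Over (base p hp) where
  obj V := Over.mk (EtOver.homMk (E := (EtOver.ofChart p hp).obj V) (EtOver.homOfEtale V) rfl)
  map φ := Over.homMk ((EtOver.ofChart p hp).map φ)
    (EtOver.hom_ext _ _ (Over.OverMorphism.ext (MorphismProperty.Over.w φ)))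
  map_id V := Over.OverMorphism.ext ((EtOver.ofChart p hp).map_id V)
  map_comp φ ψ := Over.OverMorphism.ext ((EtOver.ofChart p hp).map_comp φ ψ)

instance faithful_toSlice : (toSlice p hp).Faithful where
  map_injective {V V'} φ ψ h := (EtOver.ofChart p hp).map_injective (congrArg CommaMorphism.left h)

instance full_toSlice : (toSlice p hp).Full where
  map_surjective {V V'} g := by
    have hw : g.left.hom.left.left ≫ V'.hom = V.hom :=
      congrArg (fun t : ((toSlice p hp).obj V).left ⟶ base p hp => t.hom.left.left) (Over.w g)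
    exact ⟨MorphismProperty.Over.homMk g.left.hom.left.left hw,
      Over.OverMorphism.ext (EtOver.hom_ext _ _ (Over.OverMorphism.ext rfl))⟩

instance essSurj_toSlice : (toSlice p hp).EssSurj where
  mem_essImage Z := by
    let V : T.left.Etale := { toComma := Over.mk Z.hom.hom.left.left, prop := EtOver.etale_left Z.hom }
    let e : ((toSlice p hp).obj V).left ≅ Z.left :=
      (ObjectProperty.fullyFaithfulι _).preimageIso
        (CostructuredArrow.isoMk (Over.isoMk (Iso.refl Z.left.obj.left.left) (by
          change 𝟙 _ ≫ Z.left.obj.left.hom = Z.hom.hom.left.left ≫ T.hom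
          rw [Category.id_comp]; exact (Over.w Z.hom.hom.left).symm)) (by
          change (yon S).map _ ≫ Z.left.obj.hom = (yon S).map _ ≫ p
          rw [← EtOver.w Z.hom, ← Category.assoc, ← Functor.map_comp]
          congr 2))
    exact ⟨V, ⟨Over.isoMk e (EtOver.hom_ext _ _ (Over.OverMorphism.ext (Category.id_comp _)))⟩⟩

instance isEquivalence_toSlice : (toSlice p hp).IsEquivalence :=
  Functor.IsEquivalence.mk inferInstance inferInstance inferInstance

theorem functorPushforward_mem_iff {V : T.left.Etale} {R : Sieve V} :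
    R.functorPushforward (toSlice p hp) ∈ (etTop X).over (base p hp) ((toSlice p hp).obj V) ↔
      R ∈ T.left.smallEtaleTopology V := by
  rw [GrothendieckTopology.mem_over_iff]
  constructor
  · intro hR
    have hx : ∀ x : ↥V.left, ∃ (W : T.left.Etale) (f : W ⟶ V), R f ∧ x ∈ Set.range f.left := fun x => by
      obtain ⟨Y, f, hf, y, hy⟩ := QCart13.exists_mem_range hR x
      obtain ⟨Y', g, h, hg, rfl⟩ := hf
      obtain ⟨W, f', k, hf', rfl⟩ := hg
      exact ⟨W, f', hf', k.left.hom.left.left (h.hom.left.left y), hy⟩
    choose W f hf hx using hx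
    refine GrothendieckTopology.superset_covering _ ?_
      ((Scheme.ofArrows_mem_smallEtaleTopology_iff f).2
        (Set.eq_univ_iff_forall.2 fun x => Set.mem_iUnion.2 ⟨x, hx x⟩))
    rw [Sieve.ofArrows, Sieve.generate_le_iff]
    rintro _ _ ⟨x⟩
    exact hf x
  · intro hR
    have h2 : Sieve.ofArrows (fun i : Σ W, {f : W ⟶ V // R f} => i.1) (fun i => i.2.1) ∈
        T.left.smallEtaleTopology V :=
      GrothendieckTopology.superset_covering _ (fun W f hf =>
        Sieve.ofArrows_mk _ _ (⟨W, f, hf⟩ : Σ W, {f : W ⟶ V // R f})) hR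
    refine GrothendieckTopology.superset_covering _ ?_ (EtOver.ofChart_sieve_mem p hp _ _ h2)
    rw [Sieve.ofArrows, Sieve.generate_le_iff]
    rintro _ _ ⟨i⟩
    exact ⟨(toSlice p hp).obj i.1, (toSlice p hp).map i.2.1, 𝟙 _,
      ⟨i.1, i.2.1, 𝟙 _, i.2.2, (Category.id_comp _).symm⟩, (Category.id_comp _).symm⟩

instance isDenseSubsite_toSlice :
    (toSlice p hp).IsDenseSubsite T.left.smallEtaleTopology ((etTop X).over (base p hp)) where
  functorPushforward_mem_iff := functorPushforward_mem_iff p hp

instance isContinuous_ofChart : (EtOver.ofChart p hp).IsContinuous T.left.smallEtaleTopology (etTop X) :=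
  Functor.isContinuous_comp' (Iso.refl (toSlice p hp ⋙ Over.forget (base p hp)))
    T.left.smallEtaleTopology ((etTop X).over (base p hp)) (etTop X)

/-- Restriction of abelian sheaves to a chart. -/
abbrev restr : AbEt X ⥤ EtCoh.Ab T.left :=
  (EtOver.ofChart p hp).sheafPushforwardContinuous AddCommGrpCat.{u + 1} T.left.smallEtaleTopology (etTop X)

theorem injective_restr (I : AbEt X) [Injective I] : Injective ((restr p hp).obj I) := by
  haveI : Injective I.obj :=
    Injective.injective_of_adjoint (sheafificationAdjunction (etTop X) AddCommGrpCat.{u + 1}) I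
  haveI := CofreeBig.injective_presheaf_over (base p hp) I.obj
  let W := (Functor.whiskeringLeft T.left.Etaleᵒᵖ (Over (base p hp))ᵒᵖ AddCommGrpCat.{u + 1}).obj (toSlice p hp).op
  haveI : Injective (W.obj ((Over.forget (base p hp)).op ⋙ I.obj)) :=
    Injective.injective_of_adjoint W.asEquivalence.symm.toAdjunction _
  haveI hJ : Injective ((restr p hp).obj I).obj := this
  refine ⟨fun {P P'} g a ha => ?_⟩
  haveI : Mono a.hom := (sheafToPresheaf T.left.smallEtaleTopology AddCommGrpCat.{u + 1}).map_mono a
  obtain ⟨l, hl⟩ := hJ.factors g.hom a.hom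
  exact ⟨⟨l⟩, (sheafToPresheaf T.left.smallEtaleTopology AddCommGrpCat.{u + 1}).map_injective hl⟩

theorem epi_restr {G G' : AbEt X} (φ : G ⟶ G') [Epi φ] : Epi ((restr p hp).map φ) := by
  refine (Sheaf.isLocallySurjective_iff_epi' (J := T.left.smallEtaleTopology) AddCommGrpCat.{u + 1}
    ((restr p hp).map φ)).1 ⟨fun {V} s => ?_⟩
  have h : Presheaf.IsLocallySurjective (etTop X) φ.hom :=
    (Sheaf.isLocallySurjective_iff_epi' AddCommGrpCat.{u + 1} φ).2 inferInstance
  have hs := h.imageSieve_mem (U := (EtOver.ofChart p hp).obj V) s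
  refine (functorPushforward_mem_iff p hp).1 ?_
  rw [GrothendieckTopology.mem_over_iff]
  refine GrothendieckTopology.superset_covering _ ?_ hs
  intro Y f hf
  refine (Sieve.overEquiv_iff (Y := (toSlice p hp).obj V) _ f).2 ?_
  obtain ⟨W, ⟨e⟩⟩ := Functor.EssSurj.mem_essImage (F := toSlice p hp)
    (Over.mk (f ≫ ((toSlice p hp).obj V).hom))
  obtain ⟨g, hg⟩ := (toSlice p hp).map_surjective (e.hom ≫ Over.homMk f)
  refine ⟨W, g, e.inv, ?_, by rw [hg, Iso.inv_hom_id_assoc]⟩
  have hg' : (EtOver.ofChart p hp).map g = e.hom.left ≫ f := congrArg CommaMorphism.left hg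
  have h3 := (Presheaf.imageSieve φ.hom s).downward_closed hf e.hom.left
  rw [← hg'] at h3
  exact h3

theorem shortExact_restr {E : ShortComplex (AbEt X)} (hE : E.ShortExact) : (E.map (restr p hp)).ShortExact :=
  haveI := hE.mono_f
  haveI := hE.epi_g
  ShortComplex.ShortExact.mk' (hE.exact.map_of_mono_of_preservesKernel _ inferInstance inferInstance)
    ((restr p hp).map_mono E.f) (epi_restr p hp E.g)

end Groth.Agent.AlgSpWA.ChartGen
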