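import Groth.Agent.AlgSpWA.ChartIso
import Groth.Agent.AlgSpWA.ChartGen
import Groth.Agent.AlgSpWA.AmitsurModU
import Groth.Agent.EtLC12.GaAmitsur
import Groth.Agent.QCart13.Ops
import Groth.Agent.QCart13.QC

/-!
# Quasi-coherent modules on an affine space have no higher etale cohomology
-/

set_option autoImplicit false
set_option backward.isDefEq.respectTransparency false
set_option backward.isDefEq.respectTransparency.types false

noncomputable section

universe u

open CategoryTheory CategoryTheory.Limits AlgebraicGeometry Opposite AlgSp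
open scoped TensorProduct

namespace Groth.Agent.AlgSpWA.AffVanish

open Groth.Agent.QCart13 Groth.Agent.DescLib Groth.Agent.EtLC12 Groth.Agent.EtFound

variable {S : Scheme.{u}} {X : Sp S} {T : Over S} (p : (yon S).obj T ⟶ X) (hp : RepWith @Etale p)
  (M : ModEt X)

/-- The object of the site of `X` of an etale scheme over the chart. -/
abbrev jO (U : T.left.Etale) : EtOver X := (EtOver.ofChart p hp).obj U

/-- An object over `U` as one over its image. -/
abbrev jOver {U : T.left.Etale} (Z : Over U) : Over (jO p hp U) := Over.mk ((EtOver.ofChart p hp).map Z.hom)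

/-- Sections over an object. -/
abbrev N (U : T.left.Etale) : Type (u + 1) := sectModEt M (jO p hp U)

instance modN (U : T.left.Etale) : Module Γ(U.left, ⊤) (N p hp M U) := modΓ M (jO p hp U)

/-- The function underlying an element of `Sec`. -/
def fn {U : T.left.Etale} (Z : Over U) : GaAmitsur.Sec Z → Γ(Z.left.left, ⊤) := fun s => s

theorem res_smul' {U U' : T.left.Etale} (g : U' ⟶ U) (r : Γ(U.left, ⊤)) (z : N p hp M U) :
    res M ((EtOver.ofChart p hp).map g) (r • z) = g.left.appTop r • res M ((EtOver.ofChart p hp).map g) z :=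
  res_smul M ((EtOver.ofChart p hp).map g) r z

/-- Scaled restriction. -/
def smulRes {U : T.left.Etale} (Z : Over U) : Γ(Z.left.left, ⊤) →+ N p hp M U →+ N p hp M Z.left :=
  AddMonoidHom.mk' (fun s => AddMonoidHom.mk' (fun m => s • (res M ((EtOver.ofChart p hp).map Z.hom) m : N p hp M Z.left))
      fun a b => by rw [map_add, smul_add])
    fun a b => AddMonoidHom.ext fun m => add_smul a b _

theorem smulRes_smul {U : T.left.Etale} (Z : Over U) (r : Γ(U.left, ⊤)) (s : Γ(Z.left.left, ⊤)) (m : N p hp M U) :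
    smulRes p hp M Z (Z.hom.left.appTop r * s) m = smulRes p hp M Z s (r • m) := by
  show (Z.hom.left.appTop r * s) • (res M ((EtOver.ofChart p hp).map Z.hom) m : N p hp M Z.left) = s • _
  rw [res_smul', ← mul_smul, mul_comm]

/-- The comparison map to the sections on an object over `U`. -/
def Ψ {U : T.left.Etale} (Z : Over U) :
    GaAmitsur.Sec Z ⊗[Γ(U.left, ⊤)] N p hp M U →+ N p hp M Z.left :=
  TensorProduct.liftAddHom (smulRes p hp M Z) fun r s m => smulRes_smul p hp M Z r s m

theorem Ψ_tmul {U : T.left.Etale} (Z : Over U) (s : GaAmitsur.Sec Z) (m : N p hp M U) :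
    Ψ p hp M Z (s ⊗ₜ[Γ(U.left, ⊤)] m) = fn Z s • (res M ((EtOver.ofChart p hp).map Z.hom) m : N p hp M Z.left) := rfl

theorem bijective_Ψ [M.IsQuasicoherent] {U : T.left.Etale} [IsAffine U.left] (Z : Over U) [IsAffine Z.left.left] :
    Function.Bijective (Ψ p hp M Z) := by
  have hE : Aff (jO p hp U) := ‹IsAffine U.left›
  have hT : Aff (jOver p hp Z).left := ‹IsAffine Z.left.left›
  have h := bijective_bcMor (cart_of_isQuasicoherent M hE) (jOver p hp Z) hT
  refine (congrArg Function.Bijective (funext fun x => ?_)).mpr h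
  induction x using TensorProduct.induction_on with
  | zero => exact (map_zero (Ψ p hp M Z)).trans (map_zero (bcMor M (jOver p hp Z))).symm
  | add a b ha hb =>
    exact ((map_add (Ψ p hp M Z) a b).trans (congrArg₂ (· + ·) ha hb)).trans (map_add (bcMor M (jOver p hp Z)) a b).symm
  | tmul s m =>
    refine (Ψ_tmul p hp M Z s m).trans ?_
    exact (LinearMap.liftBaseChange_tmul (l := res₀ M (jOver p hp Z)) (A := Fn (jOver p hp Z).left) _ _).symm

theorem Ψ_natural {U : T.left.Etale} {Z Z' : Over U} (f : Z' ⟶ Z)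
    (x : GaAmitsur.Sec Z ⊗[Γ(U.left, ⊤)] N p hp M U) :
    Ψ p hp M Z' ((GaAmitsur.secMap f).toLinearMap.rTensor _ x) =
      res M ((EtOver.ofChart p hp).map f.left) (Ψ p hp M Z x) := by
  induction x using TensorProduct.induction_on with
  | zero => simp
  | add a b ha hb => simp only [map_add, ha, hb]
  | tmul s m =>
    rw [LinearMap.rTensor_tmul]
    refine (Ψ_tmul p hp M Z' _ m).trans ((congrArg (fn Z' (GaAmitsur.secMap f s) • ·) ?_).trans
      ((res_smul' p hp M f.left (fn Z s) _).symm.trans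
        (congrArg (res M ((EtOver.ofChart p hp).map f.left)) (Ψ_tmul p hp M Z s m).symm)))
    rw [← res_comp, ← Functor.map_comp, Over.w f]

set_option maxHeartbeats 1600000 in
/-- The restriction to the chart of a quasi-coherent module has no higher Čech cohomology on affines. -/
theorem isAffAcyclic [M.IsQuasicoherent] :
    AffineCartan.IsAffAcyclic ((ChartGen.restr p hp).obj ((toAbEt X).obj M)) := by
  intro U _ Y hU hY hs q
  haveI := hs
  haveI := GaAmitsur.faithfullyFlat_sec U Y
  haveI : LocallySmall.{u + 1} T.left.Etale := ⟨fun _ _ => inferInstance⟩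
  let G := (ChartGen.restr p hp).obj ((toAbEt X).obj M)
  let R := N p hp M U
  have hbij : ∀ n, Function.Bijective fun y => Ψ p hp M (∏ᶜ fun _ : Fin (n + 1) => Y)
      ((GaAmitsur.Φ Y n).toLinearMap.rTensor R y) := fun n => by
    haveI : IsAffine (∏ᶜ fun _ : Fin (n + 1) => Y).left.left :=
      AffineCartan.isAffine_prod n (fun _ => Y) fun _ => hY
    refine (bijective_Ψ p hp M _).comp ?_
    exact (TensorProduct.congr (LinearEquiv.ofBijective (GaAmitsur.Φ Y n).toLinearMap
      ⟨Function.LeftInverse.injective (g := fun z => GaAmitsur.qSec Y n (GaAmitsur.secMap (GaAmitsur.σ Y n) z))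
        (GaAmitsur.left_inv Y n),
        Function.RightInverse.surjective (GaAmitsur.right_inv Y n)⟩) (LinearEquiv.refl _ R)).bijective
  have hD : ∀ (n : ℕ) y, Ψ p hp M (∏ᶜ fun _ : Fin (n + 2) => Y)
      ((GaAmitsur.Φ Y (n + 1)).toLinearMap.rTensor R (AmitsurModU.DM _ _ R n y)) =
      ∑ j : Fin (n + 2), (-1 : ℤ) ^ (j : ℕ) •
        res M ((EtOver.ofChart p hp).map (GaAmitsur.tm Y n j).left)
          (Ψ p hp M _ ((GaAmitsur.Φ Y n).toLinearMap.rTensor R y)) := by
    intro n y
    rw [AmitsurModU.DM_apply, map_sum, map_sum]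
    refine Finset.sum_congr rfl fun j _ => ?_
    rw [map_zsmul, map_zsmul]
    congr 1
    rw [← Ψ_natural, ← LinearMap.rTensor_comp_apply, ← LinearMap.rTensor_comp_apply]
    congr 3
    exact LinearMap.ext fun t => GaAmitsur.Φ_face Y n j t
  refine (HomologicalComplex.exactAt_iff_isZero_homology _ _).1 ?_
  rw [HomologicalComplex.exactAt_iff' _ q (q + 1) (q + 2) (by simp) (by simp), ShortComplex.ab_exact_iff]
  intro (x : (EtCech.cechComplex (fun _ : PUnit.{u + 2} => Y) G.obj).X (q + 1))
    (hx : ((EtCech.cechComplex (fun _ : PUnit.{u + 2} => Y) G.obj).d (q + 1) (q + 2)).hom x = 0)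
  let v : N p hp M (∏ᶜ fun _ : Fin (q + 2) => Y).left :=
    CechInjGen.cev (fun _ : PUnit.{u + 2} => Y) G.obj (q + 1) (fun _ => ⟨⟩) x
  obtain ⟨y, hy⟩ := (hbij (q + 1)).2 v
  have hy0 : AmitsurModU.DM Γ(U.left, ⊤) (GaAmitsur.Sec Y) R (q + 1) y = 0 := by
    refine (hbij (q + 2)).1 ?_
    show Ψ p hp M _ _ = Ψ p hp M _ _
    rw [hD, map_zero, map_zero]
    refine Eq.trans ?_ ((congrArg (CechInjGen.cev (fun _ : PUnit.{u + 2} => Y)
      G.obj (q + 2) (fun _ => ⟨⟩)) hx).trans (map_zero _))
    rw [CechInjGen.cev_d]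
    refine Finset.sum_congr rfl fun j _ => ?_
    exact congrArg (_ • ·) (congrArg (res M _) hy)
  obtain ⟨w, hw⟩ := AmitsurModU.exact_DM R q y hy0
  obtain ⟨z, hz⟩ := CechInjGen.exists_cev (fun _ : PUnit.{u + 2} => Y) G.obj (n := q)
    fun _ => (Ψ p hp M _ ((GaAmitsur.Φ Y q).toLinearMap.rTensor R w))
  refine ⟨z, CechInjGen.cev_ext _ _ fun i => ?_⟩
  refine (CechInjGen.cev_d _ _ q i z).trans ?_
  refine Eq.trans ?_ ((congrArg (fun t => Ψ p hp M _ ((GaAmitsur.Φ Y (q + 1)).toLinearMap.rTensor R t)) hw).trans hy)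
  rw [hD]
  refine Finset.sum_congr rfl fun j _ => ?_
  refine congrArg (_ • ·) ?_
  rw [hz]
  rfl

include p hp in
theorem subsingleton_HModEt [IsIso p] [M.IsQuasicoherent] [IsAffine T.left] (n : ℕ) (hn : 0 < n) :
    Subsingleton (HModEt X M n) :=
  ChartIso.subsingleton_HEt_of_isAffAcyclic p hp _ (isAffAcyclic p hp M) n hn

end Groth.Agent.AlgSpWA.AffVanish
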