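import Groth.Agent.AlgSpWA.AlgGen
import Groth.Agent.QCart13.QC
import Groth.Agent.AlgSpLib.CartierAvoid
import Groth.Prelude.Def_AlgSpModX

/-!
# Weakly associated points of quasi-coherent modules on affine charts
-/

set_option autoImplicit false
set_option linter.style.haveILetI false
set_option backward.isDefEq.respectTransparency false
set_option backward.isDefEq.respectTransparency.types false

noncomputable section

universe u v

open CategoryTheory CategoryTheory.Limits AlgebraicGeometry Opposite AlgSp TensorProduct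
open Groth.Agent.QCart13 Groth.Agent.WeakAss

namespace Groth.Agent.AlgSpWA

variable {S : Scheme.{u}} {X : Sp S}

theorem annSect_eq (M : ModEt X) {E : EtOver X} (s : sectModEt M E) : annSect s = annEl (Fn E) s := by
  ext a
  rw [mem_annEl]
  exact mem_annSect_iff s a

theorem isWeakAssOn_iff (M : ModEt X) (E : EtOver X) [IsAffine E.obj.left.left] (u : ↥E.obj.left.left) :
    IsWeakAssOn M E u ↔ primeAtPt E.obj.left.left u ∈ FlatCA.weakAss (Fn E) (sectModEt M E) := by
  simp only [IsWeakAssOn, mem_weakAss_iff, annSect_eq]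

theorem primeAtPt_comap {U V : Scheme.{u}} (f : U ⟶ V) (u : ↥U) :
    (primeAtPt U u).comap f.appTop.hom = primeAtPt V (f u) := by
  rw [primeAtPt, primeAtPt, Ideal.comap_comap]
  have h : f.appTop ≫ U.presheaf.germ ⊤ u trivial = V.presheaf.germ ⊤ (f u) trivial ≫ f.stalkMap u :=
    (Scheme.Hom.germ_stalkMap f ⊤ u trivial).symm
  have h5 : (IsLocalRing.maximalIdeal (U.presheaf.stalk u)).comap (f.stalkMap u).hom =
      IsLocalRing.maximalIdeal (V.presheaf.stalk (f u)) :=
    IsLocalRing.maximalIdeal_comap (f.stalkMap u).hom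
  rw [← CommRingCat.hom_comp, h, CommRingCat.hom_comp, ← Ideal.comap_comap, h5]

theorem primeAtPt_injective {U : Scheme.{u}} [IsAffine U] {u v : ↥U} (h : primeAtPt U u = primeAtPt U v) :
    u = v := by
  rw [AlgSpLib.Cartier.primeAtPt_eq, AlgSpLib.Cartier.primeAtPt_eq] at h
  have h' : (isAffineOpen_top U).primeIdealOf ⟨u, trivial⟩ = (isAffineOpen_top U).primeIdealOf ⟨v, trivial⟩ :=
    PrimeSpectrum.ext h
  exact ((isAffineOpen_top U).fromSpec_primeIdealOf ⟨u, trivial⟩).symm.trans
    ((congrArg _ h').trans ((isAffineOpen_top U).fromSpec_primeIdealOf ⟨v, trivial⟩))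

section transport

variable {A B : Type u} [CommRing A] [CommRing B] [Algebra A B]
  {M : Type v} [AddCommGroup M] [Module A M] {N : Type v} [AddCommGroup N] [Module B N] [Module A N]
  [IsScalarTower A B N] {f : M →ₗ[A] N}

theorem weakAss_congr_isBaseChange (hf : IsBaseChange B f) :
    FlatCA.weakAss B (B ⊗[A] M) = FlatCA.weakAss B N :=
  (weakAss_subset_of_injective hf.equiv.toLinearMap hf.equiv.injective).antisymm
    (weakAss_subset_of_injective hf.equiv.symm.toLinearMap hf.equiv.symm.injective)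

end transport

theorem etale_rmap {E E' : EtOver X} (g : E' ⟶ E) (hE : Aff E) (hE' : Aff E') : (rmap g).Etale := by
  have : IsAffine E.obj.left.left := hE
  have : IsAffine E'.obj.left.left := hE'
  exact HasRingHomProperty.appTop @Etale g.hom.left.left (EtOver.etale_left g)

/-- Weak associatedness does not change along a morphism of affine charts. -/
theorem isWeakAssOn_iff_map (M : ModEt X) [M.IsQuasicoherent] {E E' : EtOver X} (g : E' ⟶ E)
    [hE : IsAffine E.obj.left.left] [hE' : IsAffine E'.obj.left.left] (u : ↥E'.obj.left.left) :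
    IsWeakAssOn M E' u ↔ IsWeakAssOn M E (g.hom.left.left u) := by
  rw [isWeakAssOn_iff, isWeakAssOn_iff]
  letI := algOf g
  letI := modOf M g
  haveI := towerOf M g
  have hbc : IsBC M g := cart_of_isQuasicoherent M hE E' g hE'
  haveI : Algebra.Etale (Fn E) (Fn E') := etale_rmap g hE hE'
  rw [← weakAss_congr_isBaseChange (f := resL M g) hbc]
  set p := primeAtPt E.obj.left.left (g.hom.left.left u) with hp
  haveI : p.IsPrime := hp ▸ inferInstance
  haveI : (primeAtPt E'.obj.left.left u).LiesOver p := ⟨(primeAtPt_comap g.hom.left.left u).symm⟩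
  exact ⟨fun h => mem_weakAss_of_etale _ (primeAtPt E'.obj.left.left u) h,
    fun h => mem_weakAss_of_flat _ (primeAtPt E'.obj.left.left u) h⟩

/-- Every point lies on an affine chart. -/
theorem exists_aff_over (hX : IsAlgSpace X) (x : Points X) :
    ∃ E : EtOver X, Aff E ∧ ∃ u : ↥E.obj.left.left, Points.ofPt E.obj.hom u = x := by
  obtain ⟨U, a, ha, has⟩ := hX.atlas
  obtain ⟨u, rfl⟩ := AlgSpLib.surjective_ofPt has x
  obtain ⟨W, j, hW, w, hw⟩ := exists_aff_open (EtOver.mk a ha) u
  refine ⟨W, hW, w, ?_⟩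
  rw [← EtOver.w j, AlgSpLib.ofPt_comp, hw]
  rfl

/-- Two points of charts over the same point come from an affine chart mapping to both. -/
theorem exists_common (E₁ E₂ : EtOver X) {u₁ : ↥E₁.obj.left.left} {u₂ : ↥E₂.obj.left.left}
    (h : Points.ofPt E₁.obj.hom u₁ = Points.ofPt E₂.obj.hom u₂) :
    ∃ W : EtOver X, Aff W ∧ ∃ (g₁ : W ⟶ E₁) (g₂ : W ⟶ E₂) (w : ↥W.obj.left.left),
      g₁.hom.left.left w = u₁ ∧ g₂.hom.left.left w = u₂ := by
  let P : EtOver X := EtOver.mk ((yon S).map (E₁.property.rep.fst' E₂.obj.hom) ≫ E₁.obj.hom) (by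
    refine AlgSpLib.repWith_comp ((AlgSp.repWith_yon_map_iff _ _).2 ?_) E₁.property
    exact E₂.property.property _ _ _ (E₁.property.rep.isPullback' E₂.obj.hom).flip)
  let g₁ : P ⟶ E₁ := EtOver.homMk (E₁.property.rep.fst' E₂.obj.hom) rfl
  let g₂ : P ⟶ E₂ := EtOver.homMk (E₁.property.rep.snd E₂.obj.hom)
    (E₁.property.rep.isPullback' E₂.obj.hom).w.symm
  obtain ⟨r, hr₁, hr₂⟩ := AlgSpLib.exists_ofPt_of_eq (E₁.property.rep.isPullback' E₂.obj.hom) h
  obtain ⟨W, j, hW, w, hw⟩ := exists_aff_open P r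
  refine ⟨W, hW, j ≫ g₁, j ≫ g₂, w, ?_, ?_⟩
  · exact ((congrArg (g₁.hom.left.left) hw).trans hr₁)
  · exact ((congrArg (g₂.hom.left.left) hw).trans hr₂)

theorem mem_weakAssEt_iff_all (hX : IsAlgSpace X) (M : ModEt X) [M.IsQuasicoherent] (x : Points X) :
    x ∈ WeakAssEt M ↔ ∀ (E : EtOver X) [IsAffine E.obj.left.left] (u : ↥E.obj.left.left),
      Points.ofPt E.obj.hom u = x → IsWeakAssOn M E u := by
  constructor
  · rintro ⟨E₀, hE₀, u₀, rfl, h⟩ E hE u hu
    obtain ⟨W, hW, g₀, g, w, rfl, rfl⟩ := exists_common E₀ E hu.symm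
    haveI : IsAffine W.obj.left.left := hW
    exact (isWeakAssOn_iff_map M g w).1 ((isWeakAssOn_iff_map M g₀ w).2 h)
  · intro h
    obtain ⟨E, hE, u, hu⟩ := exists_aff_over hX x
    haveI : IsAffine E.obj.left.left := hE
    exact ⟨E, hE, u, hu, h E u hu⟩

/-- The weakly associated points of a quasi-coherent module on one chart. -/
theorem isWeakAssOn_of_mem (hX : IsAlgSpace X) {M : ModEt X} [M.IsQuasicoherent] {E : EtOver X}
    [IsAffine E.obj.left.left] {u : ↥E.obj.left.left} (h : Points.ofPt E.obj.hom u ∈ WeakAssEt M) :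
    IsWeakAssOn M E u :=
  (mem_weakAssEt_iff_all hX M _).1 h E u rfl

/-- A weakly associated prime of the sections on a chart gives a weakly associated point. -/
theorem exists_mem_of_weakAss (M : ModEt X) (E : EtOver X) [hE : IsAffine E.obj.left.left]
    {P : Ideal (Fn E)} (hP : P ∈ FlatCA.weakAss (Fn E) (sectModEt M E)) :
    ∃ u : ↥E.obj.left.left, primeAtPt E.obj.left.left u = P ∧ Points.ofPt E.obj.hom u ∈ WeakAssEt M := by
  obtain ⟨s, hs⟩ := hP
  haveI : P.IsPrime := hs.1.1
  obtain ⟨u, hu⟩ := AlgSpLib.Cartier.exists_primeAtPt_eq (U := E.obj.left.left) P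
  exact ⟨u, hu, E, hE, u, rfl, (isWeakAssOn_iff M E u).2 (hu ▸ ⟨s, hs⟩)⟩

end Groth.Agent.AlgSpWA

end
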