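import Groth.Agent.AlgSpWA.AffAcyclic
import Groth.Agent.EtFound.QcqsObjects
import Mathlib.CategoryTheory.Sites.CoverLifting

/-!
# Filtered colimits of sheaves on the small etale site of a space, seen on affine objects
-/

set_option autoImplicit false
set_option backward.isDefEq.respectTransparency false
set_option backward.isDefEq.respectTransparency.types false

noncomputable section

universe u

open CategoryTheory CategoryTheory.Limits AlgebraicGeometry Opposite AlgSp

namespace Groth.Agent.AlgSpWA.ChartColim

variable {S : Scheme.{u}} {X : Sp S} {T : Over S} (p : (yon S).obj T ⟶ X) (hp : RepWith @Etale p)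

instance isCocontinuous_ofChart : (EtOver.ofChart p hp).IsCocontinuous T.left.smallEtaleTopology (etTop X) := by
  haveI := isCocontinuous_comp (J := T.left.smallEtaleTopology) (K := (etTop X).over (ChartGen.base p hp))
    (L := etTop X) (ChartGen.toSlice p hp) (CategoryTheory.Over.forget (ChartGen.base p hp))
  exact Functor.IsCocontinuous.of_iso (J := T.left.smallEtaleTopology) (K := etTop X)
    (Iso.refl (ChartGen.toSlice p hp ⋙ CategoryTheory.Over.forget (ChartGen.base p hp)))

theorem preservesColimits_restr : PreservesColimitsOfSize.{u + 1, u + 1} (ChartGen.restr p hp) := by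
  haveI : ∀ F : T.left.Etaleᵒᵖ ⥤ AddCommGrpCat.{u + 1},
      (EtOver.ofChart p hp).op.HasPointwiseRightKanExtension F := inferInstance
  exact ((EtOver.ofChart p hp).sheafAdjunctionCocontinuous AddCommGrpCat.{u + 1}
    T.left.smallEtaleTopology (etTop X)).leftAdjoint_preservesColimits

/-- The sections functor at an object of the site of a chart. -/
abbrev chartSections (V : T.left.Etale) : AbEt X ⥤ AddCommGrpCat.{u + 1} :=
  ChartGen.restr p hp ⋙ sheafToPresheaf T.left.smallEtaleTopology AddCommGrpCat.{u + 1} ⋙
    (evaluation T.left.Etaleᵒᵖ AddCommGrpCat.{u + 1}).obj (op V)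

theorem preservesColimitsOfShape_chartSections (V : T.left.Etale) (hV : EtFound.IsQcqsObj V)
    (I : Type (u + 1)) [SmallCategory I] [IsFiltered I] :
    PreservesColimitsOfShape I (chartSections p hp V) := by
  haveI := preservesColimits_restr p hp
  haveI := EtFound.preservesColimitsOfShape_sections_qcqs_ab V hV I
  infer_instance

/-- Sections over an object. -/
abbrev sections (X : Sp S) (E : EtOver X) : AbEt X ⥤ AddCommGrpCat.{u + 1} :=
  sheafToPresheaf (etTop X) AddCommGrpCat.{u + 1} ⋙ (evaluation (EtOver X)ᵒᵖ AddCommGrpCat.{u + 1}).obj (op E)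

/-- An object as the top object of its own site. -/
def topIso (E : EtOver X) :
    (EtOver.ofChart E.obj.hom E.property).obj (EtCoh.top E.obj.left.left) ≅ E :=
  (ObjectProperty.fullyFaithfulι _).preimageIso
    (CostructuredArrow.isoMk (CategoryTheory.Over.isoMk (Iso.refl E.obj.left.left) (by
      change 𝟙 _ ≫ E.obj.left.hom = 𝟙 _ ≫ E.obj.left.hom
      rfl)) (by
      change (yon S).map _ ≫ E.obj.hom = (yon S).map _ ≫ E.obj.hom
      congr 2))

theorem preservesColimitsOfShape_sections (E : EtOver X) [CompactSpace ↥E.obj.left.left]
    [QuasiSeparatedSpace ↥E.obj.left.left] (I : Type (u + 1)) [SmallCategory I] [IsFiltered I] :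
    PreservesColimitsOfShape I (sections X E) := by
  haveI := preservesColimitsOfShape_chartSections E.obj.hom E.property (EtCoh.top E.obj.left.left)
    ⟨‹CompactSpace ↥E.obj.left.left›, ‹QuasiSeparatedSpace ↥E.obj.left.left›⟩ I
  exact preservesColimitsOfShape_of_natIso (F := chartSections E.obj.hom E.property (EtCoh.top E.obj.left.left))
    (NatIso.ofComponents (fun G => (G.obj.mapIso (topIso E).op).symm) fun {G G'} φ =>
      (φ.hom.naturality (topIso E).inv.op).symm)

theorem isIso_of_bijective_affine {G G' : AbEt X} (φ : G ⟶ G')
    (h : ∀ E : EtOver X, IsAffine E.obj.left.left → Function.Bijective (φ.hom.app (op E)).hom) : IsIso φ := by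
  haveI : Epi φ := by
    refine (Sheaf.isLocallySurjective_iff_epi' (J := etTop X) AddCommGrpCat.{u + 1} φ).1 ⟨fun {V} s => ?_⟩
    refine QCart13.covering_of_affine fun W j hW => ?_
    exact (h W hW).2 _
  haveI : Mono φ := by
    haveI : ∀ U, Mono (φ.hom.app U) := fun U => (AddCommGrpCat.mono_iff_injective _).2
      ((injective_iff_map_eq_zero _).2 fun x hx => by
        let R : Sieve U.unop :=
          { arrows := fun W k => (G.obj.map k.op).hom x = 0
            downward_closed := fun {W W' k} (hk : (G.obj.map k.op).hom x = 0) l => by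
              show (G.obj.map (l ≫ k).op).hom x = 0
              rw [op_comp, G.obj.map_comp, ConcreteCategory.comp_apply, hk, map_zero] }
        refine (((isSheaf_iff_isSheaf_of_type _ _).1 ((sheafCompose (etTop X)
          (CategoryTheory.forget AddCommGrpCat.{u + 1})).obj G).property).isSeparated R
            (QCart13.covering_of_affine fun W k hW => ?_)).ext fun W k hk => ?_
        · show (G.obj.map k.op).hom x = 0
          refine (h W hW).1 ?_
          rw [NatTrans.naturality_apply φ.hom k.op x, map_zero]
          exact (congrArg _ hx).trans (map_zero _)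
        · exact (show (G.obj.map k.op).hom x = 0 from hk).trans (map_zero (G.obj.map k.op).hom).symm)
    haveI : Mono φ.hom := NatTrans.mono_of_mono_app _
    exact (sheafToPresheaf (etTop X) AddCommGrpCat.{u + 1}).mono_of_mono_map this
  exact isIso_of_mono_of_epi φ

end Groth.Agent.AlgSpWA.ChartColim
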