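import Groth.Agent.QCart13.Cover
import Groth.Agent.AlgSpLib.Rep
import Groth.Prelude.Def_EtCore
import Groth.Agent.EtLC12.HCompare
import Groth.Agent.EtLC12.AffineCartan
import Mathlib.CategoryTheory.Sites.Equivalence
import Mathlib.CategoryTheory.Sites.DenseSubsite.SheafEquiv

/-!
# The small etale site of a space which is a scheme is the small etale site of that scheme
-/

set_option autoImplicit false
set_option backward.isDefEq.respectTransparency false
set_option backward.isDefEq.respectTransparency.types false

noncomputable section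

universe u

open CategoryTheory CategoryTheory.Limits AlgebraicGeometry Opposite AlgSp

namespace Groth.Agent.AlgSpWA.ChartIso

variable {S : Scheme.{u}} {X : Sp S} {T : Over S} (p : (yon S).obj T ⟶ X) (hp : RepWith @Etale p)

section
variable [IsIso p]

instance full_ofChart : (EtOver.ofChart p hp).Full where
  map_surjective {V V'} g := by
    have h0 : (yon S).map g.hom.left ≫ ((yon S).map (EtOver.homOfEtale V') ≫ p) =
        (yon S).map (EtOver.homOfEtale V) ≫ p := EtOver.w g
    have hw : g.hom.left ≫ EtOver.homOfEtale V' = EtOver.homOfEtale V := (yon S).map_injective (by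
      rw [← cancel_mono p, Functor.map_comp, Category.assoc]
      exact h0)
    have hw' : g.hom.left.left ≫ V'.hom = V.hom := by simpa using congrArg CommaMorphism.left hw
    exact ⟨MorphismProperty.Over.homMk g.hom.left.left hw',
      EtOver.hom_ext _ _ (Over.OverMorphism.ext rfl)⟩

include hp in
instance essSurj_ofChart : (EtOver.ofChart p hp).EssSurj where
  mem_essImage E := by
    obtain ⟨a, ha⟩ := (yon S).map_surjective (E.obj.hom ≫ inv p)
    have hE' : RepWith @Etale (E.obj.hom ≫ inv p) := by
      refine (repWith_isMultiplicative (S := S) @Etale).comp_mem _ _ E.property ?_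
      exact AlgSpLib.repWith_of_isIso @Etale (inv p)
    have hE : Etale a.left := (repWith_yon_map_iff _ _).1 (ha ▸ hE')
    let V : T.left.Etale := { toComma := Over.mk a.left, prop := hE }
    refine ⟨V, ⟨(ObjectProperty.fullyFaithfulι _).preimageIso
      (CostructuredArrow.isoMk (Over.isoMk (Iso.refl E.obj.left.left) (by
        change 𝟙 _ ≫ E.obj.left.hom = a.left ≫ T.hom
        rw [Category.id_comp]; exact (Over.w a).symm)) ?_)⟩⟩
    change (yon S).map _ ≫ E.obj.hom = (yon S).map _ ≫ p
    rw [← cancel_mono (inv p), Category.assoc, Category.assoc, IsIso.hom_inv_id, Category.comp_id, ← ha,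
      ← Functor.map_comp]
    congr 1

instance isEquivalence_ofChart : (EtOver.ofChart p hp).IsEquivalence :=
  Functor.IsEquivalence.mk inferInstance inferInstance inferInstance

theorem functorPushforward_mem_iff {V : T.left.Etale} {R : Sieve V} :
    R.functorPushforward (EtOver.ofChart p hp) ∈ etTop X ((EtOver.ofChart p hp).obj V) ↔
      R ∈ T.left.smallEtaleTopology V := by
  constructor
  · intro hR
    have hx : ∀ x : ↥V.left, ∃ (W : T.left.Etale) (f : W ⟶ V), R f ∧ x ∈ Set.range f.left := fun x => by
      obtain ⟨Y, f, hf, y, hy⟩ := QCart13.exists_mem_range hR x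
      obtain ⟨W, f', h, hf', rfl⟩ := hf
      exact ⟨W, f', hf', h.hom.left.left y, hy⟩
    choose W f hf hx using hx
    refine GrothendieckTopology.superset_covering _ ?_
      ((Scheme.ofArrows_mem_smallEtaleTopology_iff f).2
        (Set.eq_univ_iff_forall.2 fun x => Set.mem_iUnion.2 ⟨x, hx x⟩))
    rw [Sieve.ofArrows, Sieve.generate_le_iff]
    rintro _ _ ⟨x⟩
    exact hf x
  · intro hR
    have h2 : Sieve.ofArrows (fun i : Σ W, {f : W ⟶ V // R f} => i.1) (fun i => i.2.1) ∈
        T.left.smallEtaleTopology V :=
      GrothendieckTopology.superset_covering _ (fun W f hf =>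
        Sieve.ofArrows_mk _ _ (⟨W, f, hf⟩ : Σ W, {f : W ⟶ V // R f})) hR
    refine GrothendieckTopology.superset_covering _ ?_ (EtOver.ofChart_sieve_mem p hp _ _ h2)
    rw [Sieve.ofArrows, Sieve.generate_le_iff]
    rintro _ _ ⟨i⟩
    exact ⟨i.1, i.2.1, 𝟙 _, i.2.2, (Category.id_comp _).symm⟩

instance isDenseSubsite_ofChart :
    (EtOver.ofChart p hp).IsDenseSubsite T.left.smallEtaleTopology (etTop X) where
  functorPushforward_mem_iff := functorPushforward_mem_iff p hp

/-- Restriction of abelian sheaves to the scheme. -/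
abbrev restr : AbEt X ⥤ EtCoh.Ab T.left :=
  (EtOver.ofChart p hp).sheafPushforwardContinuous AddCommGrpCat.{u + 1} T.left.smallEtaleTopology (etTop X)

/-- The terminal object of the site. -/
def isTerminal_top : IsTerminal ((EtOver.ofChart p hp).obj (EtCoh.top T.left)) :=
  IsTerminal.isTerminalObj (EtOver.ofChart p hp) _ (EtCore.topIsTerminal T.left)

theorem nonempty_HEt_addEquiv (F : AbEt X) (n : ℕ) :
    Nonempty (HEt X F n ≃+ EtCoh.H T.left ((restr p hp).obj F) n) := by
  haveI : (restr p hp).IsEquivalence := inferInstance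
  refine EtLC12.HCompare.nonempty_H_addEquiv (isTerminal_top p hp) (EtCore.topIsTerminal T.left) (restr p hp)
    (fun G => AddEquiv.refl _) (fun f x => rfl) (fun _ => True) (fun _ _ _ _ => trivial)
    (fun E hE _ _ => hE.map_of_exact _) (fun I hI k => ?_) n F trivial
  haveI : Injective ((restr p hp).obj I) :=
    (Injective.injective_of_adjoint (restr p hp).asEquivalence.symm.toAdjunction I)
  exact subsingleton_of_forall_eq 0 fun x => Abelian.Ext.eq_zero_of_injective x

theorem subsingleton_HEt_of_isAffAcyclic [IsAffine T.left] (F : AbEt X)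
    (hF : EtLC12.AffineCartan.IsAffAcyclic ((restr p hp).obj F)) (n : ℕ) (hn : 0 < n) :
    Subsingleton (HEt X F n) := by
  obtain ⟨e⟩ := nonempty_HEt_addEquiv p hp F n
  obtain ⟨m, rfl⟩ : ∃ m, n = m + 1 := ⟨n - 1, by omega⟩
  haveI := EtLC12.AffineCartan.subsingleton_H_of_isAffAcyclic m _ hF
  exact e.toEquiv.subsingleton

end

end Groth.Agent.AlgSpWA.ChartIso
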