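import Mathlib.RingTheory.Flat.Basic
import Mathlib.RingTheory.IsTensorProduct
import Mathlib.RingTheory.Ideal.AssociatedPrime.Basic
import Mathlib.RingTheory.LocalRing.ResidueField.Ideal
import Mathlib.RingTheory.Localization.Integer
import Mathlib.LinearAlgebra.TensorProduct.Pi
import Mathlib.LinearAlgebra.Basis.VectorSpace
import Mathlib.RingTheory.TensorProduct.Finite

/-!
# Algebra for Chevalley's theorem on algebraic spaces
-/

set_option autoImplicit false

noncomputable section

open TensorProduct

namespace Groth.Agent.AlgSpWA.Chev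

/-- The common kernel of finitely many maps commutes with flat base change. -/
theorem mem_span_of_baseChange {A A' X Y X' Y' : Type*} [CommRing A] [CommRing A'] [Algebra A A'] [Module.Flat A A']
    [AddCommGroup X] [Module A X] [AddCommGroup Y] [Module A Y]
    [AddCommGroup X'] [Module A X'] [Module A' X'] [IsScalarTower A A' X']
    [AddCommGroup Y'] [Module A Y'] [Module A' Y'] [IsScalarTower A A' Y']
    (jX : X →ₗ[A] X') (jY : Y →ₗ[A] Y') (hX : Function.Surjective (jX.liftBaseChange A'))
    (hY : Function.Injective (jY.liftBaseChange A')) {ι : Type*} [Fintype ι] (μ : ι → X →ₗ[A] Y)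
    (μ' : ι → X' →ₗ[A'] Y') (hcomm : ∀ i x, μ' i (jX x) = jY (μ i x)) (x' : X') (hx' : ∀ i, μ' i x' = 0) :
    x' ∈ Submodule.span A' (jX '' {x | ∀ i, μ i x = 0}) := by
  classical
  obtain ⟨z, rfl⟩ := hX x'
  have hz : ∀ i, (μ i).lTensor A' z = 0 := fun i => by
    apply hY
    rw [map_zero, ← hx' i]
    clear hx'
    induction z using TensorProduct.induction_on with
    | zero => simp
    | add a b ha hb => simp only [map_add, ha, hb]
    | tmul a x =>
      rw [LinearMap.lTensor_tmul, LinearMap.liftBaseChange_tmul, LinearMap.liftBaseChange_tmul, map_smul, hcomm]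
  obtain ⟨v, rfl⟩ : z ∈ LinearMap.range ((LinearMap.ker (LinearMap.pi μ)).subtype.lTensor A') := by
    refine ((Module.Flat.lTensor_exact A' (LinearMap.exact_subtype_ker_map (LinearMap.pi μ))) z).1 ?_
    refine (piRight A A A' fun _ : ι => Y).injective (funext fun i => ?_)
    rw [map_zero, Pi.zero_apply, ← hz i]
    clear hz hx'
    induction z using TensorProduct.induction_on with
    | zero => simp
    | add a b ha hb => simp only [map_add, Pi.add_apply, ha, hb]
    | tmul a x => simp
  clear hz hx'
  induction v using TensorProduct.induction_on with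
  | zero => simp
  | add a b ha hb => simp only [map_add]; exact add_mem ha hb
  | tmul a x =>
    rw [LinearMap.lTensor_tmul, LinearMap.liftBaseChange_tmul]
    exact Submodule.smul_mem _ a (Submodule.subset_span
      ⟨x.1, fun i => congrFun (LinearMap.mem_ker.1 x.2) i, rfl⟩)

universe u

/-- A finite ring extension hitting all primes has a nonzero map to every finite nonzero module. -/
theorem exists_linearMap_ne_zero {A B : Type u} [CommRing A] [IsNoetherianRing A] [CommRing B] [Algebra A B]
    [Module.Finite A B] (hsurj : ∀ p : Ideal A, p.IsPrime → ∃ q : Ideal B, q.IsPrime ∧ q.comap (algebraMap A B) = p)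
    {M : Type*} [AddCommGroup M] [Module A M] [Nontrivial M] :
    ∃ f : B →ₗ[A] M, f ≠ 0 := by
  classical
  obtain ⟨p, hp⟩ := associatedPrimes.nonempty A M
  haveI := hp.isPrime
  obtain ⟨hprime, x, hx⟩ := (isAssociatedPrime_iff_exists_injective_linearMap p M).1 hp
  obtain ⟨q, hq, hpq⟩ := hsurj p hprime
  haveI := hq
  let D := A ⧸ p
  let K := p.ResidueField
  let φ : K →+* q.ResidueField := Ideal.ResidueField.map p q (algebraMap A B) hpq.symm
  letI : Algebra K q.ResidueField := φ.toAlgebra
  obtain ⟨r, hr⟩ := LinearMap.exists_leftInverse_of_injective (Algebra.linearMap K q.ResidueField)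
    (LinearMap.ker_eq_bot.2 φ.injective)
  have hr1 : r 1 = 1 := by simpa using LinearMap.congr_fun hr 1
  have key : ∀ (a : A) (b : B), r (algebraMap B q.ResidueField (a • b)) =
      algebraMap A K a * r (algebraMap B q.ResidueField b) := fun a b => by
    rw [Algebra.smul_def, map_mul]
    have : algebraMap B q.ResidueField (algebraMap A B a) = φ (algebraMap A K a) :=
      (Ideal.ResidueField.map_algebraMap p q (algebraMap A B) hpq.symm a).symm
    rw [this]
    exact r.map_smul (algebraMap A K a) _
  let g : B →ₗ[A] K :=
    { toFun := fun b => r (algebraMap B q.ResidueField b)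
      map_add' := fun a b => by simp
      map_smul' := fun a b => by rw [key, RingHom.id_apply, Algebra.smul_def] }
  have hg1 : g 1 = 1 := by show r (algebraMap B q.ResidueField 1) = 1; rw [map_one, hr1]
  obtain ⟨n, e, he⟩ := Module.Finite.exists_fin (R := A) (M := B)
  obtain ⟨d, hd⟩ := IsLocalization.exist_integer_multiples_of_finite (nonZeroDivisors D) (S := K) (fun i => g (e i))
  let i : D →ₗ[A] K := (Algebra.linearMap D K).restrictScalars A
  have hi : Function.Injective i := IsFractionRing.injective D K
  let g' : B →ₗ[A] K :=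
    { toFun := fun b => algebraMap D K d * g b
      map_add' := fun a b => by rw [map_add, mul_add]
      map_smul' := fun a b => by rw [map_smul, RingHom.id_apply, mul_smul_comm] }
  have hmem : ∀ b, g' b ∈ LinearMap.range i := by
    intro b
    have hb : b ∈ Submodule.span A (Set.range e) := he ▸ Submodule.mem_top
    have hle : Submodule.span A (Set.range e) ≤ (LinearMap.range i).comap g' := Submodule.span_le.2 (by
      rintro _ ⟨j, rfl⟩
      obtain ⟨t, ht⟩ := hd j
      exact ⟨t, ht.trans (Algebra.smul_def _ _)⟩)
    exact hle hb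
  let g'' : B →ₗ[A] D := LinearMap.codRestrictOfInjective g' i hi hmem
  refine ⟨x.comp g'', fun h0 => ?_⟩
  have h1 : g'' 1 = 0 := hx (by rw [map_zero]; exact LinearMap.congr_fun h0 1)
  have h2 : g' 1 = 0 := by
    rw [← LinearMap.codRestrictOfInjective_comp_apply g' i hi hmem 1, show LinearMap.codRestrictOfInjective g' i hi hmem 1 = g'' 1 from rfl, h1, map_zero]
  have h3 : algebraMap D K d = 0 := by
    have : algebraMap D K d * g 1 = 0 := h2
    rwa [hg1, mul_one] at this
  exact nonZeroDivisors.coe_ne_zero d (IsFractionRing.injective D K (h3.trans (map_zero _).symm))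

end Groth.Agent.AlgSpWA.Chev
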