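import Groth.Agent.AlgSpWA.Basic
import Groth.Agent.QCart13.Abelian

/-!
# Vanishing and exact sequences through weakly associated points
-/

set_option autoImplicit false
set_option linter.style.haveILetI false
set_option backward.isDefEq.respectTransparency false
set_option backward.isDefEq.respectTransparency.types false

noncomputable section

universe u

open CategoryTheory CategoryTheory.Limits AlgebraicGeometry Opposite AlgSp TensorProduct
open Groth.Agent.QCart13 Groth.Agent.WeakAss

namespace Groth.Agent.AlgSpWA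

variable {S : Scheme.{u}} {X : Sp S}

/-- A section vanishes if its restrictions to the affine objects vanish. -/
theorem eq_zero_of_affine (M : ModEt X) {E : EtOver X} (x : sectModEt M E)
    (h : ∀ (W : EtOver X) (j : W ⟶ E), Aff W → res M j x = 0) : x = 0 := by
  refine Gen.eq_zero_of_local M x (covering_of_affine (R :=
    { arrows := fun V f => res M f x = 0, downward_closed := fun {Y Z f} hf g => ?_ }) h) fun V f hf => hf
  change res M (g ≫ f) x = 0
  rw [res_comp, show res M f x = 0 from hf, map_zero]

theorem subsingleton_of_weakAssEt_eq_empty (M : ModEt X) (h : WeakAssEt M = ∅) (E : EtOver X) :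
    Subsingleton (sectModEt M E) := by
  refine subsingleton_of_forall_eq 0 fun x => eq_zero_of_affine M x fun W j hW => ?_
  haveI : IsAffine W.obj.left.left := hW
  haveI : Subsingleton (sectModEt M W) := (weakAss_eq_empty_iff (R := Fn W)).1
    (Set.eq_empty_iff_forall_notMem.2 fun P hP => by
      obtain ⟨u, -, hu⟩ := exists_mem_of_weakAss M W hP
      rw [h] at hu
      exact hu)
  exact Subsingleton.elim _ _

theorem isZero_iff (M : ModEt X) : IsZero M ↔ WeakAssEt M = ∅ := by
  constructor
  · intro h
    refine Set.eq_empty_iff_forall_notMem.2 ?_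
    rintro x ⟨E, hE, u, -, hu⟩
    haveI : Subsingleton (sectModEt M E) := subsingleton_of_forall_eq 0 fun s =>
      congrArg (fun φ : M ⟶ M => appL φ E s) (h.eq_of_src (𝟙 M) 0)
    have := (isWeakAssOn_iff M E u).1 hu
    rw [weakAss_eq_empty_iff.2 inferInstance] at this
    exact this
  · intro h
    rw [IsZero.iff_id_eq_zero]
    refine SheafOfModules.hom_ext (PresheafOfModules.hom_ext fun W => ModuleCat.hom_ext ?_)
    haveI := subsingleton_of_weakAssEt_eq_empty M h W.unop
    exact LinearMap.ext fun x => @Subsingleton.elim (sectModEt M W.unop) _ _ _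

theorem weakAssEt_shortExact (C : ShortComplex (ModEt X)) (hC : C.ShortExact)
    [C.X₁.IsQuasicoherent] :
    WeakAssEt C.X₂ ⊆ WeakAssEt C.X₁ ∪ WeakAssEt C.X₃ ∧ WeakAssEt C.X₁ ⊆ WeakAssEt C.X₂ := by
  haveI := hC.mono_f
  constructor
  · rintro x ⟨E, hE, u, rfl, hu⟩
    have hex : Function.Exact (appL C.f E) (appL C.g E) := by
      intro y
      refine ⟨fun hy => exists_preimage_of_shortExact C hC E y hy, ?_⟩
      rintro ⟨z, rfl⟩
      rw [appL_appL, C.zero]
      rfl
    rcases weakAss_subset_union_of_exact _ _ (injective_appL C.f E) hex ((isWeakAssOn_iff _ E u).1 hu) with h | h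
    · exact Or.inl ⟨E, hE, u, rfl, (isWeakAssOn_iff _ E u).2 h⟩
    · exact Or.inr ⟨E, hE, u, rfl, (isWeakAssOn_iff _ E u).2 h⟩
  · rintro x ⟨E, hE, u, rfl, hu⟩
    exact ⟨E, hE, u, rfl, (isWeakAssOn_iff _ E u).2
      (weakAss_subset_of_injective _ (injective_appL C.f E) ((isWeakAssOn_iff _ E u).1 hu))⟩

/-- A section on an affine object vanishing on an object through all weakly associated points vanishes. -/
theorem eq_zero_of_weakAss_covered (M : ModEt X) [M.IsQuasicoherent] (E : EtOver X)
    (hE : WeakAssEt M ⊆ Set.range (Points.ofPt E.obj.hom)) (W : EtOver X) (hW : Aff W) (x : sectModEt M W)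
    (h : ∀ (V : EtOver X) (g : V ⟶ W), Aff V → (V ⟶ E) → res M g x = 0) : x = 0 := by
  haveI : IsAffine W.obj.left.left := hW
  by_contra hx
  obtain ⟨P, hP⟩ := Ideal.nonempty_minimalPrimes (I := annEl (Fn W) x) fun hc => hx (by
    simpa using mem_annEl.1 (hc ▸ Submodule.mem_top : (1 : Fn W) ∈ annEl (Fn W) x))
  obtain ⟨u, rfl, hu⟩ := exists_mem_of_weakAss M W ⟨x, hP⟩
  obtain ⟨e, he⟩ := hE hu
  obtain ⟨V, hV, g, g', v, rfl, -⟩ := exists_common W E he.symm
  haveI : IsAffine V.obj.left.left := hV
  letI := algOf g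
  letI := modOf M g
  haveI := towerOf M g
  have hbc : IsBC M g := cart_of_isQuasicoherent M hW V g hV
  haveI : Algebra.Etale (Fn W) (Fn V) := etale_rmap g hW hV
  have h0 : (1 : Fn V) ⊗ₜ[Fn W] x = 0 := (IsBaseChange.equiv hbc).injective
    ((IsBaseChange.equiv_tmul hbc 1 x).trans (by rw [one_smul, map_zero]; exact h V g hV g'))
  have hann : (annEl (Fn W) x).map (algebraMap (Fn W) (Fn V)) = ⊤ := by
    rw [← annEl_one_tmul, h0, eq_top_iff]
    exact fun r _ => mem_annEl.2 (smul_zero r)
  refine (inferInstance : (primeAtPt V.obj.left.left v).IsPrime).ne_top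
    (top_le_iff.1 (hann.ge.trans (Ideal.map_le_iff_le_comap.2 ?_)))
  exact hP.1.2.trans (primeAtPt_comap g.hom.left.left v).ge

theorem injective_eval (M : ModEt X) [M.IsQuasicoherent] (E : EtOver X)
    (hE : WeakAssEt M ⊆ Set.range (Points.ofPt E.obj.hom)) :
    Function.Injective (fun s : M.sections => PresheafOfModules.sections.eval s (Opposite.op E)) := by
  intro s t hst
  refine Subtype.ext (funext fun W => sub_eq_zero.1 ?_)
  refine eq_zero_of_affine M (E := W.unop) _ fun A j hA => ?_
  rw [map_sub]
  have hs : ∀ (r : M.sections) {A B : EtOver X} (k : A ⟶ B),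
      res M k (r.eval (op B)) = r.eval (op A) := fun r A B k => PresheafOfModules.sections_property r k.op
  change res M j (s.eval (op W.unop)) - res M j (t.eval (op W.unop)) = 0
  rw [hs, hs]
  refine eq_zero_of_weakAss_covered M E hE A hA _ fun V g hV g' => ?_
  rw [map_sub, hs, hs, ← hs s g', ← hs t g', sub_eq_zero]
  exact congrArg (res M g') hst

end Groth.Agent.AlgSpWA

end
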