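import Groth.Agent.AlgSpWA.Coherent
import Groth.Agent.AlgSpWA.Push
import Groth.Agent.AlgSpWA.Global
import Groth.Agent.QCPush13.Main

/-!
# More on coherent modules on locally Noetherian algebraic spaces
-/

set_option autoImplicit false
set_option linter.style.haveILetI false
set_option backward.isDefEq.respectTransparency false
set_option backward.isDefEq.respectTransparency.types false

noncomputable section

universe u

open CategoryTheory CategoryTheory.Limits AlgebraicGeometry Opposite AlgSp TensorProduct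
open Groth.Agent.QCart13

namespace Groth.Agent.AlgSpWA

variable {S : Scheme.{u}} {X : Sp S}

theorem isFinitePresentation_kernel_cokernel (hX : IsLocNoethSp X) {M N : ModEt X} [M.IsFinitePresentation]
    [N.IsFinitePresentation] (φ : M ⟶ N) :
    (kernel φ).IsFinitePresentation ∧ (cokernel φ).IsFinitePresentation := by
  haveI := isQuasicoherent_kernel φ
  haveI := isQuasicoherent_cokernel φ
  exact ⟨isFinitePresentation_sub hX (kernel.ι φ), isFinitePresentation_quot hX (cokernel.π φ)⟩

theorem isFinitePresentation_shortExact (hX : IsLocNoethSp X) (T : ShortComplex (ModEt X)) (hT : T.ShortExact)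
    [T.X₁.IsFinitePresentation] [T.X₃.IsFinitePresentation] : T.X₂.IsFinitePresentation := by
  haveI : T.X₂.IsQuasicoherent := (isQuasicoherent_two_of_three T hT).2.1 inferInstance inferInstance
  haveI := hT.mono_f
  refine isFinitePresentation_of_finite T.X₂ hX fun E hE => ?_
  haveI := isNoetherianRing_fn hX hE
  haveI := finite_sect T.X₁ hE
  haveI := finite_sect T.X₃ hE
  haveI : IsNoetherian (Fn E) (sectModEt T.X₁ E) := inferInstance
  have hex : LinearMap.range (appL T.f E) = LinearMap.ker (appL T.g E) := by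
    refine le_antisymm ?_ fun x hx => exists_preimage_of_shortExact T hT E x hx
    rintro _ ⟨y, rfl⟩
    rw [LinearMap.mem_ker, appL_appL, T.zero]
    rfl
  haveI : IsNoetherian (Fn E) (sectModEt T.X₂ E) :=
    isNoetherian_of_range_eq_ker (appL T.f E) (appL T.g E) hex
  infer_instance

theorem isFinitePresentation_push_finite {Y : Sp S} {f : X ⟶ Y} (hf : Representable f) (hfin : IsFiniteMor f)
    (hY : IsLocNoethSp Y) (M : ModEt X) [M.IsFinitePresentation] :
    ((pushModEt hf).obj M).IsFinitePresentation := by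
  have haff := isAffineMor_of_isFiniteMor hfin
  haveI : ((pushModEt hf).obj M).IsQuasicoherent := isQuasicoherent_of_cart _ fun E hE => by
    haveI : IsAffine E.obj.left.left := hE
    haveI : IsAffine (EtOver.bcObj hf E).obj.left.left := isAffine_bcObj hf haff E
    haveI : IsAffine ((EtOver.bc hf).obj E).obj.left.left := isAffine_bcObj hf haff E
    obtain ⟨c⟩ := QCPush13.nonempty_dcov (hrep := hf) (V := E)
    exact QCPush13.cart_push M hE c fun W hW => cart_of_isQuasicoherent M hW
  refine isFinitePresentation_of_finite _ hY fun E hE => ?_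
  haveI : IsAffine E.obj.left.left := hE
  have hW : Aff (EtOver.bcObj hf E) := isAffine_bcObj hf haff E
  letI := (EtOver.bcπ hf E).left.appTop.hom.toAlgebra
  haveI : Module.Finite (Fn E) (Fn (EtOver.bcObj hf E)) := finite_bcπ hf hfin E
  haveI := finite_sect M hW
  letI : Module (Fn E) (sectModEt M (EtOver.bcObj hf E)) := Module.compHom _ (EtOver.bcπ hf E).left.appTop.hom
  haveI : IsScalarTower (Fn E) (Fn (EtOver.bcObj hf E)) (sectModEt M (EtOver.bcObj hf E)) :=
    IsScalarTower.of_algebraMap_smul fun _ _ => rfl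
  haveI := Module.Finite.trans (R := Fn E) (Fn (EtOver.bcObj hf E)) (sectModEt M (EtOver.bcObj hf E))
  let e : sectModEt M (EtOver.bcObj hf E) →ₗ[Fn E] sectModEt ((pushModEt hf).obj M) E :=
    { toFun := fun x => x
      map_add' := fun _ _ => rfl
      map_smul' := fun _ _ => rfl }
  exact Module.Finite.of_surjective e fun x => ⟨x, rfl⟩

/-- A morphism of quasi-coherent modules is surjective on the sections over an affine object once it is so
on an affine covering of the space. -/
theorem surjective_appL_of_cover {K F : ModEt X} [K.IsQuasicoherent] [F.IsQuasicoherent] (φ : K ⟶ F)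
    {ι : Type*} (E : ι → EtOver X) (hE : ∀ i, Aff (E i))
    (hcov : ∀ x : Points X, ∃ i, x ∈ Set.range (Points.ofPt (E i).obj.hom))
    (hs : ∀ i, Function.Surjective (appL φ (E i))) (V : EtOver X) (hV : Aff V) :
    Function.Surjective (appL φ V) := by
  intro x
  let R : Sieve V := { arrows := fun W g => ∃ i, Nonempty (W ⟶ E i)
                       downward_closed := fun {Y Z g} ⟨i, ⟨h⟩⟩ k => ⟨i, ⟨k ≫ h⟩⟩ }
  have hR : R ∈ etTop X V := mem_etTop_of_exists R fun v => by
    obtain ⟨i, e, he⟩ := hcov (Points.ofPt V.obj.hom v)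
    obtain ⟨W, hW, g, g', w, hw, -⟩ := exists_common V (E i) he.symm
    exact ⟨W, g, ⟨i, ⟨g'⟩⟩, w, hw⟩
  obtain ⟨c, hc⟩ := QCart13.exists_cov hV hR
  have hcK := cart_of_isQuasicoherent K hV
  refine mem_of_cover F hV (cart_of_isQuasicoherent F hV) c (LinearMap.range (appL φ V)) x fun k => ?_
  obtain ⟨i, ⟨g⟩⟩ := hc k
  have hbi := ((isBaseChange_iff_bijective _).1 ((isBC_iff F (Over.mk g)).1
    (cart_of_isQuasicoherent F (hE i) _ g (c.aff k)))).2 (res F (c.T k).hom x)
  have htop : ∀ z, (res₀ F (Over.mk g)).liftBaseChange (Fn (Over.mk g).left) z ∈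
      LinearMap.range (appL φ (Over.mk g).left) := fun z => by
    induction z using TensorProduct.induction_on with
    | zero => rw [map_zero]; exact Submodule.zero_mem _
    | tmul a m =>
      rw [LinearMap.liftBaseChange_tmul]
      obtain ⟨y, rfl⟩ := hs i m
      exact Submodule.smul_mem _ a ⟨res K g y, (res_appL φ g y).symm⟩
    | add a b ha hb => rw [map_add]; exact add_mem ha hb
  obtain ⟨z, hz⟩ := hbi
  obtain ⟨y, hy⟩ : ∃ y, appL φ (c.T k).left y = res F (c.T k).hom x := hz ▸ htop z
  rw [← hy]
  obtain ⟨w, hw⟩ := ((isBaseChange_iff_bijective _).1 ((isBC_iff K (c.T k)).1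
    (hcK _ (c.T k).hom (c.aff k)))).2 y
  rw [← hw]
  clear hw
  induction w using TensorProduct.induction_on with
  | zero => simp
  | tmul a m =>
    rw [LinearMap.liftBaseChange_tmul, map_smul]
    refine Submodule.smul_mem _ a (Submodule.subset_span ⟨appL φ V m, ⟨m, rfl⟩, ?_⟩)
    exact res_appL φ (c.T k).hom m
  | add a b ha hb => rw [map_add, map_add]; exact add_mem ha hb

theorem epi_of_surjective_aff {K F : ModEt X} (φ : K ⟶ F)
    (h : ∀ V : EtOver X, Aff V → Function.Surjective (appL φ V)) : Epi φ := by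
  refine ⟨fun {G} a b hab => SheafOfModules.hom_ext (PresheafOfModules.hom_ext fun W => ModuleCat.hom_ext
    (LinearMap.ext fun x => ?_))⟩
  refine sub_eq_zero.1 (eq_zero_of_affine G (E := W.unop) _ fun V j hV => ?_)
  change res G j (appL a W.unop x - appL b W.unop x) = 0
  rw [map_sub, res_appL, res_appL, sub_eq_zero]
  obtain ⟨y, hy⟩ := h V hV (res F j x)
  rw [← hy, appL_appL, appL_appL, hab]

/-- An ascending chain of quasi-coherent submodules of a coherent module is stationary. -/
theorem chain_stabilizes (hqc : IsQuasiCompactSp X) (hN : IsLocNoethSp X) (M : ModEt X)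
    [M.IsFinitePresentation] (N : ℕ →o Subobject M) (hq : ∀ n, (Subobject.underlying.obj (N n)).IsQuasicoherent) :
    ∃ n, ∀ m, n ≤ m → N m = N n := by
  obtain ⟨U, p, hp, hps, hU⟩ := hqc
  let E₀ : EtOver X := EtOver.mk p hp
  haveI : CompactSpace ↥E₀.obj.left.left := hU
  choose W j hW hj using fun y : ↥E₀.obj.left.left => exists_aff_open E₀ y
  obtain ⟨t, ht⟩ := IsCompact.elim_finite_subcover (CompactSpace.isCompact_univ (X := ↥E₀.obj.left.left))
    (fun y => Set.range (j y).hom.left.left) (fun y => (isOpenMap_left (j y)).isOpen_range)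
    (fun y _ => Set.mem_iUnion.2 ⟨y, hj y⟩)
  haveI hNoe : ∀ y, IsNoetherian (Fn (W y)) (sectModEt M (W y)) := fun y => by
    haveI := isNoetherianRing_fn hN (hW y)
    haveI := finite_sect M (hW y)
    infer_instance
  let sub : ∀ y, ℕ →o Submodule (Fn (W y)) (sectModEt M (W y)) := fun y =>
    ⟨fun n => LinearMap.range (appL (N n).arrow (W y)), fun a b hab => by
      rintro _ ⟨x, rfl⟩
      refine ⟨appL (Subobject.ofLE _ _ (N.monotone hab)) (W y) x, ?_⟩
      rw [appL_appL, Subobject.ofLE_arrow]⟩
  have hst : ∀ y, ∃ n, ∀ m, n ≤ m → sub y n = sub y m := fun y =>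
    monotone_stabilizes_iff_noetherian.2 (hNoe y) (sub y)
  choose n hn using hst
  refine ⟨t.sup n, fun m hm => ?_⟩
  haveI := hq m
  haveI := hq (t.sup n)
  let l := Subobject.ofLE _ _ (N.monotone hm)
  haveI : Mono l := inferInstance
  haveI : Epi l := epi_of_surjective_aff l (surjective_appL_of_cover l (fun y : t => W y.1) (fun y => hW _)
    (fun x => by
      obtain ⟨e, rfl⟩ := AlgSpLib.surjective_ofPt hps x
      obtain ⟨y, hy, w, hw⟩ := Set.mem_iUnion₂.1 (ht (Set.mem_univ e))
      refine ⟨⟨y, hy⟩, w, ?_⟩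
      rw [← EtOver.w (j y), AlgSpLib.ofPt_comp, hw]
      rfl)
    (fun y x => by
      have h1 : sub y.1 (t.sup n) = sub y.1 m :=
        (hn y.1 _ (Finset.le_sup y.2)).symm.trans (hn y.1 m ((Finset.le_sup y.2).trans hm))
      obtain ⟨z, hz⟩ : appL (N m).arrow (W y.1) x ∈ sub y.1 (t.sup n) := h1 ▸ ⟨x, rfl⟩
      refine ⟨z, injective_appL (N m).arrow (W y.1) ?_⟩
      rw [appL_appL, Subobject.ofLE_arrow]
      exact hz))
  haveI : IsIso l := isIso_of_mono_of_epi l
  exact (Subobject.eq_of_comm (asIso l) (Subobject.ofLE_arrow _)).symm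

end Groth.Agent.AlgSpWA

end
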