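import Groth.Agent.AlgSpWA.PullSections
import Groth.Agent.AlgSpWA.Push

/-!
# Weakly associated points of pullbacks along finite flat morphisms
-/

set_option autoImplicit false
set_option linter.style.haveILetI false
set_option backward.isDefEq.respectTransparency false
set_option backward.isDefEq.respectTransparency.types false

noncomputable section

universe u v

open CategoryTheory CategoryTheory.Limits AlgebraicGeometry Opposite AlgSp TensorProduct
open Groth.Agent.QCart13 Groth.Agent.WeakAss

namespace Groth.Agent.AlgSpWA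

theorem isBaseChange_of_linearCombination {A B : Type u} [CommRing A] [CommRing B] [Algebra A B]
    {M : Type v} [AddCommGroup M] [Module A M] {N : Type v} [AddCommGroup N] [Module A N] [Module B N]
    [IsScalarTower A B N] (f : M →ₗ[A] N) (r : LinearMap.ker (Finsupp.linearCombination A (id : M → M)) → M →₀ B)
    (hr : ∀ j, r j = j.1.mapRange (algebraMap A B) (map_zero _))
    (hs : Function.Surjective (Finsupp.linearCombination B (f : M → N)))
    (hk : LinearMap.ker (Finsupp.linearCombination B (f : M → N)) ≤ Submodule.span B (Set.range r)) :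
    IsBaseChange B f := by
  rw [isBaseChange_iff_bijective]
  let Ψ : (M →₀ B) →ₗ[B] B ⊗[A] M := Finsupp.linearCombination B fun m => (1 : B) ⊗ₜ[A] m
  have hΨr : ∀ v : M →₀ A, Ψ (v.mapRange (algebraMap A B) (map_zero _)) =
      (1 : B) ⊗ₜ[A] (Finsupp.linearCombination A (id : M → M) v) := fun v => by
    induction v using Finsupp.induction_linear with
    | zero => simp
    | add a b ha hb => rw [Finsupp.mapRange_add (map_add _), map_add, map_add, TensorProduct.tmul_add, ha, hb]
    | single i a => simp [Ψ, Finsupp.mapRange_single, TensorProduct.tmul_smul, algebraMap_smul]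
  have hcomp : f.liftBaseChange B ∘ₗ Ψ = Finsupp.linearCombination B (f : M → N) := by
    apply Finsupp.lhom_ext
    intro i b
    simp [Ψ]
  have hΨ : Function.Surjective Ψ := by
    intro z
    induction z using TensorProduct.induction_on with
    | zero => exact ⟨0, map_zero _⟩
    | add x y hx hy =>
      obtain ⟨a, rfl⟩ := hx
      obtain ⟨b, rfl⟩ := hy
      exact ⟨a + b, map_add _ _ _⟩
    | tmul b m => exact ⟨Finsupp.single m b, by simp [Ψ, TensorProduct.smul_tmul', smul_eq_mul]⟩
  refine ⟨(injective_iff_map_eq_zero _).2 fun z hz => ?_, fun y => ?_⟩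
  · obtain ⟨v, rfl⟩ := hΨ z
    have hv : v ∈ Submodule.span B (Set.range r) := hk (by
      rw [LinearMap.mem_ker, ← hcomp]
      exact hz)
    have hle : Submodule.span B (Set.range r) ≤ LinearMap.ker Ψ := Submodule.span_le.2 (by
      rintro _ ⟨j, rfl⟩
      rw [SetLike.mem_coe, LinearMap.mem_ker, hr, hΨr, LinearMap.mem_ker.1 j.2, TensorProduct.tmul_zero])
    exact hle hv
  · obtain ⟨v, hv⟩ := hs y
    exact ⟨Ψ v, (LinearMap.congr_fun hcomp v).trans hv⟩

variable {S : Scheme.{u}} {X Y : Sp S} {f : X ⟶ Y} (hf : Representable f)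
  [(SheafOfModules.pushforward.{u + 1} (bcRingHom hf)).IsRightAdjoint]

theorem isBaseChange_unitSect (G : ModEt Y) [G.IsQuasicoherent] (E : EtOver Y) (hE : Aff E)
    (hW : Aff (EtOver.bcObj hf E)) :
    letI := (bcFn hf E).toAlgebra
    letI : Module (Fn E) (sectModEt ((pullModEt hf).obj G) (EtOver.bcObj hf E)) := Module.compHom _ (bcFn hf E)
    haveI : IsScalarTower (Fn E) (Fn (EtOver.bcObj hf E)) (sectModEt ((pullModEt hf).obj G) (EtOver.bcObj hf E)) :=
      IsScalarTower.of_algebraMap_smul fun _ _ => rfl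
    IsBaseChange (Fn (EtOver.bcObj hf E)) (unitSectL hf G E) := by
  letI := (bcFn hf E).toAlgebra
  letI : Module (Fn E) (sectModEt ((pullModEt hf).obj G) (EtOver.bcObj hf E)) := Module.compHom _ (bcFn hf E)
  haveI : IsScalarTower (Fn E) (Fn (EtOver.bcObj hf E)) (sectModEt ((pullModEt hf).obj G) (EtOver.bcObj hf E)) :=
    IsScalarTower.of_algebraMap_smul fun _ _ => rfl
  obtain ⟨hs, hk⟩ := sections_pullback hf G E hE hW
  exact isBaseChange_of_linearCombination (unitSectL hf G E)
    (fun r : LinearMap.ker (allL G (E := E)) => r.1.mapRange (bcFn hf E) (map_zero _)) (fun _ => rfl) hs hk.le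

theorem flat_bcπ (hflat : LocP @Flat f) (haff : IsAffineMor f) (E : EtOver Y) [IsAffine E.obj.left.left] :
    (bcFn hf E).Flat := by
  haveI : IsAffine (EtOver.bcObj hf E).obj.left.left := isAffine_bcObj hf haff E
  have : Flat (EtOver.bcπ hf E).left :=
    hflat (EtOver.bcObj hf E).obj.hom E.obj.hom (EtOver.bcπ hf E) (EtOver.bcObj hf E).property E.property
      (EtOver.isPullback_bcObj hf E).w
  exact Scheme.Hom.flat_appTop (EtOver.bcπ hf E).left

theorem isWeakAssOn_pull_iff (hfin : IsFiniteMor f) (hflat : LocP @Flat f) (G : ModEt Y) [G.IsQuasicoherent]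
    (E : EtOver Y) [hE : IsAffine E.obj.left.left] [hW : IsAffine (EtOver.bcObj hf E).obj.left.left]
    (w : ↥(EtOver.bcObj hf E).obj.left.left) :
    IsWeakAssOn ((pullModEt hf).obj G) (EtOver.bcObj hf E) w ↔ IsWeakAssOn G E ((EtOver.bcπ hf E).left w) := by
  rw [isWeakAssOn_iff, isWeakAssOn_iff]
  letI := (bcFn hf E).toAlgebra
  letI : Module (Fn E) (sectModEt ((pullModEt hf).obj G) (EtOver.bcObj hf E)) := Module.compHom _ (bcFn hf E)
  haveI : IsScalarTower (Fn E) (Fn (EtOver.bcObj hf E)) (sectModEt ((pullModEt hf).obj G) (EtOver.bcObj hf E)) :=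
    IsScalarTower.of_algebraMap_smul fun _ _ => rfl
  haveI : Module.Finite (Fn E) (Fn (EtOver.bcObj hf E)) := finite_bcπ hf hfin E
  haveI : Module.Flat (Fn E) (Fn (EtOver.bcObj hf E)) := flat_bcπ hf hflat (isAffineMor_of_isFiniteMor hfin) E
  rw [← weakAss_congr_isBaseChange (isBaseChange_unitSect hf G E hE hW)]
  set p := primeAtPt E.obj.left.left ((EtOver.bcπ hf E).left w) with hp
  haveI : p.IsPrime := hp ▸ inferInstance
  haveI : (primeAtPt (EtOver.bcObj hf E).obj.left.left w).LiesOver p :=
    ⟨(primeAtPt_comap (EtOver.bcπ hf E).left w).symm⟩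
  exact ⟨fun h => mem_weakAss_of_finite _ (primeAtPt (EtOver.bcObj hf E).obj.left.left w) h,
    fun h => mem_weakAss_of_flat _ (primeAtPt (EtOver.bcObj hf E).obj.left.left w) h⟩

theorem mem_weakAssEt_pull_iff (hX : IsAlgSpace X) (hY : IsAlgSpace Y) (hfin : IsFiniteMor f)
    (hflat : LocP @Flat f) (G : ModEt Y) [G.IsQuasicoherent] [((pullModEt hf).obj G).IsQuasicoherent]
    (x : Points X) : x ∈ WeakAssEt ((pullModEt hf).obj G) ↔ Points.map f x ∈ WeakAssEt G := by
  obtain ⟨E, hE, u, hu⟩ := exists_aff_over hY (Points.map f x)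
  haveI : IsAffine E.obj.left.left := hE
  haveI : IsAffine (EtOver.bcObj hf E).obj.left.left := isAffine_bcObj hf (isAffineMor_of_isFiniteMor hfin) E
  obtain ⟨w, rfl, rfl⟩ := exists_bc_point hf E u x hu.symm
  refine ⟨fun h => ⟨E, hE, _, hu, (isWeakAssOn_pull_iff hf hfin hflat G E w).1 (isWeakAssOn_of_mem hX h)⟩,
    fun h => ⟨_, ‹_›, w, rfl, (isWeakAssOn_pull_iff hf hfin hflat G E w).2 (isWeakAssOn_of_mem hY (hu.symm ▸ h))⟩⟩

end Groth.Agent.AlgSpWA

end
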