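import Groth.Agent.SiteBase.ExtCompare

/-!
# Comparing Ext groups on a class of objects along a functor exact on the class
-/

universe v v' w w' u u'

open CategoryTheory CategoryTheory.Limits Abelian Groth.Agent.SiteBase

namespace Groth.Agent.AlgSpWA

variable {A : Type u} [Category.{v} A] [Abelian A] [HasExt.{w} A]
  {B : Type u'} [Category.{v'} B] [Abelian B] [HasExt.{w'} B]

/-- A functor exact on a class, sending injectives to acyclic objects and compatible on morphism groups, compares Ext. -/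
theorem nonempty_ext_addEquiv_of_class [EnoughInjectives A] (G : A ⥤ B) [G.PreservesZeroMorphisms]
    (PA : A) (PB : B) (P : A → Prop) (hP : ∀ E : ShortComplex A, E.ShortExact → Injective E.X₂ → P E.X₁ → P E.X₃)
    (hG : ∀ E : ShortComplex A, E.ShortExact → P E.X₁ → (E.map G).ShortExact)
    (hI : ∀ I : A, Injective I → ∀ q : ℕ, Subsingleton (Ext PB (G.obj I) (q + 1)))
    (e : ∀ X : A, (PA ⟶ X) ≃+ (PB ⟶ G.obj X))
    (he : ∀ (X Y : A) (φ : PA ⟶ X) (g : X ⟶ Y), e Y (φ ≫ g) = e X φ ≫ G.map g)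
    (n : ℕ) : ∀ X : A, P X → Nonempty (Ext PA X n ≃+ Ext PB (G.obj X) n) := by
  induction n with
  | zero => exact fun X _ => ⟨Ext.addEquiv₀.trans ((e X).trans Ext.addEquiv₀.symm)⟩
  | succ n ih =>
    suffices H : ∀ E : ShortComplex A, E.ShortExact → Injective E.X₂ → P E.X₁ →
        Nonempty (Ext PA E.X₁ (n + 1) ≃+ Ext PB (G.obj E.X₁) (n + 1)) from fun X hX => by
      obtain ⟨Q⟩ := EnoughInjectives.presentation X
      exact H Q.shortComplex Q.shortExact_shortComplex Q.injective hX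
    intro E hE hIE hE₁
    have h₂ : ∀ q, Subsingleton (Ext PA E.X₂ (q + 1)) := fun q => Ext.subsingleton_of_injective _ _ q
    rcases n with _ | n
    · let a : (PA ⟶ E.X₃) →+ Ext PA E.X₁ 1 :=
        AddMonoidHom.mk' (fun φ => (Ext.mk₀ φ).comp hE.extClass (zero_add 1))
          fun x y => by rw [Ext.mk₀_add, Ext.add_comp]
      let b : (PA ⟶ E.X₃) →+ Ext PB (G.obj E.X₁) 1 :=
        AddMonoidHom.mk' (fun φ => (Ext.mk₀ (e E.X₃ φ)).comp (hG E hE hE₁).extClass (zero_add 1))
          fun x y => by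
            rw [map_add, Ext.mk₀_add]
            exact Ext.add_comp _ _ _ _
      have hb : Function.Surjective b :=
        (conn_surjective PB (hG E hE hE₁) (hI E.X₂ hIE 0)).comp (e E.X₃).surjective
      have hker : a.ker = b.ker := AddSubgroup.ext fun φ => by
        refine (conn_eq_zero_iff PA hE φ).trans (Iff.trans ?_ (conn_eq_zero_iff PB (hG E hE hE₁) _).symm)
        constructor
        · rintro ⟨ψ, rfl⟩
          exact ⟨e E.X₂ ψ, (he _ _ _ _).symm⟩
        · rintro ⟨ψ, hψ⟩
          obtain ⟨χ, rfl⟩ := (e E.X₂).surjective ψ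
          exact ⟨χ, (e E.X₃).injective ((he _ _ _ _).trans hψ)⟩
      exact ⟨((QuotientAddGroup.quotientKerEquivOfSurjective a (conn_surjective PA hE (h₂ 0))).symm.trans
        (QuotientAddGroup.quotientAddEquivOfEq hker)).trans
        (QuotientAddGroup.quotientKerEquivOfSurjective b hb)⟩
    · obtain ⟨e₁⟩ := nonempty_conn_addEquiv PA hE n (h₂ n) (h₂ (n + 1))
      obtain ⟨e₂⟩ := nonempty_conn_addEquiv PB (hG E hE hE₁) n (hI E.X₂ hIE n) (hI E.X₂ hIE (n + 1))
      obtain ⟨e₃⟩ := ih E.X₃ (hP E hE hIE hE₁)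
      exact ⟨e₁.symm.trans (e₃.trans e₂)⟩

end Groth.Agent.AlgSpWA
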