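import Groth.Agent.AlgSpWA.PushSections
import Groth.Agent.AlgSpWA.ExtClass

/-!
# Cohomology of direct images along affine maps
-/

set_option autoImplicit false
set_option backward.isDefEq.respectTransparency false
set_option backward.isDefEq.respectTransparency.types false

noncomputable section

universe u

open CategoryTheory CategoryTheory.Limits AlgebraicGeometry Opposite AlgSp Abelian

namespace Groth.Agent.AlgSpWA.PushCoh

variable {S : Scheme.{u}} {X Y : Sp S} {f : X ⟶ Y} (hf : Representable f)

theorem nonempty_HEt_addEquiv_pushEt (hX : IsAlgSpace X) (hY : IsAlgSpace Y) (haff : IsAffineMor f) (n : ℕ)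
    (G : AbEt X) (hG : AffAcyclic.IsAcyclic G) :
    Nonempty (HEt X G n ≃+ HEt Y ((pushEt hf AddCommGrpCat.{u + 1}).obj G) n) := by
  obtain ⟨e, he⟩ := PushSections.exists_sectionsEquiv hf hY
  exact nonempty_ext_addEquiv_of_class (pushEt hf AddCommGrpCat.{u + 1}) _ _ AffAcyclic.IsAcyclic
    (fun E hE hI h1 => AffAcyclic.isAcyclic_X₃ hE h1 (haveI := hI; AffAcyclic.isAcyclic_of_injective E.X₂))
    (fun E hE h1 => ShortComplex.ShortExact.mk'
      (haveI := hE.mono_f; hE.exact.map_of_mono_of_preservesKernel _ inferInstance inferInstance)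
      (haveI := hE.mono_f; (pushEt hf AddCommGrpCat.{u + 1}).map_mono E.f)
      (AffAcyclic.epi_push_map hf haff E hE h1))
    (fun I hI q => haveI := hI; haveI := InjPush.injective_pushEt hf hX hY I
      Ext.subsingleton_of_injective _ _ q)
    e he n G hG

end Groth.Agent.AlgSpWA.PushCoh
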