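import Groth.Agent.AlgSpWA.SerreTheta
import Groth.Agent.AlgSpWA.Push
import Groth.Agent.AlgSpWA.Pull
import Groth.Agent.AlgSpWA.PushCoh
import Groth.Agent.AlgSpWA.CoherentB
import Groth.Agent.AlgSpDec.InductionPrinciple
import Groth.Agent.AlgSpPts.OpenSub

/-!
# Generation of the direct image of the functions of an affine scheme finite over a space
-/

set_option autoImplicit false
set_option linter.style.haveILetI false
set_option linter.unusedSectionVars false
set_option backward.isDefEq.respectTransparency false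
set_option backward.isDefEq.respectTransparency.types false

noncomputable section

universe u

open CategoryTheory CategoryTheory.Limits AlgebraicGeometry Opposite AlgSp TensorProduct
open Groth.Agent.QCart13

namespace Groth.Agent.AlgSpWA.Chev

open SerreTheta

section generic

variable {Y : Scheme.{u}} {R : CommRingCat.{u}} (ι : R ⟶ Γ(Y, ⊤))

theorem toSpec_appTop : (Y.toSpecΓ ≫ Spec.map ι).appTop = (Scheme.ΓSpecIso R).hom ≫ ι := by
  simp only [Scheme.Hom.comp_appTop, Scheme.toSpecΓ_appTop]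
  exact Scheme.ΓSpecIso_naturality ι

theorem appTop_eq_of_comp_eq {Z : Scheme.{u}} {r₁ r₂ : Z ⟶ Y}
    (h : r₁ ≫ Y.toSpecΓ ≫ Spec.map ι = r₂ ≫ Y.toSpecΓ ≫ Spec.map ι) (a : R) :
    r₁.appTop (ι a) = r₂.appTop (ι a) := by
  have h1 := congrArg Scheme.Hom.appTop h
  rw [Scheme.Hom.comp_appTop r₁, Scheme.Hom.comp_appTop r₂, toSpec_appTop, Category.assoc, Category.assoc,
    cancel_epi] at h1
  exact congrArg (fun k : R ⟶ Γ(Z, ⊤) => k a) h1

theorem surjective_of_isClosedImmersion [IsAffine Y] (h : IsClosedImmersion (Y.toSpecΓ ≫ Spec.map ι)) :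
    Function.Surjective ι := by
  have h' := ((HasAffineProperty.iff_of_isAffine (P := @IsClosedImmersion)).1 h).2
  rw [toSpec_appTop] at h'
  exact Function.Surjective.of_comp (g := (Scheme.ΓSpecIso R).hom) h'

end generic

variable {S : Scheme.{u}} {T : Over S}

/-- The structure map of an object over a scheme. -/
def gmap (E : EtOver ((yon S).obj T)) : E.obj.left ⟶ T := (yon S).preimage E.obj.hom

theorem map_gmap (E : EtOver ((yon S).obj T)) : (yon S).map (gmap E) = E.obj.hom := (yon S).map_preimage _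

theorem comp_gmap {E E' : EtOver ((yon S).obj T)} (g : E' ⟶ E) : g.hom.left ≫ gmap E = gmap E' :=
  (yon S).map_injective (by rw [Functor.map_comp, map_gmap, map_gmap]; exact EtOver.w g)

/-- Functions on the scheme as functions on the objects over it. -/
def gb (E : EtOver ((yon S).obj T)) : Γ(T.left, ⊤) →+* Fn E := (gmap E).left.appTop.hom

theorem rmap_gb {E E' : EtOver ((yon S).obj T)} (g : E' ⟶ E) (b : Γ(T.left, ⊤)) : rmap g (gb E b) = gb E' b := by
  show g.hom.left.left.appTop ((gmap E).left.appTop b) = (gmap E').left.appTop b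
  rw [← comp_gmap g, Over.comp_left, Scheme.Hom.comp_appTop]
  rfl

variable {X : Sp S} {f : (yon S).obj T ⟶ X} (hf : Representable f) [IsAffine T.left] (hfin : IsFiniteMor f)

include hfin in
theorem aff_bc {V : EtOver X} (hV : Aff V) : Aff (EtOver.bcObj hf V) :=
  haveI := hV
  isAffine_bcObj hf (isAffineMor_of_isFiniteMor hfin) V

include hfin in
set_option maxHeartbeats 1600000 in
theorem surjective_adjoin {V : EtOver X} (hV : Aff V) (r : Fn (EtOver.bcObj hf V)) :
    letI := (bcFn hf V).toAlgebra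
    r ∈ Submodule.span (Fn V) (Set.range (gb (EtOver.bcObj hf V))) := by
  haveI := hV
  let W := EtOver.bcObj hf V
  haveI : IsAffine W.obj.left.left := aff_bc hf hfin hV
  letI := (bcFn hf V).toAlgebra
  haveI : Module.Finite (Fn V) (Fn W) := finite_bcπ hf hfin V
  let R₀ := Algebra.adjoin (Fn V) (Set.range (gb W))
  haveI : Module.Finite R₀ (Fn W) := Module.Finite.of_restrictScalars_finite (Fn V) R₀ (Fn W)
  let ι : CommRingCat.of R₀ ⟶ Γ(W.obj.left.left, ⊤) := CommRingCat.ofHom R₀.val.toRingHom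
  let g : W.obj.left.left ⟶ Spec (CommRingCat.of R₀) := W.obj.left.left.toSpecΓ ≫ Spec.map ι
  haveI : IsFinite (Spec.map ι) := (IsFinite.SpecMap_iff _).2 (show R₀.val.toRingHom.Finite from
    (RingHom.finite_algebraMap (A := R₀) (B := Fn W)).2 inferInstance)
  haveI : IsFinite g := inferInstanceAs (IsFinite (_ ≫ _))
  have key : ∀ {Z : Scheme.{u}} (r₁ r₂ : Z ⟶ W.obj.left.left), r₁ ≫ g = r₂ ≫ g →
      ∀ a : R₀, r₁.appTop (a : Fn W) = r₂.appTop (a : Fn W) := fun {Z} r₁ r₂ h a => appTop_eq_of_comp_eq ι h a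
  haveI : Mono g := ⟨fun {Z} r₁ r₂ h => by
    have e₁ : r₁ ≫ (EtOver.bcπ hf V).left = r₂ ≫ (EtOver.bcπ hf V).left := ext_of_isAffine (by
      ext a
      rw [Scheme.Hom.comp_appTop, Scheme.Hom.comp_appTop]
      exact key r₁ r₂ h ⟨_, R₀.algebraMap_mem a⟩)
    have e₂ : r₁ ≫ (gmap W).left = r₂ ≫ (gmap W).left := ext_of_isAffine (by
      ext b
      rw [Scheme.Hom.comp_appTop, Scheme.Hom.comp_appTop]
      exact key r₁ r₂ h ⟨_, Algebra.subset_adjoin ⟨b, rfl⟩⟩)
    let Z' : Over S := Over.mk (r₁ ≫ W.obj.left.hom)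
    let s₁ : Z' ⟶ W.obj.left := Over.homMk r₁ rfl
    let s₂ : Z' ⟶ W.obj.left := Over.homMk r₂ (by
      show r₂ ≫ W.obj.left.hom = r₁ ≫ W.obj.left.hom
      rw [← Over.w (gmap W), ← Category.assoc, ← Category.assoc, e₂])
    have : s₁ = s₂ := (yon S).map_injective ((EtOver.isPullback_bcObj hf V).hom_ext
      (by rw [← map_gmap, ← Functor.map_comp, ← Functor.map_comp]
          exact congrArg (yon S).map (Over.OverMorphism.ext e₂))
      (by rw [← Functor.map_comp, ← Functor.map_comp]; exact congrArg (yon S).map (Over.OverMorphism.ext e₁)))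
    exact congrArg Over.Hom.left this⟩
  haveI : IsClosedImmersion g := (IsClosedImmersion.iff_isFinite_and_mono g).2 ⟨inferInstance, inferInstance⟩
  have hs : Function.Surjective ι := surjective_of_isClosedImmersion ι ‹IsClosedImmersion g›
  obtain ⟨⟨x, hx⟩, rfl⟩ := hs r
  show x ∈ _
  have hcl : (Submonoid.closure (Set.range (gb W)) : Set (Fn W)) = Set.range (gb W) := by
    refine Set.Subset.antisymm (fun y hy => ?_) Submonoid.subset_closure
    induction hy using Submonoid.closure_induction with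
    | mem y hy => exact hy
    | one => exact ⟨1, map_one _⟩
    | mul p q _ _ hp hq =>
      obtain ⟨a, rfl⟩ := hp
      obtain ⟨b, rfl⟩ := hq
      exact ⟨a * b, map_mul _ _ _⟩
  have hx' : x ∈ Subalgebra.toSubmodule R₀ := hx
  rwa [Algebra.adjoin_eq_span, hcl] at hx'

include hfin in
set_option maxHeartbeats 1600000 in
theorem exists_generators [QuasiSeparatedSpace ↥S] (hX : IsAlgSpace X) (hqs : IsQuasiSeparatedSp X)
    {U : EtOver X} (hU : Aff U) (hcov : ∀ x : Points X, ∃ u, Points.ofPt U.obj.hom u = x) :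
    ∃ (n : ℕ) (b : Fin n → Γ(T.left, ⊤)), ∀ (V : EtOver X), Aff V → ∀ r : Fn (EtOver.bcObj hf V),
      ∃ c : Fin n → Fn V, r = ∑ k, bcFn hf V (c k) * gb (EtOver.bcObj hf V) (b k) := by
  classical
  let W := EtOver.bcObj hf U
  obtain ⟨n, b, hb⟩ : ∃ (n : ℕ) (b : Fin n → Γ(T.left, ⊤)), ∀ r : Fn W,
      ∃ c : Fin n → Fn U, r = ∑ k, bcFn hf U (c k) * gb W (b k) := by
    haveI := hU
    letI := (bcFn hf U).toAlgebra
    haveI : Module.Finite (Fn U) (Fn W) := finite_bcπ hf hfin U
    have hspan : Submodule.span (Fn U) (Set.range (gb W)) = ⊤ := eq_top_iff.2 fun r _ => surjective_adjoin hf hfin hU r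
    obtain ⟨t, ht, hts⟩ := (Submodule.fg_span_iff_fg_span_finset_subset (R := Fn U) _).1
      (hspan.symm ▸ Module.Finite.fg_top)
    choose b hb using fun k : Fin t.card => ht (t.equivFin.symm k).2
    refine ⟨t.card, b, fun r => ?_⟩
    have hr : r ∈ Submodule.span (Fn U) (Set.range fun k : Fin t.card => gb W (b k)) := by
      have h1 : r ∈ Submodule.span (Fn U) (t : Set (Fn W)) := by rw [← hts, hspan]; trivial
      refine Submodule.span_mono (fun y hy => ?_) h1
      exact ⟨t.equivFin ⟨y, hy⟩, (hb _).trans (by rw [Equiv.symm_apply_apply])⟩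
    obtain ⟨c, hc⟩ := (Submodule.mem_span_range_iff_exists_fun _).1 hr
    exact ⟨c, hc.symm.trans (Finset.sum_congr rfl fun k _ => Algebra.smul_def _ _)⟩
  refine ⟨n, b, fun V hV r => ?_⟩
  haveI := isQuasicoherent_unit (X := (yon S).obj T)
  let hq := AlgSpDec.InductionPrinciple.qcqs_of_iso_affine (IsAlgSpace.yon_obj T) ‹IsAffine T.left› (Iso.refl _)
  let f' : (⟨(yon S).obj T, IsAlgSpace.yon_obj T⟩ : Space S) ⟶ ⟨X, hX⟩ := ObjectProperty.homMk f
  haveI : ((pushModEt hf).obj (unitModEt ((yon S).obj T))).IsQuasicoherent :=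
    S10002.result f' hf (AlgSpPts.isQuasiCompactMor_of_qc_qs (IsAlgSpace.yon_obj T) hX hq.1 hqs f)
      (AlgSpDec.isQuasiSeparatedMor_of_sp f hq.2 hqs) (unitModEt ((yon S).obj T))
  let M : ModEt X := (pushModEt hf).obj (unitModEt ((yon S).obj T))
  let g : ∀ V : EtOver X, Fin n → sectModEt M V := fun V k => toU (EtOver.bcObj hf V) (gb _ (b k))
  have hsm : ∀ (V : EtOver X) (a : Fn V) (y : Fn (EtOver.bcObj hf V)),
      a • (show sectModEt M V from toU (EtOver.bcObj hf V) y) = toU (EtOver.bcObj hf V) (bcFn hf V a * y) :=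
    fun V a y => rfl
  have hres : ∀ {V V' : EtOver X} (h : V' ⟶ V) (k : Fin n), res M h (g V k) = g V' k := fun h k =>
    ULift.ext _ _ (rmap_gb ((EtOver.bc hf).map h) (b k))
  suffices hmem : (show sectModEt M V from toU (EtOver.bcObj hf V) r) ∈ Submodule.span (Fn V) (Set.range (g V)) by
    obtain ⟨c, hc⟩ := (Submodule.mem_span_range_iff_exists_fun _).1 hmem
    refine ⟨c, ?_⟩
    have h1 := congrArg (ofU (EtOver.bcObj hf V)) hc.symm
    refine (ofU_toU _ r).symm.trans (h1.trans ?_)
    rw [show ofU (EtOver.bcObj hf V) (∑ k, c k • g V k : sectModEt M V) =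
      ∑ k, ofU (EtOver.bcObj hf V) (c k • g V k) from map_sum (ofU (EtOver.bcObj hf V)) _ _]
    exact Finset.sum_congr rfl fun k _ => congrArg (ofU _) (hsm V (c k) _)
  obtain ⟨cv, hcv⟩ := QCart13.exists_cov hV (R :=
    { arrows := fun W _ => Nonempty (W ⟶ U)
      downward_closed := fun ⟨g⟩ k => ⟨k ≫ g⟩ }) (mem_etTop_of_exists _ fun e => by
    obtain ⟨v, hv⟩ := hcov (Points.ofPt V.obj.hom e)
    obtain ⟨W, -, g, g', w, hw, -⟩ := exists_common V U hv.symm
    exact ⟨W, g, ⟨g'⟩, w, hw⟩)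
  refine mem_of_cover M hV (cart_of_isQuasicoherent M hV) cv _ _ fun k => ?_
  obtain ⟨h⟩ := hcv k
  obtain ⟨z, hz⟩ := (bijective_bcMor (cart_of_isQuasicoherent M hU) (Over.mk h) (cv.aff k)).2
    (res M (cv.T k).hom (show sectModEt M V from toU (EtOver.bcObj hf V) r))
  rw [← hz]
  clear hz
  induction z using TensorProduct.induction_on with
  | zero => rw [map_zero]; exact Submodule.zero_mem _
  | add p q hp hq => rw [map_add]; exact add_mem hp hq
  | tmul a m =>
    rw [LinearMap.liftBaseChange_tmul]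
    refine Submodule.smul_mem _ a ?_
    obtain ⟨c, hc⟩ := hb (ofU W m)
    have hm : m = ∑ j, c j • g U j := by
      refine (toU_ofU W m).symm.trans ((congrArg (toU W) hc).trans ?_)
      rw [map_sum (toU W)]
      exact Finset.sum_congr rfl fun j _ => (hsm U (c j) _).symm
    show res M h m ∈ _
    rw [hm, map_sum]
    refine Submodule.sum_mem _ fun j _ => ?_
    rw [res_smul, hres]
    exact Submodule.smul_mem _ _ (Submodule.subset_span ⟨g V j, Submodule.subset_span ⟨j, rfl⟩, hres (cv.T k).hom j⟩)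

end Groth.Agent.AlgSpWA.Chev
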