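import Groth.Agent.AlgSpWA.ModPullExists
import Groth.Prelude.Def_AlgSpOX2

/-!
# Inverse images of modules along representable maps exist
-/

set_option autoImplicit false
set_option backward.isDefEq.respectTransparency false
set_option backward.isDefEq.respectTransparency.types false

noncomputable section

universe u

open CategoryTheory Limits AlgebraicGeometry AlgSp

namespace Groth.Agent.AlgSpWA.Chev

variable {S : Scheme.{u}} {X Y : Sp S} {f : X ⟶ Y} (hf : Representable f)

theorem isRightAdjoint_push : (SheafOfModules.pushforward.{u + 1} (bcRingHom hf)).IsRightAdjoint := by
  haveI : (PresheafOfModules.pushforward.{u + 1} (bcRingHom hf).hom).IsRightAdjoint :=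
    ModPullExists.isRightAdjoint_pushforward _
  infer_instance

end Groth.Agent.AlgSpWA.Chev
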