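import Groth.Agent.AlgSpWA.SysExists
import Groth.Agent.QCart13.Ops
import Groth.Agent.S10240

/-!
# Quasi-coherent submodules from compatible submodules of the sections over affines
-/

set_option autoImplicit false
set_option linter.style.haveILetI false
set_option backward.isDefEq.respectTransparency false
set_option backward.isDefEq.respectTransparency.types false

noncomputable section

universe u

open CategoryTheory CategoryTheory.Limits AlgebraicGeometry Opposite AlgSp TensorProduct
open Groth.Agent.QCart13

namespace Groth.Agent.AlgSpWA.SerreSub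

open CohUnion FinSys

variable {S : Scheme.{u}} {X : Sp S} (M : ModEt X)
  (N : ∀ V : EtOver X, Aff V → Submodule (Fn V) (sectModEt M V))

/-- The sections lying in the given submodules on all affines. -/
def subPre : M.val.Submodule where
  obj W :=
    { carrier := {s | ∀ (V : EtOver X) (hV : Aff V) (a : V ⟶ W.unop), res M a (show sectModEt M W.unop from s) ∈ N V hV}
      zero_mem' := fun V hV a => by
        show res M a (0 : sectModEt M W.unop) ∈ _
        rw [map_zero]; exact Submodule.zero_mem _
      add_mem' := fun {x y} hx hy V hV a => by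
        show res M a ((show sectModEt M W.unop from x) + y) ∈ _
        rw [map_add]; exact add_mem (hx V hV a) (hy V hV a)
      smul_mem' := fun r x hx V hV a => by
        show res M a ((show Fn W.unop from r.down) • (show sectModEt M W.unop from x)) ∈ _
        rw [res_smul]; exact Submodule.smul_mem _ _ (hx V hV a) }
  map {W W'} f x hx V hV a := by
    show res M a (res M f.unop (show sectModEt M W.unop from x)) ∈ _
    rw [← res_comp]
    exact hx V hV _

/-- The submodule. -/
abbrev sub : ModEt X := Gen.satSheaf (subPre M N)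

/-- Its inclusion. -/
abbrev subι : sub M N ⟶ M := Gen.satι (subPre M N)

/-- Compatibility of the submodules with restriction. -/
def Compat : Prop := ∀ (V V' : EtOver X) (hV : Aff V) (hV' : Aff V') (g : V' ⟶ V),
  N V' hV' = spanAt M (N V hV : Set (sectModEt M V)) g

variable {M N} [M.IsQuasicoherent] (hN : Compat M N)

include hN in
theorem res_mem {V V' : EtOver X} (hV : Aff V) (hV' : Aff V') (g : V' ⟶ V) {x : sectModEt M V} (hx : x ∈ N V hV) :
    res M g x ∈ N V' hV' := by
  rw [hN V V' hV hV' g]
  exact Submodule.subset_span ⟨x, hx, rfl⟩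

include hN in
theorem mem_sat_iff (E : EtOver X) (hE : Aff E) (x : sectModEt M E) :
    x ∈ (Gen.sat (subPre M N)).obj (op E) ↔ x ∈ N E hE := by
  refine ⟨fun h => ?_, fun hx => Gen.le_sat _ fun V hV a => res_mem hN hE hV a hx⟩
  have h1 : x ∈ spanAt M (N E hE : Set (sectModEt M E)) (𝟙 E) := by
    refine mem_spanAt_of_local M _ hE (𝟙 E) h fun W k hW hk => ?_
    have h2 : res M (𝟙 W) (res M k x) ∈ N W hW := hk W hW (𝟙 W)
    rw [res_id] at h2
    rw [Category.comp_id, ← hN E W hE hW k]
    exact h2
  rw [spanAt_eq_span, Submodule.span_eq] at h1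
  exact h1

include hN in
theorem appL_mem (E : EtOver X) (hE : Aff E) (y : sectModEt (sub M N) E) : appL (subι M N) E y ∈ N E hE :=
  (mem_sat_iff hN E hE _).1 y.2

include hN in
theorem exists_appL (E : EtOver X) (hE : Aff E) {x : sectModEt M E} (hx : x ∈ N E hE) :
    ∃ y : sectModEt (sub M N) E, appL (subι M N) E y = x :=
  ⟨⟨x, (mem_sat_iff hN E hE x).2 hx⟩, rfl⟩

include hN in
theorem isQuasicoherent_sub : (sub M N).IsQuasicoherent := by
  haveI := Gen.mono_satι (subPre M N)
  refine isQuasicoherent_of_cart _ fun E hE => cart_of_mono (subι M N) hE (cart_of_isQuasicoherent M hE)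
    fun T hT s => ⟨⊤, (etTop X).top_mem _, fun T' f hT' _ => ?_⟩
  let σ : sectModEt M T'.left := appL (subι M N) T'.left (res (sub M N) f.left s)
  have hσ : σ ∈ spanAt M (N E hE : Set (sectModEt M E)) T'.hom := by
    rw [← hN E T'.left hE hT' T'.hom]
    exact appL_mem hN _ hT' _
  suffices H : ∀ x ∈ spanAt M (N E hE : Set (sectModEt M E)) T'.hom,
      ∃ w, appL (subι M N) T'.left (bcMor (sub M N) T' w) = x by
    obtain ⟨w, hw⟩ := H σ hσ
    exact ⟨w, injective_appL (subι M N) _ hw⟩
  intro x hx
  induction hx using Submodule.span_induction with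
  | mem y hy =>
    obtain ⟨m, hm, rfl⟩ := hy
    refine ⟨(1 : Fn T'.left) ⊗ₜ ⟨m, (mem_sat_iff hN E hE m).2 hm⟩, ?_⟩
    rw [appL_bcMor]
    exact one_smul _ _
  | zero => exact ⟨0, by simp⟩
  | add a b _ _ ha hb =>
    obtain ⟨p, hp⟩ := ha
    obtain ⟨q, hq⟩ := hb
    exact ⟨p + q, by rw [map_add, map_add, hp, hq]⟩
  | smul r a _ ha =>
    obtain ⟨p, hp⟩ := ha
    refine ⟨r • p, ?_⟩
    rw [map_smul, map_smul, hp]

/-- The quotient by the submodule. -/
abbrev quot : ModEt X := cokernel (subι M N)

/-- The projection to the quotient. -/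
abbrev quotπ : M ⟶ quot (M := M) (N := N) := cokernel.π (subι M N)

include hN in
theorem isQuasicoherent_quot (hX : IsAlgSpace X) : (quot (M := M) (N := N)).IsQuasicoherent :=
  ((S10240.result ⟨X, hX⟩).2.1 _ _ (subι M N) (isQuasicoherent_sub hN) ‹_›).2

theorem eq_zero_of_mem (E : EtOver X) (hE : Aff E) (hN : Compat M N) {x : sectModEt M E} (hx : x ∈ N E hE) :
    appL (quotπ (N := N)) E x = 0 := by
  obtain ⟨y, rfl⟩ := exists_appL hN E hE hx
  rw [appL_appL]
  exact congrArg (fun φ : sub M N ⟶ quot (M := M) (N := N) => appL φ E y) (cokernel.condition (subι M N))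

end Groth.Agent.AlgSpWA.SerreSub
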