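import Groth.Agent.AlgSpWA.ChevGen
import Groth.Agent.AlgSpWA.ChevAlg
import Groth.Agent.AlgSpWA.ChevPull
import Groth.Agent.AlgSpWA.SerreSub
import Groth.Agent.AlgSpWA.AffVanish
import Groth.Agent.QCPull13.Space

/-!
# The evaluation map from the direct image of the modules of homomorphisms
-/

set_option autoImplicit false
set_option linter.style.haveILetI false
set_option linter.unusedSectionVars false
set_option backward.isDefEq.respectTransparency false
set_option backward.isDefEq.respectTransparency.types false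

noncomputable section

universe u

open CategoryTheory CategoryTheory.Limits AlgebraicGeometry Opposite AlgSp TensorProduct
open Groth.Agent.QCart13

namespace Groth.Agent.AlgSpWA.Chev

open SerreTheta SerreSub CohUnion FinSys

variable {S : Scheme.{u}} {X : Sp S}

section pow

instance : HasFiniteBiproducts (ModEt X) := HasFiniteBiproducts.of_hasFiniteProducts

variable (M : ModEt X) (n : ℕ)

/-- A finite power. -/
abbrev Pow : ModEt X := ⨁ fun _ : ULift.{u} (Fin n) => M

/-- Its projections. -/
abbrev pr (k : Fin n) : Pow M n ⟶ M := biproduct.π (fun _ : ULift.{u} (Fin n) => M) (ULift.up k)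

theorem isQuasicoherent_Pow [M.IsQuasicoherent] : (Pow M n).IsQuasicoherent := by
  haveI : (∐ fun _ : ULift.{u} (Fin n) => M).IsQuasicoherent := isQuasicoherent_of_cart _ fun E hE =>
    cart_sigma (fun _ : ULift.{u} (Fin n) => M) hE fun j => cart_of_isQuasicoherent _ hE
  exact (SheafOfModules.isQuasicoherent (OEtRing X)).prop_of_iso
    (biproduct.isoCoproduct (fun _ : ULift.{u} (Fin n) => M)).symm ‹_›

theorem exists_tuple (E : EtOver X) (x : Fin n → sectModEt M E) :
    ∃ y : sectModEt (Pow M n) E, ∀ k, appL (pr M n k) E y = x k := by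
  let F : ULift.{u} (Fin n) → ModEt X := fun _ => M
  refine ⟨(∑ k, appL (biproduct.ι F (ULift.up k)) E (x k) : sectModEt (⨁ F) E), fun k => ?_⟩
  refine (map_sum (appL (biproduct.π F (ULift.up k)) E) _ _).trans ?_
  rw [Finset.sum_eq_single k (fun k' _ hk' => ?_) (fun h => absurd (Finset.mem_univ _) h)]
  · rw [appL_appL, biproduct.ι_π_self]
    rfl
  · rw [appL_appL, biproduct.ι_π_ne F (fun h => hk' (congrArg ULift.down h))]
    rfl

theorem appL_sum_hom {A B : ModEt X} {ι : Type*} (s : Finset ι) (φ : ι → (A ⟶ B)) (E : EtOver X) (x : sectModEt A E) :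
    appL (∑ i ∈ s, φ i) E x = ∑ i ∈ s, appL (φ i) E x := by
  classical
  induction s using Finset.induction with
  | empty => simp only [Finset.sum_empty]; rfl
  | insert a s ha ih => rw [Finset.sum_insert ha, Finset.sum_insert ha, ← ih]; rfl

end pow

variable {T : Over S}

/-- Multiplication by a function of the affine scheme. -/
def smulT (b : Γ(T.left, ⊤)) (N : ModEt ((yon S).obj T)) : N ⟶ N where
  val :=
    { app := fun W => ModuleCat.ofHom
        { toFun := fun x => upΓ W.unop (gb W.unop b) • x
          map_add' := fun x y => smul_add _ _ _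
          map_smul' := fun r x => by
            show upΓ W.unop (gb W.unop b) • (r • x) = r • (upΓ W.unop (gb W.unop b) • x)
            rw [smul_smul, smul_smul]
            exact congrArg (· • x) (ULift.ext _ _ (mul_comm _ _)) }
      naturality := fun {W W'} g => by
        ext x
        show gb W'.unop b • (show sectModEt N W'.unop from res N g.unop (show sectModEt N W.unop from x)) =
          res N g.unop (gb W.unop b • (show sectModEt N W.unop from x))
        rw [res_smul, rmap_gb] }

theorem appL_smulT (b : Γ(T.left, ⊤)) (N : ModEt ((yon S).obj T)) (W : EtOver ((yon S).obj T)) (x : sectModEt N W) :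
    appL (smulT b N) W x = gb W b • x := rfl

variable [IsAffine T.left] {f : (yon S).obj T ⟶ X} (hf : Representable f) (hfin : IsFiniteMor f)

variable {n : ℕ} (b : Fin n → Γ(T.left, ⊤))

/-- The functions generate the direct image. -/
abbrev Gens : Prop := ∀ (V : EtOver X), Aff V → ∀ r : Fn (EtOver.bcObj hf V),
  ∃ c : Fin n → Fn V, r = ∑ k, bcFn hf V (c k) * gb (EtOver.bcObj hf V) (b k)

/-- A linear combination of the generators. -/
def comb (V : EtOver X) : (Fin n → Fn V) →+ Fn (EtOver.bcObj hf V) where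
  toFun c := ∑ k, bcFn hf V (c k) * gb (EtOver.bcObj hf V) (b k)
  map_zero' := by simp
  map_add' c d := by simp [add_mul, Finset.sum_add_distrib]

theorem comb_apply (V : EtOver X) (c : Fin n → Fn V) :
    comb hf b V c = ∑ k, bcFn hf V (c k) * gb (EtOver.bcObj hf V) (b k) := rfl

theorem comb_smul (V : EtOver X) (a : Fn V) (c : Fin n → Fn V) :
    comb hf b V (a • c) = bcFn hf V a * comb hf b V c := by
  simp only [comb_apply, Finset.mul_sum, Pi.smul_apply, smul_eq_mul, map_mul, mul_assoc]

theorem bcFn_rmap {V V' : EtOver X} (g : V' ⟶ V) (a : Fn V) :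
    bcFn hf V' (rmap g a) = rmap ((EtOver.bc hf).map g) (bcFn hf V a) := by
  show (EtOver.bcπ hf V').left.appTop (g.hom.left.left.appTop a) =
    ((EtOver.bc hf).map g).hom.left.left.appTop ((EtOver.bcπ hf V).left.appTop a)
  have h := congrArg (fun k : (EtOver.bcObj hf V').obj.left ⟶ V.obj.left => k.left.appTop a) (EtOver.bcMap_snd hf g)
  simp only [Over.comp_left, Scheme.Hom.comp_appTop] at h
  exact h.symm

theorem comb_rmap {V V' : EtOver X} (g : V' ⟶ V) (c : Fin n → Fn V) :
    comb hf b V' (fun k => rmap g (c k)) = rmap ((EtOver.bc hf).map g) (comb hf b V c) := by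
  simp only [comb_apply, map_sum, map_mul, bcFn_rmap]
  exact Finset.sum_congr rfl fun k _ => congrArg _ (rmap_gb ((EtOver.bc hf).map g) (b k)).symm

variable (F : ModEt X)

/-- The tuples killed by the relations of the generators. -/
def NN (V : EtOver X) (_ : Aff V) : Submodule (Fn V) (sectModEt (Pow F n) V) where
  carrier := {x | ∀ c : Fin n → Fn V, comb hf b V c = 0 → ∑ k, c k • appL (pr F n k) V x = 0}
  zero_mem' c _ := by simp
  add_mem' hx hy c hc := by simp only [map_add, smul_add, Finset.sum_add_distrib, hx c hc, hy c hc, add_zero]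
  smul_mem' a x hx c hc := by
    simp only [map_smul, smul_comm (c _) a, ← Finset.smul_sum, hx c hc, smul_zero]

theorem isQuasicoherent_E [QuasiSeparatedSpace ↥S] (hX : IsAlgSpace X) (hqs : IsQuasiSeparatedSp X) :
    ((pushModEt hf).obj (unitModEt ((yon S).obj T))).IsQuasicoherent := by
  haveI := isQuasicoherent_unit (X := (yon S).obj T)
  let hq := AlgSpDec.InductionPrinciple.qcqs_of_iso_affine (IsAlgSpace.yon_obj T) ‹IsAffine T.left› (Iso.refl _)
  let f' : (⟨(yon S).obj T, IsAlgSpace.yon_obj T⟩ : Space S) ⟶ ⟨X, hX⟩ := ObjectProperty.homMk f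
  exact S10002.result f' hf (AlgSpPts.isQuasiCompactMor_of_qc_qs (IsAlgSpace.yon_obj T) hX hq.1 hqs f)
    (AlgSpDec.isQuasiSeparatedMor_of_sp f hq.2 hqs) (unitModEt ((yon S).obj T))

theorem surjective_liftBaseChange_pi {A A' : Type*} [CommRing A] [CommRing A'] [Algebra A A']
    (jX : (Fin n → A) →ₗ[A] (Fin n → A')) (h : ∀ c k, jX c k = algebraMap A A' (c k)) :
    Function.Surjective (jX.liftBaseChange A') := fun c' => by
  classical
  refine ⟨∑ k, c' k ⊗ₜ Pi.single k 1, ?_⟩
  funext j
  rw [map_sum, Finset.sum_apply, Finset.sum_eq_single j (fun k _ hk => ?_) (fun hh => absurd (Finset.mem_univ _) hh)]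
  · simp [h]
  · simp [h, hk]

set_option maxHeartbeats 1600000 in
theorem relations_span [QuasiSeparatedSpace ↥S] (hX : IsAlgSpace X) (hqs : IsQuasiSeparatedSp X)
    {V V' : EtOver X} (hV : Aff V) (hV' : Aff V') (g : V' ⟶ V) (c' : Fin n → Fn V') (hc' : comb hf b V' c' = 0) :
    c' ∈ Submodule.span (Fn V') ((fun c k => rmap g (c k)) '' {c : Fin n → Fn V | comb hf b V c = 0}) := by
  haveI := isQuasicoherent_E hf hX hqs
  let M : ModEt X := (pushModEt hf).obj (unitModEt ((yon S).obj T))
  let Tg : Over V := Over.mk g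
  haveI : Module.Flat (Fn V) (Fn Tg.left) := flat_over hV hV'
  let jX : (Fin n → Fn V) →ₗ[Fn V] (Fin n → Fn Tg.left) :=
    { toFun := fun c k => rmap g (c k)
      map_add' := fun c d => funext fun k => map_add _ _ _
      map_smul' := fun a c => funext fun k => map_mul (rmap g) a (c k) }
  let μ : ∀ (W : EtOver X), (Fin n → Fn W) →ₗ[Fn W] sectModEt M W := fun W =>
    { toFun := fun c => toU (EtOver.bcObj hf W) (comb hf b W c)
      map_add' := fun c d => (congrArg _ (map_add _ _ _)).trans (map_add _ _ _)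
      map_smul' := fun a c => congrArg (toU _) (comb_smul hf b W a c) }
  have h0 : ∀ (W : EtOver X) c, μ W c = 0 ↔ comb hf b W c = 0 := fun W c =>
    ⟨fun h => (ofU_toU _ _).symm.trans ((congrArg (ofU _) h).trans (map_zero _)),
      fun h => (congrArg (toU _) h).trans (map_zero _)⟩
  have key := mem_span_of_baseChange (A := Fn V) (A' := Fn Tg.left) jX (res₀ M Tg)
    (surjective_liftBaseChange_pi jX fun c k => rfl)
    (bijective_bcMor (cart_of_isQuasicoherent M hV) Tg hV').1 (fun _ : Fin 1 => μ V) (fun _ : Fin 1 => μ Tg.left)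
    (fun _ c => ULift.ext _ _ (comb_rmap hf b g c)) c' (fun _ => (h0 _ _).2 hc')
  refine Submodule.span_mono (Set.image_mono fun c hc => ?_) key
  exact (h0 V c).1 (hc 0)

set_option maxHeartbeats 1600000 in
theorem NN_le_span (hN : IsLocNoethSp X) [F.IsQuasicoherent] {V : EtOver X} (hV : Aff V) (Tg : Over V)
    (hV' : Aff Tg.left) : NN hf b F Tg.left hV' ≤ spanAt (Pow F n) (NN hf b F V hV : Set (sectModEt (Pow F n) V)) Tg.hom := by
  haveI := isQuasicoherent_Pow F n
  let M := Pow F n
  intro x hx
  haveI : Module.Flat (Fn V) (Fn Tg.left) := flat_over hV hV'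
  haveI := isNoetherianRing_fn hN hV
  let R : Submodule (Fn V) (Fin n → Fn V) :=
    { carrier := {c | comb hf b V c = 0}
      zero_mem' := map_zero _
      add_mem' := fun {c d} hc hd => by
        show comb hf b V (c + d) = 0
        rw [map_add, show comb hf b V c = 0 from hc, show comb hf b V d = 0 from hd, add_zero]
      smul_mem' := fun a c hc => by
        show comb hf b V (a • c) = 0
        rw [comb_smul, show comb hf b V c = 0 from hc, mul_zero] }
  obtain ⟨m, r, hr⟩ := Submodule.fg_iff_exists_fin_generating_family.1 (IsNoetherian.noetherian R)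
  let μ : Fin m → sectModEt M V →ₗ[Fn V] sectModEt F V := fun i => ∑ k, r i k • appL (pr F n k) V
  let μ' : Fin m → sectModEt M Tg.left →ₗ[Fn Tg.left] sectModEt F Tg.left :=
    fun i => ∑ k, rmap Tg.hom (r i k) • appL (pr F n k) Tg.left
  have hμ : ∀ i (y : sectModEt M V), μ i y = ∑ k, r i k • appL (pr F n k) V y := fun i y => by
    simp only [μ, LinearMap.sum_apply, LinearMap.smul_apply]; rfl
  have hμ' : ∀ i (y : sectModEt M Tg.left), μ' i y = ∑ k, rmap Tg.hom (r i k) • appL (pr F n k) Tg.left y := fun i y => by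
    simp only [μ', LinearMap.sum_apply, LinearMap.smul_apply]; rfl
  have hcomm : ∀ i (y : sectModEt M V), μ' i (res₀ M Tg y) = res₀ F Tg (μ i y) := fun i y => by
    rw [hμ', hμ, map_sum]
    refine Finset.sum_congr rfl fun k _ => ?_
    show rmap Tg.hom (r i k) • appL (pr F n k) Tg.left (res M Tg.hom y) = res F Tg.hom (r i k • appL (pr F n k) V y)
    rw [res_smul, res_appL]
  have hri : ∀ i, comb hf b V (r i) = 0 := fun i =>
    show r i ∈ R from hr ▸ Submodule.subset_span ⟨i, rfl⟩
  have key := mem_span_of_baseChange (A := Fn V) (A' := Fn Tg.left) (res₀ M Tg) (res₀ F Tg)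
    (bijective_bcMor (cart_of_isQuasicoherent M hV) Tg hV').2
    (bijective_bcMor (cart_of_isQuasicoherent F hV) Tg hV').1 μ μ' hcomm x (fun i => by
      rw [hμ']
      refine hx _ ?_
      rw [comb_rmap, hri, map_zero])
  refine Submodule.span_mono (Set.image_mono fun y hy c hc => ?_) key
  have hc' : c ∈ Submodule.span (Fn V) (Set.range r) := by rw [hr]; exact hc
  obtain ⟨a, rfl⟩ := (Submodule.mem_span_range_iff_exists_fun _).1 hc'
  simp only [Finset.sum_apply, Pi.smul_apply, smul_eq_mul, Finset.sum_smul, mul_smul]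
  rw [Finset.sum_comm]
  refine Finset.sum_eq_zero fun i _ => ?_
  rw [← Finset.smul_sum, ← hμ, show μ i y = 0 from hy i, smul_zero]

set_option maxHeartbeats 1600000 in
theorem compat_NN [QuasiSeparatedSpace ↥S] (hX : IsAlgSpace X) (hqs : IsQuasiSeparatedSp X) (hN : IsLocNoethSp X)
    [F.IsQuasicoherent] : Compat (Pow F n) (NN hf b F) := by
  haveI := isQuasicoherent_Pow F n
  intro V V' hV hV' g
  apply le_antisymm
  · exact NN_le_span hf b F hN hV (Over.mk g) hV'
  · refine Submodule.span_le.2 ?_
    rintro _ ⟨x, hx, rfl⟩ c' hc'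
    have h := relations_span hf b hX hqs hV hV' g c' hc'
    clear hc'
    induction h using Submodule.span_induction with
    | mem c'' hc'' =>
      obtain ⟨c, hc, rfl⟩ := hc''
      have h0 := congrArg (res F g) (hx c hc)
      rw [map_zero, map_sum] at h0
      rw [← h0]
      exact Finset.sum_congr rfl fun k _ => by rw [res_smul, res_appL]
    | zero => simp
    | add p q _ _ hp hq =>
      simp only [Pi.add_apply, add_smul, Finset.sum_add_distrib]
      erw [hp, hq, add_zero]
    | smul a p _ hp =>
      simp only [Pi.smul_apply, smul_eq_mul, mul_smul, ← Finset.smul_sum]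
      erw [hp, smul_zero]

/-- The module of homomorphisms from the direct image. -/
abbrev G : ModEt X := SerreSub.sub (Pow F n) (NN hf b F)

/-- Its components. -/
abbrev pG (k : Fin n) : G hf b F ⟶ F := subι (Pow F n) (NN hf b F) ≫ pr F n k

variable [(SheafOfModules.pushforward.{u + 1} (bcRingHom hf)).IsRightAdjoint]

/-- The source of the evaluation map. -/
abbrev P : ModEt X := (pushModEt hf).obj ((pullModEt hf).obj (G hf b F))

/-- A generator times the unit. -/
def β₁ (k : Fin n) : G hf b F ⟶ P hf b F :=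
  (pullPushAdjModEt hf).unit.app (G hf b F) ≫ (pushModEt hf).map (smulT (b k) _)

/-- The combinations of the generators. -/
def β : Pow (G hf b F) n ⟶ P hf b F := ∑ k, pr (G hf b F) n k ≫ β₁ hf b F k

/-- The evaluation on the combinations. -/
def γ : Pow (G hf b F) n ⟶ F := ∑ k, pr (G hf b F) n k ≫ pG hf b F k

theorem ofP_β (V : EtOver X) (y : sectModEt (Pow (G hf b F) n) V) :
    (show sectModEt ((pullModEt hf).obj (G hf b F)) (EtOver.bcObj hf V) from appL (β hf b F) V y) =
      ∑ k, gb (EtOver.bcObj hf V) (b k) • unitSect hf (G hf b F) V (appL (pr (G hf b F) n k) V y) := by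
  rw [β, appL_sum_hom]
  rfl

theorem appL_γ (V : EtOver X) (y : sectModEt (Pow (G hf b F) n) V) :
    appL (γ hf b F) V y = ∑ k, appL (pG hf b F k) V (appL (pr (G hf b F) n k) V y) := by
  rw [γ, appL_sum_hom]
  rfl

include hfin in
set_option maxHeartbeats 1600000 in
theorem surjective_β [QuasiSeparatedSpace ↥S] (hX : IsAlgSpace X) (hqs : IsQuasiSeparatedSp X) (hN : IsLocNoethSp X)
    [F.IsQuasicoherent] (hgen : Gens hf b) (V : EtOver X) (hV : Aff V) : Function.Surjective (appL (β hf b F) V) := by
  haveI := isQuasicoherent_Pow F n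
  haveI := isQuasicoherent_sub (compat_NN hf b F hX hqs hN)
  intro z
  obtain ⟨hs, -⟩ := sections_pullback hf (G hf b F) V hV (aff_bc hf hfin hV)
  obtain ⟨v, hv⟩ := hs (show sectModEt ((pullModEt hf).obj (G hf b F)) (EtOver.bcObj hf V) from z)
  suffices h : ∀ (r : Fn (EtOver.bcObj hf V)) (x : sectModEt (G hf b F) V), ∃ y,
      (show sectModEt ((pullModEt hf).obj (G hf b F)) (EtOver.bcObj hf V) from appL (β hf b F) V y) =
        r • unitSect hf (G hf b F) V x by
    choose y hy using h
    refine ⟨∑ x ∈ v.support, y (v x) x, ?_⟩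
    rw [map_sum]
    refine Eq.trans ?_ hv
    rw [Finsupp.linearCombination_apply, Finsupp.sum]
    exact Finset.sum_congr rfl fun x _ => hy (v x) x
  intro r x
  obtain ⟨c, rfl⟩ := hgen V hV r
  obtain ⟨y, hy⟩ := exists_tuple (G hf b F) n V fun k => (c k • (show sectModEt (G hf b F) V from x) : sectModEt (G hf b F) V)
  refine ⟨y, ?_⟩
  rw [ofP_β, Finset.sum_smul]
  refine Finset.sum_congr rfl fun k _ => ?_
  rw [hy, unitSect_smul, mul_comm, mul_smul]

include hfin in
set_option maxHeartbeats 1600000 in
theorem γ_eq_zero [QuasiSeparatedSpace ↥S] (hX : IsAlgSpace X) (hqs : IsQuasiSeparatedSp X) (hN : IsLocNoethSp X)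
    [F.IsQuasicoherent] (hgen : Gens hf b) (V : EtOver X) (hV : Aff V) (y : sectModEt (Pow (G hf b F) n) V)
    (hy : appL (β hf b F) V y = 0) : appL (γ hf b F) V y = 0 := by
  haveI := isQuasicoherent_Pow F n
  have hc := compat_NN hf b F hX hqs hN
  haveI := isQuasicoherent_sub hc
  let W := EtOver.bcObj hf V
  let G₀ := G hf b F
  letI := (bcFn hf V).toAlgebra
  letI : Module (Fn V) (sectModEt ((pullModEt hf).obj G₀) W) := Module.compHom _ (bcFn hf V)
  haveI : IsScalarTower (Fn V) (Fn W) (sectModEt ((pullModEt hf).obj G₀) W) :=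
    IsScalarTower.of_algebraMap_smul fun _ _ => rfl
  have hbc := isBaseChange_unitSect hf G₀ V hV (aff_bc hf hfin hV)
  let φ : (Fin n → Fn V) →ₗ[Fn V] Fn W :=
    { toFun := comb hf b V
      map_add' := map_add _
      map_smul' := fun a c => (comb_smul hf b V a c).trans (Algebra.smul_def (A := Fn W) a (comb hf b V c)).symm }
  have hφ : Function.Surjective φ := fun r => by
    obtain ⟨c, hc⟩ := hgen V hV r
    exact ⟨c, hc.symm⟩
  let Λ₀ : (Fin n → Fn V) →ₗ[Fn V] sectModEt G₀ V →ₗ[Fn V] sectModEt F V :=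
    LinearMap.mk₂ (Fn V) (fun c x => ∑ k, c k • appL (pG hf b F k) V x)
      (fun c d x => by simp [add_smul, Finset.sum_add_distrib])
      (fun a c x => by simp [mul_smul, Finset.smul_sum])
      (fun c x x' => by simp only [map_add, smul_add, Finset.sum_add_distrib])
      (fun a c x => by simp only [map_smul, smul_comm (c _) a, Finset.smul_sum])
  have hker : LinearMap.ker φ ≤ LinearMap.ker Λ₀ := fun c h => LinearMap.ext fun x => by
    have h1 := appL_mem hc V hV x c h
    refine Eq.trans ?_ h1
    show ∑ k, c k • appL (pG hf b F k) V x = _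
    refine Finset.sum_congr rfl fun k _ => congrArg (fun z : sectModEt F V => c k • z) ?_
    exact (appL_appL (subι (Pow F n) (NN hf b F)) (pr F n k) V x).symm
  let Λ : Fn W →ₗ[Fn V] sectModEt G₀ V →ₗ[Fn V] sectModEt F V :=
    (LinearMap.ker φ).liftQ Λ₀ hker ∘ₗ (φ.quotKerEquivOfSurjective hφ).symm.toLinearMap
  have hΛ : ∀ k x, Λ (gb W (b k)) x = appL (pG hf b F k) V x := fun k x => by
    classical
    have h1 : φ (Pi.single k 1) = gb W (b k) := by
      show comb hf b V _ = _
      rw [comb_apply, Finset.sum_eq_single k (fun j _ hj => by simp [hj]) (fun h => absurd (Finset.mem_univ _) h)]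
      simp
      rfl
    have h2 : (φ.quotKerEquivOfSurjective hφ).symm (gb W (b k)) = Submodule.Quotient.mk (Pi.single k 1) := by
      rw [LinearEquiv.symm_apply_eq]
      exact h1.symm
    show ((LinearMap.ker φ).liftQ Λ₀ hker ((φ.quotKerEquivOfSurjective hφ).symm (gb W (b k)))) x = _
    rw [h2, Submodule.liftQ_apply, LinearMap.mk₂_apply,
      Finset.sum_eq_single k (fun j _ hj => by simp [hj]) (fun h => absurd (Finset.mem_univ _) h)]
    simp
  let L : Fn W ⊗[Fn V] sectModEt G₀ V →ₗ[Fn V] sectModEt F V := TensorProduct.lift Λ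
  let z : Fn W ⊗[Fn V] sectModEt G₀ V := ∑ k, gb W (b k) ⊗ₜ appL (pr G₀ n k) V y
  have hz : z = 0 := hbc.equiv.injective (by
    rw [map_zero, map_sum]
    refine Eq.trans ?_ ((ofP_β hf b F V y).symm.trans hy)
    exact Finset.sum_congr rfl fun k _ => hbc.equiv_tmul _ _)
  have h2 := congrArg L hz
  rw [map_zero, map_sum] at h2
  rw [appL_γ, ← h2]
  exact Finset.sum_congr rfl fun k _ => (hΛ k _).symm

include hfin in
set_option maxHeartbeats 3200000 in
/-- Every nonzero coherent module receives a nonzero map from the direct image of a quasi-coherent module. -/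
theorem exists_ne_zero_hom [QuasiSeparatedSpace ↥S] (hX : IsAlgSpace X) (hqs : IsQuasiSeparatedSp X) (hN : IsLocNoethSp X)
    (hsurj : IsSurjectiveMor f) [F.IsFinitePresentation] [F.IsQuasicoherent] (hgen : Gens hf b)
    {U : EtOver X} (hU : Aff U) (hcov : ∀ x : Points X, ∃ u, Points.ofPt U.obj.hom u = x)
    (hF : ¬ IsZero F) :
    ∃ (N : ModEt ((yon S).obj T)) (_ : N.IsQuasicoherent) (Φ : (pushModEt hf).obj N ⟶ F), Φ ≠ 0 := by
  haveI := isQuasicoherent_Pow F n
  have hc := compat_NN hf b F hX hqs hN
  haveI := isQuasicoherent_sub hc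
  have hepi : Epi (β hf b F) := epi_of_surjective_aff _ fun V hV => surjective_β hf hfin b F hX hqs hN hgen V hV
  have hw : kernel.ι (β hf b F) ≫ γ hf b F = 0 := by
    refine SheafOfModules.hom_ext (PresheafOfModules.hom_ext fun W => ModuleCat.hom_ext (LinearMap.ext fun x => ?_))
    refine eq_zero_of_affine F (E := W.unop) _ fun V j hV => ?_
    show res F j (appL (kernel.ι (β hf b F) ≫ γ hf b F) W.unop x) = 0
    rw [res_appL, ← appL_appL]
    refine γ_eq_zero hf hfin b F hX hqs hN hgen V hV _ ?_
    rw [appL_appL, kernel.condition]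
    rfl
  obtain ⟨V, hV, hne⟩ : ∃ V : EtOver X, Aff V ∧ Nontrivial (sectModEt F V) := by
    by_contra h
    push_neg at h
    refine hF ((IsZero.iff_id_eq_zero F).2 ?_)
    refine SheafOfModules.hom_ext (PresheafOfModules.hom_ext fun W => ModuleCat.hom_ext (LinearMap.ext fun x => ?_))
    refine eq_zero_of_affine F (E := W.unop) _ fun V j hV => ?_
    haveI := h V hV
    exact Subsingleton.elim _ _
  haveI := hne
  haveI := hV
  haveI := isNoetherianRing_fn hN hV
  let W := EtOver.bcObj hf V
  letI := (bcFn hf V).toAlgebra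
  haveI : Module.Finite (Fn V) (Fn W) := finite_bcπ hf hfin V
  haveI : IsAffine W.obj.left.left := aff_bc hf hfin hV
  obtain ⟨l, hl⟩ := exists_linearMap_ne_zero (A := Fn V) (B := Fn W) (fun p hp => by
    have hπ : Surjective (EtOver.bcπ hf V).left :=
      ((AlgSpLib.repWith_surjective_iff hf).2 hsurj).property_snd _
    obtain ⟨v, hv⟩ := AlgSpLib.Cartier.exists_primeAtPt_eq (U := V.obj.left.left) p (hP := hp)
    obtain ⟨w, hw⟩ := hπ.1 v
    refine ⟨primeAtPt W.obj.left.left w, inferInstance, ?_⟩
    rw [← hv, ← hw]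
    exact primeAtPt_comap (EtOver.bcπ hf V).left w) (M := sectModEt F V)
  obtain ⟨k, hk⟩ : ∃ k, l (gb W (b k)) ≠ 0 := by
    by_contra h
    push_neg at h
    refine hl (LinearMap.ext fun r => ?_)
    obtain ⟨c, rfl⟩ := hgen V hV r
    rw [map_sum]
    refine Finset.sum_eq_zero fun j _ => ?_
    rw [show bcFn hf V (c j) * gb W (b j) = c j • gb W (b j) from (Algebra.smul_def _ _).symm, map_smul, h,
      smul_zero]
  obtain ⟨x, hx⟩ := exists_tuple F n V fun j => l (gb W (b j))
  have hxN : x ∈ NN hf b F V hV := fun c hc0 => by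
    have h1 : ∑ j, c j • appL (pr F n j) V x = l (comb hf b V c) := by
      rw [comb_apply, map_sum]
      refine Finset.sum_congr rfl fun j _ => ?_
      rw [hx, ← map_smul, Algebra.smul_def]
      rfl
    rw [h1, hc0, map_zero]
  obtain ⟨x', hx'⟩ := exists_appL hc V hV hxN
  let i₀ : G hf b F ⟶ Pow (G hf b F) n := biproduct.ι (fun _ : ULift.{u} (Fin n) => G hf b F) (ULift.up k)
  haveI := AlgSpDec.exists_affine_atlas (X := X)
  refine ⟨(pullModEt hf).obj (G hf b F), ?_, Abelian.epiDesc (β hf b F) (γ hf b F) hw, fun h0 => hk ?_⟩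
  · exact QCPull13.isQuasicoherent_pullModEt hf U.obj.hom U.property
      ((AlgSpLib.repWith_surjective_iff U.property.rep).2 fun x => by
        obtain ⟨u, hu⟩ := hcov x
        exact ⟨Points.ofScheme U.obj.left u, (Points.ofPt_eq_map_ofScheme _ u).symm.trans hu⟩) _ inferInstance
  · have hγ : γ hf b F = 0 := by rw [← Abelian.comp_epiDesc (β hf b F) (γ hf b F) hw, h0, comp_zero]
    have h1 : i₀ ≫ γ hf b F = pG hf b F k := by
      rw [γ, Preadditive.comp_sum, Finset.sum_eq_single k (fun j _ hj => ?_) (fun h => absurd (Finset.mem_univ _) h)]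
      · rw [biproduct.ι_π_self_assoc]
      · rw [biproduct.ι_π_ne_assoc _ (fun h => hj (congrArg ULift.down h).symm), zero_comp]
    rw [hγ, comp_zero] at h1
    rw [← hx, ← hx', appL_appL]
    exact congrArg (fun φ : G hf b F ⟶ F => appL φ V x') h1.symm

end Groth.Agent.AlgSpWA.Chev
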