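import Groth.Agent.AlgSpWA.Finite
import Groth.Agent.QCart13.Abelian
import Groth.Agent.AssPtX.Noeth

/-!
# Coherent modules on locally Noetherian algebraic spaces
-/

set_option autoImplicit false
set_option linter.style.haveILetI false
set_option backward.isDefEq.respectTransparency false
set_option backward.isDefEq.respectTransparency.types false

noncomputable section

universe u

open CategoryTheory CategoryTheory.Limits AlgebraicGeometry Opposite AlgSp
open Groth.Agent.QCart13

namespace Groth.Agent.AlgSpWA

variable {S : Scheme.{u}} {X : Sp S}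

theorem isFinitePresentation_sub (hX : IsLocNoethSp X) {M N : ModEt X} [M.IsFinitePresentation] (ι : N ⟶ M)
    [Mono ι] [N.IsQuasicoherent] : N.IsFinitePresentation :=
  isFinitePresentation_of_finite N hX fun E hE => by
    haveI := isNoetherianRing_fn hX hE
    haveI := finite_sect M hE
    exact Module.Finite.of_injective (appL ι E) (injective_appL ι E)

theorem isFinitePresentation_quot (hX : IsLocNoethSp X) {M Q : ModEt X} [M.IsFinitePresentation] (π : M ⟶ Q)
    [Epi π] [Q.IsQuasicoherent] : Q.IsFinitePresentation :=
  isFinitePresentation_of_finite Q hX fun E hE => by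
    haveI := finite_sect M hE
    haveI := isQuasicoherent_kernel π
    exact Module.Finite.of_surjective (appL π E) fun s =>
      surjective_of_cart_kernel (kernel.ι π) π (kernel.condition π) (exists_kernel_preimage π) hE
        (cart_of_isQuasicoherent (kernel π) hE) s

theorem finite_weakAssEt_inter (hX : IsAlgSpace X) (hN : IsLocNoethSp X) (M : ModEt X) [M.IsQuasicoherent]
    [M.IsFiniteType] {W : Set (Points X)} (hWc : IsCompact W) : (WeakAssEt M ∩ W).Finite := by
  choose E hE u hu using fun x : Points X => exists_aff_over hX x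
  obtain ⟨t, ht⟩ := hWc.elim_finite_subcover (fun x => Set.range (Points.ofPt (E x).obj.hom))
    (fun x => (AlgSpLib.isOpenMap_ofPt (E x).property).isOpen_range)
    (fun x _ => Set.mem_iUnion.2 ⟨x, u x, hu x⟩)
  refine Set.Finite.subset (t.finite_toSet.biUnion fun x _ => ?_ :
    (⋃ x ∈ (t : Set (Points X)), WeakAssEt M ∩ Set.range (Points.ofPt (E x).obj.hom)).Finite) fun y ⟨hy, hyW⟩ => by
    obtain ⟨x, hx, hyx⟩ := Set.mem_iUnion₂.1 (ht hyW)
    exact Set.mem_iUnion₂.2 ⟨x, hx, hy, hyx⟩
  haveI : IsAffine (E x).obj.left.left := hE x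
  haveI := isNoetherianRing_fn hN (hE x)
  haveI := finite_sect M (hE x)
  refine Set.Finite.subset ((((associatedPrimes.finite (Fn (E x)) (sectModEt M (E x))).subset
    AssPtX.weakAss_subset_associatedPrimes).preimage (f := primeAtPt (E x).obj.left.left)
      (fun _ _ _ _ h => primeAtPt_injective h)).image (Points.ofPt (E x).obj.hom)) ?_
  rintro _ ⟨hy, w, rfl⟩
  exact ⟨w, (isWeakAssOn_iff M (E x) w).1 (isWeakAssOn_of_mem hX hy), rfl⟩

end Groth.Agent.AlgSpWA

end
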