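import Groth.Agent.PushDense13.Stalk
import Groth.Agent.AlgSpDec.EtPointConservative
import Groth.Agent.AlgSpDec.EtStalkAb
import Mathlib.Algebra.Category.Grp.EnoughInjectives

/-!
# Direct images along representable maps preserve injective abelian sheaves
-/

set_option autoImplicit false
set_option backward.isDefEq.respectTransparency false
set_option backward.isDefEq.respectTransparency.types false

noncomputable section

universe u

open CategoryTheory CategoryTheory.Limits AlgebraicGeometry Opposite AlgSp Groth.Agent.AlgSpDec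

namespace Groth.Agent.AlgSpWA.InjPush

variable {S : Scheme.{u}} {X Y : Sp S}

variable (X) in
/-- Geometric points. -/
abbrev GPt : Type (u + 1) := {p : FieldPt X // p.IsGeometric}

/-- Products of skyscraper presheaves at the geometric points. -/
def sky (Q : GPt X → AddCommGrpCat.{u + 1}) : (EtOver X)ᵒᵖ ⥤ AddCommGrpCat.{u + 1} where
  obj W := AddCommGrpCat.of (∀ p : GPt X, (FieldPt.liftsTo p.1).obj W.unop → Q p)
  map k := AddCommGrpCat.ofHom
    { toFun := fun x p v => x p ((FieldPt.liftsTo p.1).map k.unop v)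
      map_zero' := rfl
      map_add' := fun _ _ => rfl }
  map_id W := AddCommGrpCat.hom_ext <| AddMonoidHom.ext fun x => funext₂ fun p v =>
    congrArg (x p) (ConcreteCategory.congr_hom ((FieldPt.liftsTo p.1).map_id W.unop) v)
  map_comp k l := AddCommGrpCat.hom_ext <| AddMonoidHom.ext fun x => funext₂ fun p v =>
    congrArg (x p) (ConcreteCategory.congr_hom ((FieldPt.liftsTo p.1).map_comp l.unop k.unop) v)

/-- The map to a product of skyscrapers given by maps of stalks. -/
def toSky (P : AbEt X) (Q : GPt X → AddCommGrpCat.{u + 1}) (i : ∀ p : GPt X, stalkEt p.1 P ⟶ Q p) :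
    P.obj ⟶ sky Q where
  app W := AddCommGrpCat.ofHom
    { toFun := fun s p v => (i p).hom (stalkEtι p.1 P ⟨W.unop, v⟩ s)
      map_zero' := funext₂ fun p v => by simp
      map_add' := fun a b => funext₂ fun p v => by simp }
  naturality W W' k := AddCommGrpCat.hom_ext <| AddMonoidHom.ext fun s => funext₂ fun p v =>
    congrArg (i p).hom (ConcreteCategory.congr_hom (colimit.w (stalkEtDiagram p.1 P)
      (CategoryOfElements.homMk (⟨W'.unop, v⟩ : EtNbhd p.1) ⟨W.unop, (FieldPt.liftsTo p.1).map k.unop v⟩
        k.unop rfl).op) s)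

theorem toSky_injective (hX : IsAlgSpace X) (P : AbEt X) (Q : GPt X → AddCommGrpCat.{u + 1})
    (i : ∀ p : GPt X, stalkEt p.1 P ⟶ Q p) (hi : ∀ p, Function.Injective (i p).hom) (E : EtOver X) :
    Function.Injective ((toSky P Q i).app (op E)).hom := by
  refine (injective_iff_map_eq_zero _).2 fun s hs => ?_
  let T : Sieve E :=
    { arrows := fun W k => (P.obj.map k.op).hom s = 0
      downward_closed := fun {W W' k} (hk : (P.obj.map k.op).hom s = 0) l => by
        show (P.obj.map (l ≫ k).op).hom s = 0
        rw [op_comp, P.obj.map_comp, ConcreteCategory.comp_apply, hk, map_zero] }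
  have hT : T ∈ etTop X E := by
    refine EtPoint.mem_etTop_of_lifts hX _ fun p hp v => ?_
    have h0 : stalkEtι p P ⟨E, v⟩ s = 0 :=
      hi ⟨p, hp⟩ ((congrFun (congrFun hs ⟨p, hp⟩) v).trans (map_zero _).symm)
    obtain ⟨N', g, hg⟩ := (EtStalkAb.stalkι_eq_zero_iff P hX hp ⟨E, v⟩ s).1 h0
    exact ⟨N'.1, g.val, hg, N'.2, g.property⟩
  refine (((isSheaf_iff_isSheaf_of_type _ _).1 ((sheafCompose (etTop X) (CategoryTheory.forget AddCommGrpCat.{u + 1})).obj P).property).isSeparated T hT).ext ?_
  intro W k hk
  exact (show (P.obj.map k.op).hom s = 0 from hk).trans (map_zero (P.obj.map k.op).hom).symm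

variable {f : X ⟶ Y} (hf : Representable f)

theorem nbhdOfLift_map {W W' : EtOver Y} (k : W' ⟶ W) (p : FieldPt X)
    (v : (FieldPt.liftsTo p).obj ((EtOver.bc hf).obj W')) :
    (FieldPt.liftsTo (p.map f)).map k (PushDense13.nbhdOfLift hf p W' v).2 =
      (PushDense13.nbhdOfLift hf p W ((FieldPt.liftsTo p).map ((EtOver.bc hf).map k) v)).2 := by
  refine Subtype.ext ?_
  change (v.1 ≫ hf.snd W'.obj.hom) ≫ k.hom.left = (v.1 ≫ (EtOver.bcMap hf k).hom.left) ≫ hf.snd W.obj.hom
  rw [Category.assoc, Category.assoc, EtOver.bcMap_snd]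

theorem injective_pushEt (hX : IsAlgSpace X) (hY : IsAlgSpace Y) (I : AbEt X) [Injective I] :
    Injective ((pushEt hf AddCommGrpCat.{u + 1}).obj I) := by
  haveI hI : Injective I.obj :=
    Injective.injective_of_adjoint (sheafificationAdjunction (etTop X) AddCommGrpCat.{u + 1}) I
  let pr := fun p : GPt X => Classical.choice (EnoughInjectives.presentation (stalkEt p.1 I))
  let i := toSky I (fun p => (pr p).J) (fun p => (pr p).f)
  haveI : ∀ E, Mono (i.app E) := fun E => (AddCommGrpCat.mono_iff_injective _).2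
    (toSky_injective hX I _ _ (fun p => (AddCommGrpCat.mono_iff_injective _).1 (pr p).mono) E.unop)
  haveI : Mono i := NatTrans.mono_of_mono_app _
  obtain ⟨r, hr⟩ := hI.factors (𝟙 I.obj) i
  refine ⟨fun {A B} a g hg => ?_⟩
  let β : ∀ p : GPt X, stalkEt (p.1.map f) A ⟶ (pr p).J := fun p =>
    colimit.desc (stalkEtDiagram (p.1.map f) A)
      { pt := (pr p).J
        ι :=
          { app := fun N => a.hom.app (op N.unop.1) ≫
              stalkEtι p.1 I (PushDense13.bcNbhd hf p.1 N.unop) ≫ (pr p).f
            naturality := fun N M k => by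
              refine Eq.trans ?_ (Category.comp_id _).symm
              have h1 := a.hom.naturality k.unop.val.op
              have h2 := colimit.w (stalkEtDiagram p.1 I) (PushDense13.bcNbhdMap hf p.1 k.unop).op
              change A.obj.map k.unop.val.op ≫ _ = _
              rw [← Category.assoc, h1, Category.assoc]
              congr 1
              exact (Category.assoc _ _ _).symm.trans (congrArg (· ≫ (pr p).f) h2) } }
  haveI : ∀ p : GPt X, Mono ((stalkEtFunctor AddCommGrpCat.{u + 1} (p.1.map f)).map g) := fun p => by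
    haveI := EtPoint.preservesFiniteLimits_stalkEtFunctor AddCommGrpCat.{u + 1} hY
      (show (p.1.map f).IsGeometric from p.2)
    infer_instance
  choose γ hγ using fun p : GPt X => (pr p).injective.factors (β p)
    ((stalkEtFunctor AddCommGrpCat.{u + 1} (p.1.map f)).map g)
  let b : B.obj ⟶ (EtOver.bc hf).op ⋙ sky (fun p => (pr p).J) :=
    { app := fun W => AddCommGrpCat.ofHom
        { toFun := fun s p v => (γ p).hom (stalkEtι (p.1.map f) B (PushDense13.nbhdOfLift hf p.1 W.unop v) s)
          map_zero' := funext₂ fun p v => by simp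
          map_add' := fun x y => funext₂ fun p v => by simp }
      naturality := fun W W' k => AddCommGrpCat.hom_ext <| AddMonoidHom.ext fun s => funext₂ fun p v =>
        congrArg (γ p).hom (ConcreteCategory.congr_hom (colimit.w (stalkEtDiagram (p.1.map f) B)
          (CategoryOfElements.homMk (PushDense13.nbhdOfLift hf p.1 W'.unop v)
            (PushDense13.nbhdOfLift hf p.1 W.unop
              ((FieldPt.liftsTo p.1).map ((EtOver.bc hf).map k.unop) v))
            k.unop (nbhdOfLift_map hf k.unop p.1 v)).op) s) }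
  have hb : g.hom ≫ b = a.hom ≫ Functor.whiskerLeft (EtOver.bc hf).op i := by
    ext W s
    funext p v
    change (γ p).hom (stalkEtι (p.1.map f) B (PushDense13.nbhdOfLift hf p.1 W.unop v) (g.hom.app W s)) =
      (pr p).f.hom (stalkEtι p.1 I ⟨(EtOver.bc hf).obj W.unop, v⟩ (a.hom.app W s))
    have h1 := ConcreteCategory.congr_hom (hγ p)
      (stalkEtι (p.1.map f) A (PushDense13.nbhdOfLift hf p.1 W.unop v) s)
    have h2 := ConcreteCategory.congr_hom
      (colimit.ι_map (Functor.whiskerLeft (EtNbhd.toEtOver (p.1.map f)).op g.hom)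
        (op (PushDense13.nbhdOfLift hf p.1 W.unop v))) s
    refine ((congrArg (γ p).hom h2).symm.trans h1).trans ?_
    refine (ConcreteCategory.congr_hom (colimit.ι_desc (F := stalkEtDiagram (p.1.map f) A) _
      (op (PushDense13.nbhdOfLift hf p.1 W.unop v))) s).trans ?_
    show (pr p).f.hom (stalkEtι p.1 I (PushDense13.bcNbhd hf p.1 (PushDense13.nbhdOfLift hf p.1 W.unop v))
      (a.hom.app W s)) = _
    exact congrArg (fun w : (FieldPt.liftsTo p.1).obj ((EtOver.bc hf).obj W.unop) =>
      (pr p).f.hom (stalkEtι p.1 I ⟨(EtOver.bc hf).obj W.unop, w⟩ (a.hom.app W s)))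
      (PushDense13.lift_nbhdOfLift hf p.1 W.unop v)
  refine ⟨⟨b ≫ Functor.whiskerLeft (EtOver.bc hf).op r⟩, (sheafToPresheaf (etTop Y) AddCommGrpCat.{u + 1}).map_injective ?_⟩
  change g.hom ≫ b ≫ _ = a.hom
  rw [← Category.assoc, hb, Category.assoc, ← Functor.whiskerLeft_comp, hr]
  exact Category.comp_id _

end Groth.Agent.AlgSpWA.InjPush
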