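import Groth.Agent.AlgSpWA.AffAcyclic
import Groth.Agent.AlgSpWA.InjPush
import Groth.Agent.SiteBase.ExtCompare
import Mathlib.CategoryTheory.Sites.ConstantSheaf

/-!
# Global sections and cohomology of direct images
-/

set_option autoImplicit false
set_option backward.isDefEq.respectTransparency false
set_option backward.isDefEq.respectTransparency.types false

noncomputable section

universe u

open CategoryTheory CategoryTheory.Limits AlgebraicGeometry Opposite AlgSp Abelian Groth.Agent.AlgSpDec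

namespace Groth.Agent.AlgSpWA.PushSections

variable {S : Scheme.{u}} {X Y : Sp S} {f : X ⟶ Y} (hf : Representable f)

/-- The morphisms to an object which factor through a base change. -/
def bcSieve (E : EtOver X) : Sieve E where
  arrows W _ := ∃ V : EtOver Y, Nonempty (W ⟶ (EtOver.bc hf).obj V)
  downward_closed := fun ⟨V, ⟨a⟩⟩ l => ⟨V, ⟨l ≫ a⟩⟩

theorem bcSieve_mem (hY : IsAlgSpace Y) (E : EtOver X) : bcSieve hf E ∈ etTop X E := by
  refine QCart13.mem_etTop_of_exists _ fun e => ?_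
  obtain ⟨V, -, v, hv⟩ := exists_aff_over hY (Points.map f (Points.ofPt E.obj.hom e))
  obtain ⟨w, hw, -⟩ := exists_bc_point hf V v (Points.ofPt E.obj.hom e) hv.symm
  let B : EtOver X := (EtOver.bc hf).obj V
  obtain ⟨z, -, hz⟩ := AlgSpLib.exists_ofPt_of_eq (E.property.rep.isPullback' B.obj.hom).flip
    (u := w) (v := e) hw
  let P : EtOver X :=
    EtOver.mk ((yon S).map (E.property.rep.fst' B.obj.hom) ≫ E.obj.hom) (by
      refine AlgSpLib.repWith_comp ((repWith_yon_map_iff _ _).2 ?_) E.property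
      exact B.property.property _ _ _ (E.property.rep.isPullback' B.obj.hom).flip)
  exact ⟨P, EtOver.homMk (E.property.rep.fst' B.obj.hom) rfl,
    ⟨V, ⟨EtOver.homMk (E.property.rep.snd B.obj.hom) (E.property.rep.isPullback' B.obj.hom).w.symm⟩⟩, z, hz⟩

/-- Two maps to base changes factor through the base change of the product. -/
theorem exists_factor {W : EtOver X} {V₁ V₂ : EtOver Y} (a : W ⟶ (EtOver.bc hf).obj V₁)
    (b : W ⟶ (EtOver.bc hf).obj V₂) :
    ∃ (P : EtOver Y) (p₁ : P ⟶ V₁) (p₂ : P ⟶ V₂) (c : W ⟶ (EtOver.bc hf).obj P),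
      c ≫ (EtOver.bc hf).map p₁ = a ∧ c ≫ (EtOver.bc hf).map p₂ = b := by
  have hfst : ∀ {V : EtOver Y} (a : W ⟶ (EtOver.bc hf).obj V),
      (yon S).map (a.hom.left ≫ hf.snd V.obj.hom) ≫ V.obj.hom = W.obj.hom ≫ f := fun {V} a => by
    rw [Functor.map_comp, Category.assoc, ← hf.w, ← Category.assoc]
    exact congrArg (· ≫ f) (EtOver.w a)
  let c₀ : W.obj.left ⟶ (EtOver.prodObj V₁ V₂).obj.left :=
    V₂.property.1.lift' (b.hom.left ≫ hf.snd V₂.obj.hom) (a.hom.left ≫ hf.snd V₁.obj.hom)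
      ((hfst b).trans (hfst a).symm)
  have h1 : c₀ ≫ V₂.property.1.snd V₁.obj.hom = a.hom.left ≫ hf.snd V₁.obj.hom := by
    simp [c₀]
  have h2 : c₀ ≫ V₂.property.1.fst' V₁.obj.hom = b.hom.left ≫ hf.snd V₂.obj.hom := by
    simp [c₀]
  have hP : W.obj.hom ≫ f = (yon S).map c₀ ≫ (EtOver.prodObj V₁ V₂).obj.hom := by
    show _ = (yon S).map c₀ ≫ (yon S).map (V₂.property.1.snd V₁.obj.hom) ≫ V₁.obj.hom
    rw [← Category.assoc, ← Functor.map_comp, h1, hfst a]
  let c : W ⟶ (EtOver.bc hf).obj (EtOver.prodObj V₁ V₂) :=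
    EtOver.homMk (hf.lift W.obj.hom c₀ hP) (hf.lift_fst _ _ _)
  refine ⟨EtOver.prodObj V₁ V₂, EtOver.prodFst V₁ V₂, EtOver.prodSnd V₁ V₂, c, ?_, ?_⟩
  · refine EtOver.hom_ext _ _ (hf.hom_ext ?_ ?_)
    · exact (EtOver.w (c ≫ (EtOver.bc hf).map (EtOver.prodFst V₁ V₂))).trans (EtOver.w a).symm
    · show (c.hom.left ≫ (EtOver.bcMap hf (EtOver.prodFst V₁ V₂)).hom.left) ≫ hf.snd V₁.obj.hom = _
      rw [Category.assoc, EtOver.bcMap_snd, ← Category.assoc]
      exact (congrArg (· ≫ _) (hf.lift_snd _ _ _)).trans h1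
  · refine EtOver.hom_ext _ _ (hf.hom_ext ?_ ?_)
    · exact (EtOver.w (c ≫ (EtOver.bc hf).map (EtOver.prodSnd V₁ V₂))).trans (EtOver.w b).symm
    · show (c.hom.left ≫ (EtOver.bcMap hf (EtOver.prodSnd V₁ V₂)).hom.left) ≫ hf.snd V₂.obj.hom = _
      rw [Category.assoc, EtOver.bcMap_snd, ← Category.assoc]
      exact (congrArg (· ≫ _) (hf.lift_snd _ _ _)).trans h2

variable (F : AbEt X)

/-- Compatible families on the objects of the site. -/
def Sec (P : (EtOver X)ᵒᵖ ⥤ AddCommGrpCat.{u + 1}) : Type (u + 1) :=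
  {t : ∀ E : EtOver X, P.obj (op E) // ∀ ⦃E E' : EtOver X⦄ (g : E' ⟶ E), (P.map g.op).hom (t E) = t E'}

include hf in
theorem ext_of_bc (hY : IsAlgSpace Y) {t t' : Sec F.obj}
    (h : ∀ V, t.1 ((EtOver.bc hf).obj V) = t'.1 ((EtOver.bc hf).obj V)) : t = t' := by
  refine Subtype.ext (funext fun E => ?_)
  refine (((isSheaf_iff_isSheaf_of_type _ _).1 ((sheafCompose (etTop X) (CategoryTheory.forget AddCommGrpCat.{u + 1})).obj F).property).isSeparated _ (bcSieve_mem hf hY E)).ext ?_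
  rintro W k ⟨V, ⟨a⟩⟩
  show (F.obj.map k.op).hom (t.1 E) = (F.obj.map k.op).hom (t'.1 E)
  rw [t.2, t'.2, ← t.2 a, ← t'.2 a, h V]

theorem exists_of_bc (hY : IsAlgSpace Y) (s : ∀ V : EtOver Y, F.obj.obj (op ((EtOver.bc hf).obj V)))
    (hs : ∀ ⦃V V' : EtOver Y⦄ (g : V' ⟶ V), (F.obj.map ((EtOver.bc hf).map g).op).hom (s V) = s V') :
    ∃ t : Sec F.obj, ∀ V, t.1 ((EtOver.bc hf).obj V) = s V := by
  have hF := (isSheaf_iff_isSheaf_of_type _ _).1
    ((sheafCompose (etTop X) (CategoryTheory.forget AddCommGrpCat.{u + 1})).obj F).property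
  have hind : ∀ {W : EtOver X} {V₁ V₂ : EtOver Y} (a : W ⟶ (EtOver.bc hf).obj V₁)
      (b : W ⟶ (EtOver.bc hf).obj V₂), (F.obj.map a.op).hom (s V₁) = (F.obj.map b.op).hom (s V₂) := by
    intro W V₁ V₂ a b
    obtain ⟨P, p₁, p₂, c, rfl, rfl⟩ := exists_factor hf a b
    rw [op_comp, op_comp, F.obj.map_comp, F.obj.map_comp, ConcreteCategory.comp_apply, ConcreteCategory.comp_apply,
      hs p₁, hs p₂]
  have key : ∀ E : EtOver X, ∃ x : F.obj.obj (op E), ∀ (W : EtOver X) (k : W ⟶ E) (V : EtOver Y)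
      (a : W ⟶ (EtOver.bc hf).obj V), (F.obj.map k.op).hom x = (F.obj.map a.op).hom (s V) := fun E => by
    obtain ⟨x, hx, -⟩ := hF _ (bcSieve_mem hf hY E)
      (fun W k hk => (F.obj.map hk.choose_spec.some.op).hom (s hk.choose)) (by
        intro W₁ W₂ Z g₁ g₂ k₁ k₂ h₁ h₂ _
        show (F.obj.map g₁.op).hom _ = (F.obj.map g₂.op).hom _
        rw [← ConcreteCategory.comp_apply, ← F.obj.map_comp, ← ConcreteCategory.comp_apply, ← F.obj.map_comp,
          ← op_comp, ← op_comp]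
        exact hind _ _)
    exact ⟨x, fun W k V a => (hx k ⟨V, ⟨a⟩⟩).trans (hind _ a)⟩
  choose t ht using key
  refine ⟨⟨t, fun E E' g => ?_⟩, fun V => ?_⟩
  · refine (hF.isSeparated _ (bcSieve_mem hf hY E')).ext ?_
    rintro W k ⟨V, ⟨a⟩⟩
    show (F.obj.map k.op).hom ((F.obj.map g.op).hom (t E)) = (F.obj.map k.op).hom (t E')
    rw [← ConcreteCategory.comp_apply, ← F.obj.map_comp, ← op_comp, ht E W (k ≫ g) V a, ht E' W k V a]
  · have := ht _ _ (𝟙 ((EtOver.bc hf).obj V)) V (𝟙 _)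
    rwa [op_id, CategoryTheory.Functor.map_id] at this

/-- The group which is the value of the constant presheaf. -/
abbrev Z : AddCommGrpCat.{u + 1} := AddCommGrpCat.of (ULift.{u + 1} ℤ)

/-- Restriction of constant families. -/
def resConst {P : (EtOver X)ᵒᵖ ⥤ AddCommGrpCat.{u + 1}} (φ : (Functor.const _).obj Z.{u} ⟶ P) :
    (Functor.const _).obj Z.{u} ⟶ (EtOver.bc hf).op ⋙ P where
  app V := φ.app ((EtOver.bc hf).op.obj V)
  naturality _ _ g := φ.naturality ((EtOver.bc hf).op.map g)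

theorem resConst_bijective (hY : IsAlgSpace Y) :
    Function.Bijective (resConst hf : ((Functor.const _).obj Z.{u} ⟶ F.obj) → _) := by
  constructor
  · intro φ ψ h
    have e : ∀ (χ : (Functor.const _).obj Z.{u} ⟶ F.obj) ⦃E E' : EtOver X⦄ (g : E' ⟶ E),
        (F.obj.map g.op).hom ((χ.app (op E)).hom ⟨1⟩) = (χ.app (op E')).hom ⟨1⟩ :=
      fun χ E E' g => (ConcreteCategory.congr_hom (χ.naturality g.op) (⟨1⟩ : ULift.{u + 1} ℤ)).symm
    have h2 : (⟨_, e φ⟩ : Sec F.obj) = ⟨_, e ψ⟩ :=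
      ext_of_bc hf F hY fun V => congrArg (fun χ : (Functor.const _).obj Z.{u} ⟶ (EtOver.bc hf).op ⋙ F.obj => (NatTrans.app χ (op V)).hom (⟨1⟩ : ULift.{u + 1} ℤ)) h
    refine NatTrans.ext (funext fun E => ?_)
    exact (AddCommGrpCat.uliftZMultiplesAddEquiv _).injective (congrFun (congrArg Subtype.val h2) E.unop)
  · intro ψ
    obtain ⟨t, ht⟩ := exists_of_bc hf F hY (fun V => (ψ.app (op V)).hom ⟨1⟩)
      fun V V' g => (ConcreteCategory.congr_hom (ψ.naturality g.op) (⟨1⟩ : ULift.{u + 1} ℤ)).symm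
    refine ⟨{ app := fun E => (AddCommGrpCat.uliftZMultiplesAddEquiv _).symm (t.1 E.unop)
              naturality := fun E E' g => ?_ }, NatTrans.ext (funext fun V => ?_)⟩
    · refine (Category.id_comp _).trans ?_
      apply (AddCommGrpCat.uliftZMultiplesAddEquiv _).injective
      refine ((AddCommGrpCat.uliftZMultiplesAddEquiv _).apply_symm_apply _).trans ?_
      exact ((congrArg (F.obj.map g).hom ((AddCommGrpCat.uliftZMultiplesAddEquiv _).apply_symm_apply
        (t.1 E.unop))).trans (t.2 g.unop)).symm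
    · apply (AddCommGrpCat.uliftZMultiplesAddEquiv _).injective
      exact ((AddCommGrpCat.uliftZMultiplesAddEquiv _).apply_symm_apply _).trans (ht V.unop)

/-- Maps from the constant sheaf. -/
def constHom (X' : Sp S) (G : AbEt X') :
    ((constantSheaf (etTop X') AddCommGrpCat.{u + 1}).obj Z.{u} ⟶ G) ≃
      ((Functor.const _).obj Z.{u} ⟶ G.obj) :=
  (sheafificationAdjunction (etTop X') AddCommGrpCat.{u + 1}).homEquiv _ _

/-- Restriction of constant families, as an equivalence. -/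
def resEquiv (hY : IsAlgSpace Y) : ((Functor.const _).obj Z.{u} ⟶ F.obj) ≃
    ((Functor.const _).obj Z.{u} ⟶ ((pushEt hf AddCommGrpCat.{u + 1}).obj F).obj) :=
  Equiv.ofBijective (resConst hf) (resConst_bijective hf F hY)

theorem exists_sectionsEquiv (hY : IsAlgSpace Y) :
    ∃ e : ∀ F : AbEt X, ((constantSheaf (etTop X) AddCommGrpCat.{u + 1}).obj Z.{u} ⟶ F) ≃+
        ((constantSheaf (etTop Y) AddCommGrpCat.{u + 1}).obj Z.{u} ⟶ (pushEt hf AddCommGrpCat.{u + 1}).obj F),
      ∀ (F G : AbEt X) (φ : _ ⟶ F) (g : F ⟶ G), e G (φ ≫ g) = e F φ ≫ (pushEt hf AddCommGrpCat.{u + 1}).map g := by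
  let e₀ : ∀ F : AbEt X, ((constantSheaf (etTop X) AddCommGrpCat.{u + 1}).obj Z.{u} ⟶ F) ≃
      ((constantSheaf (etTop Y) AddCommGrpCat.{u + 1}).obj Z.{u} ⟶ (pushEt hf AddCommGrpCat.{u + 1}).obj F) :=
    fun F => ((constHom X F).trans (resEquiv hf F hY)).trans
      (constHom Y _).symm
  have key : ∀ (F G : AbEt X) (φ : _ ⟶ F) (g : F ⟶ G),
      e₀ G (φ ≫ g) = e₀ F φ ≫ (pushEt hf AddCommGrpCat.{u + 1}).map g := fun F G φ g => by
    show (constHom Y _).symm (resEquiv hf G hY (constHom X G (φ ≫ g))) =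
      (constHom Y _).symm (resEquiv hf F hY (constHom X F φ)) ≫ _
    refine (congrArg (fun t => (constHom Y _).symm (resEquiv hf G hY t))
      ((sheafificationAdjunction (etTop X) AddCommGrpCat.{u + 1}).homEquiv_naturality_right φ g)).trans ?_
    refine Eq.trans ?_ ((sheafificationAdjunction (etTop Y) AddCommGrpCat.{u + 1}).homEquiv_naturality_right_symm
      (resEquiv hf F hY (constHom X F φ)) ((pushEt hf AddCommGrpCat.{u + 1}).map g))
    exact congrArg (constHom Y _).symm (NatTrans.ext (funext fun V => rfl))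
  refine ⟨fun F => { e₀ F with map_add' := fun φ ψ => ?_ }, key⟩
  refine (constHom Y _).injective ?_
  show constHom Y _ (e₀ F (φ + ψ)) = constHom Y _ (e₀ F φ + e₀ F ψ)
  refine ((constHom Y _).apply_symm_apply _).trans ?_
  have ha : ∀ (X' : Sp S) (G : AbEt X') (a b : _ ⟶ G), constHom X' G (a + b) = constHom X' G a + constHom X' G b :=
    fun X' G a b => by
      show (sheafificationAdjunction (etTop X') AddCommGrpCat.{u + 1}).homEquiv _ _ (a + b) = _
      refine ((sheafificationAdjunction (etTop X') AddCommGrpCat.{u + 1}).homEquiv_unit _ _ _).trans ?_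
      refine (congrArg (_ ≫ ·) (show (sheafToPresheaf (etTop X') AddCommGrpCat.{u + 1}).map (a + b) = _ + _ from Functor.map_add _)).trans ?_
      refine (Preadditive.comp_add _ _ _ _ _ _).trans ?_
      exact congrArg₂ (· + ·) ((sheafificationAdjunction (etTop X') AddCommGrpCat.{u + 1}).homEquiv_unit _ _ _).symm
        ((sheafificationAdjunction (etTop X') AddCommGrpCat.{u + 1}).homEquiv_unit _ _ _).symm
  refine (congrArg (resEquiv hf F hY) (ha X F φ ψ)).trans ?_
  refine Eq.trans ?_ (ha Y _ _ _).symm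
  refine Eq.trans ?_ (congrArg₂ (· + ·) ((constHom Y _).apply_symm_apply _).symm ((constHom Y _).apply_symm_apply _).symm)
  exact NatTrans.ext (funext fun V => rfl)

end Groth.Agent.AlgSpWA.PushSections
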