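import Groth.Agent.AlgSpWA.MVSheaf
import Groth.Agent.AlgSpWA.PushSections
import Groth.Agent.SiteBase.ExtCompare

/-!
# Cohomology of quasi-coherent modules on qcqs spaces is bounded

Mayer-Vietoris for elementary distinguished squares and induction.
-/

set_option autoImplicit false
set_option backward.isDefEq.respectTransparency false
set_option backward.isDefEq.respectTransparency.types false
set_option linter.style.haveILetI false

noncomputable section

universe u

open CategoryTheory CategoryTheory.Limits AlgebraicGeometry Opposite AlgSp Abelian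

namespace Groth.Agent.AlgSpWA.MVBound

open Groth.Agent.AlgSpDec Groth.Agent.AlgSpLib MVSheaf

variable {S : Scheme.{u}} {X : Sp S}

theorem preMap_comp {F F' F'' : Sp S} {e : F ⟶ X} {e' : F' ⟶ X} {e'' : F'' ⟶ X} (φ : F ⟶ F') (h : φ ≫ e' = e)
    (ψ : F' ⟶ F'') (h' : ψ ≫ e'' = e') :
    preMap φ h ≫ preMap ψ h' = preMap (φ ≫ ψ) (by rw [Category.assoc, h', h]) := by
  ext W y
  exact Subtype.ext (Category.assoc _ _ _)

theorem preMap_congr {F F' : Sp S} {e : F ⟶ X} {e' : F' ⟶ X} {φ φ' : F ⟶ F'} (h : φ ≫ e' = e) (e0 : φ = φ') :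
    preMap φ h = preMap φ' (e0 ▸ h) := by
  subst e0; rfl

theorem AMap_comp {F F' F'' : Sp S} {e : F ⟶ X} {e' : F' ⟶ X} {e'' : F'' ⟶ X} (φ : F ⟶ F') (h : φ ≫ e' = e)
    (ψ : F' ⟶ F'') (h' : ψ ≫ e'' = e') :
    AMap φ h ≫ AMap ψ h' = AMap (φ ≫ ψ) (by rw [Category.assoc, h', h]) := by
  show (presheafToSheaf _ _).map _ ≫ (presheafToSheaf _ _).map _ = (presheafToSheaf _ _).map _
  rw [← Functor.map_comp, ← Functor.whiskerRight_comp, preMap_comp]

theorem mono_AMap {F F' : Sp S} {e : F ⟶ X} {e' : F' ⟶ X} (φ : F ⟶ F') (h : φ ≫ e' = e) [Mono φ] :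
    Mono (AMap φ h) := by
  haveI : ∀ W, Mono ((Functor.whiskerRight (preMap φ h) AddCommGrpCat.free.{u + 1}).app W) := fun W => by
    haveI : Mono ((preMap φ h).app W) := (mono_iff_injective _).2 fun y y' hy =>
      Subtype.ext ((cancel_mono φ).1 (congrArg Subtype.val hy))
    exact inferInstanceAs (Mono (AddCommGrpCat.free.{u + 1}.map ((preMap φ h).app W)))
  haveI : Mono (Functor.whiskerRight (preMap φ h) AddCommGrpCat.free.{u + 1}) := NatTrans.mono_of_mono_app _
  exact inferInstanceAs (Mono ((presheafToSheaf (etTop X) AddCommGrpCat.{u + 1}).map _))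

section square

variable {E U V UV : Sp S} {e : E ⟶ X} {j : U ⟶ E} {f : V ⟶ E} {p : UV ⟶ U} {q : UV ⟶ V}
  (hE : IsAlgSpace E) (hj : RepWith @IsOpenImmersion j) (sq : IsPullback p q j f) (hsq : IsElemDistSq j f)
  {T : Over S} (θ : (yon S).obj T ≅ V) (hT : IsAffine T.left)

theorem comp_eq (sq : IsPullback p q j f) : q ≫ (f ≫ e) = p ≫ (j ≫ e) := by
  rw [← Category.assoc, ← sq.w, Category.assoc]

variable (e) in
/-- The square of free sheaves. -/
abbrev freeSq (sq : IsPullback p q j f) : Square (AbEt X) where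
  X₁ := A (p ≫ (j ≫ e))
  X₂ := A (j ≫ e)
  X₃ := A (f ≫ e)
  X₄ := A e
  f₁₂ := AMap p rfl
  f₁₃ := AMap q (comp_eq sq)
  f₂₄ := AMap j rfl
  f₃₄ := AMap f rfl
  fac := by
    rw [AMap_comp, AMap_comp]
    congr 1
    exact sq.w

include hE hj hsq θ hT in
theorem isPushout_freeSq : (freeSq e sq).IsPushout := by
  have key : ∀ s : PushoutCocone (freeSq e sq).f₁₂ (freeSq e sq).f₁₃,
      ∃! c : pre e ⟶ s.pt.obj ⋙ forget AddCommGrpCat.{u + 1},
        preMap j (rfl : j ≫ e = _) ≫ c = homEq _ s.pt s.inl ∧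
          preMap f (rfl : f ≫ e = _) ≫ c = homEq _ s.pt s.inr := fun s =>
    existsUnique_glue hE hj sq hsq θ hT _ _ (by
      rw [← homEq_AMap, ← homEq_AMap]
      exact congrArg _ s.condition)
  refine Square.IsPushout.mk _ (PushoutCocone.IsColimit.mk _
    (fun s => (homEq e s.pt).symm (key s).exists.choose) (fun s => ?_) (fun s => ?_) (fun s m h1 h2 => ?_))
  · apply (homEq _ s.pt).injective
    rw [homEq_AMap, Equiv.apply_symm_apply]
    exact (key s).exists.choose_spec.1
  · apply (homEq _ s.pt).injective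
    rw [homEq_AMap, Equiv.apply_symm_apply]
    exact (key s).exists.choose_spec.2
  · apply (homEq e s.pt).injective
    rw [Equiv.apply_symm_apply]
    refine (key s).unique ⟨?_, ?_⟩ (key s).exists.choose_spec
    · rw [← homEq_AMap]; exact congrArg _ h1
    · rw [← homEq_AMap]; exact congrArg _ h2

include hE hj sq hsq θ hT in
/-- The Mayer-Vietoris step. -/
theorem subsingleton_ext_step (G : AbEt X) (n : ℕ) (hU : Subsingleton (Ext (A (j ≫ e)) G (n + 1)))
    (hV : Subsingleton (Ext (A (f ≫ e)) G (n + 1))) (hUV : Subsingleton (Ext (A (p ≫ (j ≫ e))) G n)) :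
    Subsingleton (Ext (A e) G (n + 1)) := by
  let sq' := freeSq e sq
  haveI := mono_of_openImm hj
  haveI : Mono q := PullbackCone.mono_snd_of_is_pullback_of_mono sq.isLimit
  haveI : Mono sq'.f₁₃ := mono_AMap q _
  let Sc : ShortComplex (AbEt X) := ShortComplex.mk (biprod.lift sq'.f₁₂ (-sq'.f₁₃)) (biprod.desc sq'.f₂₄ sq'.f₃₄)
    sq'.cokernelCofork.condition
  have hc := (isPushout_freeSq (e := e) hE hj sq hsq θ hT).isColimitCokernelCofork
  haveI : Mono Sc.f := by
    haveI : Mono (Sc.f ≫ biprod.snd) := by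
      show Mono (biprod.lift sq'.f₁₂ (-sq'.f₁₃) ≫ biprod.snd)
      rw [biprod.lift_snd]
      infer_instance
    exact mono_of_mono _ biprod.snd
  haveI : Epi Sc.g := Cofork.IsColimit.epi hc
  have hS : Sc.ShortExact := { exact := ShortComplex.exact_of_g_is_cokernel Sc hc }
  refine subsingleton_of_forall_eq 0 fun x => ?_
  haveI := hUV
  haveI : Subsingleton (Ext Sc.X₂ G (n + 1)) :=
    @Equiv.subsingleton _ _ Ext.biprodAddEquiv.toEquiv (@instSubsingletonProd _ _ hU hV)
  obtain ⟨x₁, rfl⟩ := Ext.contravariant_sequence_exact₃ hS G x (Subsingleton.elim _ _) (add_comm 1 n)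
  rw [Subsingleton.elim x₁ (0 : Ext Sc.X₁ G n)]
  simp

end square

section affine

variable {V : Sp S} (e : V ⟶ X) {T : Over S} (θ : (yon S).obj T ≅ V) (hθ : RepWith @Etale (θ.hom ≫ e))
  [IsAffine T.left]

include hθ in
theorem exists_lift_affine {S' : ShortComplex (AbEt X)} (hS : S'.ShortExact) (h1 : AffAcyclic.IsAcyclic S'.X₁)
    (φ : A e ⟶ S'.X₃) : ∃ ψ : A e ⟶ S'.X₂, ψ ≫ S'.g = φ := by
  let E₀ : EtOver X := EtOver.mk (θ.hom ≫ e) hθ
  haveI : IsAffine E₀.obj.left.left := ‹IsAffine T.left›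
  let y₀ : (pre e).obj (op E₀) := ⟨θ.hom, rfl⟩
  obtain ⟨t, ht⟩ := AffAcyclic.sections_surjective hS h1 E₀ ((homEq e _ φ).app (op E₀) y₀)
  have hk : ∀ (W : EtOver X) (y : (pre e).obj (op W)), ∃ k : W ⟶ E₀, (pre e).map k.op y₀ = y := fun W y => by
    obtain ⟨z, hz⟩ := (yon S).map_surjective (y.1 ≫ θ.inv)
    refine ⟨EtOver.homMk z ?_, Subtype.ext ?_⟩
    · show (yon S).map z ≫ θ.hom ≫ e = W.obj.hom
      rw [hz, Category.assoc, θ.inv_hom_id_assoc]; exact y.2
    · show (yon S).map z ≫ θ.hom = y.1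
      rw [hz, Category.assoc, θ.inv_hom_id, Category.comp_id]
  have huniq : ∀ (W : EtOver X) (k k' : W ⟶ E₀), (pre e).map k.op y₀ = (pre e).map k'.op y₀ → k = k' :=
    fun W k k' h => EtOver.hom_ext _ _ ((yon S).map_injective ((cancel_mono θ.hom).1 (congrArg Subtype.val h)))
  choose k hk using hk
  let ψ : pre e ⟶ S'.X₂.obj ⋙ forget AddCommGrpCat.{u + 1} :=
    { app := fun W => TypeCat.ofHom fun y => (S'.X₂.obj.map (k W.unop y).op).hom t
      naturality := fun W W' g => by
        ext y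
        show (S'.X₂.obj.map (k W'.unop ((pre e).map g y)).op).hom t =
          (S'.X₂.obj.map g).hom ((S'.X₂.obj.map (k W.unop y).op).hom t)
        rw [← ConcreteCategory.comp_apply, ← S'.X₂.obj.map_comp]
        refine congrArg (fun m => (S'.X₂.obj.map m).hom t) (congrArg Quiver.Hom.op
          (huniq _ (k W'.unop ((pre e).map g y)) (g.unop ≫ k W.unop y) ?_))
        rw [hk, op_comp]
        refine Eq.trans ?_ (Functor.map_comp_apply (pre e) (k W.unop y).op g y₀).symm
        rw [hk] }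
  refine ⟨(homEq e _).symm ψ, (homEq e _).injective ?_⟩
  rw [homEq_comp, Equiv.apply_symm_apply]
  ext W y
  obtain ⟨W⟩ := W
  refine (NatTrans.naturality_apply S'.g.hom (k W y).op t).trans ?_
  refine (congrArg (S'.X₃.obj.map (k W y).op).hom ht).trans ?_
  exact (NatTrans.naturality_apply (homEq e _ φ) (k W y).op y₀).symm.trans (congrArg _ (hk W y))

include hθ in
theorem subsingleton_ext_affine (n : ℕ) : ∀ G : AbEt X, AffAcyclic.IsAcyclic G →
    Subsingleton (Ext (A e) G (n + 1)) := by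
  induction n with
  | zero =>
    intro G hG
    obtain ⟨Q⟩ := EnoughInjectives.presentation G
    have hS := Q.shortExact_shortComplex
    refine subsingleton_of_forall_eq 0 fun x => ?_
    obtain ⟨φ, rfl⟩ := SiteBase.conn_surjective (A e) hS
      (haveI := Q.injective; Ext.subsingleton_of_injective _ _ 0) x
    exact (SiteBase.conn_eq_zero_iff (A e) hS φ).2 (exists_lift_affine e θ hθ hS hG φ)
  | succ n ih =>
    intro G hG
    obtain ⟨Q⟩ := EnoughInjectives.presentation G
    have hS := Q.shortExact_shortComplex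
    have h₂ : ∀ q, Subsingleton (Ext (A e) Q.shortComplex.X₂ (q + 1)) := fun q =>
      haveI := Q.injective; Ext.subsingleton_of_injective _ _ q
    obtain ⟨e₁⟩ := SiteBase.nonempty_conn_addEquiv (A e) hS n (h₂ n) (h₂ (n + 1))
    haveI := ih _ (AffAcyclic.isAcyclic_X₃ hS hG (haveI := Q.injective; AffAcyclic.isAcyclic_of_injective _))
    exact e₁.symm.toEquiv.subsingleton

end affine

/-- The free sheaf of the whole space is the constant sheaf. -/
theorem nonempty_iso_top : Nonempty (A (𝟙 X) ≅ (constantSheaf (etTop X) AddCommGrpCat.{u + 1}).obj PushSections.Z.{u}) := by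
  have hu : ∀ (W : EtOver X) (y : (pre (𝟙 X)).obj (op W)), y = ⟨W.obj.hom, Category.comp_id _⟩ := fun W y =>
    Subtype.ext ((Category.comp_id _).symm.trans y.2)
  letI : ∀ W : (EtOver X)ᵒᵖ, Unique ((pre (𝟙 X)).obj W) := fun W =>
    { default := ⟨W.unop.obj.hom, Category.comp_id _⟩, uniq := hu W.unop }
  refine ⟨(presheafToSheaf (etTop X) AddCommGrpCat.{u + 1}).mapIso (NatIso.ofComponents
    (fun W => ((FreeAbelianGroup.uniqueEquiv ((pre (𝟙 X)).obj W)).trans AddEquiv.ulift.symm).toAddCommGrpIso)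
    fun {W W'} g => ?_)⟩
  refine AddCommGrpCat.hom_ext (FreeAbelianGroup.lift_ext _ _ fun y => ?_)
  show AddEquiv.ulift.symm (FreeAbelianGroup.uniqueEquiv ((pre (𝟙 X)).obj W')
      (FreeAbelianGroup.map ((pre (𝟙 X)).map g) (FreeAbelianGroup.of y))) =
    AddEquiv.ulift.symm (FreeAbelianGroup.uniqueEquiv ((pre (𝟙 X)).obj W) (FreeAbelianGroup.of y))
  refine congrArg _ ?_
  have h1 : ∀ {α : Type (u + 1)} [Unique α] (t : α), FreeAbelianGroup.uniqueEquiv α (FreeAbelianGroup.of t) = 1 :=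
    fun t => by simp [FreeAbelianGroup.uniqueEquiv]
  rw [FreeAbelianGroup.map_of_apply, h1, h1]

/-- The cohomology of quasi-coherent modules on a qcqs space vanishes in large degrees. -/
theorem exists_bound [QuasiSeparatedSpace ↥S] (X : Space S) (hqc : IsQuasiCompactSp X.obj)
    (hqs : IsQuasiSeparatedSp X.obj) :
    ∃ n : ℕ, ∀ (M : ModEt X.obj), M.IsQuasicoherent → ∀ q : ℕ, n ≤ q → Subsingleton (HModEt X.obj M q) := by
  let P : EtSpOver X → Prop := fun W => ∃ n : ℕ, ∀ (M : ModEt X.obj), M.IsQuasicoherent → ∀ q : ℕ, n ≤ q →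
    Subsingleton (Ext (A W.obj.hom.hom) ((toAbEt X.obj).obj M) q)
  let W₀ : EtSpOver X := ⟨Over.mk (𝟙 X), fun _ φ hφ => by
    show RepWith @Etale (φ ≫ 𝟙 X.obj)
    exact (Category.comp_id φ).symm ▸ hφ⟩
  have hP : P W₀ := by
    refine InductionPrinciple.induction_principle P
      (fun W => IsQuasiCompactSp W.obj.left.obj ∧ IsQuasiSeparatedSp W.obj.left.obj)
      (fun W U j hW hj hU => ⟨hU, ?_⟩) (fun V T hT he => ⟨?_, ?_⟩)
      (fun W U V UV j f p q hW hU hV hsq hpb hPU hPV hPUV => ?_) (fun W hW => hW) W₀ ⟨hqc, hqs⟩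
    · haveI := mono_of_openImm hj
      exact isQuasiSeparatedSp_of_mono j.hom.left.hom hW.2
    · exact InductionPrinciple.qcqs_of_iso_affine V.obj.left.property hT he.some
    · refine ⟨1, fun M hM n hn => ?_⟩
      haveI := hM
      haveI := hT
      obtain ⟨n, rfl⟩ : ∃ m, n = m + 1 := ⟨n - 1, by omega⟩
      exact subsingleton_ext_affine _ he.some (V.property he.some.hom (repWith_of_isIso _ _)) n _
        (AffAcyclic.isAcyclic_of_isQuasicoherent M)
    · obtain ⟨T, hT, ⟨θ⟩⟩ := hV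
      obtain ⟨nU, hnU⟩ := hPU
      obtain ⟨nV, hnV⟩ := hPV
      obtain ⟨nW, hnW⟩ := hPUV
      refine ⟨max nU (max nV nW) + 1, fun M hM n hn => ?_⟩
      obtain ⟨n, rfl⟩ : ∃ m, n = m + 1 := ⟨n - 1, by omega⟩
      have hju : j.hom.left.hom ≫ W.obj.hom.hom = U.obj.hom.hom := congrArg (fun m => m.hom) (Over.w j.hom)
      have hfv : f.hom.left.hom ≫ W.obj.hom.hom = V.obj.hom.hom := congrArg (fun m => m.hom) (Over.w f.hom)
      have hpu : p.hom.left.hom ≫ U.obj.hom.hom = UV.obj.hom.hom := congrArg (fun m => m.hom) (Over.w p.hom)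
      refine subsingleton_ext_step W.obj.left.property hsq.1 hpb hsq θ hT _ n ?_ ?_ ?_
      · rw [hju]; exact hnU M hM _ (by omega)
      · rw [hfv]; exact hnV M hM _ (by omega)
      · rw [hju, hpu]; exact hnW M hM _ (by omega)
  obtain ⟨n, hn⟩ := hP
  refine ⟨n, fun M hM q hq => ?_⟩
  obtain ⟨i⟩ := nonempty_iso_top (X := X.obj)
  haveI : Subsingleton (Ext (A (𝟙 X.obj)) ((toAbEt X.obj).obj M) q) := hn M hM q hq
  show Subsingleton (Ext ((constantSheaf (etTop X.obj) AddCommGrpCat.{u + 1}).obj PushSections.Z.{u}) ((toAbEt X.obj).obj M) q)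
  exact @Equiv.subsingleton _ _
    (((extFunctor.{u + 1} q).mapIso i.op).app ((toAbEt X.obj).obj M)).addCommGroupIsoToAddEquiv.toEquiv ‹_›

end Groth.Agent.AlgSpWA.MVBound
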