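import Groth.Agent.EtLC12.ExtColimGen
import Mathlib.Algebra.Homology.ShortComplex.ExactFunctor

/-!
# Filtered colimits and Ext, via an endofunctor into which the identity embeds
-/

set_option autoImplicit false
set_option backward.isDefEq.respectTransparency false
set_option linter.unusedVariables false

universe w v u

open CategoryTheory CategoryTheory.Limits Opposite Abelian

namespace Groth.Agent.AlgSpWA.HColimTrick

open Groth.Agent.EtLC12.ExtColimGen

variable {𝒜 : Type u} [Category.{v} 𝒜] [Abelian 𝒜] [EnoughInjectives 𝒜] [HasProducts.{w} 𝒜]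
  {Λ : Type w} [SmallCategory Λ] {P : 𝒜} [IsFiltered Λ] [HasColimitsOfShape Λ 𝒜]
  [HasExactColimitsOfShape Λ 𝒜] [HasExt.{w} 𝒜]
  (T : 𝒜 ⥤ 𝒜) (η : 𝟭 𝒜 ⟶ T) [∀ G, Mono (η.app G)]

/-- Morphisms from `P` to a colimit come from a stage, and die at a stage. -/
def HomComm (P : 𝒜) (D : Λ ⥤ 𝒜) : Prop :=
  (∀ x : P ⟶ colimit D, ∃ (i : Λ) (y : P ⟶ D.obj i), y ≫ colimit.ι D i = x) ∧
    ∀ (i : Λ) (y : P ⟶ D.obj i), y ≫ colimit.ι D i = 0 → ∃ (j : Λ) (u : i ⟶ j), y ≫ D.map u = 0

theorem comm_zero {D : Λ ⥤ 𝒜} (h : HomComm P D) : Comm P 0 D := by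
  refine ⟨fun x => ?_, fun i y hy => ?_⟩
  · obtain ⟨φ, rfl⟩ := (Ext.mk₀_bijective _ _).2 x
    obtain ⟨i, y, rfl⟩ := h.1 φ
    exact ⟨i, Ext.mk₀ y, Ext.mk₀_comp_mk₀ _ _⟩
  · obtain ⟨φ, rfl⟩ := (Ext.mk₀_bijective _ _).2 y
    rw [Ext.mk₀_comp_mk₀] at hy
    obtain ⟨j, v, hv⟩ := h.2 i φ ((Ext.mk₀_bijective _ _).1 (by rw [hy, Ext.mk₀_zero]))
    exact ⟨j, v, by rw [Ext.mk₀_comp_mk₀, hv, Ext.mk₀_zero]⟩

section

variable (D : Λ ⥤ 𝒜)

/-- The transformation at a diagram. -/
abbrev ηD : D ⟶ D ⋙ T :=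
  { app := fun j => η.app (D.obj j), naturality := fun _ _ v => η.naturality (D.map v) }

/-- The short exact sequence of diagrams. -/
noncomputable abbrev ses : ShortComplex (Λ ⥤ 𝒜) :=
  ShortComplex.mk (ηD T η D) (cokernel.π (ηD T η D)) (cokernel.condition _)

omit [IsFiltered Λ] [EnoughInjectives 𝒜] [HasProducts.{w} 𝒜] [HasColimitsOfShape Λ 𝒜]
  [HasExactColimitsOfShape Λ 𝒜] [HasExt.{w} 𝒜] in
theorem shortExact_ses : (ses T η D).ShortExact := by
  haveI : ∀ j, Mono ((ηD T η D).app j) := fun j => inferInstanceAs (Mono (η.app (D.obj j)))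
  haveI : Mono (ηD T η D) := NatTrans.mono_of_mono_app _
  exact { exact := ShortComplex.exact_of_g_is_cokernel _ (cokernelIsCokernel _) }

theorem shortExact_colim : ((ses T η D).map colim).ShortExact :=
  (shortExact_ses T η D).map_of_exact _

theorem shortExact_stage (i : Λ) : ((ses T η D).map ((evaluation Λ 𝒜).obj i)).ShortExact :=
  (shortExact_ses T η D).map_of_exact _

variable (h0 : ∀ D : Λ ⥤ 𝒜, HomComm P (D ⋙ T))
include η h0

theorem hom_inj (i : Λ) (y : P ⟶ D.obj i) (hy : y ≫ colimit.ι D i = 0) :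
    ∃ (j : Λ) (u : i ⟶ j), y ≫ D.map u = 0 := by
  obtain ⟨j, u, hu⟩ := (h0 D).2 i (y ≫ η.app (D.obj i)) (by
    have e : η.app (D.obj i) ≫ colimit.ι (D ⋙ T) i = colimit.ι D i ≫ colimMap (ηD T η D) :=
      (colimit.ι_map (ηD T η D) i).symm
    rw [Category.assoc, e, ← Category.assoc, hy, zero_comp])
  refine ⟨j, u, (cancel_mono (η.app (D.obj j))).1 ?_⟩
  rw [zero_comp, Category.assoc, ← hu, Category.assoc]
  exact congrArg (y ≫ ·) (η.naturality (D.map u))

theorem homComm : HomComm P D := by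
  refine ⟨fun x => ?_, hom_inj T η D h0⟩
  obtain ⟨i, y, hy⟩ := (h0 D).1 (x ≫ colimMap (ηD T η D))
  let π := cokernel.π (ηD T η D)
  have hy0 : (y ≫ π.app i) ≫ colimit.ι (cokernel (ηD T η D)) i = 0 := by
    rw [Category.assoc, ← colimit.ι_map π i, ← Category.assoc, hy, Category.assoc]
    exact (congrArg (x ≫ ·) ((ses T η D).map colim).zero).trans comp_zero
  obtain ⟨j, v, hv⟩ := hom_inj T η (cokernel (ηD T η D)) h0 i _ hy0
  have h1 : (y ≫ (D ⋙ T).map v) ≫ π.app j = 0 := by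
    rw [Category.assoc, π.naturality, ← Category.assoc]
    exact hv
  haveI : Mono ((ses T η D).map ((evaluation Λ 𝒜).obj j)).f := inferInstanceAs (Mono (η.app (D.obj j)))
  obtain ⟨x', hx'⟩ : ∃ x' : P ⟶ D.obj j, x' ≫ η.app (D.obj j) = y ≫ (D ⋙ T).map v :=
    ⟨(shortExact_stage T η D j).exact.lift _ h1, (shortExact_stage T η D j).exact.lift_f _ h1⟩
  refine ⟨j, x', ?_⟩
  haveI := (shortExact_colim T η D).mono_f
  refine (cancel_mono ((ses T η D).map colim).f).1 ?_
  show (x' ≫ colimit.ι D j) ≫ colimMap (ηD T η D) = x ≫ colimMap (ηD T η D)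
  rw [← hy, Category.assoc]
  refine (congrArg (x' ≫ ·) (colimit.ι_map (ηD T η D) j)).trans ?_
  rw [← Category.assoc]
  refine (congrArg (· ≫ colimit.ι (D ⋙ T) j) hx').trans ?_
  rw [Category.assoc, colimit.w]

variable (hT : ∀ I : 𝒜, Injective I → Injective (T.obj I))
  (hvan : ∀ D : Λ ⥤ 𝒜, (∀ j, Injective (D.obj j)) → ∀ q, Subsingleton (Ext P (colimit (D ⋙ T)) (q + 1)))
include hT hvan

theorem subsingleton_ext (q : ℕ) :
    ∀ D : Λ ⥤ 𝒜, (∀ j, Injective (D.obj j)) → Subsingleton (Ext P (colimit D) (q + 1)) := by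
  induction q with
  | zero =>
    intro D hD
    refine subsingleton_of_forall_eq 0 fun x => ?_
    obtain ⟨z, hz⟩ := Ext.covariant_sequence_exact₁ P (shortExact_colim T η D) x
      ((hvan D hD 0).elim _ _) (rfl : 0 + 1 = 1)
    obtain ⟨φ, rfl⟩ := (Ext.mk₀_bijective _ _).2 z
    obtain ⟨i, y, hy⟩ := (homComm T η (cokernel (ηD T η D)) h0).1 φ
    haveI := hD i
    haveI : Injective ((ses T η D).map ((evaluation Λ 𝒜).obj i)).X₁ := hD i
    let s := (shortExact_stage T η D i).splittingOfInjective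
    have hφ : ((y ≫ s.s) ≫ colimit.ι (D ⋙ T) i) ≫ ((ses T η D).map colim).g = φ := by
      rw [← hy, Category.assoc]
      refine (congrArg ((y ≫ s.s) ≫ ·) (colimit.ι_map (cokernel.π (ηD T η D)) i)).trans ?_
      rw [← Category.assoc]
      refine congrArg (· ≫ colimit.ι (cokernel (ηD T η D)) i) ?_
      rw [Category.assoc]
      exact (congrArg (y ≫ ·) s.s_g).trans (Category.comp_id _)
    rw [← hz, ← hφ, ← Ext.mk₀_comp_mk₀, Ext.comp_assoc_of_second_deg_zero,
      (shortExact_colim T η D).comp_extClass, Ext.comp_zero]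
  | succ q ih =>
    intro D hD
    refine subsingleton_of_forall_eq 0 fun x => ?_
    obtain ⟨z, hz⟩ := Ext.covariant_sequence_exact₁ P (shortExact_colim T η D) x
      ((hvan D hD (q + 1)).elim _ _) (rfl : (q + 1) + 1 = _)
    have hsub := ih (cokernel (ηD T η D)) fun j => by
      haveI := hD j
      haveI : Injective ((ses T η D).map ((evaluation Λ 𝒜).obj j)).X₁ := hD j
      haveI : Injective ((ses T η D).map ((evaluation Λ 𝒜).obj j)).X₂ := hT _ (hD j)
      let s := (shortExact_stage T η D j).splittingOfInjective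
      exact ⟨fun g f _ => ⟨Injective.factorThru (g ≫ s.s) f ≫ ((ses T η D).map ((evaluation Λ 𝒜).obj j)).g, by
        rw [← Category.assoc, Injective.comp_factorThru, Category.assoc, s.s_g]
        exact Category.comp_id g⟩⟩
    rw [← hz, hsub.elim z 0, Ext.zero_comp]

theorem preservesColimit (q : ℕ) : PreservesColimit D ((extFunctor.{w} q).obj (op P)) :=
  (comm_all (P := P) (fun D => comm_zero (homComm T η D h0))
    (fun D hD q => subsingleton_ext T η h0 hT hvan q D hD) q D).preservesColimit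

end

end Groth.Agent.AlgSpWA.HColimTrick
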