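import Groth.Agent.AlgSpWA.ChartColim
import Groth.Agent.AlgSpWA.HColimTrick
import Groth.Agent.AlgSpWA.PushSections
import Groth.Agent.AlgSpWA.ExtClass
import Groth.Agent.AlgSpWA.ChartIso
import Groth.Agent.AlgSpWA.InjPush
import Groth.Agent.AlgSpDec.PostcompSite
import Groth.Agent.AlgSpDec.LimAffineStage
import Groth.Agent.AlgSpDec.LimDescent
import Groth.Agent.AlgSpDec.LimDescentDiag
import Groth.Agent.AlgSpPts.OpenSub
import Groth.Agent.QCPush13.Main
import Groth.Agent.EtLC12.QcqsAcyclic

/-!
# Etale cohomology of qcqs algebraic spaces commutes with filtered colimits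
-/

set_option autoImplicit false
set_option linter.style.haveILetI false
set_option backward.isDefEq.respectTransparency false
set_option backward.isDefEq.respectTransparency.types false

noncomputable section

universe u

open CategoryTheory CategoryTheory.Limits AlgebraicGeometry Opposite AlgSp Abelian

namespace Groth.Agent.AlgSpWA.HEtColim

variable {S : Scheme.{u}} {X : Sp S} {U : Over S} (a : (yon S).obj U ⟶ X) (ha : RepWith @Etale a)

/-- The functor of sites. -/
abbrev J : EtOver ((yon S).obj U) ⥤ EtOver X := EtOver.postcomp a (isEtaleMor_of_repWith a ha)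

instance : (J a ha).IsContinuous (etTop ((yon S).obj U)) (etTop X) :=
  AlgSpDec.PostcompSite.isContinuous a (isEtaleMor_of_repWith a ha)

instance : (J a ha).IsCocontinuous (etTop ((yon S).obj U)) (etTop X) :=
  AlgSpDec.PostcompSite.isCocontinuous a (isEtaleMor_of_repWith a ha)

/-- Restriction to the chart. -/
abbrev L : AbEt X ⥤ AbEt ((yon S).obj U) :=
  (J a ha).sheafPushforwardContinuous AddCommGrpCat.{u + 1} (etTop ((yon S).obj U)) (etTop X)

/-- Direct image from the chart. -/
abbrev R : AbEt ((yon S).obj U) ⥤ AbEt X := pushEt ha.1 AddCommGrpCat.{u + 1}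

/-- Sheaves on the site of the chart as sheaves on the scheme. -/
abbrev Φ (U : Over S) : AbEt ((yon S).obj U) ⥤ EtCoh.Ab U.left :=
  ChartIso.restr (𝟙 ((yon S).obj U)) (repWith_id @Etale U)

/-- The projection of a base change. -/
def τ : EtOver.bc ha.1 ⋙ J a ha ⟶ 𝟭 (EtOver X) where
  app E := EtOver.homMk (ha.1.snd E.obj.hom) (ha.1.w E.obj.hom).symm
  naturality {E E'} g := EtOver.hom_ext _ _ (EtOver.bcMap_snd ha.1 g)

/-- The unit. -/
def η : 𝟭 (AbEt X) ⟶ L a ha ⋙ R a ha where
  app G := ⟨{ app := fun E => G.obj.map ((τ a ha).app E.unop).op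
              naturality := fun E E' g => by
                show G.obj.map g ≫ _ = _ ≫ G.obj.map ((J a ha).map ((EtOver.bc ha.1).map g.unop)).op
                rw [← G.obj.map_comp, ← G.obj.map_comp]
                exact congrArg (fun k => G.obj.map k) (congrArg Quiver.Hom.op ((τ a ha).naturality g.unop).symm) }⟩
  naturality G G' φ := (sheafToPresheaf (etTop X) AddCommGrpCat.{u + 1}).map_injective
    (NatTrans.ext (funext fun E => (φ.hom.naturality ((τ a ha).app E.unop).op).symm))

theorem mono_η (has : RepWith @Surjective a) (G : AbEt X) : Mono ((η a ha).app G) := by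
  haveI : ∀ E, Mono (((η a ha).app G).hom.app E) := fun E => (AddCommGrpCat.mono_iff_injective _).2
    ((injective_iff_map_eq_zero _).2 fun x hx => by
      let T : EtOver X := (J a ha).obj ((EtOver.bc ha.1).obj E.unop)
      have hcov : Sieve.ofArrows (fun _ : PUnit.{1} => T) (fun _ => (τ a ha).app E.unop) ∈ etTop X E.unop := by
        refine AlgSp.ofArrows_mem_etTop _ _ fun e => ⟨⟨⟩, ?_⟩
        obtain ⟨v, hv⟩ := AlgSpLib.surjective_ofPt has (Points.ofPt E.unop.obj.hom e)
        rw [Points.ofPt_eq_map_ofScheme] at hv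
        obtain ⟨w, -, hw⟩ := exists_bc_point ha.1 E.unop e _ hv
        exact ⟨w, hw⟩
      refine (((isSheaf_iff_isSheaf_of_type _ _).1 ((sheafCompose (etTop X)
        (CategoryTheory.forget AddCommGrpCat.{u + 1})).obj G).property).isSeparated _ hcov).ext fun W k hk => ?_
      obtain ⟨-, l, rfl⟩ := (Sieve.mem_ofArrows_iff _ _ _).1 hk
      show (G.obj.map (l ≫ (τ a ha).app E.unop).op).hom x = (G.obj.map _).hom 0
      rw [map_zero, op_comp, G.obj.map_comp, ConcreteCategory.comp_apply]
      exact (congrArg _ hx).trans (map_zero _))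
  haveI : Mono ((η a ha).app G).hom := NatTrans.mono_of_mono_app _
  exact (sheafToPresheaf (etTop X) AddCommGrpCat.{u + 1}).mono_of_mono_map this

theorem preservesColimits_L : PreservesColimitsOfSize.{u + 1, u + 1} (L a ha) := by
  haveI : ∀ F : (EtOver ((yon S).obj U))ᵒᵖ ⥤ AddCommGrpCat.{u + 1},
      (J a ha).op.HasPointwiseRightKanExtension F := inferInstance
  exact ((J a ha).sheafAdjunctionCocontinuous AddCommGrpCat.{u + 1}
    (etTop ((yon S).obj U)) (etTop X)).leftAdjoint_preservesColimits

/-- The composite of the functors of sites is the chart. -/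
def compIso : EtOver.ofChart (𝟙 ((yon S).obj U)) (repWith_id @Etale U) ⋙ J a ha ≅ EtOver.ofChart a ha :=
  NatIso.ofComponents (fun V => (ObjectProperty.fullyFaithfulι _).preimageIso
    (CostructuredArrow.isoMk (Iso.refl _) (by
      change (yon S).map (𝟙 _) ≫ (yon S).map (EtOver.homOfEtale V) ≫ a =
        ((yon S).map (EtOver.homOfEtale V) ≫ 𝟙 _) ≫ a
      rw [CategoryTheory.Functor.map_id, Category.id_comp, Category.comp_id])))
    fun g => EtOver.hom_ext _ _ ((Category.comp_id _).trans (Category.id_comp _).symm)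

theorem injective_L (I : AbEt X) [Injective I] : Injective ((L a ha).obj I) := by
  haveI := ChartGen.injective_restr a ha I
  let e : (Φ U).obj ((L a ha).obj I) ≅ (ChartGen.restr a ha).obj I :=
    (fullyFaithfulSheafToPresheaf U.left.smallEtaleTopology AddCommGrpCat.{u + 1}).preimageIso
      (Functor.isoWhiskerRight (NatIso.op (compIso a ha)).symm I.obj)
  haveI : Injective ((Φ U).obj ((L a ha).obj I)) := Injective.of_iso e.symm inferInstance
  exact ((Φ U).asEquivalence.map_injective_iff ((L a ha).obj I)).1 this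

theorem preservesColimitsOfShape_R (hqc : IsQuasiCompactMor a) (hqs : IsQuasiSeparatedMor a)
    (Λ : Type (u + 1)) [SmallCategory Λ] [IsFiltered Λ] : PreservesColimitsOfShape Λ (R a ha) := by
  refine ⟨fun {D} => preservesColimit_of_preserves_colimit_cocone (colimit.isColimit D) ?_⟩
  let θ : colimit (D ⋙ R a ha) ⟶ (R a ha).obj (colimit D) := colimit.desc _ ((R a ha).mapCocone (colimit.cocone D))
  haveI : IsIso θ := ChartColim.isIso_of_bijective_affine θ fun E hE => by
    haveI := hE
    obtain ⟨h1, h2⟩ := QCPush13.compact_and_qs hqc hqs ha.1 E hE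
    haveI := ChartColim.preservesColimitsOfShape_sections E Λ
    haveI := ChartColim.preservesColimitsOfShape_sections ((EtOver.bc ha.1).obj E) Λ
    let hc1 := isColimitOfPreserves (ChartColim.sections X E) (colimit.isColimit (D ⋙ R a ha))
    let hc2 := isColimitOfPreserves (ChartColim.sections ((yon S).obj U) ((EtOver.bc ha.1).obj E)) (colimit.isColimit D)
    have he : (ChartColim.sections X E).map θ = (hc1.coconePointUniqueUpToIso hc2).hom := by
      refine hc1.hom_ext fun j => ?_
      refine Eq.trans ?_ (hc1.comp_coconePointUniqueUpToIso_hom hc2 j).symm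
      show (ChartColim.sections X E).map (colimit.ι (D ⋙ R a ha) j) ≫ (ChartColim.sections X E).map θ = _
      rw [← Functor.map_comp, colimit.ι_desc]
      rfl
    haveI : IsIso ((ChartColim.sections X E).map θ) := by rw [he]; infer_instance
    exact ConcreteCategory.bijective_of_isIso ((ChartColim.sections X E).map θ)
  exact @IsColimit.ofPointIso _ _ _ _ _ (colimit.cocone (D ⋙ R a ha)) ((R a ha).mapCocone (colimit.cocone D))
    (colimit.isColimit _) this

variable [IsAffine U.left]

/-- The constant sheaf. -/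
abbrev P (X : Sp S) : AbEt X := (constantSheaf (etTop X) AddCommGrpCat.{u + 1}).obj PushSections.Z.{u}

omit [IsAffine U.left] in
variable (U) in
/-- Maps from the constant sheaf on the chart are sections. -/
def gsec (H : AbEt ((yon S).obj U)) : (P ((yon S).obj U) ⟶ H) ≃+
    H.obj.obj (op ((EtOver.ofChart (𝟙 ((yon S).obj U)) (repWith_id @Etale U)).obj (EtCoh.top U.left))) :=
  AddEquiv.mk'
    (((constantSheafAdj (etTop ((yon S).obj U)) AddCommGrpCat.{u + 1}
      (ChartIso.isTerminal_top (𝟙 ((yon S).obj U)) (repWith_id @Etale U))).homEquiv _ _).trans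
        (AddCommGrpCat.uliftZMultiplesAddEquiv _).toEquiv)
    fun φ ψ => by
      show (AddCommGrpCat.uliftZMultiplesAddEquiv _) (((constantSheafAdj (etTop ((yon S).obj U)) AddCommGrpCat.{u + 1}
        (ChartIso.isTerminal_top (𝟙 ((yon S).obj U)) (repWith_id @Etale U))).homEquiv _ _) (φ + ψ)) = _
      rw [Adjunction.homEquiv_unit]
      refine Eq.trans (congrArg _ (Preadditive.comp_add _ _ _ _ (φ.hom.app _) (ψ.hom.app _))) ?_
      refine (map_add _ _ _).trans ?_
      exact congrArg₂ (· + ·) (congrArg _ (Adjunction.homEquiv_unit _ _ _ φ).symm)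
        (congrArg _ (Adjunction.homEquiv_unit _ _ _ ψ).symm)

omit [IsAffine U.left] in
theorem gsec_naturality {H H' : AbEt ((yon S).obj U)} (φ : P ((yon S).obj U) ⟶ H) (g : H ⟶ H') :
    gsec U H' (φ ≫ g) = (g.hom.app (op _)).hom (gsec U H φ) := by
  show (AddCommGrpCat.uliftZMultiplesAddEquiv _) (((constantSheafAdj (etTop ((yon S).obj U)) AddCommGrpCat.{u + 1}
    (ChartIso.isTerminal_top (𝟙 ((yon S).obj U)) (repWith_id @Etale U))).homEquiv _ _) (φ ≫ g)) = _
  rw [Adjunction.homEquiv_naturality_right]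
  rfl

theorem homComm_U {Λ : Type (u + 1)} [SmallCategory Λ] [IsFiltered Λ] (D : Λ ⥤ AbEt ((yon S).obj U)) :
    HColimTrick.HomComm (P ((yon S).obj U)) D := by
  haveI : IsAffine (EtCoh.top U.left).left := ‹IsAffine U.left›
  haveI := ChartColim.preservesColimitsOfShape_chartSections (𝟙 ((yon S).obj U)) (repWith_id @Etale U)
    (EtCoh.top U.left) (EtFound.isQcqsObj_of_isAffine _) Λ
  let hc := isColimitOfPreserves (ChartColim.chartSections (𝟙 ((yon S).obj U)) (repWith_id @Etale U)
    (EtCoh.top U.left)) (colimit.isColimit D)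
  refine ⟨fun x => ?_, fun i y hy => ?_⟩
  · obtain ⟨i, t, ht⟩ := Concrete.isColimit_exists_rep _ hc (gsec U _ x)
    refine ⟨i, (gsec U _).symm t, (gsec U _).injective ?_⟩
    rw [gsec_naturality, AddEquiv.apply_symm_apply]
    exact ht
  · have h0 : ((colimit.ι D i).hom.app (op _)).hom (gsec U (D.obj i) y) =
        ((colimit.ι D i).hom.app (op _)).hom 0 := by
      rw [map_zero, ← gsec_naturality, hy, map_zero]
    obtain ⟨j, v, w, hvw⟩ := Concrete.isColimit_exists_of_rep_eq _ hc _ _ h0
    refine ⟨j, v, (gsec U _).injective ?_⟩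
    rw [gsec_naturality, map_zero]
    exact hvw.trans (map_zero _)

set_option maxHeartbeats 1600000 in
theorem homComm_T (hX : IsAlgSpace X) (hqc : IsQuasiCompactMor a) (hqs : IsQuasiSeparatedMor a)
    {Λ : Type (u + 1)} [SmallCategory Λ] [IsFiltered Λ] (D : Λ ⥤ AbEt X) :
    HColimTrick.HomComm (P X) (D ⋙ L a ha ⋙ R a ha) := by
  haveI := preservesColimitsOfShape_R a ha hqc hqs Λ
  obtain ⟨e, he⟩ := PushSections.exists_sectionsEquiv ha.1 hX
  let D' := D ⋙ L a ha
  let θ := preservesColimitIso (R a ha) D'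
  obtain ⟨h1, h2⟩ := homComm_U (U := U) D'
  refine ⟨fun x => ?_, fun i y hy => ?_⟩
  · obtain ⟨i, t, ht⟩ := h1 ((e (colimit D')).symm (x ≫ θ.inv))
    refine ⟨i, e _ t, (cancel_mono θ.inv).1 ?_⟩
    rw [Category.assoc]
    refine (congrArg (e _ t ≫ ·) (ι_preservesColimitIso_inv (R a ha) D' i)).trans ?_
    rw [← he, ht, AddEquiv.apply_symm_apply]
  · obtain ⟨t, rfl⟩ := (e (D'.obj i)).surjective y
    have h0 : t ≫ colimit.ι D' i = 0 := by
      refine (e _).injective ?_
      rw [he, map_zero, ← ι_preservesColimitIso_inv (R a ha) D' i, ← Category.assoc]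
      exact (congrArg (· ≫ θ.inv) hy).trans zero_comp
    obtain ⟨j, v, hv⟩ := h2 i t h0
    refine ⟨j, v, ?_⟩
    show e _ t ≫ (R a ha).map (D'.map v) = 0
    rw [← he, hv, map_zero]

/-- The class of sheaves without Čech cohomology. -/
abbrev C (H : AbEt ((yon S).obj U)) : Prop := EtLC12.QcqsAcyclic.IsCechAcyclic ((Φ U).obj H)

omit [IsAffine U.left] in
theorem epi_R_map (hqc : IsQuasiCompactMor a) (hqs : IsQuasiSeparatedMor a)
    (E : ShortComplex (AbEt ((yon S).obj U))) (hE : E.ShortExact) (h1 : C E.X₁) : Epi ((R a ha).map E.g) := by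
  refine (Sheaf.isLocallySurjective_iff_epi' (J := etTop X) AddCommGrpCat.{u + 1}
    ((R a ha).map E.g)).1 ⟨fun {V} s => ?_⟩
  refine QCart13.covering_of_affine fun W k hW => ?_
  obtain ⟨h1', h2'⟩ := QCPush13.compact_and_qs hqc hqs ha.1 W hW
  obtain ⟨V', ⟨e⟩⟩ := Functor.EssSurj.mem_essImage (F := EtOver.ofChart (𝟙 ((yon S).obj U)) (repWith_id @Etale U))
    ((EtOver.bc ha.1).obj W)
  let ei : V'.left ≅ ((EtOver.bc ha.1).obj W).obj.left.left := (EtOver.toScheme _).mapIso e
  have hV' : EtFound.IsQcqsObj V' := by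
    haveI := h1'
    haveI := h2'
    exact ⟨ei.hom.homeomorph.symm.compactSpace, quasiSeparatedSpace_of_quasiSeparated ei.hom⟩
  have hsurj := EtLC12.QcqsAcyclic.sections_surjective (E.map (Φ U)) (hE.map_of_exact _) h1 hV'
  obtain ⟨t, ht⟩ := hsurj ((E.X₃.obj.map e.hom.op).hom (((R a ha).obj E.X₃).obj.map k.op s))
  refine ⟨(E.X₂.obj.map e.inv.op).hom t, ?_⟩
  refine (NatTrans.naturality_apply E.g.hom e.inv.op t).trans ((congrArg (E.X₃.obj.map e.inv.op).hom ht).trans ?_)
  rw [← ConcreteCategory.comp_apply, ← Functor.map_comp, ← op_comp, e.inv_hom_id, op_id,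
    CategoryTheory.Functor.map_id]
  rfl

theorem hvan (hX : IsAlgSpace X) (hqc : IsQuasiCompactMor a) (hqs : IsQuasiSeparatedMor a)
    {Λ : Type (u + 1)} [SmallCategory Λ] [IsFiltered Λ] (D : Λ ⥤ AbEt X) (hD : ∀ j, Injective (D.obj j)) (q : ℕ) :
    Subsingleton (Ext (P X) (colimit (D ⋙ L a ha ⋙ R a ha)) (q + 1)) := by
  haveI := preservesColimitsOfShape_R a ha hqc hqs Λ
  let D' := D ⋙ L a ha
  let θ := preservesColimitIso (R a ha) D'
  haveI : CompactSpace ↥U.left := inferInstance
  haveI hC : C (colimit D') := by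
    intro V _ ι _ Uf hV hUf p
    haveI := EtFound.preservesColimitsOfShape_cechHFunctor V hV ι Uf hUf (p + 1) Λ
    let F := (Φ U) ⋙ sheafToPresheaf U.left.smallEtaleTopology AddCommGrpCat.{u + 1} ⋙
      EtCech.cechHFunctor Uf (p + 1)
    haveI : PreservesColimitsOfShape Λ F := comp_preservesColimitsOfShape _ _
    let hc := isColimitOfPreserves F (colimit.isColimit D')
    refine (IsZero.iff_id_eq_zero _).2 ?_
    exact hc.hom_ext fun j => ((haveI := hD j; haveI := injective_L a ha (D.obj j)
      haveI : Injective ((Φ U).obj (D'.obj j)) := ((Φ U).asEquivalence.map_injective_iff _).2 this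
      EtLC12.QcqsAcyclic.isCechAcyclic_of_injective ((Φ U).obj (D'.obj j))) V ι Uf hV hUf p).eq_of_src _ _
  obtain ⟨e, he⟩ := PushSections.exists_sectionsEquiv ha.1 hX
  obtain ⟨f⟩ := nonempty_ext_addEquiv_of_class (R a ha) (P ((yon S).obj U)) (P X) C
    (fun E hE hI h1 => EtLC12.QcqsAcyclic.isCechAcyclic_X₃ (E.map (Φ U)) (hE.map_of_exact _) h1
      (haveI := hI; haveI : Injective (E.map (Φ U)).X₂ := ((Φ U).asEquivalence.map_injective_iff E.X₂).2 hI
       EtLC12.QcqsAcyclic.isCechAcyclic_of_injective _))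
    (fun E hE h1 => ShortComplex.ShortExact.mk'
      (haveI := hE.mono_f; hE.exact.map_of_mono_of_preservesKernel _ inferInstance inferInstance)
      (haveI := hE.mono_f; (R a ha).map_mono E.f) (epi_R_map a ha hqc hqs E hE h1))
    (fun I hI q => haveI := hI; haveI := InjPush.injective_pushEt ha.1 (IsAlgSpace.yon_obj U) hX I
      Ext.subsingleton_of_injective _ _ q) e he (q + 1) (colimit D') hC
  obtain ⟨g⟩ := ChartIso.nonempty_HEt_addEquiv (𝟙 ((yon S).obj U)) (repWith_id @Etale U) (colimit D') (q + 1)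
  haveI := EtLC12.QcqsAcyclic.subsingleton_H_of_isCechAcyclic q _ hC
  haveI : Subsingleton (Ext (P ((yon S).obj U)) (colimit D') (q + 1)) := g.toEquiv.subsingleton
  haveI : Subsingleton (Ext (P X) ((R a ha).obj (colimit D')) (q + 1)) := f.symm.toEquiv.subsingleton
  exact @Equiv.subsingleton _ _ (((extFunctor.{u + 1} (q + 1)).obj (op (P X))).mapIso θ).symm.addCommGroupIsoToAddEquiv.toEquiv this

theorem preservesColimitsOfShape_HEtF [QuasiSeparatedSpace ↥S] {X : Sp S} (hX : IsAlgSpace X)
    (hqc : IsQuasiCompactSp X) (hqs : IsQuasiSeparatedSp X) (p : ℕ)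
    (Λ : Type (u + 1)) [SmallCategory Λ] [IsFiltered Λ] : PreservesColimitsOfShape Λ (HEtF X p) where
  preservesColimit {D} := by
    obtain ⟨U, a, hU, ha, has⟩ := AlgSpDec.exists_affine_atlas hqc
    haveI := hU
    have hqca : IsQuasiCompactMor a := AlgSpPts.isQuasiCompactMor_of_qc_qs (IsAlgSpace.yon_obj U) hX
      ((AlgSpPts.isQuasiCompactSp_yon_iff U).2 inferInstance) hqs a
    have hqsa : IsQuasiSeparatedMor a := AlgSpDec.isQuasiSeparatedMor_of_sp a
      ((AlgSpDec.isQuasiSeparatedSp_yon_iff' U).2 (AlgSpDec.quasiSeparated_hom_of_affine U)) hqs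
    haveI := mono_η a ha has
    suffices h : PreservesColimit D ((extFunctor.{u + 1} p).obj (op (P X))) from
      preservesColimit_of_natIso D (show (extFunctor.{u + 1} p).obj (op (P X)) ≅ HEtF X p from
        NatIso.ofComponents (fun F => Iso.refl _) fun f => rfl)
    haveI : EnoughInjectives (AbEt X) := inferInstance
    exact HColimTrick.preservesColimit (L a ha ⋙ R a ha) (η a ha) D
      (fun D => homComm_T a ha hX hqca hqsa D)
      (fun I hI => by
        haveI := hI
        haveI := injective_L a ha I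
        exact InjPush.injective_pushEt ha.1 (IsAlgSpace.yon_obj U) hX _)
      (fun D hD q => hvan a ha hX hqca hqsa D hD q) p

end Groth.Agent.AlgSpWA.HEtColim
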