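import Groth.Agent.AlgSpWA.CohColim
import Groth.Agent.AlgSpWA.HEtColim
import Mathlib.Algebra.Category.ModuleCat.Sheaf.Colimits
import Mathlib.Algebra.Category.ModuleCat.Presheaf.Colimits
import Mathlib.Algebra.Category.Grp.FilteredColimits
import Mathlib.CategoryTheory.Limits.ConcreteCategory.Basic
import Mathlib.CategoryTheory.Filtered.Final

/-!
# Vanishing of the first cohomology passes from coherent to quasi-coherent modules
-/

set_option autoImplicit false
set_option linter.style.haveILetI false
set_option backward.isDefEq.respectTransparency false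
set_option backward.isDefEq.respectTransparency.types false

noncomputable section

universe u

open CategoryTheory CategoryTheory.Limits AlgebraicGeometry Opposite AlgSp
open Groth.Agent.QCart13

namespace Groth.Agent.AlgSpWA.CohUnion

variable {S : Scheme.{u}} [QuasiSeparatedSpace ↥S] {X : Sp S} (hX : IsAlgSpace X) (hqs : IsQuasiSeparatedSp X)
  (hN : IsLocNoethSp X) {U : EtOver X} (hU : Aff U) (hcov : ∀ x : Points X, ∃ u, Points.ofPt U.obj.hom u = x)
  (M : ModEt X) [M.IsQuasicoherent]

omit [QuasiSeparatedSpace ↥S] in
/-- The forgetful functor to abelian sheaves preserves colimits. -/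
theorem preservesColimits_toAbEt (X : Sp S) : PreservesColimitsOfSize.{u + 1, u + 1} (toAbEt X) where
  preservesColimitsOfShape {I} _ := ⟨fun {K} => by
    let R := OEtRing X
    let adj := PresheafOfModules.sheafificationAdjunction (𝟙 R.obj)
    let G := SheafOfModules.forget.{u + 1} R ⋙ PresheafOfModules.restrictScalars (𝟙 R.obj)
    let sh := PresheafOfModules.sheafification.{u + 1} (𝟙 R.obj)
    have : PreservesColimitsOfShape I sh := adj.leftAdjoint_preservesColimits.1
    have : PreservesColimitsOfShape I (presheafToSheaf (etTop X) AddCommGrpCat.{u + 1}) :=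
      (CategoryTheory.sheafificationAdjunction (etTop X) AddCommGrpCat.{u + 1}).leftAdjoint_preservesColimits.1
    have : PreservesColimitsOfShape I (PresheafOfModules.toPresheaf.{u + 1} R.obj) :=
      PresheafOfModules.toPresheaf_preservesColimitsOfShape _ _
    have : PreservesColimitsOfShape I (PresheafOfModules.toPresheaf.{u + 1} R.obj ⋙
        presheafToSheaf (etTop X) AddCommGrpCat.{u + 1}) := comp_preservesColimitsOfShape _ _
    have : PreservesColimitsOfShape I (sh ⋙ SheafOfModules.toSheaf R) :=
      @preservesColimitsOfShape_of_natIso _ _ _ _ _ _ _ _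
        (PresheafOfModules.sheafificationCompToSheaf (𝟙 R.obj)).symm (by assumption)
    let L := K ⋙ G
    have : PreservesColimit (L ⋙ sh) (SheafOfModules.toSheaf R) :=
      preservesColimit_of_preserves_colimit_cocone (isColimitOfPreserves sh (colimit.isColimit L))
        (isColimitOfPreserves (sh ⋙ SheafOfModules.toSheaf R) (colimit.isColimit L))
    have : IsIso adj.counit := inferInstance
    exact preservesColimit_of_iso_diagram (SheafOfModules.toSheaf R)
      (K₁ := L ⋙ sh) (Functor.associator K G sh ≪≫
        Functor.isoWhiskerLeft K (asIso adj.counit) ≪≫ Functor.rightUnitor K)⟩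

/-- The coherent submodules spanned by finitely many sections. -/
def finSys : Finset (sectModEt M U) ⥤ ObjectProperty.FullSubcategory (FPSub M) where
  obj P := cohObj hX hqs hN hU hcov M (P : Set (sectModEt M U)) P.finite_toSet
  map {P Q} h :=
    haveI := Gen.mono_satι (cohSub M (P : Set (sectModEt M U)))
    ObjectProperty.homMk (MonoOver.homMk
      (Gen.satLift (cohSub M (Q : Set (sectModEt M U))) (ι M (P : Set (sectModEt M U))) fun W d =>
        Gen.le_sat (cohSub M _) (inSub_mono M (Finset.coe_subset.2 h.le) ((mem_sat_cohSub_iff M _ _).1 d.2)))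
      (Gen.satLift_ι _ _ _))
  map_id P := ObjectProperty.hom_ext _ (Subsingleton.elim _ _)
  map_comp _ _ := ObjectProperty.hom_ext _ (Subsingleton.elim _ _)

include hX hqs hN hU hcov in
theorem final_finSys : (finSys hX hqs hN hU hcov M).Final := by
  classical
  refine Functor.final_of_exists_of_isFiltered _ (fun N => ?_) fun {N P} s s' => ⟨P, 𝟙 P, ?_⟩
  · obtain ⟨P, hP, h⟩ := exists_hom_cohObj hX hqs hN hU hcov M N
    exact ⟨hP.toFinset, h _ hP.toFinset.finite_toSet (le_of_eq hP.coe_toFinset.symm)⟩
  · exact ObjectProperty.hom_ext _ (Subsingleton.elim _ _)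

omit hX hqs hN hU hcov in
theorem subsingleton_H1 (X : Space S) {U : EtOver X.obj} (hqc : IsQuasiCompactSp X.obj)
    (hqs : IsQuasiSeparatedSp X.obj) (hN : IsLocNoethSp X.obj) (hU : Aff U)
    (hcov : ∀ x : Points X.obj, ∃ u, Points.ofPt U.obj.hom u = x) (M : ModEt X.obj) [M.IsQuasicoherent]
    (h1 : ∀ N : ModEt X.obj, N.IsFinitePresentation → Subsingleton (HModEt X.obj N 1)) :
    Subsingleton (HModEt X.obj M 1) := by
  classical
  let F := finSys X.property hqs hN hU hcov M
  haveI : F.Final := final_finSys X.property hqs hN hU hcov M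
  obtain ⟨hc⟩ := nonempty_isColimit X.property hqs hN hU hcov M
  let hc' := (Functor.Final.isColimitWhiskerEquiv F _).symm hc
  haveI := preservesColimits_toAbEt X.obj
  haveI := HEtColim.preservesColimitsOfShape_HEtF X.property hqc hqs 1 (Finset (sectModEt M U))
  have hc'' := isColimitOfPreserves (toAbEt X.obj ⋙ HEtF X.obj 1) hc'
  refine ⟨fun x y => ?_⟩
  obtain ⟨P, p, hp⟩ := Concrete.isColimit_exists_rep _ hc'' x
  obtain ⟨Q, q, hq⟩ := Concrete.isColimit_exists_rep _ hc'' y
  haveI := h1 _ (F.obj P).property
  haveI := h1 _ (F.obj Q).property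
  rw [← hp, ← hq, Subsingleton.elim (α := HModEt X.obj (F.obj P).obj.obj.left 1) p 0,
    Subsingleton.elim (α := HModEt X.obj (F.obj Q).obj.obj.left 1) q 0]
  exact (map_zero _).trans (map_zero _).symm

end Groth.Agent.AlgSpWA.CohUnion
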