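import Groth.Agent.AlgSpWA.ChevHom
import Groth.Agent.AlgSpWA.SerreCoh
import Groth.Agent.AlgSpWA.MVBound
import Groth.Agent.AlgSpWA.Coherent

/-!
# No higher cohomology on the image of an affine scheme under a finite surjective map
-/

set_option autoImplicit false
set_option linter.style.haveILetI false
set_option backward.isDefEq.respectTransparency false
set_option backward.isDefEq.respectTransparency.types false

noncomputable section

universe u

open CategoryTheory CategoryTheory.Limits AlgebraicGeometry Opposite AlgSp Abelian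
open Groth.Agent.QCart13

namespace Groth.Agent.AlgSpWA.Chev

variable {S : Scheme.{u}}

theorem map_toAbEt_shortExact {X : Sp S} (T : ShortComplex (ModEt X)) (hT : T.ShortExact) :
    (T.map (toAbEt X)).ShortExact := by
  haveI := CohUnion.preservesColimits_toAbEt X
  haveI : PreservesFiniteColimits (toAbEt X) := PreservesColimitsOfSize.preservesFiniteColimits _
  exact hT.map_of_exact (toAbEt X)

theorem subsingleton_H_mid {X : Sp S} (T : ShortComplex (ModEt X)) (hT : T.ShortExact) (q : ℕ)
    (h1 : Subsingleton (HModEt X T.X₁ q)) (h3 : Subsingleton (HModEt X T.X₃ q)) :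
    Subsingleton (HModEt X T.X₂ q) := by
  refine subsingleton_of_forall_eq 0 fun x => ?_
  obtain ⟨y, rfl⟩ := Ext.covariant_sequence_exact₂ _ (map_toAbEt_shortExact T hT) x (h3.elim _ _)
  rw [h1.elim y 0, Ext.zero_comp]

theorem subsingleton_H_right {X : Sp S} (T : ShortComplex (ModEt X)) (hT : T.ShortExact) (q : ℕ)
    (h2 : Subsingleton (HModEt X T.X₂ q)) (h1 : Subsingleton (HModEt X T.X₁ (q + 1))) :
    Subsingleton (HModEt X T.X₃ q) := by
  refine subsingleton_of_forall_eq 0 fun x => ?_
  obtain ⟨y, rfl⟩ := Ext.covariant_sequence_exact₃ _ (map_toAbEt_shortExact T hT) x rfl (h1.elim _ _)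
  rw [h2.elim y 0, Ext.zero_comp]

theorem subsingleton_H_of_image {X : Sp S} {P Q : ModEt X} (Φ : P ⟶ Q) [P.IsQuasicoherent] [Q.IsQuasicoherent]
    (q : ℕ) (hP : Subsingleton (HModEt X P q))
    (H : ∀ M : ModEt X, M.IsQuasicoherent → Subsingleton (HModEt X M (q + 1)))
    (hC : Subsingleton (HModEt X (cokernel Φ) q)) : Subsingleton (HModEt X Q q) := by
  haveI := isQuasicoherent_cokernel Φ
  haveI : (kernel (cokernel.π Φ)).IsQuasicoherent := isQuasicoherent_kernel _
  let l : P ⟶ kernel (cokernel.π Φ) := kernel.lift _ Φ (cokernel.condition Φ)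
  haveI : Epi l := inferInstanceAs (Epi (Abelian.factorThruImage Φ))
  haveI := isQuasicoherent_kernel l
  exact subsingleton_H_mid
    { X₁ := kernel (cokernel.π Φ), X₂ := Q, X₃ := cokernel Φ, f := kernel.ι _, g := cokernel.π Φ,
      zero := kernel.condition _ }
    { exact := ShortComplex.exact_of_f_is_kernel _ (kernelIsKernel _) } q
    (subsingleton_H_right
      { X₁ := kernel l, X₂ := _, X₃ := _, f := kernel.ι l, g := l, zero := kernel.condition l }
      { exact := ShortComplex.exact_of_f_is_kernel _ (kernelIsKernel l) } q hP (H _ inferInstance)) hC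

theorem mk_kernel_lt {C : Type*} [Category C] [Abelian C] {F Q Q' : C} (π : F ⟶ Q) [Epi π] (c : Q ⟶ Q')
    (hc : ¬ Mono c) [Epi c] : Subobject.mk (kernel.ι π) < Subobject.mk (kernel.ι (π ≫ c)) := by
  refine lt_of_le_of_ne (Subobject.mk_le_mk_of_comm (kernel.lift _ (kernel.ι π)
    (by rw [kernel.condition_assoc, zero_comp])) (kernel.lift_ι _ _ _)) fun he => hc ?_
  have hw : kernel.ι (π ≫ c) ≫ π = 0 := by
    rw [← Subobject.ofMkLEMk_comp he.ge, Category.assoc, kernel.condition, comp_zero]
  let d : Q' ⟶ Q := Abelian.epiDesc (π ≫ c) π hw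
  have hd : c ≫ d = 𝟙 Q := by
    rw [← cancel_epi π, ← Category.assoc, Category.comp_id]
    exact Abelian.comp_epiDesc _ _ _
  exact mono_of_mono_fac hd

variable [QuasiSeparatedSpace ↥S] (X : Space S)

theorem subsingleton_H_of_coherent {U : EtOver X.obj} (hqc : IsQuasiCompactSp X.obj)
    (hqs : IsQuasiSeparatedSp X.obj) (hN : IsLocNoethSp X.obj) (hU : Aff U)
    (hcov : ∀ x : Points X.obj, ∃ u, Points.ofPt U.obj.hom u = x) (p : ℕ) (M : ModEt X.obj) [M.IsQuasicoherent]
    (h1 : ∀ N : ModEt X.obj, N.IsFinitePresentation → Subsingleton (HModEt X.obj N p)) :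
    Subsingleton (HModEt X.obj M p) := by
  classical
  let F := CohUnion.finSys X.property hqs hN hU hcov M
  haveI : F.Final := CohUnion.final_finSys X.property hqs hN hU hcov M
  obtain ⟨hc⟩ := CohUnion.nonempty_isColimit X.property hqs hN hU hcov M
  let hc' := (Functor.Final.isColimitWhiskerEquiv F _).symm hc
  haveI := CohUnion.preservesColimits_toAbEt X.obj
  haveI := HEtColim.preservesColimitsOfShape_HEtF X.property hqc hqs p (Finset (sectModEt M U))
  have hc'' := isColimitOfPreserves (toAbEt X.obj ⋙ HEtF X.obj p) hc'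
  refine ⟨fun x y => ?_⟩
  obtain ⟨P, a, ha⟩ := Concrete.isColimit_exists_rep _ hc'' x
  obtain ⟨Q, b, hb⟩ := Concrete.isColimit_exists_rep _ hc'' y
  haveI := h1 _ (F.obj P).property
  haveI := h1 _ (F.obj Q).property
  rw [← ha, ← hb, Subsingleton.elim (α := HModEt X.obj (F.obj P).obj.obj.left p) a 0,
    Subsingleton.elim (α := HModEt X.obj (F.obj Q).obj.obj.left p) b 0]
  exact (map_zero _).trans (map_zero _).symm

variable {T : Over S} [IsAffine T.left] {f : (yon S).obj T ⟶ X.obj} (hfin : IsFiniteMor f)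

include hfin in
theorem subsingleton_H_push (hf : Representable f) (N : ModEt ((yon S).obj T)) [N.IsQuasicoherent] (q : ℕ)
    (hq : 0 < q) : Subsingleton (HModEt X.obj ((pushModEt hf).obj N) q) := by
  obtain ⟨e⟩ := PushCoh.nonempty_HEt_addEquiv_pushEt hf (IsAlgSpace.yon_obj T) X.property (isAffineMor_of_isFiniteMor hfin) q
    ((toAbEt _).obj N) (AffAcyclic.isAcyclic_of_isQuasicoherent N)
  haveI := AffVanish.subsingleton_HModEt (𝟙 ((yon S).obj T)) (repWith_id _ _) N q hq
  exact e.symm.toEquiv.subsingleton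

include hfin in
set_option maxHeartbeats 1600000 in
theorem subsingleton_step (hqc : IsQuasiCompactSp X.obj) (hqs : IsQuasiSeparatedSp X.obj) (hN : IsLocNoethSp X.obj)
    (hsurj : IsSurjectiveMor f) (q : ℕ) (hq : 0 < q)
    (H : ∀ M : ModEt X.obj, M.IsQuasicoherent → Subsingleton (HModEt X.obj M (q + 1)))
    (F : ModEt X.obj) [F.IsFinitePresentation] : Subsingleton (HModEt X.obj F q) := by
  classical
  obtain ⟨U₀, a, hU₀, ha, has⟩ := Groth.Agent.AlgSpDec.exists_affine_atlas hqc
  let U : EtOver X.obj := EtOver.mk a ha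
  have hU : Aff U := hU₀
  have hcov : ∀ x : Points X.obj, ∃ u, Points.ofPt U.obj.hom u = x := fun x => AlgSpLib.surjective_ofPt has x
  have hf : Representable f := X.property.representable_from_yon f
  obtain ⟨n, b, hb⟩ := exists_generators hf hfin X.property hqs hU hcov
  haveI := isRightAdjoint_push hf
  by_contra hbad
  let St := Σ' (Q : ModEt X.obj) (π : F ⟶ Q), Epi π ∧ Q.IsFinitePresentation ∧ ¬ Subsingleton (HModEt X.obj Q q)
  let sb : St → Subobject F := fun s => Subobject.mk (kernel.ι s.2.1)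
  have hstep : ∀ s : St, ∃ s' : St, sb s < sb s' := by
    rintro ⟨Q, π, hπ, hQ, hne⟩
    haveI := hπ
    haveI := hQ
    have hQ0 : ¬ IsZero Q := fun h0 => hne (by
      have hz : IsZero ((toAbEt X.obj).obj Q) := (toAbEt X.obj).map_isZero h0
      refine subsingleton_of_forall_eq 0 fun x => ?_
      have h1 : x = x.comp (Ext.mk₀ (𝟙 ((toAbEt X.obj).obj Q))) (add_zero q) := (Ext.comp_mk₀_id x).symm
      rw [h1, hz.eq_of_src (𝟙 _) 0, Ext.mk₀_zero, Ext.comp_zero])
    obtain ⟨N, hNq, Φ, hΦ⟩ := exists_ne_zero_hom hf hfin b Q X.property hqs hN hsurj hb hU hcov hQ0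
    haveI := hNq
    haveI : ((pushModEt hf).obj N).IsQuasicoherent := by
      let hq' := AlgSpDec.InductionPrinciple.qcqs_of_iso_affine (IsAlgSpace.yon_obj T) ‹IsAffine T.left› (Iso.refl _)
      let f' : (⟨(yon S).obj T, IsAlgSpace.yon_obj T⟩ : Space S) ⟶ X := ObjectProperty.homMk f
      exact S10002.result f' hf (AlgSpPts.isQuasiCompactMor_of_qc_qs (IsAlgSpace.yon_obj T) X.property hq'.1 hqs f)
        (AlgSpDec.isQuasiSeparatedMor_of_sp f hq'.2 hqs) N
    haveI := isQuasicoherent_cokernel Φ
    haveI hC : (cokernel Φ).IsFinitePresentation := isFinitePresentation_quot hN (cokernel.π Φ)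
    have hne' : ¬ Subsingleton (HModEt X.obj (cokernel Φ) q) := fun h =>
      hne (subsingleton_H_of_image Φ q (subsingleton_H_push X hfin hf N q hq) H h)
    refine ⟨⟨cokernel Φ, π ≫ cokernel.π Φ, epi_comp _ _, hC, hne'⟩, ?_⟩
    exact mk_kernel_lt π (cokernel.π Φ) fun hm => hΦ (by
      haveI := hm
      exact (cancel_mono (cokernel.π Φ)).1 (by rw [cokernel.condition, zero_comp]))
  choose nx hnx using hstep
  let s₀ : St := ⟨F, 𝟙 F, inferInstance, inferInstance, hbad⟩
  let seq : ℕ → St := fun k => nx^[k] s₀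
  have hlt : ∀ k, sb (seq k) < sb (seq (k + 1)) := fun k => by
    simp only [seq, Function.iterate_succ_apply']
    exact hnx _
  obtain ⟨k, hk⟩ := chain_stabilizes hqc hN F ⟨fun k => sb (seq k), (strictMono_nat_of_lt_succ hlt).monotone⟩
    fun k => by
      haveI := (seq k).2.2.2.1
      haveI := isQuasicoherent_kernel (seq k).2.1
      exact (SheafOfModules.isQuasicoherent (OEtRing X.obj)).prop_of_iso
        (Subobject.underlyingIso (kernel.ι (seq k).2.1)).symm inferInstance
  exact (hlt k).ne (hk (k + 1) (Nat.le_succ k)).symm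

include hfin in
theorem subsingleton_H1_of_finite_surjective (hqc : IsQuasiCompactSp X.obj) (hqs : IsQuasiSeparatedSp X.obj)
    (hN : IsLocNoethSp X.obj) (hsurj : IsSurjectiveMor f) (M : ModEt X.obj) [M.IsQuasicoherent] :
    Subsingleton (HModEt X.obj M 1) := by
  obtain ⟨U₀, a, hU₀, ha, has⟩ := Groth.Agent.AlgSpDec.exists_affine_atlas hqc
  obtain ⟨d, hd⟩ := MVBound.exists_bound X hqc hqs
  suffices h : ∀ m q, 0 < q → d ≤ q + m → ∀ M : ModEt X.obj, M.IsQuasicoherent → Subsingleton (HModEt X.obj M q) from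
    h d 1 one_pos (by omega) M ‹_›
  intro m
  induction m with
  | zero => exact fun q _ hq M hM => hd M hM q hq
  | succ m ih =>
    intro q hq hqm M hM
    haveI := hM
    exact subsingleton_H_of_coherent X (U := EtOver.mk a ha) hqc hqs hN hU₀
      (fun x => AlgSpLib.surjective_ofPt has x) q M fun F hF =>
        haveI := hF
        subsingleton_step X hfin hqc hqs hN hsurj q hq (fun M' hM' => ih (q + 1) (by omega) (by omega) M' hM') F

end Groth.Agent.AlgSpWA.Chev
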