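import Groth.Agent.AlgSpWA.FP
import Groth.Agent.PushImage13.QC

/-!
# Coherent modules on closed subspaces
-/

set_option autoImplicit false
set_option linter.style.haveILetI false
set_option backward.isDefEq.respectTransparency false
set_option backward.isDefEq.respectTransparency.types false

noncomputable section

universe u

open CategoryTheory CategoryTheory.Limits AlgebraicGeometry Opposite AlgSp
open Groth.Agent.QCart13

namespace Groth.Agent.AlgSpWA

variable {S : Scheme.{u}} {Z X : Sp S} {i : Z ⟶ X}

theorem isFiniteMor_of_isClosedImmersion (hi : RepWith @IsClosedImmersion i) : IsFiniteMor i := fun T hT g => by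
  haveI : IsClosedImmersion (hi.1.snd g).left := hi.property_snd g
  exact ⟨_, hi.1.snd g, hi.1.fst g, hi.1.isPullback g, isAffine_of_isAffineHom (hi.1.snd g).left, inferInstance⟩

theorem coherent_push (hi : RepWith @IsClosedImmersion i) (hX : IsLocNoethSp X) {I : IdealEt X}
    (hI : idealOfRep hi.1 = I) (G : ModEt Z) [G.IsFinitePresentation] :
    ((pushModEt hi.1).obj G).IsFinitePresentation ∧
      ∀ (E : EtOver X) (hE : IsAffine E.obj.left.left) (s : sectModEt ((pushModEt hi.1).obj G) E),
        I.ideal E hE ≤ annSect s :=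
  ⟨isFinitePresentation_push_finite hi.1 (isFiniteMor_of_isClosedImmersion hi) hX G,
    fun E hE s => PushImage13.annSect_le hi.1 hI G E hE s⟩

theorem exists_coherent_of_killed (hXs : IsAlgSpace X) (hi : RepWith @IsClosedImmersion i) (hZ : IsLocNoethSp Z)
    {I : IdealEt X} (hI : idealOfRep hi.1 = I) (M : ModEt X) [M.IsFinitePresentation]
    (h : ∀ (E : EtOver X) (hE : IsAffine E.obj.left.left) (s : sectModEt M E), I.ideal E hE ≤ annSect s) :
    ∃ G : ModEt Z, G.IsFinitePresentation ∧ Nonempty ((pushModEt hi.1).obj G ≅ M) := by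
  obtain ⟨G, hG, ⟨e⟩⟩ := PushImage13.exists_pushIso hi.1 hi hXs inferInstance
    (PushImage13.killed_of_le hi.1 hI fun E hE s => h E hE s)
  haveI := hG
  haveI := isQuasicoherent_push_affine G hi.1 (isAffineMor_of_isFiniteMor (isFiniteMor_of_isClosedImmersion hi))
  haveI hft : ((pushModEt hi.1).obj G).IsFiniteType :=
    isFiniteType_of_finite _ (fun E : {E : EtOver X // Aff E} => E.1) (fun E => E.2)
      (fun x => by
        obtain ⟨E, hE, u, hu⟩ := exists_aff_over hXs x
        exact ⟨⟨E, hE⟩, u, hu⟩)
      fun E => by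
        haveI := finite_sect M E.2
        refine Module.Finite.of_surjective (appL e.inv E.1) fun y => ⟨appL e.hom E.1 y, ?_⟩
        rw [appL_appL, e.hom_inv_id]
        rfl
  haveI : G.IsFiniteType := (isFiniteType_push_iff G hi.1 hXs (isFiniteMor_of_isClosedImmersion hi)).2 hft
  exact ⟨G, isFinitePresentation_of_finite G hZ fun E hE => finite_sect G hE, ⟨e⟩⟩

end Groth.Agent.AlgSpWA

end
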