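import Groth.Agent.AlgSpWA.CohUnion
import Mathlib.CategoryTheory.Filtered.Basic
import Mathlib.CategoryTheory.Subobject.MonoOver

/-!
# A quasi-coherent module as the colimit of its coherent submodules
-/

set_option autoImplicit false
set_option linter.style.haveILetI false
set_option backward.isDefEq.respectTransparency false
set_option backward.isDefEq.respectTransparency.types false

noncomputable section

universe u

open CategoryTheory CategoryTheory.Limits AlgebraicGeometry Opposite AlgSp TensorProduct
open Groth.Agent.QCart13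

namespace Groth.Agent.AlgSpWA.CohUnion

variable {S : Scheme.{u}} [QuasiSeparatedSpace ↥S] {X : Sp S} (hX : IsAlgSpace X) (hqs : IsQuasiSeparatedSp X)
  (hN : IsLocNoethSp X) {U : EtOver X} (hU : Aff U) (hcov : ∀ x : Points X, ∃ u, Points.ofPt U.obj.hom u = x)
  (M : ModEt X) [M.IsQuasicoherent]

omit [QuasiSeparatedSpace ↥S] [M.IsQuasicoherent] in
theorem inSub_mono {P P' : Set (sectModEt M U)} (h : P ⊆ P') {E : EtOver X} {s : sectModEt M E}
    (hs : InSub M P E s) : InSub M P' E s :=
  fun V hV a b => Submodule.span_mono (Set.image_mono h) (hs V hV a b)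

include hX hqs hU in
theorem exists_finite_inSub (E : EtOver X) (hE : Aff E) (s : sectModEt M E) :
    ∃ P : Set (sectModEt M U), P.Finite ∧ InSub M P E s := by
  classical
  obtain ⟨n, W, a, b, hW, hpair⟩ := exists_pairs hX hqs hU E hE
  have key : ∀ i, ∀ z : Fn (Over.mk (b i)).left ⊗[Fn U] sectModEt M U, ∃ P : Set (sectModEt M U), P.Finite ∧
      bcMor M (Over.mk (b i)) z ∈ spanAt M P (V := (Over.mk (b i)).left) (b i) := fun i z => by
    induction z using TensorProduct.induction_on with
    | zero => exact ⟨∅, Set.finite_empty, by rw [map_zero]; exact Submodule.zero_mem _⟩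
    | tmul c m =>
      refine ⟨{m}, Set.finite_singleton m, ?_⟩
      rw [LinearMap.liftBaseChange_tmul]
      exact Submodule.smul_mem _ c (Submodule.subset_span ⟨m, rfl, rfl⟩)
    | add x y hx hy =>
      obtain ⟨P, hP, hx⟩ := hx
      obtain ⟨Q, hQ, hy⟩ := hy
      refine ⟨P ∪ Q, hP.union hQ, ?_⟩
      rw [map_add]
      exact add_mem (Submodule.span_mono (Set.image_mono Set.subset_union_left) hx)
        (Submodule.span_mono (Set.image_mono Set.subset_union_right) hy)
  choose z hz using fun i =>
    (bijective_bcMor (cart_of_isQuasicoherent M hU) (Over.mk (b i)) (hW i)).2 (res M (a i) s)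
  choose P hP hmem using fun i => key i (z i)
  refine ⟨⋃ i, P i, Set.finite_iUnion hP, fun V hV a' b' => ?_⟩
  obtain ⟨R, hR, hfac⟩ := hpair V a' b'
  refine mem_spanAt_of_local M _ hV b' hR fun Z h _ hh => ?_
  obtain ⟨i, k, hka, hkb⟩ := hfac Z h hh
  rw [← res_comp, ← hka, ← hkb, res_comp]
  refine res_mem_spanAt M _ k (b i) (Submodule.span_mono (Set.image_mono (Set.subset_iUnion P i)) ?_)
  have := hmem i
  rw [hz i] at this
  exact this

/-- The predicate of the coherent submodules. -/
abbrev FPSub : ObjectProperty (MonoOver M) := fun N => SheafOfModules.IsFinitePresentation N.obj.left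

/-- The submodule spanned by a finite set of sections, as an object. -/
def cohObj (P : Set (sectModEt M U)) (hP : P.Finite) : ObjectProperty.FullSubcategory (FPSub M) :=
  ⟨haveI := Gen.mono_satι (cohSub M P); MonoOver.mk (ι M P), isFinitePresentation_C M P hX hqs hN hU hP hcov⟩

include hX hqs hU in
theorem exists_inSub_of_fp {N : ModEt X} [N.IsFinitePresentation] (j : N ⟶ M) :
    ∃ P : Set (sectModEt M U), P.Finite ∧ ∀ (E : EtOver X) (x : sectModEt N E), InSub M P E (appL j E x) := by
  haveI := finite_sect N hU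
  obtain ⟨m, g, hg⟩ := Submodule.fg_iff_exists_fin_generating_family.1 (Module.Finite.fg_top (R := Fn U) (M := sectModEt N U))
  choose P hP hmem using fun i => exists_finite_inSub hX hqs hU M U hU (appL j U (g i))
  refine ⟨⋃ i, P i, Set.finite_iUnion hP, fun E x V hV a b => ?_⟩
  rw [res_appL]
  obtain ⟨z, hz⟩ := (bijective_bcMor (cart_of_isQuasicoherent N hU) (Over.mk b) hV).2 (res N a x)
  rw [← hz]
  clear hz
  induction z using TensorProduct.induction_on with
  | zero => rw [map_zero, map_zero]; exact Submodule.zero_mem _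
  | add p q hp hq => rw [map_add, map_add]; exact add_mem hp hq
  | tmul c y =>
    rw [LinearMap.liftBaseChange_tmul]
    show appL j V ((show Fn V from c) • (show sectModEt N V from res N b y)) ∈ _
    rw [map_smul]
    refine Submodule.smul_mem _ _ ?_
    show appL j V (res N b y) ∈ _
    have hy : y ∈ Submodule.span (Fn U) (Set.range g) := hg ▸ Submodule.mem_top
    induction hy using Submodule.span_induction with
    | mem y hy =>
      obtain ⟨i, rfl⟩ := hy
      rw [← res_appL]
      exact Submodule.span_mono (Set.image_mono (Set.subset_iUnion P i)) (hmem i V hV b b)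
    | zero => rw [map_zero, map_zero]; exact Submodule.zero_mem _
    | add p q _ _ hp hq => rw [map_add, map_add]; exact add_mem hp hq
    | smul r p _ hp => rw [res_smul, map_smul]; exact Submodule.smul_mem _ _ hp

include hX hqs hN hU hcov in
theorem exists_hom_cohObj (N : ObjectProperty.FullSubcategory (FPSub M)) :
    ∃ (P : Set (sectModEt M U)) (hP : P.Finite), ∀ (P' : Set (sectModEt M U)) (hP' : P'.Finite), P ⊆ P' →
      Nonempty (N ⟶ cohObj hX hqs hN hU hcov M P' hP') := by
  haveI : N.obj.obj.left.IsFinitePresentation := N.property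
  obtain ⟨P, hP, h⟩ := exists_inSub_of_fp hX hqs hU M N.obj.obj.hom
  refine ⟨P, hP, fun P' hP' hsub => ⟨ObjectProperty.homMk (MonoOver.homMk
    (Gen.satLift (cohSub M P') N.obj.obj.hom fun W d =>
      Gen.le_sat (cohSub M P') (inSub_mono M hsub (h W d)))
    (Gen.satLift_ι _ _ _))⟩⟩

include hX hqs hN hU hcov in
theorem isFiltered : IsFiltered (ObjectProperty.FullSubcategory (FPSub M)) := by
  haveI : Nonempty (ObjectProperty.FullSubcategory (FPSub M)) :=
    ⟨cohObj hX hqs hN hU hcov M ∅ Set.finite_empty⟩
  refine { cocone_objs := fun A B => ?_, cocone_maps := fun A B f g => ⟨B, 𝟙 B, ?_⟩ }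
  · obtain ⟨P, hP, hA⟩ := exists_hom_cohObj hX hqs hN hU hcov M A
    obtain ⟨Q, hQ, hB⟩ := exists_hom_cohObj hX hqs hN hU hcov M B
    obtain ⟨f⟩ := hA (P ∪ Q) (hP.union hQ) Set.subset_union_left
    obtain ⟨g⟩ := hB (P ∪ Q) (hP.union hQ) Set.subset_union_right
    exact ⟨_, f, g, trivial⟩
  · exact congrArg (· ≫ 𝟙 B) (ObjectProperty.hom_ext _ (Subsingleton.elim _ _))

/-- The tautological cocone. -/
abbrev tautCocone :=
  (Over.forgetCocone M).whisker (ObjectProperty.ι (FPSub M) ⋙ MonoOver.forget M)

section desc

variable (c : Cocone ((ObjectProperty.ι (FPSub M) ⋙ MonoOver.forget M) ⋙ Over.forget M))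

/-- The component of a cocone at an object. -/
abbrev cι (N : ObjectProperty.FullSubcategory (FPSub M)) : N.obj.obj.left ⟶ c.pt := c.ι.app N

omit [QuasiSeparatedSpace ↥S] [M.IsQuasicoherent] in
theorem cι_w {A B : ObjectProperty.FullSubcategory (FPSub M)} (f : A ⟶ B) {E : EtOver X}
    (x : sectModEt A.obj.obj.left E) :
    appL (cι M c B) E (appL f.hom.hom.left E x) = appL (cι M c A) E x :=
  (appL_appL f.hom.hom.left (cι M c B) E x).trans
    (congrArg (fun h : A.obj.obj.left ⟶ c.pt => appL h E x) (c.w f))

include hX hqs hN hU hcov in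
theorem cι_indep {A B : ObjectProperty.FullSubcategory (FPSub M)} {E : EtOver X}
    (x : sectModEt A.obj.obj.left E) (y : sectModEt B.obj.obj.left E)
    (h : appL A.obj.obj.hom E x = appL B.obj.obj.hom E y) :
    appL (cι M c A) E x = appL (cι M c B) E y := by
  haveI := isFiltered hX hqs hN hU hcov M
  let D := IsFiltered.max A B
  let f : A ⟶ D := IsFiltered.leftToMax A B
  let g : B ⟶ D := IsFiltered.rightToMax A B
  haveI : Mono D.obj.obj.hom := D.obj.property
  have he : appL f.hom.hom.left E x = appL g.hom.hom.left E y := by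
    refine injective_appL D.obj.obj.hom E ?_
    rw [appL_appL, appL_appL, Over.w f.hom.hom, Over.w g.hom.hom]
    exact h
  rw [← cι_w M c f, he, cι_w M c g]

/-- A value of the descended map. -/
def IsVal {E : EtOver X} (s : sectModEt M E) (y : sectModEt c.pt E) : Prop :=
  ∀ (W : EtOver X) (k : W ⟶ E) (A : ObjectProperty.FullSubcategory (FPSub M)) (t : sectModEt A.obj.obj.left W),
    appL A.obj.obj.hom W t = res M k s → res c.pt k y = appL (cι M c A) W t

/-- The morphisms on which a section lies in some coherent submodule. -/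
def liftSieve {E : EtOver X} (s : sectModEt M E) : Sieve E where
  arrows W k := ∃ (A : ObjectProperty.FullSubcategory (FPSub M)) (t : sectModEt A.obj.obj.left W),
    appL A.obj.obj.hom W t = res M k s
  downward_closed := fun ⟨A, t, ht⟩ l => ⟨A, res A.obj.obj.left l t, by rw [← res_appL, ht, res_comp]⟩

include hX hqs hN hU hcov in
theorem liftSieve_mem {E : EtOver X} (s : sectModEt M E) : liftSieve M s ∈ etTop X E :=
  covering_of_affine fun W k hW => by
    obtain ⟨P, hP, h⟩ := exists_finite_inSub hX hqs hU M W hW (res M k s)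
    exact ⟨cohObj hX hqs hN hU hcov M P hP, ⟨res M k s, (mem_sat_cohSub_iff M P _).2 h⟩, rfl⟩

include hX hqs hN hU hcov in
theorem isVal_unique {E : EtOver X} {s : sectModEt M E} {y y' : sectModEt c.pt E} (h : IsVal M c s y)
    (h' : IsVal M c s y') : y = y' := by
  refine sub_eq_zero.1 (Gen.eq_zero_of_local c.pt (y - y') (liftSieve_mem hX hqs hN hU hcov M s) fun W k hk => ?_)
  obtain ⟨A, t, ht⟩ := hk
  change res c.pt k (y - y') = 0
  rw [map_sub, h W k A t ht, h' W k A t ht, sub_self]

include hX hqs hN hU hcov in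
set_option maxHeartbeats 1000000 in
theorem exists_isVal {E : EtOver X} (s : sectModEt M E) : ∃ y, IsVal M c s y := by
  have hF := ((isSheaf_iff_isSheaf_of_type _ _).1
    ((Presheaf.isSheaf_iff_isSheaf_forget (etTop X) c.pt.val.presheaf
      (CategoryTheory.forget AddCommGrpCat.{u + 1})).1 c.pt.isSheaf)) (liftSieve M s)
        (liftSieve_mem hX hqs hN hU hcov M s)
  obtain ⟨y, hy, -⟩ := hF (fun W k hk => appL (cι M c hk.choose) W hk.choose_spec.choose) (by
    intro W₁ W₂ Z g₁ g₂ k₁ k₂ h₁ h₂ e
    show res c.pt g₁ _ = res c.pt g₂ _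
    rw [res_appL, res_appL]
    refine cι_indep hX hqs hN hU hcov M c _ _ ?_
    rw [← res_appL, ← res_appL, h₁.choose_spec.choose_spec, h₂.choose_spec.choose_spec, ← res_comp, ← res_comp, e])
  refine ⟨y, fun W k A t ht => ?_⟩
  have hk : liftSieve M s k := ⟨A, t, ht⟩
  exact (hy k hk).trans
    (cι_indep hX hqs hN hU hcov M c _ _ (hk.choose_spec.choose_spec.trans ht.symm))

include hX hqs hN hU hcov in
theorem exists_desc : ∃ m : M ⟶ c.pt, ∀ (E : EtOver X) (s : sectModEt M E), IsVal M c s (appL m E s) := by
  choose v hv using fun (E : EtOver X) (s : sectModEt M E) => exists_isVal hX hqs hN hU hcov M c s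
  have hnat : ∀ {E E' : EtOver X} (g : E' ⟶ E) (s : sectModEt M E), v E' (res M g s) = res c.pt g (v E s) :=
    fun g s => isVal_unique hX hqs hN hU hcov M c (hv _ _) fun W k A t ht => by
      rw [← res_comp]
      exact hv _ s W (k ≫ g) A t (ht.trans (res_comp M k g s).symm)
  have hadd : ∀ {E : EtOver X} (s s' : sectModEt M E), v E (s + s') = v E s + v E s' := fun {E} s s' => by
    refine sub_eq_zero.1 (Gen.eq_zero_of_local c.pt _
      ((etTop X).intersection_covering (liftSieve_mem hX hqs hN hU hcov M s)
        (liftSieve_mem hX hqs hN hU hcov M s')) fun W k hk => ?_)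
    obtain ⟨⟨A, t, ht⟩, B, t', ht'⟩ := hk
    haveI := isFiltered hX hqs hN hU hcov M
    let f := IsFiltered.leftToMax A B
    let g := IsFiltered.rightToMax A B
    have e1 : appL (IsFiltered.max A B).obj.obj.hom W (appL f.hom.hom.left W t) = res M k s := by
      rw [appL_appL, Over.w f.hom.hom, ← ht]
    have e2 : appL (IsFiltered.max A B).obj.obj.hom W (appL g.hom.hom.left W t') = res M k s' := by
      rw [appL_appL, Over.w g.hom.hom, ← ht']
    change res c.pt k (v E (s + s') - (v E s + v E s')) = 0
    rw [map_sub, map_add, hv E s W k _ _ e1, hv E s' W k _ _ e2,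
      hv E (s + s') W k _ _ ((map_add _ _ _).trans ((congrArg₂ (· + ·) e1 e2).trans (map_add _ s s').symm)),
      map_add, sub_self]
  have hsmul : ∀ {E : EtOver X} (r : Fn E) (s : sectModEt M E), v E (r • s) = r • v E s := fun {E} r s => by
    refine sub_eq_zero.1 (Gen.eq_zero_of_local c.pt _ (liftSieve_mem hX hqs hN hU hcov M s) fun W k hk => ?_)
    obtain ⟨A, t, ht⟩ := hk
    change res c.pt k (v E (r • s) - r • v E s) = 0
    rw [map_sub, res_smul, hv E s W k A t ht,
      hv E (r • s) W k A (rmap k r • t) (by rw [map_smul, ht, res_smul]), map_smul, sub_self]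
  refine ⟨⟨PresheafOfModules.homMk
    { app := fun E => AddCommGrpCat.ofHom (AddMonoidHom.mk' (v E.unop) fun a b => hadd a b)
      naturality := fun E E' g => by
        ext s
        exact hnat g.unop s } fun E r s => hsmul (E := E.unop) r.down s⟩, fun E s => hv E s⟩

end desc

include hX hqs hN hU hcov in
theorem nonempty_isColimit : Nonempty (IsColimit (tautCocone M)) := by
  choose m hm using fun c => exists_desc hX hqs hN hU hcov M c
  refine ⟨{ desc := m, fac := fun c A => ?_, uniq := fun c f hf => ?_ }⟩
  · refine SheafOfModules.hom_ext (PresheafOfModules.hom_ext fun E => ModuleCat.hom_ext (LinearMap.ext fun t => ?_))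
    show appL (m c) E.unop (appL A.obj.obj.hom E.unop t) = appL (cι M c A) E.unop t
    have := hm c E.unop (appL A.obj.obj.hom E.unop t) E.unop (𝟙 _) A t (res_id M _ _).symm
    rwa [res_id] at this
  · refine SheafOfModules.hom_ext (PresheafOfModules.hom_ext fun E => ModuleCat.hom_ext (LinearMap.ext fun s => ?_))
    refine isVal_unique hX hqs hN hU hcov M c (y := appL f E.unop s) (fun W k A t ht => ?_) (hm c _ s)
    refine (res_appL f k s).trans ((congrArg (appL f W) ht.symm).trans ?_)
    refine (appL_appL A.obj.obj.hom f W t).trans ?_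
    exact congrArg (fun h : A.obj.obj.left ⟶ c.pt => appL h W t) (hf A)

end Groth.Agent.AlgSpWA.CohUnion
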