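import Groth.Agent.QCPull13.Space
import Groth.Agent.QCart13.QC
import Groth.Agent.QCart13.Crit

/-!
# The sections of a pullback of a quasi-coherent module over a base change of an affine object
-/

set_option autoImplicit false
set_option linter.style.haveILetI false
set_option backward.isDefEq.respectTransparency false
set_option backward.isDefEq.respectTransparency.types false

noncomputable section

universe u

open CategoryTheory CategoryTheory.Limits AlgebraicGeometry Opposite AlgSp TensorProduct
open Groth.Agent.QCart13 Groth.Agent.QCPull13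

namespace Groth.Agent.AlgSpWA

variable {S : Scheme.{u}} {X Y : Sp S}

set_option maxHeartbeats 1000000 in
/-- Over an affine object the sections of a module with a free presentation are the quotient of the free module. -/
theorem sections_of_free {E : EtOver X} {M : ModEt X} {I J : Type (u + 1)} {G : ModEtOn E}
    (φ : SheafOfModules.free (R := OEtOn E) I ⟶ M.over E) [Epi φ] (p : SheafOfModules.free J ⟶ G) [Epi p]
    (κ : G ⟶ SheafOfModules.free (R := OEtOn E) I) (hκ : (p ≫ κ) ≫ φ = 0)
    (hlift : ∀ T x, appOn φ T x = 0 → ∃ y, appOn κ T y = x) (T₀ : Over E) (hT₀ : Aff T₀.left)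
    (r : J → I →₀ Fn T₀.left) (hr : ∀ j, eL T₀ (r j) = gen (p ≫ κ) T₀ j) :
    let l := Finsupp.linearCombination (Fn T₀.left) fun i => toSect M T₀ (gen φ T₀ i)
    Function.Surjective l ∧ LinearMap.ker l = Submodule.span (Fn T₀.left) (Set.range r) := by
  let g : I → sectModEt M T₀.left := fun i => toSect M T₀ (gen φ T₀ i)
  let L : (M.over E).val.obj (op T₀) →ₗ[Fn T₀.left] sectModEt M T₀.left :=
    { toFun := toSect M T₀, map_add' := map_add _, map_smul' := toSect_smul M T₀ }
  let K : Submodule (Fn T₀.left) (I →₀ Fn T₀.left) := Submodule.span (Fn T₀.left) (Set.range r)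
  have hK : K ≤ LinearMap.ker (Finsupp.linearCombination (Fn T₀.left) g) :=
    Submodule.span_le.2 (by
      rintro _ ⟨j, rfl⟩
      exact (Finsupp.apply_linearCombination (Fn T₀.left) L (gen φ T₀) (r j)).symm.trans
        ((congrArg L (linearCombination_gen_eq_zero (ψ := p ≫ κ) (φ := φ) hκ T₀ j (r j) (hr j))).trans (map_zero L)))
  have hg : ∀ T : Over T₀.left, (fun i => res M T.hom (g i)) = fun i => toSect' M T₀ T (gen φ (cmp T₀ T) i) :=
    fun T => funext fun i => (res_toSect M (cmpHom T₀ T) (gen φ T₀ i)).trans (congrArg _ (mres_gen φ (cmpHom T₀ T) i))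
  suffices h : Function.Bijective (K.liftQ _ hK) by
    refine ⟨fun y => ?_, le_antisymm (fun v hv => ?_) hK⟩
    · obtain ⟨x, hx⟩ := h.2 y
      obtain ⟨v, rfl⟩ := K.mkQ_surjective x
      exact ⟨v, hx⟩
    · exact (Submodule.Quotient.mk_eq_zero K).1 (h.1 ((K.liftQ_apply _ v).trans (hv.trans (map_zero _).symm)))
  refine bijective_of_locally (M := M) (ι := K.liftQ _ hK) hT₀ (fun T hT z hz => ?_) (fun T hT s => ?_)
  · obtain ⟨v, rfl⟩ := psi_surjective K T z
    rw [theta_psi, hg, ← toSect'_linearCombination] at hz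
    obtain ⟨R, hR, h⟩ := relation_local φ p κ hlift r hr (cmp T₀ T) v
      ((toSect_bijective M (cmp T₀ T)).1 (hz.trans (map_zero _).symm))
    have hR' := (GrothendieckTopology.mem_over_iff _ _).1 hR
    refine ⟨_, hR', fun T' f _ hf => ?_⟩
    obtain ⟨w, hw⟩ := h (cmp T₀ T') (cmpMap T₀ f) (cmpHom T₀ T') (sieve_over R (cmpMap T₀ f) hf)
    rw [rTensor_psi]
    refine (congrArg (psi K T') hw).trans ?_
    refine (Finsupp.apply_linearCombination (Fn T'.left) (psi K T') _ w).trans ?_
    refine (Finsupp.linearCombination_apply _ _).trans (Finset.sum_eq_zero fun j _ => ?_)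
    change (show Fn T'.left from w j) • psi K T' ((r j).mapRange (rmap T'.hom) (map_zero _)) = 0
    rw [psi_mapRange, show K.mkQ (r j) = 0 from (Submodule.Quotient.mk_eq_zero _).2 (Submodule.subset_span ⟨j, rfl⟩),
      TensorProduct.tmul_zero, smul_zero]
  · obtain ⟨x, hx⟩ := (toSect_bijective M (cmp T₀ T)).2 s
    obtain ⟨R, hR, h⟩ := generation_local φ (cmp T₀ T) x
    have hR' := (GrothendieckTopology.mem_over_iff _ _).1 hR
    refine ⟨_, hR', fun T' f _ hf => ?_⟩
    obtain ⟨v, hv⟩ := h (cmp T₀ T') (cmpMap T₀ f) (sieve_over R (cmpMap T₀ f) hf)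
    refine ⟨psi K T' v, ?_⟩
    rw [theta_psi, hg, ← toSect'_linearCombination, ← hx]
    exact (congrArg (toSect' M T₀ T') hv).trans (res_toSect M (cmpMap T₀ f) x).symm

/-- Sections on a slice are determined by the value at the final object. -/
theorem sections_ext_top {E : EtOver X} {F : ModEtOn E} {s t : F.sections}
    (h : s.eval (op (Over.mk (𝟙 E))) = t.eval (op (Over.mk (𝟙 E)))) : s = t := by
  refine Subtype.ext (funext fun T => ?_)
  let k : T.unop ⟶ Over.mk (𝟙 E) := Over.homMk T.unop.hom (Category.comp_id _)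
  exact (PresheafOfModules.sections_property s k.op).symm.trans
    ((congrArg _ h).trans (PresheafOfModules.sections_property t k.op))

section universal

variable {C : Type*} [Category C] {D : Type*} [Category D]
  {J : GrothendieckTopology C} {K : GrothendieckTopology D} {F : C ⥤ D}
  {R₀ : Sheaf J RingCat.{u}} {R : Sheaf K RingCat.{u}}
  [Functor.IsContinuous F J K]
  [HasSheafify J AddCommGrpCat.{u}] [J.WEqualsLocallyBijective AddCommGrpCat.{u}]
  [HasSheafify K AddCommGrpCat.{u}] [K.WEqualsLocallyBijective AddCommGrpCat.{u}]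
  (φ : R₀ ⟶ (F.sheafPushforwardContinuous RingCat.{u} J K).obj R)

/-- A presentation passes along a universal arrow to a direct image, with control of its two maps. -/
theorem exists_presentation_of_universal [F.Final] {N : SheafOfModules.{u} R₀} {I P : Type u}
    {K₀ : SheafOfModules.{u} R₀} (a : SheafOfModules.free (R := R₀) I ⟶ N) [Epi a]
    (q : SheafOfModules.free (R := R₀) P ⟶ K₀) [Epi q]
    (κ : K₀ ⟶ SheafOfModules.free (R := R₀) I) (hκ : κ ≫ a = 0)
    (hker : IsColimit (CokernelCofork.ofπ a hκ))
    {L : SheafOfModules.{u} R} (η : N ⟶ (SheafOfModules.pushforward.{u} φ).obj L)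
    (hη : ∀ M : SheafOfModules.{u} R, Function.Bijective fun g : L ⟶ M =>
      η ≫ (SheafOfModules.pushforward.{u} φ).map g) :
    ∃ (π : SheafOfModules.free (R := R) I ⟶ L)
      (ψ : SheafOfModules.free (R := R) P ⟶ SheafOfModules.free (R := R) I) (zero : ψ ≫ π = 0),
      Epi π ∧ Epi (kernel.lift π ψ zero) ∧
        freeUnit φ I ≫ (SheafOfModules.pushforward.{u} φ).map π = a ≫ η ∧
        freeUnit φ P ≫ (SheafOfModules.pushforward.{u} φ).map ψ = (q ≫ κ) ≫ freeUnit φ I := by
  let T := SheafOfModules.pushforward.{u} φ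
  haveI : T.Additive := ⟨fun {_ _ _ _} => rfl⟩
  obtain ⟨π, hπ⟩ := (bijective_freeUnit φ I L).2 (a ≫ η)
  obtain ⟨ψ, hψ⟩ := (bijective_freeUnit φ P (SheafOfModules.free (R := R) I)).2 ((q ≫ κ) ≫ freeUnit φ I)
  dsimp only at hπ hψ
  have key : ∀ {M : SheafOfModules.{u} R} (y : SheafOfModules.free (R := R) I ⟶ M),
      freeUnit φ P ≫ T.map (ψ ≫ y) = (q ≫ κ) ≫ (freeUnit φ I ≫ T.map y) := by
    intro M y
    rw [T.map_comp, ← Category.assoc, hψ, Category.assoc]
  have zero : ψ ≫ π = 0 := by
    apply (bijective_freeUnit φ P L).1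
    dsimp only
    rw [key π, hπ, Category.assoc, ← Category.assoc κ, hκ, zero_comp, comp_zero, Functor.map_zero, comp_zero]
  haveI : Epi π := ⟨fun {M} b c hbc => (hη M).1 ((cancel_epi a).1 (by
    have := congrArg (fun y => freeUnit φ I ≫ T.map y) hbc
    simp only [T.map_comp] at this
    rw [← Category.assoc, hπ, Category.assoc] at this
    rw [← Category.assoc (freeUnit φ I), hπ, Category.assoc] at this
    exact this))⟩
  have fac : ∀ {M : SheafOfModules.{u} R} (y : SheafOfModules.free (R := R) I ⟶ M),
      ψ ≫ y = 0 → ∃ g : L ⟶ M, π ≫ g = y := by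
    intro M y hy
    have h0 : (q ≫ κ) ≫ (freeUnit φ I ≫ T.map y) = 0 := by
      rw [← key y, hy, Functor.map_zero, comp_zero]
    have h1 : κ ≫ (freeUnit φ I ≫ T.map y) = 0 := by
      rw [← cancel_epi q, comp_zero, ← Category.assoc]
      exact h0
    obtain ⟨g, hg⟩ := (hη M).2 (hker.desc (CokernelCofork.ofπ _ h1))
    refine ⟨g, (bijective_freeUnit φ I M).1 ?_⟩
    dsimp only at hg ⊢
    rw [Functor.map_comp, reassoc_of% hπ, hg]
    exact hker.fac (CokernelCofork.ofπ _ h1) WalkingParallelPair.one
  let hcok : IsColimit (CokernelCofork.ofπ π zero) :=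
    CokernelCofork.IsColimit.ofπ π zero (fun y hy => (fac y hy).choose)
      (fun y hy => (fac y hy).choose_spec)
      (fun y hy m hm => (cancel_epi π).1 (hm.trans (fac y hy).choose_spec.symm))
  exact ⟨π, ψ, zero, inferInstance,
    (ShortComplex.exact_of_g_is_cokernel (ShortComplex.mk ψ π zero) hcok).epi_kernelLift, hπ, hψ⟩

/-- The tautological map sends basis sections to basis sections. -/
theorem freeUnit_app (I : Type u) (i : I) (W : C) :
    (freeUnit φ I).val.app (op W) ((SheafOfModules.freeSection (R := R₀) i).eval (op W)) =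
      (SheafOfModules.freeSection (R := R) i).eval (op (F.obj W)) := by
  have h : SheafOfModules.freeHomEquiv _ (freeUnit φ I) i =
      SheafOfModules.pushforwardSections φ (SheafOfModules.freeSection i) := by
    unfold freeUnit
    rw [Equiv.apply_symm_apply]
  rw [SheafOfModules.freeHomEquiv_apply] at h
  exact congrArg (fun s => PresheafOfModules.sections.eval s (op W)) h

end universal

variable {f : X ⟶ Y} (hf : Representable f)
  [(SheafOfModules.pushforward.{u + 1} (bcRingHom hf)).IsRightAdjoint]

/-- Pullback of functions along the projection from the base change. -/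
def bcFn (E : EtOver Y) : Fn E →+* Fn (EtOver.bcObj hf E) := (EtOver.bcπ hf E).left.appTop.hom

/-- The unit of the pullback on the sections over an object. -/
def unitSect (G : ModEt Y) (E : EtOver Y) :
    sectModEt G E →+ sectModEt ((pullModEt hf).obj G) (EtOver.bcObj hf E) where
  toFun x := ((pullPushAdjModEt hf).unit.app G).val.app (op E) x
  map_zero' := map_zero _
  map_add' := map_add _

theorem unitSect_smul (G : ModEt Y) (E : EtOver Y) (a : Fn E) (x : sectModEt G E) :
    unitSect hf G E (a • x) = bcFn hf E a • unitSect hf G E x :=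
  (((pullPushAdjModEt hf).unit.app G).val.app (op E)).hom.map_smul (upΓ E a) x

/-- The unit as a linear map. -/
def unitSectL (G : ModEt Y) (E : EtOver Y) :
    letI := (bcFn hf E).toAlgebra
    letI : Module (Fn E) (sectModEt ((pullModEt hf).obj G) (EtOver.bcObj hf E)) := Module.compHom _ (bcFn hf E)
    sectModEt G E →ₗ[Fn E] sectModEt ((pullModEt hf).obj G) (EtOver.bcObj hf E) :=
  letI := (bcFn hf E).toAlgebra
  letI : Module (Fn E) (sectModEt ((pullModEt hf).obj G) (EtOver.bcObj hf E)) := Module.compHom _ (bcFn hf E)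
  { toFun := unitSect hf G E
    map_add' := map_add _
    map_smul' := unitSect_smul hf G E }

/-- The final object of the slice over an object. -/
abbrev top₁ (E : EtOver Y) : Over E := Over.mk (𝟙 E)

/-- The base change of the final object of the slice. -/
abbrev top₂ (E : EtOver Y) : Over ((EtOver.bc hf).obj E) :=
  (Over.post (X := E) (EtOver.bc hf)).obj (top₁ E)

/-- The tautological map of free modules on the final object of a slice, as an additive map. -/
def freeUnitTop (E : EtOver Y) [Functor.IsContinuous (Over.post (X := E) (EtOver.bc hf)) ((etTop Y).over E)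
    ((etTop X).over ((EtOver.bc hf).obj E))] (I : Type (u + 1)) :
    (SheafOfModules.free (R := OEtOn E) I : ModEtOn E).val.obj (op (top₁ E)) →+
      (SheafOfModules.free (R := OEtOn ((EtOver.bc hf).obj E)) I :
        ModEtOn ((EtOver.bc hf).obj E)).val.obj (op (top₂ hf E)) where
  toFun x := (freeUnit (sliceHom (bcRingHom hf) E) I).val.app (op (top₁ E)) x
  map_zero' := map_zero _
  map_add' := map_add _

set_option maxHeartbeats 1000000 in
theorem freeUnitTop_smul (E : EtOver Y) [Functor.IsContinuous (Over.post (X := E) (EtOver.bc hf)) ((etTop Y).over E)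
    ((etTop X).over ((EtOver.bc hf).obj E))] (I : Type (u + 1)) (a : Fn (top₁ E).left)
    (x : (SheafOfModules.free (R := OEtOn E) I : ModEtOn E).val.obj (op (top₁ E))) :
    freeUnitTop hf E I (a • x) = (show Fn (top₂ hf E).left from bcFn hf E a) • freeUnitTop hf E I x :=
  ((freeUnit (sliceHom (bcRingHom hf) E) I).val.app (op (top₁ E))).hom.map_smul (upΓ E a) x

set_option maxHeartbeats 1000000 in
theorem freeUnitTop_eL (E : EtOver Y) [Functor.IsContinuous (Over.post (X := E) (EtOver.bc hf)) ((etTop Y).over E)
    ((etTop X).over ((EtOver.bc hf).obj E))] (I : Type (u + 1)) (v : I →₀ Fn E) :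
    freeUnitTop hf E I (eL (top₁ E) v) = eL (top₂ hf E) (v.mapRange (bcFn hf E) (map_zero _)) := by
  induction v using Finsupp.induction_linear with
  | zero => simp
  | add a b ha hb =>
    exact ((congrArg (freeUnitTop hf E I) ((eL (top₁ E)).map_add a b)).trans
      ((freeUnitTop hf E I).map_add _ _)).trans
      ((congrArg₂ (· + ·) ha hb).trans (((eL (top₂ hf E)).map_add _ _).symm.trans
        (congrArg (eL (top₂ hf E)) (Finsupp.mapRange_add (map_add (bcFn hf E)) a b).symm)))
  | single i a =>
    refine Eq.trans ?_ (congrArg (eL (top₂ hf E)) (Finsupp.mapRange_single (hf := map_zero (bcFn hf E))).symm)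
    refine (congrArg (freeUnitTop hf E I) (Finsupp.linearCombination_single (Fn (top₁ E).left) a i)).trans ?_
    refine (freeUnitTop_smul hf E I a _).trans ?_
    refine (congrArg _ (freeUnit_app (sliceHom (bcRingHom hf) E) I i (top₁ E))).trans ?_
    exact (Finsupp.linearCombination_single (Fn (top₂ hf E).left)
      (v := fun i => (SheafOfModules.freeSection (R := OEtOn ((EtOver.bc hf).obj E)) i).eval (op (top₂ hf E)))
      (show Fn (top₂ hf E).left from bcFn hf E a) i).symm

set_option maxHeartbeats 1000000 in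
theorem sections_pullback (G : ModEt Y) [G.IsQuasicoherent] (E : EtOver Y) (hE : Aff E)
    (hW : Aff (EtOver.bcObj hf E)) :
    let l := Finsupp.linearCombination (Fn (EtOver.bcObj hf E)) (unitSect hf G E)
    Function.Surjective l ∧ LinearMap.ker l = Submodule.span (Fn (EtOver.bcObj hf E))
      (Set.range fun r : LinearMap.ker (allL G (E := E)) => r.1.mapRange (bcFn hf E) (map_zero _)) := by
  haveI := isContinuous_overPost_bc hf E
  haveI := isIso_prodComparison_bc hf E
  haveI := QCPull13.final_overPost (EtOver.bc hf) E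
  have hc : Cart G E := cart_of_isQuasicoherent G hE
  let W := (EtOver.bc hf).obj E
  let T₀ : Over W := (Over.post (X := E) (EtOver.bc hf)).obj (Over.mk (𝟙 E))
  let I := sectModEt G E
  let J := LinearMap.ker (allL G (E := E))
  let L : ModEtOn W := ((pullModEt hf).obj G).over W
  haveI : Epi (allπ G (E := E)) := epi_of_local _ fun T hT x => allπ_surjective G hc T hT x
  haveI := epi_allRel G hc
  obtain ⟨π, ψ, zero, hπe, hle, hπ, hψ⟩ := exists_presentation_of_universal (sliceHom (bcRingHom hf) E)
    (allπ G (E := E))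
    ((SheafOfModules.freeHomEquiv (kernel (allπ G (E := E)))).symm
      fun r : J => secTop (kernel (allπ G (E := E))) (allRel G r))
    (kernel.ι (allπ G (E := E))) (kernel.condition _)
    (Abelian.epiIsCokernelOfKernel (KernelFork.ofι _ (kernel.condition _)) (kernelIsKernel (allπ G (E := E))))
    (sliceUnit (bcRingHom hf) E G) (bijective_sliceUnit (bcRingHom hf) E G)
  let E₁ : Over E := Over.mk (𝟙 E)
  have hval : ∀ {Z : ModEtOn W} (z : SheafOfModules.free (R := OEtOn W) I ⟶ Z) (m : I),
      ((freeUnit (sliceHom (bcRingHom hf) E) I ≫ (SheafOfModules.pushforward (sliceHom (bcRingHom hf) E)).map z).val.app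
        (op E₁)) ((SheafOfModules.freeSection (R := OEtOn E) m).eval (op E₁)) = gen z T₀ m := fun z m =>
    congrArg (fun w => z.val.app (op T₀) w) (freeUnit_app (sliceHom (bcRingHom hf) E) I m E₁)
  have hgπ : ∀ m : I, toSect ((pullModEt hf).obj G) T₀ (gen π T₀ m) = unitSect hf G E m := fun m => by
    rw [← hval π m, hπ]
    exact congrArg (fun w : sectModEt G E => unitSect hf G E w)
      ((gen_allπ G E₁ m).trans (res_id G E m))
  have hval' : ∀ j : J, ((freeUnit (sliceHom (bcRingHom hf) E) J ≫
      (SheafOfModules.pushforward (sliceHom (bcRingHom hf) E)).map ψ).val.app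
        (op E₁)) ((SheafOfModules.freeSection (R := OEtOn E) j).eval (op E₁)) = gen ψ T₀ j := fun j =>
    congrArg (fun w => ψ.val.app (op T₀) w) (freeUnit_app (sliceHom (bcRingHom hf) E) J j E₁)
  have hr : ∀ j : J, eL T₀ (j.1.mapRange (bcFn hf E) (map_zero _)) =
      gen (kernel.lift π ψ zero ≫ kernel.ι π) T₀ j := fun j => by
    rw [kernel.lift_ι, ← hval' j, hψ]
    refine (freeUnitTop_eL hf E I j.1).symm.trans ?_
    refine congrArg (fun w => (freeUnit (sliceHom (bcRingHom hf) E) I).val.app (op E₁) w) ?_
    refine (allRel_spec G j).symm.trans (congrArg (appOn (kernel.ι (allπ G (E := E))) E₁) ?_)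
    refine Eq.trans ?_ (gen_freeHomEquiv_symm (fun r : J => secTop (kernel (allπ G (E := E))) (allRel G r)) E₁ j).symm
    exact (ConcreteCategory.congr_hom ((kernel (allπ G (E := E))).val.presheaf.map_id (op E₁)) _).symm
  have main := sections_of_free π (kernel.lift π ψ zero) (kernel.ι π) (by rw [kernel.lift_ι, zero])
    (exists_kernel_sectionOn π) T₀ hW _ hr
  have hfun : (fun i => toSect ((pullModEt hf).obj G) T₀ (gen π T₀ i)) = fun m => unitSect hf G E m := funext hgπ
  rw [hfun] at main
  exact main

end Groth.Agent.AlgSpWA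

end
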