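import Groth.Agent.AlgSpWA.CoherentB
import Groth.Agent.AlgSpWA.PullSections
import Mathlib.RingTheory.Finiteness.ModuleFinitePresentation

/-!
# Finite type and finite presentation through sections on affine objects; finite direct images
-/

set_option autoImplicit false
set_option linter.style.haveILetI false
set_option backward.isDefEq.respectTransparency false
set_option backward.isDefEq.respectTransparency.types false

noncomputable section

universe u v w

open CategoryTheory CategoryTheory.Limits AlgebraicGeometry Opposite AlgSp TensorProduct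
open Groth.Agent.QCart13

namespace Groth.Agent.AlgSpWA

section algebra

variable {A : Type u} [CommRing A] {κ : Type} [Finite κ] {C : κ → Type u} [∀ k, CommRing (C k)]
  [∀ k, Algebra A (C k)] [∀ k, Module.Flat A (C k)]

theorem finite_of_jointlySurj (hC : JointlySurj C A) (P : Type v) [AddCommGroup P] [Module A P]
    (h : ∀ k, Module.Finite (C k) (C k ⊗[A] P)) : Module.Finite A P := by
  classical
  have key : ∀ k (z : C k ⊗[A] P), ∃ s : Finset P,
      z ∈ Submodule.span (C k) ((fun p => (1 : C k) ⊗ₜ[A] p) '' s) := fun k z => by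
    induction z using TensorProduct.induction_on with
    | zero => exact ⟨∅, Submodule.zero_mem _⟩
    | tmul c p =>
      refine ⟨{p}, ?_⟩
      rw [show c ⊗ₜ[A] p = c • ((1 : C k) ⊗ₜ[A] p) by rw [TensorProduct.smul_tmul', smul_eq_mul, mul_one]]
      exact Submodule.smul_mem _ c (Submodule.subset_span ⟨p, by simp, rfl⟩)
    | add x y hx hy =>
      obtain ⟨s, hs⟩ := hx
      obtain ⟨t, ht⟩ := hy
      exact ⟨s ∪ t, add_mem (Submodule.span_mono (Set.image_mono (by simp)) hs)
        (Submodule.span_mono (Set.image_mono (by simp)) ht)⟩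
  choose s hs using key
  choose B hB using fun k => (h k).fg_top
  haveI := Fintype.ofFinite κ
  let N : Submodule A P := Submodule.span A ↑(Finset.univ.biUnion fun k => (B k).biUnion (s k))
  refine ⟨⟨Finset.univ.biUnion fun k => (B k).biUnion (s k), eq_top_iff.2 fun p _ => ?_⟩⟩
  change p ∈ N
  rw [← Submodule.Quotient.mk_eq_zero]
  refine eq_zero_of_forall_tmul hC _ fun k => ?_
  have hle : Submodule.span (C k) (B k : Set (C k ⊗[A] P)) ≤ LinearMap.ker (N.mkQ.baseChange (C k)) :=
    Submodule.span_le.2 fun b hb => (Submodule.span_le.2 (by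
      rintro _ ⟨q, hq, rfl⟩
      rw [SetLike.mem_coe, LinearMap.mem_ker, LinearMap.baseChange_tmul, Submodule.mkQ_apply,
        (Submodule.Quotient.mk_eq_zero N).2 (Submodule.subset_span ?_), tmul_zero]
      exact Finset.mem_coe.2 (Finset.mem_biUnion.2
        ⟨k, Finset.mem_univ k, Finset.mem_biUnion.2 ⟨b, hb, hq⟩⟩))) (hs k b)
  exact hle ((hB k).ge (Submodule.mem_top (x := (1 : C k) ⊗ₜ[A] p)))

theorem finitePresentation_of_jointlySurj (hC : JointlySurj C A) (M : Type v) [AddCommGroup M] [Module A M]
    (h : ∀ k, Module.FinitePresentation (C k) (C k ⊗[A] M)) : Module.FinitePresentation A M := by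
  haveI := finite_of_jointlySurj hC M fun k => haveI := h k; inferInstance
  obtain ⟨n, l, hl⟩ := Module.Finite.exists_fin' A M
  refine Module.finitePresentation_of_surjective l hl ?_
  rw [← Module.Finite.iff_fg]
  refine finite_of_jointlySurj hC _ fun k => ?_
  haveI := h k
  let j : C k ⊗[A] LinearMap.ker l →ₗ[C k] C k ⊗[A] (Fin n → A) := (LinearMap.ker l).subtype.baseChange (C k)
  have hj : Function.Injective j :=
    Module.Flat.lTensor_preserves_injective_linearMap _ (LinearMap.ker l).injective_subtype
  have hr : LinearMap.range j = LinearMap.ker (l.baseChange (C k)) := by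
    ext z
    exact ((lTensor_exact (C k) l.exact_subtype_ker_map hl) z).symm
  haveI : Module.Finite (C k) (LinearMap.range j) := by
    rw [hr]
    exact Module.Finite.of_fg (Module.FinitePresentation.fg_ker _ (LinearMap.lTensor_surjective (C k) hl))
  exact Module.Finite.equiv (LinearEquiv.ofInjective j hj).symm

/-- Over a finite algebra, finite presentation over the base gives finite presentation. -/
theorem finitePresentation_of_restrict {B : Type u} [CommRing B] [Algebra A B] [Module.Finite A B]
    (N : Type v) [AddCommGroup N] [Module A N] [Module B N] [IsScalarTower A B N]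
    [Module.FinitePresentation A N] : Module.FinitePresentation B N := by
  haveI : Module.Finite B N := Module.Finite.of_restrictScalars_finite A B N
  obtain ⟨n, l, hl⟩ := Module.Finite.exists_fin' B N
  refine Module.finitePresentation_of_surjective l hl ?_
  have : (LinearMap.ker (l.restrictScalars A)).FG := Module.FinitePresentation.fg_ker _ hl
  rw [LinearMap.ker_restrictScalars] at this
  exact Submodule.FG.of_restrictScalars A this

end algebra

variable {S : Scheme.{u}} {X : Sp S} {E : EtOver X} (M : ModEt X)

set_option maxHeartbeats 2000000 in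
theorem finitePresentation_of_presentation (P : (M.over E).Presentation) [Finite P.generators.I]
    [Finite P.relations.I] (T₀ : Over E) (hT₀ : Aff T₀.left) :
    Module.FinitePresentation (Fn T₀.left) (sectModEt M T₀.left) := by
  haveI : Epi P.generators.π := P.generators.epi
  haveI : Epi P.relations.π := P.relations.epi
  choose r hr using fun j => eL_surjective (I := P.generators.I) T₀ hT₀
    (gen (P.relations.π ≫ kernel.ι P.generators.π) T₀ j)
  have hκ : (P.relations.π ≫ kernel.ι P.generators.π) ≫ P.generators.π = 0 :=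
    (Category.assoc P.relations.π (kernel.ι P.generators.π) P.generators.π).trans
      ((congrArg (fun w => P.relations.π ≫ w) (kernel.condition P.generators.π)).trans comp_zero)
  have main := sections_of_free (M := M) (I := P.generators.I) (J := P.relations.I) P.generators.π P.relations.π
    (kernel.ι P.generators.π) hκ (exists_kernel_sectionOn P.generators.π) T₀ hT₀ r hr
  obtain ⟨hs, hk⟩ := main
  exact Module.finitePresentation_of_surjective (R := Fn T₀.left)
    (Finsupp.linearCombination (Fn T₀.left) fun i => toSect M T₀ (gen P.generators.π T₀ i)) hs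
    (Submodule.fg_def.2 ⟨_, Set.finite_range r, hk.symm⟩)

theorem finitePresentation_sect [M.IsFinitePresentation] (hE : Aff E) :
    Module.FinitePresentation (Fn E) (sectModEt M E) := by
  obtain ⟨σ, hσ⟩ := SheafOfModules.IsFinitePresentation.exists_quasicoherentData M
  obtain ⟨c, hc⟩ := QCart13.exists_cov hE (σ.coversTop E)
  have hcE : Cart M E := cart_of_isQuasicoherent M hE
  haveI : ∀ k, Module.Flat (Fn E) (Fn (c.T k).left) := fun k => flat_over hE (c.aff k)
  refine finitePresentation_of_jointlySurj (C := fun k => Fn (c.T k).left) (c.jointlySurj hE) _ fun k => ?_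
  haveI : Module.FinitePresentation (Fn (c.T k).left) (sectModEt M (c.T k).left) := by
    obtain ⟨i, ⟨g⟩⟩ := (Sieve.mem_ofObjects_iff _ _).1 (hc k)
    haveI hP := hσ.isFinite_presentation i
    haveI : Finite (σ.presentation i).generators.I := hP.isFiniteType_generators.finite
    haveI : Finite (σ.presentation i).relations.I := hP.isFiniteType_relations.finite
    exact finitePresentation_of_presentation M (σ.presentation i) (Over.mk g) (c.aff k)
  exact Module.FinitePresentation.of_equiv ((isBC_iff M (c.T k)).1 (hcE _ (c.T k).hom (c.aff k))).equiv.symm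

theorem exists_finite_presentation_of_fp (hc : Cart M E) [Module.FinitePresentation (Fn E) (sectModEt M E)] :
    ∃ P : (M.over E).Presentation, P.IsFinite := by
  obtain ⟨n, m, hm⟩ := Module.Finite.exists_fin (R := Fn E) (M := sectModEt M E)
  let m' : ULift.{u + 1, 0} (Fin n) → sectModEt M E := fun i => m i.down
  have hm' : Function.Surjective (Finsupp.linearCombination (Fn E) m') := by
    rw [← LinearMap.range_eq_top, Finsupp.range_linearCombination]
    rw [eq_top_iff, ← hm]
    refine Submodule.span_mono ?_
    rintro _ ⟨i, rfl⟩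
    exact ⟨⟨i⟩, rfl⟩
  obtain ⟨k, r, hr⟩ := Submodule.fg_iff_exists_fin_generating_family.1
    (Module.FinitePresentation.fg_ker _ hm')
  let r' : ULift.{u + 1, 0} (Fin k) → ULift.{u + 1, 0} (Fin n) →₀ Fn E := fun j => r j.down
  have hr' : Submodule.span (Fn E) (Set.range r') = LinearMap.ker (Finsupp.linearCombination (Fn E) m') := by
    rw [← hr]
    refine congrArg _ (Set.ext fun x => ⟨fun ⟨j, hj⟩ => ⟨j.down, hj⟩, fun ⟨j, hj⟩ => ⟨⟨j⟩, hj⟩⟩)
  obtain ⟨P, hI, hJ⟩ := exists_presentation M m' hc hm' r' hr'
  have h1 : Finite P.generators.I := by rw [hI]; infer_instance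
  have h2 : Finite P.relations.I := by rw [hJ]; infer_instance
  exact ⟨P, { isFiniteType_generators := ⟨h1⟩, isFiniteType_relations := ⟨h2⟩ }⟩

theorem exists_finite_generators (hc : Cart M E) [Module.Finite (Fn E) (sectModEt M E)] :
    ∃ σ : (M.over E).GeneratingSections, σ.IsFiniteType := by
  obtain ⟨n, m, hm⟩ := Module.Finite.exists_fin (R := Fn E) (M := sectModEt M E)
  let m' : ULift.{u + 1, 0} (Fin n) → sectModEt M E := fun i => m i.down
  have hm' : Function.Surjective (Finsupp.linearCombination (Fn E) m') := by
    rw [← LinearMap.range_eq_top, Finsupp.range_linearCombination]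
    rw [eq_top_iff, ← hm]
    refine Submodule.span_mono ?_
    rintro _ ⟨i, rfl⟩
    exact ⟨⟨i⟩, rfl⟩
  exact ⟨{ I := ULift.{u + 1, 0} (Fin n), s := fun i => secOf M (m' i),
           epi := epi_of_local (secπ M m') (secπ_surjective M m' hc hm') }, { finite := inferInstance }⟩

/-- Affine objects mapped onto by a covering family give a covering of the site. -/
theorem coversTop_of_points {I : Type*} (W : I → EtOver X)
    (h : ∀ x : Points X, ∃ i, x ∈ Set.range (Points.ofPt (W i).obj.hom)) : (etTop X).CoversTop W := by
  refine fun V => mem_etTop_of_exists _ fun v => ?_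
  obtain ⟨i, e, he⟩ := h (Points.ofPt V.obj.hom v)
  obtain ⟨Z, hZ, g, g', z, hz, -⟩ := exists_common V (W i) he.symm
  exact ⟨Z, g, (Sieve.mem_ofObjects_iff _ _).2 ⟨i, ⟨g'⟩⟩, z, hz⟩

theorem isFiniteType_of_finite [M.IsQuasicoherent] {I : Type (u + 1)} (W : I → EtOver X) (hW : ∀ i, Aff (W i))
    (hcov : ∀ x : Points X, ∃ i, x ∈ Set.range (Points.ofPt (W i).obj.hom))
    (h : ∀ i, Module.Finite (Fn (W i)) (sectModEt M (W i))) : M.IsFiniteType := by
  choose σ hσ using fun i => haveI := h i; exists_finite_generators M (cart_of_isQuasicoherent M (hW i))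
  let q : SheafOfModules.LocalGeneratorsData.{u + 1} M :=
    { I := I, X := W, coversTop := coversTop_of_points W hcov, generators := σ }
  haveI hq : q.IsFiniteType := { isFiniteType := fun i => hσ i }
  exact { exists_localGeneratorsData := ⟨q, hq⟩ }

theorem isFinitePresentation_of_fp [M.IsQuasicoherent] {I : Type (u + 1)} (W : I → EtOver X) (hW : ∀ i, Aff (W i))
    (hcov : ∀ x : Points X, ∃ i, x ∈ Set.range (Points.ofPt (W i).obj.hom))
    (h : ∀ i, Module.FinitePresentation (Fn (W i)) (sectModEt M (W i))) : M.IsFinitePresentation := by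
  choose P hP using fun i => haveI := h i; exists_finite_presentation_of_fp M (cart_of_isQuasicoherent M (hW i))
  let q : SheafOfModules.QuasicoherentData.{u + 1, u + 1, u, u + 1} M :=
    { I := I, X := W, coversTop := coversTop_of_points W hcov, presentation := P }
  haveI hq : q.IsFinitePresentation := { isFinite_presentation := fun i => hP i }
  exact { exists_quasicoherentData := ⟨q, hq⟩ }

section push

variable {Y : Sp S} {f : X ⟶ Y} (hf : Representable f)

theorem isQuasicoherent_push_affine (haff : IsAffineMor f) [M.IsQuasicoherent] :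
    ((pushModEt hf).obj M).IsQuasicoherent :=
  isQuasicoherent_of_cart _ fun E hE => by
    haveI : IsAffine E.obj.left.left := hE
    haveI : IsAffine ((EtOver.bc hf).obj E).obj.left.left := isAffine_bcObj hf haff E
    obtain ⟨c⟩ := QCPush13.nonempty_dcov (hrep := hf) (V := E)
    exact QCPush13.cart_push M hE c fun W hW => cart_of_isQuasicoherent M hW

theorem covers_bc (hY : IsAlgSpace Y) (x : Points X) : ∃ E : {E : EtOver Y // Aff E},
    x ∈ Set.range (Points.ofPt (EtOver.bcObj hf E.1).obj.hom) := by
  obtain ⟨E, hE, u, hu⟩ := exists_aff_over hY (Points.map f x)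
  obtain ⟨w, hw, -⟩ := exists_bc_point hf E u x hu.symm
  exact ⟨⟨E, hE⟩, w, hw⟩

variable (E₀ : EtOver Y)

/-- Functions on a base change as an algebra over the functions below. -/
abbrev bcAlg : Algebra (Fn E₀) (Fn (EtOver.bcObj hf E₀)) := (EtOver.bcπ hf E₀).left.appTop.hom.toAlgebra

/-- Sections over a base change as a module over the functions below. -/
abbrev bcMod : Module (Fn E₀) (sectModEt M (EtOver.bcObj hf E₀)) :=
  Module.compHom _ (EtOver.bcπ hf E₀).left.appTop.hom

/-- Sections of the direct image are the sections over the base change. -/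
def pushEquiv : letI := bcMod M hf E₀
    sectModEt M (EtOver.bcObj hf E₀) ≃ₗ[Fn E₀] sectModEt ((pushModEt hf).obj M) E₀ :=
  letI := bcMod M hf E₀
  { toFun := fun x => x
    invFun := fun x => x
    map_add' := fun _ _ => rfl
    map_smul' := fun _ _ => rfl
    left_inv := fun _ => rfl
    right_inv := fun _ => rfl }

end push

section finitePush

variable {Y : Sp S} {f : X ⟶ Y} (hf : Representable f)

theorem isFiniteType_push_iff (hY : IsAlgSpace Y) (hfin : IsFiniteMor f) [M.IsQuasicoherent] :
    M.IsFiniteType ↔ ((pushModEt hf).obj M).IsFiniteType := by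
  have haff := isAffineMor_of_isFiniteMor hfin
  haveI := isQuasicoherent_push_affine M hf haff
  have hW : ∀ E : {E : EtOver Y // Aff E}, Aff (EtOver.bcObj hf E.1) := fun E =>
    haveI : IsAffine E.1.obj.left.left := E.2
    isAffine_bcObj hf haff E.1
  have key : ∀ E : {E : EtOver Y // Aff E}, Module.Finite (Fn (EtOver.bcObj hf E.1))
      (sectModEt M (EtOver.bcObj hf E.1)) ↔ Module.Finite (Fn E.1) (sectModEt ((pushModEt hf).obj M) E.1) := fun E => by
    haveI : IsAffine E.1.obj.left.left := E.2
    letI := bcAlg hf E.1
    letI := bcMod M hf E.1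
    haveI : IsScalarTower (Fn E.1) (Fn (EtOver.bcObj hf E.1)) (sectModEt M (EtOver.bcObj hf E.1)) :=
      IsScalarTower.of_algebraMap_smul fun _ _ => rfl
    haveI : Module.Finite (Fn E.1) (Fn (EtOver.bcObj hf E.1)) := finite_bcπ hf hfin E.1
    refine ⟨fun h => ?_, fun h => ?_⟩
    · haveI := h
      haveI := Module.Finite.trans (R := Fn E.1) (Fn (EtOver.bcObj hf E.1)) (sectModEt M (EtOver.bcObj hf E.1))
      exact Module.Finite.equiv (pushEquiv M hf E.1)
    · haveI : Module.Finite (Fn E.1) (sectModEt M (EtOver.bcObj hf E.1)) :=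
        Module.Finite.equiv (pushEquiv M hf E.1).symm
      exact Module.Finite.of_restrictScalars_finite (Fn E.1) _ _
  refine ⟨fun h => isFiniteType_of_finite _ (fun E : {E : EtOver Y // Aff E} => E.1) (fun E => E.2)
    (fun y => ?_) fun E => (key E).1 (finite_sect M (hW E)),
    fun h => isFiniteType_of_finite M (fun E : {E : EtOver Y // Aff E} => EtOver.bcObj hf E.1) hW
      (covers_bc hf hY) fun E => (key E).2 (finite_sect _ E.2)⟩
  obtain ⟨E, hE, u, hu⟩ := exists_aff_over hY y
  exact ⟨⟨E, hE⟩, u, hu⟩

theorem isFinitePresentation_push_iff (hY : IsAlgSpace Y) (hfin : IsFiniteMor f)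
    (hlfp : LocP @LocallyOfFinitePresentation f) [M.IsQuasicoherent] :
    M.IsFinitePresentation ↔ ((pushModEt hf).obj M).IsFinitePresentation := by
  have haff := isAffineMor_of_isFiniteMor hfin
  haveI := isQuasicoherent_push_affine M hf haff
  have hW : ∀ E : {E : EtOver Y // Aff E}, Aff (EtOver.bcObj hf E.1) := fun E =>
    haveI : IsAffine E.1.obj.left.left := E.2
    isAffine_bcObj hf haff E.1
  have key : ∀ E : {E : EtOver Y // Aff E}, Module.FinitePresentation (Fn (EtOver.bcObj hf E.1))
      (sectModEt M (EtOver.bcObj hf E.1)) ↔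
        Module.FinitePresentation (Fn E.1) (sectModEt ((pushModEt hf).obj M) E.1) := fun E => by
    haveI : IsAffine E.1.obj.left.left := E.2
    haveI : IsAffine (EtOver.bcObj hf E.1).obj.left.left := hW E
    letI := bcAlg hf E.1
    letI := bcMod M hf E.1
    haveI : IsScalarTower (Fn E.1) (Fn (EtOver.bcObj hf E.1)) (sectModEt M (EtOver.bcObj hf E.1)) :=
      IsScalarTower.of_algebraMap_smul fun _ _ => rfl
    haveI : Module.Finite (Fn E.1) (Fn (EtOver.bcObj hf E.1)) := finite_bcπ hf hfin E.1
    haveI hl : LocallyOfFinitePresentation (EtOver.bcπ hf E.1).left :=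
      hlfp (EtOver.bcObj hf E.1).obj.hom E.1.obj.hom (EtOver.bcπ hf E.1) (EtOver.bcObj hf E.1).property
        E.1.property (EtOver.isPullback_bcObj hf E.1).w
    haveI : Algebra.FinitePresentation (Fn E.1) (Fn (EtOver.bcObj hf E.1)) :=
      HasRingHomProperty.appTop @LocallyOfFinitePresentation (EtOver.bcπ hf E.1).left hl
    haveI := Module.FinitePresentation.of_finite_of_finitePresentation (R := Fn E.1) (S := Fn (EtOver.bcObj hf E.1))
    refine ⟨fun h => ?_, fun h => ?_⟩
    · haveI := h
      haveI := Module.FinitePresentation.trans (Fn E.1) (sectModEt M (EtOver.bcObj hf E.1)) (Fn (EtOver.bcObj hf E.1))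
      exact Module.FinitePresentation.of_equiv (pushEquiv M hf E.1)
    · haveI : Module.FinitePresentation (Fn E.1) (sectModEt M (EtOver.bcObj hf E.1)) :=
        Module.FinitePresentation.of_equiv (pushEquiv M hf E.1).symm
      exact finitePresentation_of_restrict (A := Fn E.1) (sectModEt M (EtOver.bcObj hf E.1))
  refine ⟨fun h => isFinitePresentation_of_fp _ (fun E : {E : EtOver Y // Aff E} => E.1) (fun E => E.2)
    (fun y => ?_) fun E => (key E).1 (finitePresentation_sect M (hW E)),
    fun h => isFinitePresentation_of_fp M (fun E : {E : EtOver Y // Aff E} => EtOver.bcObj hf E.1) hW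
      (covers_bc hf hY) fun E => (key E).2 (finitePresentation_sect _ E.2)⟩
  obtain ⟨E, hE, u, hu⟩ := exists_aff_over hY y
  exact ⟨⟨E, hE⟩, u, hu⟩

end finitePush

end Groth.Agent.AlgSpWA

end
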