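import Groth.Agent.AlgSpWA.CoherentB
import Groth.Agent.AlgSpWA.Coherent
import Groth.Agent.AlgSpWA.FP
import Groth.Agent.QCart13.Local
import Groth.Agent.QCart13.Sub
import Groth.Agent.QCPush13.Geom
import Groth.Agent.AlgSpDec.LimDescent
import Groth.Agent.S10185

/-!
# Quasi-coherent modules on Noetherian algebraic spaces are unions of coherent submodules
-/

set_option autoImplicit false
set_option linter.style.haveILetI false
set_option backward.isDefEq.respectTransparency false
set_option backward.isDefEq.respectTransparency.types false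

noncomputable section

universe u

open CategoryTheory CategoryTheory.Limits AlgebraicGeometry Opposite AlgSp TensorProduct
open Groth.Agent.QCart13

namespace Groth.Agent.AlgSpWA.CohUnion

variable {S : Scheme.{u}} {X : Sp S} (M : ModEt X) {U : EtOver X} (P : Set (sectModEt M U))

/-- The span of the restrictions of a set of sections. -/
def spanAt {V : EtOver X} (b : V ⟶ U) : Submodule (Fn V) (sectModEt M V) :=
  Submodule.span (Fn V) (res M b '' P)

theorem res_mem_spanAt {V W : EtOver X} (h : W ⟶ V) (b : V ⟶ U) {x : sectModEt M V} (hx : x ∈ spanAt M P b) :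
    res M h x ∈ spanAt M P (h ≫ b) := by
  induction hx using Submodule.span_induction with
  | mem x hx =>
    obtain ⟨p, hp, rfl⟩ := hx
    exact Submodule.subset_span ⟨p, hp, res_comp M h b p⟩
  | zero => rw [map_zero]; exact Submodule.zero_mem _
  | add x y _ _ hx hy => rw [map_add]; exact add_mem hx hy
  | smul r x _ hx => rw [res_smul]; exact Submodule.smul_mem _ _ hx

theorem mem_spanAt_of_local [M.IsQuasicoherent] {V : EtOver X} (hV : Aff V) (b : V ⟶ U) {x : sectModEt M V}
    {R : Sieve V} (hR : R ∈ etTop X V)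
    (h : ∀ (W : EtOver X) (k : W ⟶ V), Aff W → R k → res M k x ∈ spanAt M P (k ≫ b)) : x ∈ spanAt M P b := by
  obtain ⟨c, hc⟩ := QCart13.exists_cov hV hR
  refine mem_of_cover M hV (cart_of_isQuasicoherent M hV) c _ x fun k => ?_
  refine Submodule.span_le.2 ?_ (h _ _ (c.aff k) (hc k))
  rintro _ ⟨p, hp, rfl⟩
  exact Submodule.subset_span ⟨res M b p, Submodule.subset_span ⟨p, hp, rfl⟩, (res_comp M _ b p).symm⟩

/-- The sections which on all affines over the chart are combinations of the given sections. -/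
def InSub (E : EtOver X) (s : sectModEt M E) : Prop :=
  ∀ (V : EtOver X), Aff V → ∀ (a : V ⟶ E) (b : V ⟶ U), res M a s ∈ spanAt M P b

/-- The presheaf of these sections. -/
def cohSub : M.val.Submodule where
  obj W :=
    { carrier := {s | InSub M P W.unop (show sectModEt M W.unop from s)}
      zero_mem' := fun V _ a b => by
        show res M a (0 : sectModEt M W.unop) ∈ _
        rw [map_zero]; exact Submodule.zero_mem _
      add_mem' := fun {x y} hx hy V hV a b => by
        show res M a ((show sectModEt M W.unop from x) + y) ∈ _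
        rw [map_add]; exact add_mem (hx V hV a b) (hy V hV a b)
      smul_mem' := fun r x hx V hV a b => by
        show res M a ((show Fn W.unop from r.down) • (show sectModEt M W.unop from x)) ∈ _
        rw [res_smul]; exact Submodule.smul_mem _ _ (hx V hV a b) }
  map {W W'} f x hx V hV a b := by
    show res M a (res M f.unop (show sectModEt M W.unop from x)) ∈ _
    rw [← res_comp]
    exact hx V hV _ b

theorem inSub_of_local [M.IsQuasicoherent] {E : EtOver X} {s : sectModEt M E} {R : Sieve E} (hR : R ∈ etTop X E)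
    (h : ∀ (W : EtOver X) (g : W ⟶ E), R g → InSub M P W (res M g s)) : InSub M P E s := fun V hV a b =>
  mem_spanAt_of_local M P hV b ((etTop X).pullback_stable a hR) fun W k hW hk => by
    have := h W (k ≫ a) hk W hW (𝟙 W) (k ≫ b)
    rwa [res_id, res_comp] at this

theorem mem_sat_cohSub_iff [M.IsQuasicoherent] {E : EtOver X} (s : sectModEt M E) :
    s ∈ (Gen.sat (cohSub M P)).obj (op E) ↔ InSub M P E s :=
  ⟨fun h => inSub_of_local M P h fun _ _ hg => hg, fun h => Gen.le_sat (cohSub M P) h⟩

/-- The submodule of these sections. -/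
abbrev C : ModEt X := Gen.satSheaf (cohSub M P)

/-- Its inclusion. -/
abbrev ι : C M P ⟶ M := Gen.satι (cohSub M P)

/-- Finitely many affines cover the pairs of maps to an affine object and to the chart. -/
theorem exists_pairs [QuasiSeparatedSpace ↥S] (hX : IsAlgSpace X) (hqs : IsQuasiSeparatedSp X) (hU : Aff U)
    (E : EtOver X) (hE : Aff E) :
    ∃ (n : ℕ) (W : Fin n → EtOver X) (a : ∀ i, W i ⟶ E) (b : ∀ i, W i ⟶ U), (∀ i, Aff (W i)) ∧
      ∀ (V : EtOver X) (a' : V ⟶ E) (b' : V ⟶ U), ∃ R ∈ etTop X V, ∀ (Z : EtOver X) (h : Z ⟶ V), R h →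
        ∃ (i : Fin n) (k : Z ⟶ W i), k ≫ a i = h ≫ a' ∧ k ≫ b i = h ≫ b' := by
  haveI : IsAffine U.obj.left.left := hU
  haveI : IsAffine E.obj.left.left := hE
  haveI : CompactSpace ↥(EtOver.prodObj E U).obj.left.left :=
    S10185.result ⟨X, hX⟩ hqs U.obj.left E.obj.left (EtOver.prodObj E U).obj.left U.obj.hom E.obj.hom
      (U.property.1.fst' E.obj.hom) (U.property.1.snd E.obj.hom) (U.property.1.isPullback' E.obj.hom)
  obtain ⟨n, T, hT, hcov⟩ := QCPush13.exists_affine_cover (EtOver.prodObj E U)
  refine ⟨n, fun i => (T i).left, fun i => (T i).hom ≫ EtOver.prodFst E U, fun i => (T i).hom ≫ EtOver.prodSnd E U,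
    hT, fun V a' b' => ?_⟩
  obtain ⟨c, hc₁, hc₂⟩ := BinaryFan.IsLimit.lift' (EtOver.prodIsLimit E U) a' b'
  refine ⟨_, (etTop X).pullback_stable c (AlgSpDec.ofArrows_mem_etTop (fun i => (T i).left) (fun i => (T i).hom) hcov),
    fun Z h hh => ?_⟩
  obtain ⟨i, k, hk⟩ := (Sieve.mem_ofArrows_iff _ _ _).1 hh
  refine ⟨i, k, ?_, ?_⟩
  · rw [← Category.assoc, ← hk, Category.assoc, ← hc₁]; rfl
  · rw [← Category.assoc, ← hk, Category.assoc, ← hc₂]; rfl

set_option maxHeartbeats 1600000 in
theorem exists_lift_of_inSub [M.IsQuasicoherent] {E : EtOver X} (hE : Aff E) {n : ℕ} (W : Fin n → EtOver X)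
    (a : ∀ i, W i ⟶ E) (b : ∀ i, W i ⟶ U) (hW : ∀ i, Aff (W i)) (T : Over E) (hT : Aff T.left)
    (z : Fn T.left ⊗[Fn E] sectModEt M E) (hz : InSub M P T.left (bcMor M T z)) :
    z ∈ LinearMap.range ((Submodule.comap (LinearMap.pi fun i => res₀ M (Over.mk (a i)))
      (Submodule.pi Set.univ fun i => (spanAt M P (V := (Over.mk (a i)).left) (b i)).restrictScalars (Fn E))).subtype.lTensor
        (Fn T.left)) := by
  classical
  let T' : Fin n → Over E := fun i => Over.mk (a i)
  let N : ∀ i, Submodule (Fn E) (sectModEt M (T' i).left) := fun i =>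
    (spanAt M P (V := (T' i).left) (b i)).restrictScalars (Fn E)
  let μ : sectModEt M E →ₗ[Fn E] ∀ i, sectModEt M (T' i).left ⧸ N i :=
    LinearMap.pi fun i => (N i).mkQ ∘ₗ res₀ M (T' i)
  haveI : Module.Flat (Fn E) (Fn T.left) := flat_over hE hT
  have hker : LinearMap.ker μ = Submodule.comap (LinearMap.pi fun i => res₀ M (T' i)) (Submodule.pi Set.univ N) := by
    ext x
    simp [μ, Submodule.mem_pi, funext_iff]
  rw [← hker]
  refine ((Module.Flat.lTensor_exact (Fn T.left) (LinearMap.exact_subtype_ker_map μ)) z).1 ?_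
  refine (piRight (Fn E) (Fn E) (Fn T.left) fun i => sectModEt M (T' i).left ⧸ N i).injective (funext fun i => ?_)
  rw [map_zero, Pi.zero_apply]
  have h1 : ∀ y, piRight (Fn E) (Fn E) (Fn T.left) (fun i => sectModEt M (T' i).left ⧸ N i) (μ.lTensor _ y) i =
      (N i).mkQ.lTensor (Fn T.left) ((res₀ M (T' i)).lTensor (Fn T.left) y) := fun y => by
    induction y using TensorProduct.induction_on with
    | zero => simp
    | add p q hp hq => simp only [map_add, Pi.add_apply, hp, hq]
    | tmul c m => simp only [LinearMap.lTensor_tmul, piRight_apply, piRightHom_tmul]; rfl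
  rw [h1]
  let w : Fn T.left ⊗[Fn E] sectModEt M (T' i).left := (res₀ M (T' i)).lTensor (Fn T.left) z
  let U' : Over E := bx T (T' i)
  have hA : Aff U'.left := aff_bx hE hT (hW i)
  have hbc : IsBaseChange (Fn T.left) (resT M (bxSnd T (T' i))) :=
    isBaseChange_bx M hE hT (hW i) (cart_of_isQuasicoherent M (hW i) _ (bxSnd T (T' i)).left hA)
  have hw : hbc.equiv w = res M (bxFst T (T' i)).left (bcMor M T z) := by
    show hbc.equiv ((res₀ M (T' i)).lTensor (Fn T.left) z) = _
    clear hz
    induction z using TensorProduct.induction_on with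
    | zero => simp
    | add p q hp hq => simp only [map_add, hp, hq]
    | tmul c m =>
      rw [LinearMap.lTensor_tmul, IsBaseChange.equiv_tmul]
      refine Eq.trans ?_ (congrArg _ (LinearMap.liftBaseChange_tmul (l := res₀ M T) (A := Fn T.left) _ _).symm)
      refine Eq.trans ?_ (res_smul M (bxFst T (T' i)).left c (res M T.hom m)).symm
      refine congrArg (fun t : sectModEt M (bx T (T' i)).left => rmap (bxFst T (T' i)).left c • t) ?_
      show res M (bxSnd T (T' i)).left (res M (T' i).hom m) = res M (bxFst T (T' i)).left (res M T.hom m)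
      rw [← res_comp, ← res_comp, Over.w, Over.w]
  have hmem : res M (bxFst T (T' i)).left (bcMor M T z) ∈ spanAt M P ((bxSnd T (T' i)).left ≫ b i) := hz _ hA _ _
  suffices key : ∀ x ∈ spanAt M P ((bxSnd T (T' i)).left ≫ b i),
      x ∈ LinearMap.range (hbc.equiv.toLinearMap ∘ₗ (N i).subtype.baseChange (Fn T.left)) by
    obtain ⟨v, hv⟩ := key _ hmem
    have hv' : (N i).subtype.baseChange (Fn T.left) v = w := hbc.equiv.injective (hv.trans hw.symm)
    show (N i).mkQ.lTensor (Fn T.left) w = 0
    rw [← hv']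
    show (N i).mkQ.lTensor (Fn T.left) ((N i).subtype.lTensor (Fn T.left) v) = 0
    rw [← LinearMap.lTensor_comp_apply, LinearMap.exact_subtype_mkQ (N i) |>.linearMap_comp_eq_zero,
      LinearMap.lTensor_zero, LinearMap.zero_apply]
  let Q := LinearMap.range (hbc.equiv.toLinearMap ∘ₗ (N i).subtype.baseChange (Fn T.left))
  have hgen : ∀ m ∈ N i, res M (bxSnd T (T' i)).left m ∈ Q := fun m hm =>
    ⟨(1 : Fn T.left) ⊗ₜ ⟨m, hm⟩, by
      refine (hbc.equiv_tmul _ _).trans ?_
      exact one_smul _ _⟩
  have hsmul : ∀ (r : Fn U'.left), ∀ y ∈ Q, r • y ∈ Q := by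
    letI := algOf (bxSnd T (T' i)).left
    haveI : IsScalarTower (Fn E) (Fn (T' i).left) (Fn U'.left) :=
      IsScalarTower.of_algebraMap_eq fun x => by
        change rmap U'.hom x = rmap (bxSnd T (T' i)).left (rmap (T' i).hom x)
        rw [← rmap_comp, Over.w (bxSnd T (T' i))]
    haveI hpo : Algebra.IsPushout (Fn E) (Fn T.left) (Fn (T' i).left) (Fn U'.left) :=
      CommRingCat.isPushout_iff_isPushout.1 (isPushout_bx hE hT (hW i))
    intro r
    refine hpo.out.inductionOn r (fun r => ∀ y ∈ Q, r • y ∈ Q) ?_ ?_ ?_ ?_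
    · intro y _; rw [zero_smul]; exact Submodule.zero_mem _
    · intro c y hy
      obtain ⟨v, rfl⟩ := hy
      induction v using TensorProduct.induction_on with
      | zero => simp
      | add p q hp hq => rw [map_add, smul_add]; exact add_mem hp hq
      | tmul d m =>
        have e1 : (hbc.equiv.toLinearMap ∘ₗ (N i).subtype.baseChange (Fn T.left)) (d ⊗ₜ m) =
            rmap (bxFst T (T' i)).left d • res M (bxSnd T (T' i)).left (m : sectModEt M (T' i).left) :=
          hbc.equiv_tmul _ _
        rw [e1]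
        change rmap (bxSnd T (T' i)).left c • (rmap (bxFst T (T' i)).left d • res M (bxSnd T (T' i)).left (m : sectModEt M (T' i).left)) ∈ Q
        rw [smul_comm, ← res_smul]
        exact Q.smul_mem d (hgen _ ((spanAt M P (V := (T' i).left) (b i)).smul_mem c m.2))
    · intro d r hr y hy
      change (rmap (bxFst T (T' i)).left d * r) • y ∈ Q
      rw [mul_smul]
      exact Q.smul_mem d (hr y hy)
    · intro r r' hr hr' y hy
      rw [add_smul]
      exact add_mem (hr y hy) (hr' y hy)
  intro x hx
  induction hx using Submodule.span_induction with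
  | mem x hx =>
    obtain ⟨p, hp, rfl⟩ := hx
    rw [res_comp]
    exact hgen _ (Submodule.subset_span ⟨p, hp, rfl⟩)
  | zero => exact Submodule.zero_mem _
  | add p q _ _ hp hq => exact add_mem hp hq
  | smul r p _ hp => exact hsmul r p hp

set_option maxHeartbeats 1600000 in
theorem isQuasicoherent_C [QuasiSeparatedSpace ↥S] [M.IsQuasicoherent] (hX : IsAlgSpace X)
    (hqs : IsQuasiSeparatedSp X) (hU : Aff U) : (C M P).IsQuasicoherent := by
  haveI := Gen.mono_satι (cohSub M P)
  refine isQuasicoherent_of_cart _ fun E hE => cart_of_mono (ι M P) hE (cart_of_isQuasicoherent M hE)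
    fun T hT s => ⟨⊤, (etTop X).top_mem _, fun T' f hT' _ => ?_⟩
  obtain ⟨n, W, a, b, hW, hpair⟩ := exists_pairs hX hqs hU E hE
  let σ : sectModEt M T'.left := appL (ι M P) T'.left (res (C M P) f.left s)
  have hσ : InSub M P T'.left σ := (mem_sat_cohSub_iff M P _).1 (res (C M P) f.left s).2
  obtain ⟨z, hz⟩ := (bijective_bcMor (cart_of_isQuasicoherent M hE) T' hT').2 σ
  obtain ⟨v, rfl⟩ := exists_lift_of_inSub M P hE W a b hW T' hT' z (by rw [hz]; exact hσ)
  suffices H : ∃ w, appL (ι M P) T'.left (bcMor (C M P) T' w) = σ by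
    obtain ⟨w, hw⟩ := H
    exact ⟨w, injective_appL (ι M P) _ hw⟩
  rw [← hz]
  clear hz hσ σ
  induction v using TensorProduct.induction_on with
  | zero => exact ⟨0, by simp⟩
  | add p q hp hq =>
    obtain ⟨x, hx⟩ := hp
    obtain ⟨y, hy⟩ := hq
    exact ⟨x + y, by rw [map_add, map_add, hx, hy, map_add, map_add]⟩
  | tmul c m =>
    have hm : InSub M P E (m : sectModEt M E) := fun V hV a' b' => by
      obtain ⟨R, hR, hfac⟩ := hpair V a' b'
      refine mem_spanAt_of_local M P hV b' hR fun Z h _ hh => ?_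
      obtain ⟨i, k, hka, hkb⟩ := hfac Z h hh
      rw [← res_comp, ← hka, ← hkb, res_comp]
      exact res_mem_spanAt M P k (b i) (m.2 i trivial)
    refine ⟨c ⊗ₜ ⟨(m : sectModEt M E), (mem_sat_cohSub_iff M P _).2 hm⟩, ?_⟩
    rw [appL_bcMor]
    rfl

theorem isFinitePresentation_C [QuasiSeparatedSpace ↥S] [M.IsQuasicoherent] (hX : IsAlgSpace X)
    (hqs : IsQuasiSeparatedSp X) (hN : IsLocNoethSp X) (hU : Aff U) (hP : P.Finite)
    (hcov : ∀ x : Points X, ∃ u, Points.ofPt U.obj.hom u = x) : (C M P).IsFinitePresentation := by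
  haveI := isQuasicoherent_C M P hX hqs hU
  refine isFinitePresentation_of_finite _ hN fun E hE => ?_
  haveI := Gen.mono_satι (cohSub M P)
  obtain ⟨c, hc⟩ := QCart13.exists_cov hE (R :=
    { arrows := fun W _ => Nonempty (W ⟶ U)
      downward_closed := fun ⟨g⟩ k => ⟨k ≫ g⟩ }) (mem_etTop_of_exists _ fun e => by
    obtain ⟨v, hv⟩ := hcov (Points.ofPt E.obj.hom e)
    obtain ⟨W, -, g, g', w, hw, -⟩ := exists_common E U hv.symm
    exact ⟨W, g, ⟨g'⟩, w, hw⟩)
  haveI : ∀ k, Module.Finite (Fn (c.T k).left) (sectModEt (C M P) (c.T k).left) := fun k => by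
    obtain ⟨b⟩ := hc k
    haveI := isNoetherianRing_fn hN (c.aff k)
    haveI : Module.Finite (Fn (c.T k).left) ↥(spanAt M P b) := Module.Finite.span_of_finite _ (hP.image _)
    refine Module.Finite.of_injective
      ((appL (ι M P) (c.T k).left).codRestrict (spanAt M P b) fun x => ?_) ?_
    · have := (mem_sat_cohSub_iff M P _).1 x.2 _ (c.aff k) (𝟙 _) b
      rw [res_id] at this
      exact this
    · intro x y hxy
      have h := congrArg Subtype.val hxy
      exact injective_appL (ι M P) _ h
  haveI : ∀ k, Module.Flat (Fn E) (Fn (c.T k).left) := fun k => flat_over hE (c.aff k)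
  refine finite_of_jointlySurj (c.jointlySurj hE) _ fun k => ?_
  exact Module.Finite.equiv (((isBC_iff (C M P) (c.T k)).1
    (cart_of_isQuasicoherent (C M P) hE _ (c.T k).hom (c.aff k))).equiv).symm

end Groth.Agent.AlgSpWA.CohUnion
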