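import Groth.Agent.S10213
import Groth.Agent.FpqcSpace13.SigmaSep
import Groth.Agent.AlgSpDec.LqfSplitZ

/-!
# Colimits of schemes which stay colimits in algebraic spaces

If a cocone of schemes is a colimit after every etale base change and etale systems descend to it, then morphisms to
an algebraic space glue along it, by lifting to an etale atlas.
-/

set_option autoImplicit false
set_option backward.isDefEq.respectTransparency false
set_option backward.isDefEq.respectTransparency.types false
set_option linter.style.haveILetI false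

noncomputable section

universe w v u

open CategoryTheory CategoryTheory.Limits AlgebraicGeometry Opposite AlgSp

namespace Groth.Agent.AlgSpWA.ColimSpace

open Groth.Agent.AlgSpDec Groth.Agent.AlgSpLib

variable {S : Scheme.{u}} {I : Type v} [Category.{w} I] {D : I ⥤ Over S} (c : Cocone D)

/-- The base change of the projection from a scheme separated chart is separated. -/
theorem isSeparated_snd_chart {X : Sp S} {V : Over S} {b : (yon S).obj V ⟶ X} (hb : Representable b)
    [V.left.IsSeparated] {U : Over S} (s : (yon S).obj U ⟶ X) : IsSeparated (hb.snd s).left := by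
  haveI : IsSeparated V.hom := inferInstance
  let k := pullback.lift (f := V.hom) (g := U.hom) (hb.fst' s).left (hb.snd s).left
    ((Over.w (hb.fst' s)).trans (Over.w (hb.snd s)).symm)
  haveI : Mono k := ⟨fun {Z} g₁ g₂ h => by
    have ht := congrArg (· ≫ pullback.fst _ _) h
    have hs := congrArg (· ≫ pullback.snd _ _) h
    simp only [k, Category.assoc, pullback.lift_fst, pullback.lift_snd] at ht hs
    let G₁ : Over.mk (g₁ ≫ (hb.pullback s).hom) ⟶ hb.pullback s := Over.homMk g₁ rfl
    let G₂ : Over.mk (g₁ ≫ (hb.pullback s).hom) ⟶ hb.pullback s := Over.homMk g₂ (by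
      have := congrArg (· ≫ U.hom) hs
      simp only [Category.assoc, Over.w] at this
      exact this.symm)
    have : G₁ = G₂ := (yon S).map_injective ((hb.isPullback' s).hom_ext
      (by rw [← Functor.map_comp, ← Functor.map_comp, show G₁ ≫ hb.fst' s = G₂ ≫ hb.fst' s from
        Over.OverMorphism.ext ht])
      (by rw [← Functor.map_comp, ← Functor.map_comp, show G₁ ≫ hb.snd s = G₂ ≫ hb.snd s from
        Over.OverMorphism.ext hs]))
    exact congrArg (fun G => G.left) this⟩
  rw [← pullback.lift_snd (f := V.hom) (g := U.hom) (hb.fst' s).left (hb.snd s).left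
    ((Over.w (hb.fst' s)).trans (Over.w (hb.snd s)).symm)]
  exact inferInstanceAs (IsSeparated (k ≫ pullback.snd V.hom U.hom))

variable (h₃ : ∀ (D' : I ⥤ Over S) (α : D' ⟶ D) (c' : Cocone D') (a : c'.pt ⟶ c.pt), Etale a.left →
  (∀ i, IsPullback (c'.ι.app i) (α.app i) a (c.ι.app i)) → Nonempty (IsColimit ((Over.forget S).mapCocone c')))

/-- A cocone of schemes over `S` which is a colimit of schemes gives morphisms over `S`. -/
theorem exists_desc {D' : I ⥤ Over S} {c' : Cocone D'} (hc : IsColimit ((Over.forget S).mapCocone c')) {V : Over S}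
    (x : ∀ i, D'.obj i ⟶ V) (hx : ∀ {i k : I} (f : i ⟶ k), D'.map f ≫ x k = x i) :
    ∃ v : c'.pt ⟶ V, ∀ i, c'.ι.app i ≫ v = x i := by
  let s : Cocone (D' ⋙ Over.forget S) :=
    { pt := V.left
      ι := { app := fun i => (x i).left
             naturality := fun i k f => (congrArg (fun z => z.left) (hx f)).trans (Category.comp_id _).symm } }
  refine ⟨Over.homMk (hc.desc s) (hc.hom_ext fun i => ?_), fun i => Over.OverMorphism.ext (hc.fac s i)⟩
  show ((Over.forget S).mapCocone c').ι.app i ≫ hc.desc s ≫ V.hom = (c'.ι.app i).left ≫ c'.pt.hom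
  rw [← Category.assoc, hc.fac]
  exact (Over.w (x i)).trans (Over.w (c'.ι.app i)).symm

include h₃ in
/-- Two lifts to a chart which agree on the pieces agree. -/
theorem eq_of_eq_on_pieces {X : Sp S} {V : Over S} {b : (yon S).obj V ⟶ X} (hb : Representable b) {T : Over S}
    (a : T ⟶ c.pt) [Etale a.left] (l l' : T ⟶ V)
    (h : ∀ (i : I) {P : Over S} (p : P ⟶ T) (q : P ⟶ D.obj i), p ≫ a = q ≫ c.ι.app i →
      (yon S).map (p ≫ l) ≫ b = (yon S).map (p ≫ l') ≫ b) :
    (yon S).map l ≫ b = (yon S).map l' ≫ b := by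
  let P : I → Over S := fun i => pullback a (c.ι.app i)
  let D' : I ⥤ Over S :=
    { obj := P
      map := fun {i k} f => pullback.lift (pullback.fst _ _) (pullback.snd _ _ ≫ D.map f)
        (by rw [Category.assoc, c.w f, pullback.condition])
      map_id := fun i => by
        apply pullback.hom_ext
        · rw [pullback.lift_fst]; exact (Category.id_comp _).symm
        · rw [pullback.lift_snd, D.map_id, Category.comp_id]; exact (Category.id_comp _).symm
      map_comp := fun f g => by apply pullback.hom_ext <;> simp }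
  let α : D' ⟶ D := { app := fun i => pullback.snd _ _, naturality := fun i k f => by simp [D'] }
  let c' : Cocone D' :=
    { pt := T, ι := { app := fun i => pullback.fst _ _, naturality := fun i k f => by simp [D'] } }
  obtain ⟨hc'⟩ := h₃ D' α c' a ‹Etale a.left› fun i => IsPullback.of_hasPullback _ _
  have sqK := hb.isPullback' b
  have e : ∀ i, ((yon S).map (pullback.fst a (c.ι.app i) ≫ l)) ≫ b =
      ((yon S).map (pullback.fst a (c.ι.app i) ≫ l')) ≫ b := fun i => h i _ _ pullback.condition
  choose x hx using fun i => (yon S).map_surjective (sqK.lift _ _ (e i))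
  have hx₁ : ∀ i, x i ≫ hb.fst' b = pullback.fst a (c.ι.app i) ≫ l := fun i =>
    (yon S).map_injective (by rw [Functor.map_comp, hx, sqK.lift_fst])
  have hx₂ : ∀ i, x i ≫ hb.snd b = pullback.fst a (c.ι.app i) ≫ l' := fun i =>
    (yon S).map_injective (by rw [Functor.map_comp, hx, sqK.lift_snd])
  obtain ⟨ρ, hρ⟩ := exists_desc hc' x fun {i k} f => (yon S).map_injective (sqK.hom_ext
    (by rw [← Functor.map_comp, ← Functor.map_comp, Category.assoc, hx₁, hx₁]; simp [D'])
    (by rw [← Functor.map_comp, ← Functor.map_comp, Category.assoc, hx₂, hx₂]; simp [D']))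
  have h₁' : ρ ≫ hb.fst' b = l := Over.OverMorphism.ext (hc'.hom_ext fun i => by
    show (c'.ι.app i).left ≫ (ρ ≫ hb.fst' b).left = (c'.ι.app i).left ≫ l.left
    rw [← Over.comp_left, ← Over.comp_left, ← Category.assoc, hρ, hx₁])
  have h₂' : ρ ≫ hb.snd b = l' := Over.OverMorphism.ext (hc'.hom_ext fun i => by
    show (c'.ι.app i).left ≫ (ρ ≫ hb.snd b).left = (c'.ι.app i).left ≫ l'.left
    rw [← Over.comp_left, ← Over.comp_left, ← Category.assoc, hρ, hx₂])
  rw [← h₁', ← h₂', Functor.map_comp, Functor.map_comp, Category.assoc, Category.assoc, sqK.w]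

include h₃ in
/-- Morphisms from the cocone point to a space agree if they agree on the pieces. -/
theorem hom_ext {X : Sp S} {V : Over S} {b : (yon S).obj V ⟶ X} (hb : RepWith @Etale b)
    (hbs : RepWith @Surjective b) (g g' : (yon S).obj c.pt ⟶ X)
    (h : ∀ i, (yon S).map (c.ι.app i) ≫ g = (yon S).map (c.ι.app i) ≫ g') : g = g' := by
  let W := hb.rep.pullback g
  let g₁ := (yon S).map (hb.rep.snd g) ≫ g'
  let T := hb.rep.pullback g₁
  haveI : Etale (hb.rep.snd g).left := hb.property_snd _
  haveI : Surjective (hb.rep.snd g).left := hbs.property_snd _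
  haveI : Etale (hb.rep.snd g₁).left := hb.property_snd _
  haveI : Surjective (hb.rep.snd g₁).left := hbs.property_snd _
  refine hom_ext_of_fppf (hb.rep.snd g) (fppf_of_etale _) _ _ ?_
  refine hom_ext_of_fppf (hb.rep.snd g₁) (fppf_of_etale _) _ _ ?_
  have eg := (hb.rep.isPullback' g).w
  have eg' := (hb.rep.isPullback' g₁).w
  let a : T ⟶ c.pt := hb.rep.snd g₁ ≫ hb.rep.snd g
  haveI : Etale a.left := inferInstanceAs (Etale ((hb.rep.snd g₁).left ≫ (hb.rep.snd g).left))
  have key := eq_of_eq_on_pieces c h₃ hb.rep a (hb.rep.snd g₁ ≫ hb.rep.fst' g) (hb.rep.fst' g₁) (by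
    intro i P p q hpq
    have hpq' := congrArg (yon S).map hpq
    simp only [a, Functor.map_comp] at hpq'
    simp only [Functor.map_comp, Category.assoc]
    rw [eg, eg']
    simp only [g₁]
    rw [reassoc_of% hpq', reassoc_of% hpq', h i])
  simp only [Functor.map_comp, Category.assoc] at key
  rw [eg, eg'] at key
  exact key

variable (h₂ : ∀ x : ↥c.pt.left, ∃ (i : I) (y : ↥(D.obj i).left), (c.ι.app i).left y = x)
  (h₄ : ∀ (D' : I ⥤ Over S) (α : D' ⟶ D), NatTrans.Equifibered α → (∀ i, Etale (α.app i).left) →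
    (∀ i, IsSeparated (α.app i).left) →
    ∃ (c' : Cocone D') (a : c'.pt ⟶ c.pt), Etale a.left ∧ ∀ i, IsPullback (c'.ι.app i) (α.app i) a (c.ι.app i))

include h₂ h₃ h₄ in
/-- Morphisms to a space glue along the cocone. -/
theorem existsUnique_glue (X : Space S) (s : ∀ i, (yon S).obj (D.obj i) ⟶ X.obj)
    (hs : ∀ {i k : I} (f : i ⟶ k), (yon S).map (D.map f) ≫ s k = s i) :
    ∃! g : (yon S).obj c.pt ⟶ X.obj, ∀ i, (yon S).map (c.ι.app i) ≫ g = s i := by
  obtain ⟨κ, A, hA, q, b, hb, hbs, -⟩ := S10213.result X
  haveI := hA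
  haveI : (Over.mk q : Over S).left.IsSeparated := FpqcSpace13.isSeparated_sigma A
  have sq := fun i => hb.rep.isPullback' (s i)
  let D' : I ⥤ Over S :=
    { obj := fun i => hb.rep.pullback (s i)
      map := fun {i k} f => hb.rep.lift' (hb.rep.fst' (s i)) (hb.rep.snd (s i) ≫ D.map f)
        (by rw [Functor.map_comp, Category.assoc, hs f, (sq i).w])
      map_id := fun i => hb.rep.hom_ext' (by simp) (by simp)
      map_comp := fun f g => hb.rep.hom_ext' (by simp) (by simp) }
  let α : D' ⟶ D := { app := fun i => hb.rep.snd (s i), naturality := fun i k f => by simp [D'] }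
  have heq : NatTrans.Equifibered α := fun i k f => by
    have hw : D'.map f ≫ α.app k = α.app i ≫ D.map f := by simp [D', α]
    refine IsPullback.of_map (yon S) hw (IsPullback.of_right ?_ ?_ (sq k))
    · rw [hs f, ← Functor.map_comp]
      simp only [D', Functor.relativelyRepresentable.lift'_fst]
      exact sq i
    · rw [← Functor.map_comp, ← Functor.map_comp, hw]
  have het : ∀ i, Etale (α.app i).left := fun i => hb.property_snd _
  obtain ⟨c', a, ha, hpb⟩ := h₄ D' α heq het fun i => isSeparated_snd_chart hb.rep (s i)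
  haveI := ha
  obtain ⟨hc'⟩ := h₃ D' α c' a ha hpb
  obtain ⟨v, hv⟩ := exists_desc hc' (fun i => hb.rep.fst' (s i)) fun f => by simp [D']
  haveI : Surjective a.left := ⟨fun x => by
    obtain ⟨i, y, rfl⟩ := h₂ x
    haveI : Surjective (hb.rep.snd (s i)).left := hbs.property_snd _
    obtain ⟨z, rfl⟩ := (hb.rep.snd (s i)).left.surjective y
    exact ⟨(c'.ι.app i).left z, congrArg (fun m : D'.obj i ⟶ c.pt => m.left z) (hpb i).w⟩⟩
  have hae : RepWith @Etale ((yon S).map a) := (repWith_yon_map_iff _ _).2 ha
  have has : RepWith @Surjective ((yon S).map a) := (repWith_yon_map_iff _ _).2 ‹Surjective a.left›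
  haveI := isLocallySurjective_of_etale_surjective hae has
  let R : Over S := pullback a a
  let r : R ⟶ c.pt := pullback.fst a a ≫ a
  haveI : Etale (pullback.fst a a).left :=
    MorphismProperty.of_isPullback (P := @Etale) ((IsPullback.of_hasPullback a a).map (Over.forget S)).flip ha
  haveI : Etale r.left := inferInstanceAs (Etale ((pullback.fst a a).left ≫ a.left))
  obtain ⟨g, hg⟩ := exists_desc_of_kernelPair ((IsPullback.of_hasPullback a a).map (yon S)) ((yon S).map v ≫ b) (by
    rw [← Category.assoc, ← Category.assoc, ← Functor.map_comp, ← Functor.map_comp]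
    refine eq_of_eq_on_pieces c h₃ hb.rep r _ _ fun i P p q hpq => ?_
    have e₁ : (p ≫ pullback.fst a a) ≫ a = q ≫ c.ι.app i := by rw [Category.assoc]; exact hpq
    have e₂ : (p ≫ pullback.snd a a) ≫ a = q ≫ c.ι.app i := by rw [Category.assoc, ← pullback.condition]; exact hpq
    have lift : ∀ x : P ⟶ c'.pt, x ≫ a = q ≫ c.ι.app i →
        (yon S).map (x ≫ v) ≫ b = (yon S).map q ≫ s i := fun x hx => by
      obtain ⟨z, rfl, rfl⟩ := (hpb i).exists_lift x q hx
      rw [Category.assoc, hv, Functor.map_comp, Functor.map_comp, Category.assoc, Category.assoc, (sq i).w]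
    rw [← Category.assoc, ← Category.assoc, lift _ e₁, lift _ e₂])
  have hfac : ∀ i, (yon S).map (c.ι.app i) ≫ g = s i := fun i => by
    haveI : Etale (hb.rep.snd (s i)).left := het i
    haveI : Surjective (hb.rep.snd (s i)).left := hbs.property_snd _
    refine hom_ext_of_fppf (hb.rep.snd (s i)) (fppf_of_etale _) _ _ ?_
    rw [← Category.assoc, ← Functor.map_comp, show hb.rep.snd (s i) ≫ c.ι.app i = c'.ι.app i ≫ a from (hpb i).w.symm,
      Functor.map_comp, Category.assoc, hg, ← Category.assoc, ← Functor.map_comp, hv, (sq i).w]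
  exact ⟨g, hfac, fun g' hg' => hom_ext c h₃ hb hbs g' g fun i => by rw [hg' i, hfac i]⟩

include h₂ h₃ h₄ in
/-- The cocone is a colimit in algebraic spaces. -/
theorem nonempty_isColimit : Nonempty (IsColimit ((AlgSp.ofScheme S).mapCocone c)) := by
  have ex : ∀ s : Cocone (D ⋙ AlgSp.ofScheme S), ∃! g : (yon S).obj c.pt ⟶ s.pt.obj,
      ∀ i, (yon S).map (c.ι.app i) ≫ g = (s.ι.app i).hom := fun s =>
    existsUnique_glue c h₃ h₂ h₄ s.pt (fun i => (s.ι.app i).hom) fun f =>
      congrArg InducedCategory.Hom.hom (s.w f)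
  exact ⟨{ desc := fun s => ObjectProperty.homMk (ex s).choose
           fac := fun s i => ObjectProperty.hom_ext _ ((ex s).choose_spec.1 i)
           uniq := fun s m hm => ObjectProperty.hom_ext _
             ((ex s).choose_spec.2 m.hom fun i => congrArg InducedCategory.Hom.hom (hm i)) }⟩

end Groth.Agent.AlgSpWA.ColimSpace

end
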