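import Mathlib

/-!
# Kronecker's theorem and the top Čech lemma

In a ring of dimension less than `n`, every finitely generated ideal has the same radical as an
ideal generated by `n` elements, and high powers of a product of `n` elements lie in the ideal
generated by higher powers of the factors.
-/

set_option autoImplicit false

universe u

namespace Groth.Agent.AlgSpWA.Kronecker

variable {R : Type u} [CommRing R]

/-- All chains of primes have fewer than `n + 1` members. -/
def DimLT (R : Type u) [CommRing R] (n : ℕ) : Prop := ∀ p : LTSeries (PrimeSpectrum R), p.length < n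

theorem dimLT_of_ringKrullDim_le {d : ℕ} (h : ringKrullDim R ≤ d) : DimLT R (d + 1) := fun p => by
  have h1 : ((p.length : ℕ∞) : WithBot ℕ∞) ≤ ((d : ℕ∞) : WithBot ℕ∞) := (Order.LTSeries.length_le_krullDim p).trans h
  exact Nat.lt_succ_of_le (Nat.cast_le.1 (WithBot.coe_le_coe.1 h1))

theorem subsingleton_of_dimLT_zero (h : DimLT R 0) : Subsingleton R := by
  by_contra hR
  rw [not_subsingleton_iff_nontrivial] at hR
  exact Nat.not_lt_zero _ (h (RelSeries.singleton _ (Classical.arbitrary (PrimeSpectrum R))))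

theorem dimLT_quotient {n : ℕ} (hn : DimLT R (n + 1)) (J : Ideal R)
    (hJ : ∀ q ∈ minimalPrimes R, ¬ J ≤ q) : DimLT (R ⧸ J) n := fun p => by
  have hmono : StrictMono (PrimeSpectrum.comap (Ideal.Quotient.mk J)) :=
    Monotone.strictMono_of_injective (fun a b hab => Ideal.comap_mono hab)
      (PrimeSpectrum.comap_injective_of_surjective _ Ideal.Quotient.mk_surjective)
  let p' := p.map _ hmono
  obtain ⟨q, hq, hqp⟩ := Ideal.exists_minimalPrimes_le (I := (⊥ : Ideal R)) (J := p'.head.asIdeal) bot_le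
  let q' : PrimeSpectrum R := ⟨q, hq.1.1⟩
  have hlt : q' < p'.head := lt_of_le_of_ne hqp fun e => hJ q hq (by
    show J ≤ q'.asIdeal
    rw [e]
    exact fun x hx => by
      show Ideal.Quotient.mk J x ∈ p.head.asIdeal
      rw [Ideal.Quotient.eq_zero_iff_mem.2 hx]
      exact zero_mem _)
  have h := hn (p'.cons q' hlt)
  rw [RelSeries.cons_length] at h
  exact Nat.lt_of_succ_lt_succ h

theorem exists_mul_pow_eq_zero {q : Ideal R} (hq : q ∈ minimalPrimes R) {x : R} (hx : x ∈ q) :
    ∃ s ∉ q, ∃ t : ℕ, s * x ^ t = 0 := by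
  haveI : q.IsPrime := hq.1.1
  by_contra h
  push_neg at h
  have hd : Disjoint ((⊥ : Ideal R) : Set R) (q.primeCompl ⊔ Submonoid.powers x : Submonoid R) := by
    rw [Set.disjoint_left]
    intro z hz hz'
    obtain ⟨s, hs, _, ⟨t, rfl⟩, e⟩ := Submonoid.mem_sup.1 hz'
    exact h s hs t (e.trans ((Submodule.mem_bot R).1 hz))
  obtain ⟨p, hp, -, hpd⟩ := Ideal.exists_le_prime_disjoint (⊥ : Ideal R) _ hd
  rw [Set.disjoint_left] at hpd
  have hpq : p ≤ q := fun z hz => by
    by_contra hzq
    exact hpd hz (Submonoid.mem_sup_left hzq)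
  exact hpd (hq.2 ⟨hp, bot_le⟩ hpq hx) (Submonoid.mem_sup_right (Submonoid.mem_powers x))

/-- The elements killed by a power of `x`. -/
def torsionOf' (x : R) : Ideal R where
  carrier := {z | ∃ t : ℕ, z * x ^ t = 0}
  zero_mem' := ⟨0, zero_mul _⟩
  add_mem' := by
    rintro a b ⟨s, hs⟩ ⟨t, ht⟩
    refine ⟨s + t, ?_⟩
    rw [add_mul, pow_add, ← mul_assoc, hs, zero_mul, zero_add, mul_comm (x ^ s), ← mul_assoc, ht, zero_mul]
  smul_mem' := by
    rintro c a ⟨t, ht⟩
    exact ⟨t, by rw [smul_eq_mul, mul_assoc, ht, mul_zero]⟩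

/-- The elements `z` with `z * x` nilpotent. -/
def nilColon (x : R) : Ideal R where
  carrier := {z | IsNilpotent (z * x)}
  zero_mem' := by
    show IsNilpotent (0 * x)
    rw [zero_mul]; exact IsNilpotent.zero
  add_mem' {a b} ha hb := by
    show IsNilpotent ((a + b) * x)
    rw [add_mul]; exact (Commute.all _ _).isNilpotent_add ha hb
  smul_mem' c a ha := by
    show IsNilpotent (c * a * x)
    rw [mul_assoc]; exact (Commute.all _ _).isNilpotent_mul_left ha

theorem mk_mem_span {J : Ideal R} {ι : Type*} (b : ι → R) {a : R}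
    (h : Ideal.Quotient.mk J a ∈ Ideal.span (Set.range fun i => Ideal.Quotient.mk J (b i))) :
    a ∈ Ideal.span (Set.range b) ⊔ J := by
  have h1 : a ∈ Ideal.comap (Ideal.Quotient.mk J) (Ideal.map (Ideal.Quotient.mk J) (Ideal.span (Set.range b))) := by
    rw [Ideal.mem_comap, Ideal.map_span, ← Set.range_comp]
    exact h
  rwa [Ideal.comap_map_of_surjective _ Ideal.Quotient.mk_surjective, ← RingHom.ker_eq_comap_bot,
    Ideal.mk_ker] at h1

theorem exists_mem_radical (n : ℕ) : ∀ (R : Type u) [CommRing R], DimLT R n → ∀ (a : R) (b : Fin n → R),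
    ∃ c : Fin n → R, a ∈ (Ideal.span (Set.range fun i => b i + a * c i)).radical := by
  induction n with
  | zero =>
    intro R _ h a b
    haveI := subsingleton_of_dimLT_zero h
    exact ⟨Fin.elim0, (Subsingleton.elim (0 : R) a) ▸ zero_mem _⟩
  | succ n ih =>
    intro R _ h a b
    set x := b (Fin.last n) with hx
    let J : Ideal R := Ideal.span {x} ⊔ nilColon x
    have hJ : ∀ q ∈ minimalPrimes R, ¬ J ≤ q := fun q hq hle => by
      haveI : q.IsPrime := hq.1.1
      obtain ⟨s, hs, t, ht⟩ := exists_mul_pow_eq_zero hq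
        (hle (Ideal.mem_sup_left (Ideal.mem_span_singleton_self x)))
      refine hs (hle (Ideal.mem_sup_right (⟨t + 1, ?_⟩ : IsNilpotent (s * x))))
      calc (s * x) ^ (t + 1) = s ^ t * x * (s * x ^ t) := by ring
        _ = 0 := by rw [ht, mul_zero]
    obtain ⟨c, hc⟩ := ih (R ⧸ J) (dimLT_quotient h J hJ) (Ideal.Quotient.mk J a)
      (fun i => Ideal.Quotient.mk J (b i.castSucc))
    choose c' hc' using fun i => Ideal.Quotient.mk_surjective (c i)
    obtain ⟨m, hm⟩ := hc
    have hm' : a ^ m ∈ Ideal.span (Set.range fun i => b i.castSucc + a * c' i) ⊔ J := by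
      refine mk_mem_span _ ?_
      rw [map_pow]
      refine (congrArg (fun f => Ideal.Quotient.mk J a ^ m ∈ Ideal.span (Set.range f)) (funext fun i => ?_)).mpr hm
      rw [map_add, map_mul, hc']
    obtain ⟨s, hs, j, hj, e⟩ := Submodule.mem_sup.1 hm'
    obtain ⟨v, hv, z, hz, e'⟩ := Submodule.mem_sup.1 hj
    refine ⟨Fin.snoc c' z, ?_⟩
    set I := Ideal.span (Set.range fun i => b i + a * (Fin.snoc c' z : Fin (n + 1) → R) i)
    have hlast : x + a * z ∈ I.radical :=
      Ideal.le_radical (Ideal.subset_span ⟨Fin.last n, by simp [hx]⟩)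
    obtain ⟨k, hk⟩ := hz
    have hnil : x * (a * z) ∈ I.radical :=
      ⟨k, by
        rw [show x * (a * z) = a * (z * x) by ring, mul_pow, hk, mul_zero]
        exact zero_mem _⟩
    have hxm : x ∈ I.radical := by
      refine (Ideal.radical_isRadical I) ⟨2, ?_⟩
      rw [show x ^ 2 = x * (x + a * z) - x * (a * z) by ring]
      exact Ideal.sub_mem _ (Ideal.mul_mem_left _ x hlast) hnil
    have haz : a * z ∈ I.radical := by
      rw [show a * z = x + a * z - x by ring]
      exact Ideal.sub_mem _ hlast hxm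
    refine (Ideal.radical_isRadical I) ⟨m + 1, ?_⟩
    rw [pow_succ, ← e, ← e', add_mul, add_mul, mul_comm z a]
    refine add_mem (Ideal.mul_mem_right a _ ?_) (add_mem (Ideal.mul_mem_right a _ ?_) haz)
    · refine Ideal.le_radical ((Ideal.span_le.2 ?_) hs)
      rintro _ ⟨i, rfl⟩
      exact Ideal.subset_span ⟨i.castSucc, by simp⟩
    · obtain ⟨r, rfl⟩ := Ideal.mem_span_singleton'.1 hv
      exact Ideal.mul_mem_left _ r hxm

/-- Kronecker: finitely generated ideals are, up to radical, generated by few elements. -/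
theorem exists_radical_span {n : ℕ} (h : DimLT R n) {I : Ideal R} (hI : I.FG) :
    ∃ b : Fin n → R, (Ideal.span (Set.range b)).radical = I.radical := by
  classical
  obtain ⟨s, rfl⟩ := hI
  induction s using Finset.induction with
  | empty =>
    refine ⟨fun _ => 0, congrArg Ideal.radical (le_antisymm (Ideal.span_le.2 ?_) ?_)⟩
    · rintro _ ⟨i, rfl⟩
      exact zero_mem _
    · simp
  | insert a s ha ih =>
    obtain ⟨b, hb⟩ := ih
    obtain ⟨c, hc⟩ := exists_mem_radical n R h a b
    refine ⟨fun i => b i + a * c i, ?_⟩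
    set I' := Ideal.span (Set.range fun i => b i + a * c i)
    have hbi : ∀ i, b i ∈ I'.radical := fun i => by
      rw [show b i = b i + a * c i - a * c i by ring]
      exact Ideal.sub_mem _ (Ideal.le_radical (Ideal.subset_span ⟨i, rfl⟩)) (Ideal.mul_mem_right _ _ hc)
    refine le_antisymm ?_ ?_
    · refine Ideal.radical_le_radical_iff.2 (Ideal.span_le.2 ?_)
      rintro _ ⟨i, rfl⟩
      refine add_mem (?_ : b i ∈ _) (Ideal.mul_mem_right _ _ (Ideal.le_radical (Submodule.subset_span (by simp))))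
      have h1 : b i ∈ (Ideal.span (s : Set R)).radical := by
        rw [← Ideal.submodule_span_eq] at hb ⊢
        rw [← hb]
        exact Ideal.le_radical (Submodule.subset_span ⟨i, rfl⟩)
      exact Ideal.radical_mono (Submodule.span_mono (by simp)) h1
    · refine Ideal.radical_le_radical_iff.2 (Submodule.span_le.2 ?_)
      intro y hy
      rcases Finset.mem_insert.1 hy with rfl | hy
      · exact hc
      · have h1 : y ∈ (Ideal.span (Set.range b)).radical := by
          rw [hb]; exact Ideal.le_radical (Submodule.subset_span hy)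
        exact Ideal.radical_le_radical_iff.2 (Ideal.span_le.2 (by rintro _ ⟨i, rfl⟩; exact hbi i)) h1

theorem exists_pow_mem_span (n : ℕ) : ∀ (R : Type u) [CommRing R], DimLT R n → ∀ (x : Fin n → R) (k : ℕ),
    ∃ m : ℕ, (∏ i, x i) ^ m ∈ Ideal.span (Set.range fun i => x i ^ (m + k)) := by
  induction n with
  | zero =>
    intro R _ h x k
    haveI := subsingleton_of_dimLT_zero h
    refine ⟨0, ?_⟩
    rw [Subsingleton.elim ((∏ i, x i) ^ 0) 0]
    exact zero_mem _
  | succ n ih =>
    intro R _ h x k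
    let J : Ideal R := Ideal.span {x 0 ^ k} ⊔ torsionOf' (x 0)
    have hJ : ∀ q ∈ minimalPrimes R, ¬ J ≤ q := fun q hq hle => by
      haveI : q.IsPrime := hq.1.1
      obtain ⟨s, hs, t, ht⟩ := exists_mul_pow_eq_zero hq
        (Ideal.IsPrime.mem_of_pow_mem ‹_› k (hle (Ideal.mem_sup_left (Ideal.mem_span_singleton_self _))))
      exact hs (hle (Ideal.mem_sup_right ⟨t, ht⟩))
    obtain ⟨m, hm⟩ := ih (R ⧸ J) (dimLT_quotient h J hJ) (fun i => Ideal.Quotient.mk J (x i.succ)) k
    have hm' : (∏ i : Fin n, x i.succ) ^ m ∈ Ideal.span (Set.range fun i : Fin n => x i.succ ^ (m + k)) ⊔ J := by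
      refine mk_mem_span _ ?_
      rw [map_pow, map_prod]
      refine (congrArg (fun f => _ ∈ Ideal.span (Set.range f)) (funext fun i => ?_)).mpr hm
      rw [map_pow]
    obtain ⟨s, hs, j, hj, e⟩ := Submodule.mem_sup.1 hm'
    obtain ⟨v, hv, z, ⟨t, hz⟩, e'⟩ := Submodule.mem_sup.1 hj
    obtain ⟨r, rfl⟩ := Ideal.mem_span_singleton'.1 hv
    refine ⟨m + t, ?_⟩
    rw [Fin.prod_univ_succ, mul_pow, pow_add (∏ i : Fin n, x i.succ), ← e, ← e']
    set P := ∏ i : Fin n, x i.succ
    rw [show x 0 ^ (m + t) * ((s + (r * x 0 ^ k + z)) * P ^ t) =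
      x 0 ^ (m + t) * (P ^ t * s) + r * P ^ t * x 0 ^ (m + t + k) + x 0 ^ m * P ^ t * (z * x 0 ^ t) by ring,
      hz, mul_zero, add_zero]
    refine add_mem (Ideal.mul_mem_left _ _ ?_) (Ideal.mul_mem_left _ _ (Ideal.subset_span ⟨0, rfl⟩))
    clear e
    induction hs using Submodule.span_induction with
    | mem y hy =>
      obtain ⟨i, rfl⟩ := hy
      obtain ⟨q, hq⟩ := pow_dvd_pow_of_dvd (Finset.dvd_prod_of_mem (fun i : Fin n => x i.succ) (Finset.mem_univ i)) t
      show P ^ t * x i.succ ^ (m + k) ∈ _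
      rw [hq, show x i.succ ^ t * q * x i.succ ^ (m + k) = q * x i.succ ^ (m + t + k) by ring]
      exact Ideal.mul_mem_left _ _ (Ideal.subset_span ⟨i.succ, rfl⟩)
    | zero => rw [mul_zero]; exact zero_mem _
    | add a b _ _ ha hb => rw [mul_add]; exact add_mem ha hb
    | smul c a _ ha => rw [smul_eq_mul, mul_left_comm]; exact Ideal.mul_mem_left _ _ ha

end Groth.Agent.AlgSpWA.Kronecker
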