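import Groth.Agent.AlgSpWA.ZarTop
import Groth.Agent.AlgSpWA.Kronecker

/-!
# Quasi-coherent modules have no top cohomology on quasi-compact opens of affine charts
-/

set_option autoImplicit false
set_option backward.isDefEq.respectTransparency false
set_option backward.isDefEq.respectTransparency.types false
set_option linter.style.haveILetI false

noncomputable section

universe u

open CategoryTheory CategoryTheory.Limits AlgebraicGeometry Opposite AlgSp Abelian
open scoped TensorProduct

namespace Groth.Agent.AlgSpWA.DimTop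

open Groth.Agent.AlgSpDec Groth.Agent.AlgSpLib MVSheaf MVBound ZarMV ZarTop Groth.Agent.QCart13

variable {S : Scheme.{u}} {X : Sp S} {T : Over S}

/-- An open of the chart in the small etale site of the chart. -/
abbrev etO (O : T.left.Opens) : T.left.Etale := Scheme.Etale.mk O.ι

/-- The inclusion in the site of the chart. -/
def sIncE {O O' : T.left.Opens} (h : O ≤ O') : etO O ⟶ etO O' :=
  MorphismProperty.Over.homMk (T.left.homOfLE h) (T.left.homOfLE_ι h)

/-- The functions on an open. -/
abbrev FO (O : T.left.Opens) := Γ((etO O).left, ⊤)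

/-- Restriction of functions. -/
abbrev fres {O O' : T.left.Opens} (h : O ≤ O') : FO O' →+* FO O := (sIncE h).left.appTop.hom

/-- The functions of the chart on an open. -/
def φ (O : T.left.Opens) : Γ(T.left, ⊤) →+* FO O := O.ι.appTop.hom

theorem φ_inc {O O' : T.left.Opens} (h : O ≤ O') (a : Γ(T.left, ⊤)) :
    fres h (φ O' a) = φ O a := by
  have h1 : (T.left.homOfLE h ≫ O'.ι).appTop = O.ι.appTop := by rw [Scheme.homOfLE_ι]
  exact ((congrArg (fun g => g.hom a) h1).symm.trans (congrArg (fun g => g.hom a)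
    (Scheme.Hom.comp_appTop (T.left.homOfLE h) O'.ι))).symm

theorem φ_eq (O : T.left.Opens) (a : Γ(T.left, ⊤)) :
    φ O a = O.topIso.inv.hom ((T.left.presheaf.map (homOfLE (le_top : O ≤ ⊤)).op).hom a) := by
  show (O.ι.appTop).hom a = _
  rw [Scheme.Opens.ι_appTop, Scheme.Opens.topIso_inv, ← ConcreteCategory.comp_apply, ← T.left.presheaf.map_comp]
  rfl

theorem isUnit_φ (a : Γ(T.left, ⊤)) : IsUnit (φ (D a) a) := by
  rw [φ_eq]
  exact (RingedSpace.isUnit_res_basicOpen (X := T.left.toSheafedSpace) a).map _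

theorem isUnit_φ_of_le {O : T.left.Opens} (a : Γ(T.left, ⊤)) (h : O ≤ D a) : IsUnit (φ O a) := by
  rw [← φ_inc h a]
  exact (isUnit_φ a).map _

theorem exists_φ [IsAffine T.left] (a : Γ(T.left, ⊤)) (s : FO (D a)) :
    ∃ (c : Γ(T.left, ⊤)) (k : ℕ), s * φ (D a) a ^ k = φ (D a) c := by
  obtain ⟨⟨c, ⟨_, k, rfl⟩⟩, hc⟩ := IsLocalization.surj (Submonoid.powers a) ((D a).topIso.hom.hom s)
  refine ⟨c, k, ?_⟩
  have h1 := congrArg (D a).topIso.inv.hom hc
  rw [map_mul, ← ConcreteCategory.comp_apply, (D a).topIso.hom_inv_id, ConcreteCategory.id_apply] at h1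
  rw [map_pow, map_pow] at h1
  exact ((congrArg (fun t => s * t ^ k) (φ_eq (D a) a)).trans h1).trans (φ_eq (D a) c).symm

variable (e : (yon S).obj T ⟶ X) (he : RepWith @Etale e)

/-- An open of the chart in the small etale site of the space. -/
abbrev sO (O : T.left.Opens) : EtOver X := (EtOver.ofChart e he).obj (etO O)

/-- The inclusion in the site of the space. -/
abbrev sInc {O O' : T.left.Opens} (h : O ≤ O') : sO e he O ⟶ sO e he O' :=
  (EtOver.ofChart e he).map (sIncE h)

variable (G : AbEt X)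

/-- The identity as a section of the representing presheaf. -/
def y₀ (O : T.left.Opens) : (pre (eO e O)).obj (op (sO e he O)) := ⟨𝟙 _, Category.id_comp _⟩

/-- The canonical section of a free sheaf. -/
def gen (O : T.left.Opens) : (B e O).obj.obj (op (sO e he O)) :=
  (homEq (eO e O) (B e O) (𝟙 _)).app (op (sO e he O)) (y₀ e he O)

/-- A map out of a free sheaf as a section. -/
def evHom (O : T.left.Opens) : (B e O ⟶ G) →+ G.obj.obj (op (sO e he O)) :=
  AddMonoidHom.mk' (fun a => (a.hom.app (op (sO e he O))).hom (gen e he O)) fun a b => rfl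

theorem evHom_eq (O : T.left.Opens) (a : B e O ⟶ G) :
    evHom e he G O a = (homEq (eO e O) G a).app (op (sO e he O)) (y₀ e he O) := by
  have h := homEq_comp (eO e O) (𝟙 (B e O)) a
  rw [Category.id_comp] at h
  rw [h]
  rfl

theorem evHom_r {O O' : T.left.Opens} (h : O ≤ O') (a : B e O' ⟶ G) :
    evHom e he G O (r e h ≫ a) = (G.obj.map (sInc e he h).op).hom (evHom e he G O' a) := by
  rw [evHom_eq, evHom_eq]
  refine (types_congr_hom (NatTrans.congr_app (homEq_AMap ((yon S).map (inc h)) (eO_inc e h) G a)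
    (op (sO e he O))) (y₀ e he O)).trans ?_
  refine Eq.trans (congrArg ((homEq (eO e O') G a).app (op (sO e he O))) (Subtype.ext ?_))
    (NatTrans.naturality_apply (homEq (eO e O') G a) (sInc e he h).op (y₀ e he O'))
  show 𝟙 _ ≫ (yon S).map (inc h) = (yon S).map (sInc e he h).hom.left ≫ 𝟙 _
  rw [Category.id_comp, Category.comp_id]
  rfl

theorem evHom_bijective (O : T.left.Opens) : Function.Bijective (evHom e he G O) := by
  have hk : ∀ (W : EtOver X) (y : (pre (eO e O)).obj (op W)), ∃ k : W ⟶ sO e he O,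
      (pre (eO e O)).map k.op (y₀ e he O) = y := fun W y => by
    obtain ⟨z, hz⟩ := (yon S).map_surjective y.1
    refine ⟨EtOver.homMk z ?_, Subtype.ext ?_⟩
    · show (yon S).map z ≫ eO e O = W.obj.hom
      rw [hz]; exact y.2
    · show (yon S).map z ≫ 𝟙 _ = y.1
      rw [hz, Category.comp_id]
  have huniq : ∀ (W : EtOver X) (k k' : W ⟶ sO e he O),
      (pre (eO e O)).map k.op (y₀ e he O) = (pre (eO e O)).map k'.op (y₀ e he O) → k = k' :=
    fun W k k' h => EtOver.hom_ext _ _ ((yon S).map_injective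
      ((Category.comp_id _).symm.trans ((congrArg Subtype.val h).trans (Category.comp_id _))))
  choose k hk using hk
  refine ⟨fun a b hab => (homEq (eO e O) G).injective ?_, fun t => ?_⟩
  · rw [evHom_eq, evHom_eq] at hab
    ext W y
    obtain ⟨W⟩ := W
    rw [← hk W y]
    exact (NatTrans.naturality_apply _ (k W y).op _).trans ((congrArg _ hab).trans
      (NatTrans.naturality_apply _ (k W y).op _).symm)
  · let ψ : pre (eO e O) ⟶ G.obj ⋙ forget AddCommGrpCat.{u + 1} :=
      { app := fun W => TypeCat.ofHom fun y => (G.obj.map (k W.unop y).op).hom t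
        naturality := fun W W' g => by
          ext y
          show (G.obj.map (k W'.unop ((pre (eO e O)).map g y)).op).hom t =
            (G.obj.map g).hom ((G.obj.map (k W.unop y).op).hom t)
          rw [← ConcreteCategory.comp_apply, ← G.obj.map_comp]
          refine congrArg (fun m => (G.obj.map m).hom t) (congrArg Quiver.Hom.op
            (huniq _ (k W'.unop ((pre (eO e O)).map g y)) (g.unop ≫ k W.unop y) ?_))
          rw [hk, op_comp]
          refine Eq.trans ?_ (Functor.map_comp_apply (pre (eO e O)) (k W.unop y).op g (y₀ e he O)).symm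
          rw [hk] }
    refine ⟨(homEq (eO e O) G).symm ψ, ?_⟩
    rw [evHom_eq, Equiv.apply_symm_apply]
    show (G.obj.map (k (sO e he O) (y₀ e he O)).op).hom t = t
    rw [huniq (sO e he O) (k _ (y₀ e he O)) (𝟙 _) (by
      rw [hk, op_id]
      exact (ConcreteCategory.congr_hom ((pre (eO e O)).map_id _) _).symm), op_id, G.obj.map_id]
    rfl

/-- A degree zero class as a section. -/
def ev (O : T.left.Opens) : Ext (B e O) G 0 →+ G.obj.obj (op (sO e he O)) :=
  (evHom e he G O).comp Ext.addEquiv₀.toAddMonoidHom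

theorem ev_bijective (O : T.left.Opens) : Function.Bijective (ev e he G O) :=
  (evHom_bijective e he G O).comp Ext.addEquiv₀.bijective

theorem ev_ρ {O O' : T.left.Opens} (h : O ≤ O') (z : Ext (B e O') G 0) :
    ev e he G O (ρ e G h 0 z) = (G.obj.map (sInc e he h).op).hom (ev e he G O' z) := by
  obtain ⟨a, rfl⟩ := Ext.addEquiv₀.symm.surjective z
  show evHom e he G O (Ext.addEquiv₀ (ρ e G h 0 (Ext.addEquiv₀.symm a))) =
    (G.obj.map (sInc e he h).op).hom (evHom e he G O' (Ext.addEquiv₀ (Ext.addEquiv₀.symm a)))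
  rw [AddEquiv.apply_symm_apply, ← evHom_r]
  refine congrArg (evHom e he G O) ?_
  rw [ρ_apply]
  exact (congrArg Ext.addEquiv₀ (Ext.mk₀_comp_mk₀ (r e h) a)).trans (Ext.addEquiv₀.apply_symm_apply _)

variable [IsAffine T.left] (M : ModEt X) [M.IsQuasicoherent]

/-- The sheaf of a module. -/
abbrev GM : AbEt X := (toAbEt X).obj M

include he in
/-- Every section on the product open is a sum of sections extending to larger pieces. -/
theorem top_le_img {n : ℕ} (hdim : Kronecker.DimLT Γ(T.left, ⊤) n) (x : Fin n → Γ(T.left, ⊤))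
    (K : List Γ(T.left, ⊤)) (hK : ∀ i, ∃ g ∈ K, g * x i = ∏ j, x j) :
    ⊤ ≤ ⨆ g ∈ K, img e (GM M) 0 (D (∏ j, x j)) (D g) := by
  set P := ∏ j, x j with hP
  let F := ⨆ g ∈ K, img e (GM M) 0 (D P) (D g)
  let W : AddSubgroup (sectModEt M (sO e he (D P))) := F.map (ev e he (GM M) (D P))
  intro z _
  suffices h : ev e he (GM M) (D P) z ∈ W by
    obtain ⟨z', hz', hzz⟩ := h
    exact (ev_bijective e he (GM M) (D P)).1 hzz ▸ hz'
  haveI : IsAffine (etO (D P)).left := isAffine_D P
  haveI : IsAffine (etO (⊤ : T.left.Opens)).left := isAffineOpen_top T.left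
  haveI : IsAffine (Over.mk (sIncE (le_top : D P ≤ ⊤))).left.left := isAffine_D P
  obtain ⟨w, hw⟩ := (AffVanish.bijective_Ψ e he M (U := etO (⊤ : T.left.Opens)) (Over.mk (sIncE (le_top : D P ≤ ⊤)))).2
    (ev e he (GM M) (D P) z)
  rw [← hw]
  clear hw
  induction w using TensorProduct.induction_on with
  | zero => rw [map_zero]; exact zero_mem W
  | add a b ha hb => rw [map_add]; exact add_mem ha hb
  | tmul s m =>
    rw [AffVanish.Ψ_tmul]
    -- functions which are combined
    have hstep : ∀ g ∈ K, ∀ (hg : D P ≤ D g) (s' : FO (D g)),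
        (fres hg s' • (res M (sInc e he (le_top : D P ≤ ⊤)) m : AffVanish.N e he M (etO (D P)))) ∈ W := by
      intro g hg hle s'
      obtain ⟨y, hy⟩ := (ev_bijective e he (GM M) (D g)).2
        (s' • (res M (sInc e he (le_top : D g ≤ ⊤)) m : AffVanish.N e he M (etO (D g))))
      refine ⟨ρ e (GM M) hle 0 y, le_iSup₂ (f := fun g (_ : g ∈ K) => img e (GM M) 0 (D P) (D g)) g hg
        (mem_img e (GM M) hle y), ?_⟩
      refine (ev_ρ e he (GM M) hle y).trans ((congrArg (res M (sInc e he hle)) hy).trans ?_)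
      refine (AffVanish.res_smul' e he M (sIncE hle) s' _).trans (congrArg (_ • ·) ?_)
      refine (res_comp M _ _ m).symm.trans (congrArg (fun q => res M q m) ?_)
      exact (((EtOver.ofChart e he).map_comp _ _).symm.trans (congrArg (EtOver.ofChart e he).map
        (MorphismProperty.Over.Hom.ext (T.left.homOfLE_homOfLE hle (le_top : D g ≤ ⊤)))))
    let s₀ : FO (D P) := AffVanish.fn _ s
    show (s₀ • (res M (sInc e he (le_top : D P ≤ ⊤)) m : AffVanish.N e he M (etO (D P)))) ∈ W
    obtain ⟨c, k, hc⟩ := exists_φ P s₀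
    obtain ⟨N, hN⟩ := Kronecker.exists_pow_mem_span n Γ(T.left, ⊤) hdim x k
    obtain ⟨u, hu⟩ : IsUnit (φ (D P) P ^ (N + k)) := (isUnit_φ P).pow _
    have hs : s₀ = φ (D P) (c * P ^ N) * ↑u⁻¹ := by
      rw [Units.eq_mul_inv_iff_mul_eq, hu, map_mul, map_pow, ← hc, pow_add]
      ring
    rw [hs]
    suffices h : ∀ v ∈ Ideal.span (Set.range fun i => x i ^ (N + k)), ∀ a : Γ(T.left, ⊤),
        ((φ (D P) (a * v) * ↑u⁻¹) • (res M (sInc e he (le_top : D P ≤ ⊤)) m :
          AffVanish.N e he M (etO (D P)))) ∈ W from h _ hN c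
    intro v hv
    induction hv using Submodule.span_induction with
    | mem v hv =>
      obtain ⟨i, rfl⟩ := hv
      intro a
      obtain ⟨g, hg, hgx⟩ := hK i
      have hle : D P ≤ D g := by
        show T.left.basicOpen P ≤ T.left.basicOpen g
        rw [← hgx, Scheme.basicOpen_mul]; exact inf_le_left
      obtain ⟨w, hw⟩ : IsUnit (φ (D g) g ^ (N + k)) := (isUnit_φ g).pow _
      have hj : (fres hle) ↑w⁻¹ * φ (D P) g ^ (N + k) = 1 := by
        rw [← φ_inc hle g, ← map_pow, ← hw, ← map_mul, Units.inv_mul, map_one]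
      have hu' : (↑u : FO (D P)) = φ (D P) g ^ (N + k) * φ (D P) (x i) ^ (N + k) := by
        rw [hu, ← mul_pow, ← map_mul, hgx]
      have e1 : φ (D P) (a * x i ^ (N + k)) * ↑u⁻¹ = (fres hle) (φ (D g) a * ↑w⁻¹) := by
        rw [Units.mul_inv_eq_iff_eq_mul, hu', map_mul ((fres hle)), φ_inc, map_mul, map_pow]
        linear_combination -(φ (D P) a * φ (D P) (x i) ^ (N + k)) * hj
      rw [e1]
      exact hstep g hg hle _
    | zero =>
      intro a
      rw [mul_zero, map_zero, zero_mul, zero_smul]
      exact zero_mem W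
    | add v v' _ _ hv hv' =>
      intro a
      rw [mul_add, map_add, add_mul, add_smul]
      exact add_mem (hv a) (hv' a)
    | smul b v _ hv =>
      intro a
      rw [smul_eq_mul, ← mul_assoc]
      exact hv (a * b)

end Groth.Agent.AlgSpWA.DimTop
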