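import Groth.Agent.AlgSpWA.DimTop
import Groth.Agent.AlgSpDec.LimImmersion

/-!
# Vanishing of cohomology above the dimension
-/

set_option autoImplicit false
set_option backward.isDefEq.respectTransparency false
set_option backward.isDefEq.respectTransparency.types false
set_option linter.style.haveILetI false

noncomputable section

universe u

open CategoryTheory CategoryTheory.Limits AlgebraicGeometry Opposite AlgSp Abelian

namespace Groth.Agent.AlgSpWA.DimVanish

open Groth.Agent.AlgSpPts Groth.Agent.AlgSpDec Groth.Agent.AlgSpLib MVSheaf MVBound ZarMV ZarTop DimTop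

variable {S : Scheme.{u}} {X : Sp S} {T : Over S} [IsAffine T.left] (e : (yon S).obj T ⟶ X)
  (he : RepWith @Etale e)

theorem ringKrullDim_le_of_etale (he' : RepWith @Etale e) {d : ℕ} (hdim : AlgSp.dim X ≤ (d : WithBot ℕ∞)) :
    ringKrullDim Γ(T.left, ⊤) ≤ d := by
  have h1 : topologicalKrullDim ↥T.left ≤ AlgSp.dim X :=
    le_trans (le_trans (le_iSup (fun _ : RepWith @Etale e => topologicalKrullDim ↥T.left) he')
      (le_iSup (fun a : (yon S).obj T ⟶ X => ⨆ (_ : RepWith @Etale a), topologicalKrullDim ↥T.left) e))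
      (le_iSup (fun U : Over S => ⨆ (a : (yon S).obj U ⟶ X) (_ : RepWith @Etale a), topologicalKrullDim ↥U.left) T)
  rw [← PrimeSpectrum.topologicalKrullDim_eq_ringKrullDim]
  exact ((T.left.isoSpec.hom.homeomorph.isHomeomorph).topologicalKrullDim_eq).symm.trans_le (h1.trans hdim)

include he in
theorem vanish_D (M : ModEt X) [M.IsQuasicoherent] (a : Γ(T.left, ⊤)) (q : ℕ) :
    Subsingleton (Ext (B e (D a)) ((toAbEt X).obj M) (q + 1)) := by
  haveI : IsAffine (sob (D a)).left := isAffine_D a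
  refine subsingleton_ext_affine (eO e (D a)) (Iso.refl _) ?_ q _ (AffAcyclic.isAcyclic_of_isQuasicoherent M)
  rw [Iso.refl_hom, Category.id_comp]
  exact (sO e he (D a)).property

/-- The tuple of the factors as a list. -/
theorem exists_supD_eq {d : ℕ} (hdim : Kronecker.DimLT Γ(T.left, ⊤) (d + 1)) (O : T.left.Opens)
    (hO : IsCompact (O : Set ↥T.left)) :
    ∃ x : Fin (d + 1) → Γ(T.left, ⊤), O = U (List.ofFn x) 1 := by
  classical
  choose F hF hFx using fun v : O => (isAffineOpen_top T.left).exists_basicOpen_le (V := O) ⟨v.1, v.2⟩ trivial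
  obtain ⟨t, ht⟩ := hO.elim_finite_subcover (fun v => (T.left.basicOpen (F v) : Set ↥T.left))
    (fun v => (T.left.basicOpen _).2) fun y hy => Set.mem_iUnion.2 ⟨⟨y, hy⟩, hFx ⟨y, hy⟩⟩
  obtain ⟨b, hb⟩ := Kronecker.exists_radical_span hdim (I := Ideal.span ((t.image F : Finset _) : Set Γ(T.left, ⊤)))
    ⟨t.image F, rfl⟩
  refine ⟨b, ?_⟩
  have hU : U (List.ofFn b) 1 = supD (List.ofFn b) := by
    rw [U, D, Scheme.basicOpen_of_isUnit _ isUnit_one, top_inf_eq]
  rw [hU, supD_eq]
  ext v
  simp only [SetLike.mem_coe, TopologicalSpace.Opens.mem_iSup, List.mem_ofFn, Set.mem_range]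
  let q : Ideal Γ(T.left, ⊤) :=
    (IsLocalRing.maximalIdeal (T.left.presheaf.stalk v)).comap (T.left.presheaf.germ ⊤ v trivial).hom
  haveI : q.IsPrime := Ideal.IsPrime.comap _
  have hq : ∀ a, v ∈ T.left.basicOpen a ↔ a ∉ q := fun a => by
    rw [Scheme.mem_basicOpen _ a v trivial]
    exact IsLocalRing.notMem_maximalIdeal.symm
  constructor
  · intro hv
    obtain ⟨w, hw, hvw⟩ := Set.mem_iUnion₂.1 (ht hv)
    by_contra hnot
    push_neg at hnot
    have hle : (Ideal.span (Set.range b)).radical ≤ q := by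
      refine (Ideal.IsPrime.radical_le_iff ‹_›).2 (Ideal.span_le.2 ?_)
      rintro _ ⟨i, rfl⟩
      by_contra hi
      exact hnot (b i) ⟨i, rfl⟩ ((hq _).2 hi)
    rw [hb] at hle
    exact (hq _).1 hvw (hle (Ideal.le_radical (Ideal.subset_span (Finset.mem_image_of_mem F hw))))
  · rintro ⟨_, ⟨i, rfl⟩, hi⟩
    have h1 : b i ∉ q := (hq _).1 hi
    by_contra hv
    refine h1 ?_
    have hle : (Ideal.span ((t.image F : Finset _) : Set Γ(T.left, ⊤))).radical ≤ q := by
      refine (Ideal.IsPrime.radical_le_iff ‹_›).2 (Ideal.span_le.2 ?_)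
      intro y hy
      obtain ⟨w, -, rfl⟩ := Finset.mem_image.1 hy
      by_contra hy
      exact hv (hF w ((hq _).2 hy))
    rw [← hb] at hle
    exact hle (Ideal.le_radical (Ideal.subset_span ⟨i, rfl⟩))

include he in
/-- No cohomology in degrees `≥ d ≥ 1` on quasi-compact opens. -/
theorem subsingleton_open {d : ℕ} (hdim : Kronecker.DimLT Γ(T.left, ⊤) (d + 1)) (M : ModEt X) [M.IsQuasicoherent]
    (O : T.left.Opens) (hO : IsCompact (O : Set ↥T.left)) (n : ℕ) (hn : d ≤ n) (hn' : 1 ≤ n) :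
    Subsingleton (Ext (B e O) ((toAbEt X).obj M) n) := by
  obtain ⟨x, rfl⟩ := exists_supD_eq hdim O hO
  obtain ⟨n, rfl⟩ : ∃ m, n = m + 1 := ⟨n - 1, by omega⟩
  have hV := vanish_D e he M
  cases d with
  | zero =>
    rw [List.ofFn_succ]
    exact subsingleton_union e _ hV _ _ _ n (by simp)
  | succ d =>
    rcases lt_or_eq_of_le (show d ≤ n by omega) with hlt | rfl
    · rw [List.ofFn_succ]
      exact subsingleton_union e _ hV _ _ _ n (by simp; omega)
    · rw [List.ofFn_succ, List.ofFn_succ]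
      set l := List.ofFn fun i : Fin d => x i.succ.succ with hl
      have hll : l.length = d := List.length_ofFn
      have hP : P (x 0) (x (Fin.succ 0)) l 1 = ∏ j, x j := by
        rw [P_eq_prod, mul_one, hl, Fin.prod_univ_succ, Fin.prod_univ_succ]
        simp [List.prod_ofFn]
      have h := top_le e _ hV l (x 0) (x (Fin.succ 0)) 1 [] (by simp) (by
        rw [hP]
        refine top_le_img e he M hdim x _ fun i => ?_
        obtain ⟨g, hg, hgz⟩ := (mem_K l (x 0) (x (Fin.succ 0)) 1 []).2 (x i) (by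
          have h1 : x i ∈ List.ofFn x := List.mem_ofFn.2 ⟨i, rfl⟩
          rwa [List.ofFn_succ, List.ofFn_succ] at h1)
        exact ⟨g, hg, hgz.trans hP⟩)
      rw [hll] at h
      refine subsingleton_of_forall_eq 0 fun z => ?_
      have hz := h (AddSubgroup.mem_top z)
      simpa using hz

include he in
/-- Functions extend from quasi-compact opens in dimension zero. -/
theorem surjective_open (hdim : Kronecker.DimLT Γ(T.left, ⊤) 1) (M : ModEt X) [M.IsQuasicoherent]
    (O : T.left.Opens) (hO : IsCompact (O : Set ↥T.left)) (h : O ≤ ⊤) :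
    Function.Surjective (ρ e ((toAbEt X).obj M) h 0) := by
  obtain ⟨x, rfl⟩ := exists_supD_eq hdim O hO
  intro z
  have hU : U (List.ofFn x) 1 = D (∏ j, x j) := by
    rw [List.ofFn_succ, List.ofFn_zero, U_single, mul_one, Fin.prod_univ_one]
  revert h z
  rw [hU]
  intro h z
  have hz := top_le_img e he M hdim x [1] (fun i => ⟨1, List.mem_singleton_self _, by
    rw [one_mul, Fin.prod_univ_one, Subsingleton.elim i 0]⟩) (AddSubgroup.mem_top z)
  simp only [List.mem_singleton, iSup_iSup_eq_left] at hz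
  refine (show img e ((toAbEt X).obj M) 0 (D (∏ j, x j)) (D 1) ≤ (ρ e ((toAbEt X).obj M) h 0).range from
    iSup_le fun h' => ?_) hz
  rintro _ ⟨w, rfl⟩
  obtain ⟨w, rfl⟩ := (ρ_bijective e ((toAbEt X).obj M) (le_top : D (1 : Γ(T.left, ⊤)) ≤ ⊤)
    (show (⊤ : T.left.Opens) ≤ D 1 by rw [D, Scheme.basicOpen_of_isUnit _ isUnit_one]) 0).surjective w
  exact ⟨w, (ρ_trans e _ h' le_top w).symm⟩

omit [IsAffine T.left] in
/-- An open subspace of the chart is one of the opens. -/
theorem exists_open_iso {F : Sp S} (hF : IsAlgSpace F) (hFc : IsQuasiCompactSp F) {q : F ⟶ (yon S).obj T}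
    (hq : RepWith @IsOpenImmersion q) :
    ∃ (O : T.left.Opens) (a : F ≅ (yon S).obj (sob O)), IsCompact (O : Set ↥T.left) ∧
      a.hom ≫ (yon S).map (incT O) = q := by
  have hr : IsOpen (Set.range (Points.map q)) := isOpen_range_openImm (IsAlgSpace.yon_obj T) hq
  let O : T.left.Opens := ⟨Points.schemeHomeo T ⁻¹' Set.range (Points.map q), hr.preimage (Points.schemeHomeo T).continuous⟩
  haveI : CompactSpace (Points F) := (isQuasiCompactSp_iff hF).1 hFc
  have hOc : IsCompact (O : Set ↥T.left) :=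
    (Points.schemeHomeo T).isCompact_preimage.2 (isCompact_range (Points.continuous_map q))
  have hι : RepWith @IsOpenImmersion ((yon S).map (incT O)) :=
    (repWith_yon_map_iff _ _).2 (inferInstanceAs (IsOpenImmersion O.ι))
  haveI := mono_of_openImm hq
  haveI := mono_of_openImm hι
  obtain ⟨a, ha⟩ := exists_factor_open_sp hF hι q fun p => by
    have hp : Points.toScheme T (Points.map q p) ∈ O := by
      show Points.schemeHomeo T (Points.toScheme T (Points.map q p)) ∈ Set.range (Points.map q)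
      refine ⟨p, ?_⟩
      exact (Points.ofScheme_toScheme T _).symm
    refine ⟨Points.ofScheme (sob O) ⟨_, hp⟩, ?_⟩
    rw [← Points.ofPt_eq_map_ofScheme]
    refine (Function.LeftInverse.injective (Points.ofScheme_toScheme T)) ?_
    rw [Points.toScheme_ofPt]
    rfl
  obtain ⟨b, hb⟩ := exists_factor_open hq ((yon S).map (incT O)) fun v => by
    have hv : Points.schemeHomeo T v.1 ∈ Set.range (Points.map q) := v.2
    convert hv using 1
    refine (Function.LeftInverse.injective (Points.ofScheme_toScheme T)) ?_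
    rw [Points.toScheme_ofPt]
    exact (Points.toScheme_ofScheme T _).symm
  exact ⟨O, ⟨a, b, (cancel_mono q).1 (by rw [Category.assoc, hb, ha, Category.id_comp]),
    (cancel_mono ((yon S).map (incT O))).1 (by rw [Category.assoc, ha, hb, Category.id_comp])⟩, hOc, ha⟩

variable {Y : Sp S}

/-- Isomorphic spaces over `Y` have the same classes. -/
theorem subsingleton_ext_iso {F F' : Sp S} {a : F ⟶ Y} {a' : F' ⟶ Y} (i : F ≅ F') (h : i.hom ≫ a' = a)
    (G : AbEt Y) (n : ℕ) (hs : Subsingleton (Ext (A a') G n)) : Subsingleton (Ext (A a) G n) := by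
  have h1 : AMap i.hom h ≫ AMap i.inv (show i.inv ≫ a = a' by rw [← h, i.inv_hom_id_assoc]) = AMap (𝟙 F) (Category.id_comp a) :=
    AMap_comp_eq _ _ _ i.hom_inv_id
  have h2 : AMap (𝟙 F) (Category.id_comp a) = 𝟙 (A a) := by
    show (presheafToSheaf (etTop Y) AddCommGrpCat.{u + 1}).map _ = _
    rw [show preMap (𝟙 F) (Category.id_comp a) = 𝟙 (pre a) from ?_,
      Functor.whiskerRight_id', CategoryTheory.Functor.map_id]
    · rfl
    · ext W y
      exact Subtype.ext (Category.comp_id _)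
  refine ⟨fun x x' => ?_⟩
  have key : ∀ y : Ext (A a) G n, y = (Ext.mk₀ (AMap i.hom h)).comp ((Ext.mk₀ (AMap i.inv
      (show i.inv ≫ a = a' by rw [← h, i.inv_hom_id_assoc]))).comp y (zero_add n)) (zero_add n) := fun y => by
    rw [Ext.mk₀_comp_mk₀_assoc, h1, h2, Ext.mk₀_id_comp]
  rw [key x, key x']
  exact congrArg (fun z => (Ext.mk₀ (AMap i.hom h)).comp z (zero_add n)) (Subsingleton.elim _ _)

/-- The Mayer-Vietoris step with a surjective restriction. -/
theorem subsingleton_ext_step_of_surjective {E U V UV : Sp S} {e : E ⟶ Y} {j : U ⟶ E} {f : V ⟶ E} {p : UV ⟶ U}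
    {q : UV ⟶ V} (hE : IsAlgSpace E) (hj : RepWith @IsOpenImmersion j) (sq : IsPullback p q j f)
    (hsq : IsElemDistSq j f) {T : Over S} (θ : (yon S).obj T ≅ V) (hT : IsAffine T.left) (G : AbEt Y) (n : ℕ)
    (hU : Subsingleton (Ext (A (j ≫ e)) G (n + 1))) (hV : Subsingleton (Ext (A (f ≫ e)) G (n + 1)))
    (hUV : ∀ x, ∃ y, (Ext.mk₀ (AMap q (MVBound.comp_eq (e := e) sq))).comp y (zero_add n) = (x : Ext (A (p ≫ j ≫ e)) G n)) :
    Subsingleton (Ext (A e) G (n + 1)) := by
  let sq' := freeSq e sq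
  have w : biprod.lift (AMap p rfl) (-AMap q (MVBound.comp_eq (e := e) sq)) ≫
      biprod.desc (AMap j (rfl : j ≫ e = _)) (AMap f (rfl : f ≫ e = _)) = 0 := sq'.cokernelCofork.condition
  let Sc := ShortComplex.mk _ _ w
  have hS : Sc.ShortExact := shortExact_sc hE hj sq hsq θ hT rfl rfl rfl (MVBound.comp_eq (e := e) sq) w
  refine subsingleton_of_forall_eq 0 fun x => ?_
  haveI : Subsingleton (Ext Sc.X₂ G (n + 1)) :=
    @Equiv.subsingleton _ _ Ext.biprodAddEquiv.toEquiv (@instSubsingletonProd _ _ hU hV)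
  obtain ⟨x₁, rfl⟩ := Ext.contravariant_sequence_exact₃ hS G x (Subsingleton.elim _ _) (add_comm 1 n)
  obtain ⟨y, hy⟩ := hUV x₁
  have h : Sc.f ≫ (-biprod.snd) = AMap q (MVBound.comp_eq (e := e) sq) := by
    rw [Preadditive.comp_neg]
    show -(biprod.lift _ _ ≫ biprod.snd) = _
    rw [biprod.lift_snd, neg_neg]
  rw [← hy, ← h, ← Ext.mk₀_comp_mk₀_assoc]
  exact hS.extClass_comp_assoc _

/-- Vanishing above the dimension. -/
theorem subsingleton_hModEt [QuasiSeparatedSpace ↥S] (X : Space S) (hqc : IsQuasiCompactSp X.obj)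
    (hqs : IsQuasiSeparatedSp X.obj) (d : ℕ) (hdim : AlgSp.dim X.obj ≤ (d : WithBot ℕ∞)) (M : ModEt X.obj)
    [M.IsQuasicoherent] (q : ℕ) (hq : d < q) : Subsingleton (HModEt X.obj M q) := by
  let G : AbEt X.obj := (toAbEt X.obj).obj M
  have hG : AffAcyclic.IsAcyclic G := AffAcyclic.isAcyclic_of_isQuasicoherent M
  let P : EtSpOver X → Prop := fun W => IsQuasiCompactSp W.obj.left.obj ∧
    ∀ n : ℕ, d < n → Subsingleton (Ext (A W.obj.hom.hom) G n)
  let W₀ : EtSpOver X := ⟨Over.mk (𝟙 X), fun _ φ hφ => by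
    show RepWith @Etale (φ ≫ 𝟙 X.obj)
    exact (Category.comp_id φ).symm ▸ hφ⟩
  have hP : P W₀ := by
    refine InductionPrinciple.induction_principle P
      (fun W => IsQuasiCompactSp W.obj.left.obj ∧ IsQuasiSeparatedSp W.obj.left.obj)
      (fun W U j hW hj hU => ⟨hU, ?_⟩) (fun V T hT he => ⟨?_, ?_⟩)
      (fun W U V UV j f p q hW hU hV hsq hpb hPU hPV hPUV => ⟨hW.1, fun n hn => ?_⟩) (fun W hW => hW) W₀ ⟨hqc, hqs⟩
    · haveI := mono_of_openImm hj
      exact isQuasiSeparatedSp_of_mono j.hom.left.hom hW.2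
    · exact InductionPrinciple.qcqs_of_iso_affine V.obj.left.property hT he.some
    · refine ⟨(InductionPrinciple.qcqs_of_iso_affine V.obj.left.property hT he.some).1, fun n hn => ?_⟩
      haveI := hT
      obtain ⟨n, rfl⟩ : ∃ m, n = m + 1 := ⟨n - 1, by omega⟩
      exact subsingleton_ext_affine _ he.some (V.property he.some.hom (repWith_of_isIso _ _)) n _ hG
    · obtain ⟨T, hT, ⟨θ⟩⟩ := hV
      haveI := hT
      obtain ⟨n, rfl⟩ : ∃ m, n = m + 1 := ⟨n - 1, by omega⟩
      have hju : j.hom.left.hom ≫ W.obj.hom.hom = U.obj.hom.hom := congrArg (fun m => m.hom) (Over.w j.hom)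
      have hfv : f.hom.left.hom ≫ W.obj.hom.hom = V.obj.hom.hom := congrArg (fun m => m.hom) (Over.w f.hom)
      let e₀ : (yon S).obj T ⟶ X.obj := θ.hom ≫ V.obj.hom.hom
      have he₀ : RepWith @Etale e₀ := V.property θ.hom (repWith_of_isIso _ _)
      have hT' := Kronecker.dimLT_of_ringKrullDim_le (ringKrullDim_le_of_etale e₀ he₀ hdim)
      let q₀ : UV.obj.left.obj ⟶ (yon S).obj T := q.hom.left.hom ≫ θ.inv
      have hq₀ : RepWith @IsOpenImmersion q₀ :=
        repWith_comp (repWith_of_isPullback hpb hsq.1) (repWith_of_isIso _ _)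
      have hUVc : IsQuasiCompactSp UV.obj.left.obj := hPUV.1
      obtain ⟨O, a, hOc, ha⟩ := exists_open_iso UV.obj.left.property hUVc hq₀
      have hae : a.hom ≫ eO e₀ O = p.hom.left.hom ≫ j.hom.left.hom ≫ W.obj.hom.hom := by
        show a.hom ≫ (yon S).map (incT O) ≫ θ.hom ≫ V.obj.hom.hom = _
        rw [reassoc_of% ha, show q₀ = q.hom.left.hom ≫ θ.inv from rfl, Category.assoc, θ.inv_hom_id_assoc, ← hfv]
        exact ((Category.assoc _ _ _).symm.trans ((congrArg (· ≫ _) hpb.w.symm).trans (Category.assoc _ _ _)))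
      have hU' : Subsingleton (Ext (A (j.hom.left.hom ≫ W.obj.hom.hom)) G (n + 1)) := by
        rw [hju]; exact hPU.2 _ hn
      have hV' : Subsingleton (Ext (A (f.hom.left.hom ≫ W.obj.hom.hom)) G (n + 1)) := by
        rw [hfv]; exact hPV.2 _ hn
      by_cases hn1 : 1 ≤ n
      · exact subsingleton_ext_step W.obj.left.property hsq.1 hpb hsq θ hT G n hU' hV'
          (subsingleton_ext_iso a hae G n (subsingleton_open e₀ he₀ hT' M O hOc n (by omega) hn1))
      · obtain rfl : d = 0 := by omega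
        obtain rfl : n = 0 := by omega
        refine subsingleton_ext_step_of_surjective W.obj.left.property hsq.1 hpb hsq θ hT G 0 hU' hV' fun x => ?_
        obtain ⟨z, hz⟩ := surjective_open e₀ he₀ hT' M O hOc le_top ((Ext.mk₀ (AMap a.inv (show a.inv ≫
          (p.hom.left.hom ≫ j.hom.left.hom ≫ W.obj.hom.hom) = eO e₀ O by rw [← hae, a.inv_hom_id_assoc]))).comp x
            (zero_add 0))
        -- the map of `V` to the whole chart
        let t : (yon S).obj T ⟶ (yon S).obj (sob (⊤ : T.left.Opens)) :=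
          (yon S).map (Over.homMk T.left.topIso.inv (by
            show T.left.topIso.inv ≫ (⊤ : T.left.Opens).ι ≫ T.hom = T.hom
            rw [Scheme.toIso_inv_ι_assoc]) : T ⟶ sob (⊤ : T.left.Opens))
        have ht : t ≫ eO e₀ ⊤ = e₀ := by
          show (yon S).map _ ≫ (yon S).map _ ≫ e₀ = e₀
          rw [← Category.assoc, ← Functor.map_comp]
          refine (congrArg (fun m => (yon S).map m ≫ e₀) (?_ : _ = 𝟙 T)).trans ?_
          · exact Over.OverMorphism.ext (Scheme.toIso_inv_ι _)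
          · rw [CategoryTheory.Functor.map_id, Category.id_comp]
        have ht' : (θ.inv ≫ t) ≫ eO e₀ ⊤ = f.hom.left.hom ≫ W.obj.hom.hom := by
          rw [Category.assoc, ht, hfv]
          exact θ.inv_hom_id_assoc _
        refine ⟨(Ext.mk₀ (AMap (θ.inv ≫ t) ht')).comp z (zero_add 0), ?_⟩
        have hcomp : a.hom ≫ (yon S).map (inc (le_top : O ≤ ⊤)) = q.hom.left.hom ≫ θ.inv ≫ t := by
          rw [← Category.assoc]
          show _ = q₀ ≫ t
          rw [← ha, Category.assoc]
          refine congrArg (a.hom ≫ ·) ?_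
          rw [← Functor.map_comp]
          refine congrArg (yon S).map (Over.OverMorphism.ext ((cancel_mono (⊤ : T.left.Opens).ι).1 ?_))
          show (T.left.homOfLE (le_top : O ≤ ⊤)) ≫ (⊤ : T.left.Opens).ι = (O.ι ≫ T.left.topIso.inv) ≫ (⊤ : T.left.Opens).ι
          exact (T.left.homOfLE_ι _).trans ((Category.comp_id _).symm.trans
            ((congrArg (O.ι ≫ ·) (Scheme.toIso_inv_ι T.left).symm).trans (Category.assoc _ _ _).symm))
        have key : AMap a.hom hae ≫ r e₀ (le_top : O ≤ ⊤) =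
            AMap q.hom.left.hom (MVBound.comp_eq (e := W.obj.hom.hom) hpb) ≫ AMap (θ.inv ≫ t) ht' :=
          (AMap_comp_eq hae (eO_inc e₀ le_top) (by rw [Category.assoc, eO_inc]; exact hae) rfl).trans
            (AMap_comp_eq _ _ _ hcomp.symm).symm
        rw [Ext.mk₀_comp_mk₀_assoc, ← key, ← Ext.mk₀_comp_mk₀_assoc, ← ρ_apply, hz, Ext.mk₀_comp_mk₀_assoc,
          AMap_comp_eq hae _ (Category.id_comp _) a.hom_inv_id]
        refine (congrArg (fun m => (Ext.mk₀ m).comp x (zero_add 0)) ?_).trans (Ext.mk₀_id_comp x)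
        show (presheafToSheaf (etTop X.obj) AddCommGrpCat.{u + 1}).map _ = _
        rw [show preMap (𝟙 UV.obj.left.obj) (Category.id_comp (p.hom.left.hom ≫ j.hom.left.hom ≫ W.obj.hom.hom)) =
          𝟙 (pre _) from ?_, Functor.whiskerRight_id', CategoryTheory.Functor.map_id]
        · rfl
        · ext W' y
          exact Subtype.ext (Category.comp_id _)
  obtain ⟨i⟩ := nonempty_iso_top (X := X.obj)
  haveI : Subsingleton (Ext (A (𝟙 X.obj)) G q) := hP.2 q hq
  show Subsingleton (Ext ((constantSheaf (etTop X.obj) AddCommGrpCat.{u + 1}).obj PushSections.Z.{u}) G q)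
  exact @Equiv.subsingleton _ _
    (((extFunctor.{u + 1} q).mapIso i.op).app G).addCommGroupIsoToAddEquiv.toEquiv ‹_›

end Groth.Agent.AlgSpWA.DimVanish
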