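import Groth.Agent.AlgSpWA.MVSheaf
import Groth.Agent.AlgSpDec.LqfQuot
import Groth.Agent.AlgSpDec.LqfSplitZ

/-!
# An elementary distinguished square is a pushout among algebraic spaces

Morphisms out of the big corner are the same as compatible morphisms out of the open part and out of the etale part.
-/

set_option autoImplicit false
set_option backward.isDefEq.respectTransparency false
set_option backward.isDefEq.respectTransparency.types false
set_option linter.style.haveILetI false

noncomputable section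

universe u

open CategoryTheory CategoryTheory.Limits AlgebraicGeometry Opposite AlgSp

namespace Groth.Agent.AlgSpWA.ElemPushout

open Groth.Agent.AlgSpDec Groth.Agent.AlgSpDec.SymPower Groth.Agent.AlgSpLib Groth.Agent.AlgSpPts
open Groth.Agent.AlgSpWA.MVSheaf

variable {S : Scheme.{u}} {U V W P G : Sp S} {j : U ⟶ W} {f : V ⟶ W} {p : P ⟶ U} {q : P ⟶ V}

theorem repWith_etale_of_openImm {F F' : Sp S} {m : F ⟶ F'} (hm : RepWith @IsOpenImmersion m) :
    RepWith @Etale m :=
  repWith_mono (fun _ _ g (_ : IsOpenImmersion g) => (inferInstance : Etale g)) _ hm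

variable (hW : IsAlgSpace W) (hsq : IsElemDistSq j f) (sq : IsPullback p q j f) (bU : U ⟶ G) (bV : V ⟶ G)
  (hb : p ≫ bU = q ≫ bV)

include hsq in
theorem mono_left : Mono j := mono_of_openImm hsq.1

include sq hb in
/-- The two maps agree on a point of the open part and a point of the etale part with one image. -/
theorem eq_of_eq_mixed {T : Over S} (x : (yon S).obj T ⟶ U) (y : (yon S).obj T ⟶ V) (h : x ≫ j = y ≫ f) :
    x ≫ bU = y ≫ bV := by
  rw [← sq.lift_fst x y h, Category.assoc, hb, ← Category.assoc, sq.lift_snd]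

include hW hsq sq hb in
/-- The key case: two points of a chart of the etale part with one image. -/
theorem eq_of_eq_chart {V0 : Over S} {a : (yon S).obj V0 ⟶ V} (ha : RepWith @Etale a) {T : Over S}
    (l l' : T ⟶ V0) (h : ((yon S).map l ≫ a) ≫ f = ((yon S).map l' ≫ a) ≫ f) :
    ((yon S).map l ≫ a) ≫ bV = ((yon S).map l' ≫ a) ≫ bV := by
  have hg : RepWith @Etale (a ≫ f) := hsq.2.1 a ha
  let M : Over S := hg.rep.pullback (a ≫ f)
  let N : Over S := ha.rep.pullback a
  have sqM : IsPullback ((yon S).map (hg.rep.fst' (a ≫ f))) ((yon S).map (hg.rep.snd (a ≫ f))) (a ≫ f) (a ≫ f) :=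
    hg.rep.isPullback' (a ≫ f)
  have sqN : IsPullback ((yon S).map (ha.rep.fst' a)) ((yon S).map (ha.rep.snd a)) a a := ha.rep.isPullback' a
  obtain ⟨ι, hι⟩ := (yon S).map_surjective (sqM.lift ((yon S).map (ha.rep.fst' a)) ((yon S).map (ha.rep.snd a))
    (by rw [← Category.assoc, sqN.w, Category.assoc]))
  have hι₁ : ι ≫ hg.rep.fst' (a ≫ f) = ha.rep.fst' a :=
    (yon S).map_injective (by rw [Functor.map_comp, hι, sqM.lift_fst])
  have hι₂ : ι ≫ hg.rep.snd (a ≫ f) = ha.rep.snd a :=
    (yon S).map_injective (by rw [Functor.map_comp, hι, sqM.lift_snd])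
  haveI : Etale ι.left := by
    refine MorphismProperty.of_postcomp (W := @Etale) (W' := @Etale) ι.left (hg.rep.snd (a ≫ f)).left
      (hg.property_snd _) ?_
    rw [← Over.comp_left, hι₂]
    exact ha.property_snd _
  haveI : Mono ι := ⟨fun {Z} x y e => (yon S).map_injective (sqN.hom_ext
    (by rw [← Functor.map_comp, ← Functor.map_comp, ← hι₁, reassoc_of% e])
    (by rw [← Functor.map_comp, ← Functor.map_comp, ← hι₂, reassoc_of% e]))⟩
  haveI : Mono ι.left := inferInstanceAs (Mono ((Over.forget S).map ι))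
  haveI : IsOpenImmersion ι.left := IsOpenImmersion.of_flat_of_mono _
  obtain ⟨m, hm⟩ := (yon S).map_surjective (sqM.lift ((yon S).map l) ((yon S).map l')
    (by rw [← Category.assoc, ← Category.assoc]; exact h))
  have hm₁ : m ≫ hg.rep.fst' (a ≫ f) = l := (yon S).map_injective (by rw [Functor.map_comp, hm, sqM.lift_fst])
  have hm₂ : m ≫ hg.rep.snd (a ≫ f) = l' := (yon S).map_injective (by rw [Functor.map_comp, hm, sqM.lift_snd])
  let O : ULift.{u} Bool → T.left.Opens := fun i => if i.down then
      ⟨m.left ⁻¹' Set.range ι.left, ι.left.isOpenEmbedding.isOpen_range.preimage m.left.continuous⟩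
    else ⟨Points.ofPt (((yon S).map l ≫ a) ≫ f) ⁻¹' Set.range (Points.map j),
      (isOpen_range_openImm hW hsq.1).preimage (Points.continuous_ofPt _)⟩
  have hO : TopologicalSpace.IsOpenCover O := by
    refine TopologicalSpace.Opens.ext (Set.eq_univ_of_forall fun t => ?_)
    simp only [TopologicalSpace.Opens.coe_iSup, Set.mem_iUnion]
    by_cases ht : Points.ofPt (((yon S).map l ≫ a) ≫ f) t ∈ Set.range (Points.map j)
    · exact ⟨⟨false⟩, ht⟩
    · refine ⟨⟨true⟩, ?_⟩
      show m.left t ∈ Set.range ι.left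
      haveI : IsReduced (Over.mk (T.left.fromSpecResidueField t ≫ T.hom)).left :=
        inferInstanceAs (IsReduced (Spec (T.left.residueField t)))
      have e : (yon S).map (ptOver t ≫ l) ≫ a = (yon S).map (ptOver t ≫ l') ≫ a := by
        refine lift_unique hsq _ _ ?_ fun z => ?_
        · simp only [Functor.map_comp, Category.assoc] at h ⊢
          rw [h]
        · rw [Functor.map_comp, Category.assoc, Category.assoc, ofPt_comp, ptOver_apply]
          rw [Category.assoc] at ht
          exact ht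
      obtain ⟨n, hn⟩ := (yon S).map_surjective (sqN.lift _ _ e)
      have hn₁ : n ≫ ha.rep.fst' a = ptOver t ≫ l := (yon S).map_injective (by
        rw [Functor.map_comp, hn, sqN.lift_fst])
      have hn₂ : n ≫ ha.rep.snd a = ptOver t ≫ l' := (yon S).map_injective (by
        rw [Functor.map_comp, hn, sqN.lift_snd])
      have hne : n ≫ ι = ptOver t ≫ m := (yon S).map_injective (sqM.hom_ext
        (by rw [← Functor.map_comp, ← Functor.map_comp, Category.assoc, Category.assoc, hι₁, hm₁, hn₁])
        (by rw [← Functor.map_comp, ← Functor.map_comp, Category.assoc, Category.assoc, hι₂, hm₂, hn₂]))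
      obtain ⟨z⟩ : Nonempty ↥(Over.mk (T.left.fromSpecResidueField t ≫ T.hom)).left :=
        inferInstanceAs (Nonempty ↥(Spec (T.left.residueField t)))
      refine ⟨n.left z, ?_⟩
      rw [← Scheme.Hom.comp_apply, ← Over.comp_left, hne, Over.comp_left, Scheme.Hom.comp_apply, ptOver_apply]
  refine hom_ext_of_openCover (T.left.openCoverOfIsOpenCover O hO) _ _ fun i => ?_
  let k : Over.mk ((O i).ι ≫ T.hom) ⟶ T := Over.homMk (O i).ι rfl
  show (yon S).map k ≫ _ = (yon S).map k ≫ _
  have hk : ∀ z, k.left z ∈ O i := fun z => z.2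
  rcases i with ⟨(_ | _)⟩
  · obtain ⟨y, hy⟩ := Groth.Agent.AlgSpDec.exists_factor_open hsq.1 ((yon S).map k ≫ ((yon S).map l ≫ a) ≫ f)
      fun z => by rw [ofPt_comp]; exact hk z
    have e₁ := eq_of_eq_mixed sq bU bV hb y ((yon S).map k ≫ (yon S).map l ≫ a)
      (by rw [hy]; simp only [Category.assoc])
    have e₂ := eq_of_eq_mixed sq bU bV hb y ((yon S).map k ≫ (yon S).map l' ≫ a)
      (by rw [hy, h]; simp only [Category.assoc])
    simp only [Category.assoc] at e₁ e₂ ⊢
    rw [← e₁, ← e₂]
  · obtain ⟨n, hn⟩ := exists_factor_openImm ι (k ≫ m) fun z => by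
      rw [Over.comp_left, Scheme.Hom.comp_apply]; exact hk z
    have e : (yon S).map (k ≫ l) ≫ a = (yon S).map (k ≫ l') ≫ a := by
      rw [← hm₁, ← hm₂, ← reassoc_of% hn, ← reassoc_of% hn, hι₁, hι₂, Functor.map_comp, Functor.map_comp,
        Category.assoc, Category.assoc, sqN.w]
    simp only [Functor.map_comp, Category.assoc] at e ⊢
    rw [reassoc_of% e]

include hW hsq sq hb in
/-- Two points of the etale part with one image. -/
theorem eq_of_eq_etale (hV : IsAlgSpace V) {T : Over S} (x y : (yon S).obj T ⟶ V) (h : x ≫ f = y ≫ f) :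
    x ≫ bV = y ≫ bV := by
  obtain ⟨V0, a, ha, has⟩ := hV.atlas
  haveI : Etale (ha.rep.snd x).left := ha.property_snd _
  haveI : Surjective (ha.rep.snd x).left := has.property_snd _
  refine hom_ext_of_fppf (ha.rep.snd x) (fppf_of_etale _) _ _ ?_
  let y' := (yon S).map (ha.rep.snd x) ≫ y
  haveI : Etale (ha.rep.snd y').left := ha.property_snd _
  haveI : Surjective (ha.rep.snd y').left := has.property_snd _
  refine hom_ext_of_fppf (ha.rep.snd y') (fppf_of_etale _) _ _ ?_
  have ex := (ha.rep.isPullback' x).w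
  have ey := (ha.rep.isPullback' y').w
  have key := eq_of_eq_chart hW hsq sq bU bV hb ha (ha.rep.snd y' ≫ ha.rep.fst' x) (ha.rep.fst' y') (by
    rw [Functor.map_comp, Category.assoc, Category.assoc, Category.assoc, reassoc_of% ex, h,
      reassoc_of% ey]
    simp only [y', Category.assoc])
  rw [Functor.map_comp, Category.assoc, Category.assoc, Category.assoc, reassoc_of% ex, reassoc_of% ey] at key
  exact key

include hW hsq sq hb in
/-- Compatible maps out of the two parts glue uniquely. -/
theorem existsUnique_desc (hU : IsAlgSpace U) (hV : IsAlgSpace V) :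
    ∃! c : W ⟶ G, j ≫ c = bU ∧ f ≫ c = bV := by
  obtain ⟨U0, aU, haU, haUs⟩ := hU.atlas
  obtain ⟨V0, aV, haV, haVs⟩ := hV.atlas
  let T : ULift.{u} Bool → Over S := fun i => if i.down then U0 else V0
  let mk : ∀ i, (yon S).obj (T i) ⟶ W := fun i => match i with
    | ⟨true⟩ => aU ≫ j
    | ⟨false⟩ => aV ≫ f
  let gk : ∀ i, (yon S).obj (T i) ⟶ G := fun i => match i with
    | ⟨true⟩ => aU ≫ bU
    | ⟨false⟩ => aV ≫ bV
  obtain ⟨c, hc⟩ := exists_hom_sigma T mk
  obtain ⟨g, hg⟩ := exists_hom_sigma T gk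
  have hce : RepWith @Etale c := by
    refine repWith_etale_sigma (hW.representable_from_yon c) fun i => ?_
    rw [hc]
    rcases i with ⟨(_ | _)⟩
    · exact hsq.2.1 aV haV
    · exact repWith_comp haU (repWith_etale_of_openImm hsq.1)
  have hcs : RepWith @Surjective c := repWith_surjective_of_surjective hce.rep fun w => by
    have lift : ∀ i (t : Points ((yon S).obj (T i))), Points.map (mk i) t = w →
        w ∈ Set.range (Points.map c) := fun i t ht => ⟨Points.map ((yon S).map (sigmaι T i)) t, by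
      rw [← Points.map_comp, hc, ht]⟩
    by_cases hw : w ∈ Set.range (Points.map j)
    · obtain ⟨z, rfl⟩ := hw
      obtain ⟨z₀, rfl⟩ := surjective_map_of_repWith haUs z
      exact lift ⟨true⟩ z₀ (Points.map_comp _ _ _)
    · obtain ⟨v, rfl⟩ := exists_point_chart hsq hw
      obtain ⟨v₀, rfl⟩ := surjective_map_of_repWith haVs v
      exact lift ⟨false⟩ v₀ (Points.map_comp _ _ _)
  haveI := isLocallySurjective_of_etale_surjective hce hcs
  haveI := mono_left hsq
  have comp : ∀ {Z : Over S} (i i' : ULift.{u} Bool) (x : Z ⟶ T i) (y : Z ⟶ T i'),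
      (yon S).map x ≫ mk i = (yon S).map y ≫ mk i' → (yon S).map x ≫ gk i = (yon S).map y ≫ gk i' := by
    intro Z i i' x y e
    rcases i with ⟨(_ | _)⟩ <;> rcases i' with ⟨(_ | _)⟩ <;>
      simp only [mk, gk, ← Category.assoc] at e ⊢
    · exact eq_of_eq_etale hW hsq sq bU bV hb hV _ _ e
    · exact (eq_of_eq_mixed sq bU bV hb _ _ e.symm).symm
    · exact eq_of_eq_mixed sq bU bV hb _ _ e
    · rw [(cancel_mono j).1 e]
  obtain ⟨d, hd⟩ := exists_desc_of_kernelPair (hce.rep.isPullback' c) g (by
    let R := hce.rep.pullback c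
    let s := hce.rep.fst' c
    let t := hce.rep.snd c
    let ι' := ULift.{u} Bool × ULift.{u} Bool
    let O : ι' → R.left.Opens := fun i =>
      (s.left ⁻¹ᵁ (sigmaι T i.1).left.opensRange) ⊓ (t.left ⁻¹ᵁ (sigmaι T i.2).left.opensRange)
    have hO : TopologicalSpace.IsOpenCover O := by
      refine TopologicalSpace.Opens.ext (Set.eq_univ_of_forall fun r => ?_)
      simp only [TopologicalSpace.Opens.coe_iSup, Set.mem_iUnion]
      obtain ⟨i, v, hv⟩ := exists_sigmaι T (s.left r)
      obtain ⟨i', v', hv'⟩ := exists_sigmaι T (t.left r)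
      exact ⟨(i, i'), ⟨v, hv⟩, ⟨v', hv'⟩⟩
    refine hom_ext_of_openCover (R.left.openCoverOfIsOpenCover O hO) _ _ fun i => ?_
    let k : Over.mk ((O i).ι ≫ R.hom) ⟶ R := Over.homMk (O i).ι rfl
    show (yon S).map k ≫ _ = (yon S).map k ≫ _
    obtain ⟨x, hx⟩ := exists_factor_openImm (sigmaι T i.1) (k ≫ s) fun z => by
      rw [Over.comp_left, Scheme.Hom.comp_apply]; exact z.2.1
    obtain ⟨y, hy⟩ := exists_factor_openImm (sigmaι T i.2) (k ≫ t) fun z => by
      rw [Over.comp_left, Scheme.Hom.comp_apply]; exact z.2.2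
    rw [← Category.assoc, ← Functor.map_comp, ← hx, Functor.map_comp, Category.assoc, hg,
      ← Category.assoc, ← Functor.map_comp, ← hy, Functor.map_comp, Category.assoc, hg]
    refine comp _ _ x y ?_
    rw [← hc, ← hc, ← Category.assoc, ← Functor.map_comp, hx, ← Category.assoc, ← Functor.map_comp, hy,
      Functor.map_comp, Functor.map_comp, Category.assoc, Category.assoc, (hce.rep.isPullback' c).w])
  haveI := epi_of_etale_surjective haU haUs
  haveI := epi_of_etale_surjective haV haVs
  refine ⟨d, ⟨?_, ?_⟩, fun d' hd' => ?_⟩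
  · have h := hc ⟨true⟩
    rw [← cancel_epi aU, ← Category.assoc]
    show (mk ⟨true⟩) ≫ d = gk ⟨true⟩
    rw [← h, Category.assoc, hd, hg]
  · rw [← cancel_epi aV, ← Category.assoc]
    show (mk ⟨false⟩) ≫ d = gk ⟨false⟩
    rw [← hc ⟨false⟩, Category.assoc, hd, hg]
  · haveI := epi_of_etale_surjective hce hcs
    rw [← cancel_epi c, hd]
    refine hom_ext_sigma T fun i => ?_
    rw [← Category.assoc, hc, hg]
    rcases i with ⟨(_ | _)⟩
    · show (aV ≫ f) ≫ d' = aV ≫ bV
      rw [Category.assoc, hd'.2]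
    · show (aU ≫ j) ≫ d' = aU ≫ bU
      rw [Category.assoc, hd'.1]

/-- The square is a pushout in algebraic spaces. -/
theorem isPushout {U V W P : Space S} (j : U ⟶ W) (f : V ⟶ W) (hsq : IsElemDistSq j.hom f.hom) (p : P ⟶ U)
    (q : P ⟶ V) (hP : IsPullback p.hom q.hom j.hom f.hom) : IsPushout p q j f := by
  have w : p ≫ j = q ≫ f := ObjectProperty.hom_ext _ hP.w
  have ex : ∀ s : PushoutCocone p q, ∃! c : W.obj ⟶ s.pt.obj, j.hom ≫ c = s.inl.hom ∧ f.hom ≫ c = s.inr.hom :=
    fun s => existsUnique_desc W.property hsq hP s.inl.hom s.inr.hom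
      (congrArg InducedCategory.Hom.hom s.condition) U.property V.property
  exact IsPushout.of_isColimit (PushoutCocone.IsColimit.mk w
    (fun s => ObjectProperty.homMk (ex s).choose)
    (fun s => ObjectProperty.hom_ext _ (ex s).choose_spec.1.1)
    (fun s => ObjectProperty.hom_ext _ (ex s).choose_spec.1.2)
    (fun s m h₁ h₂ => ObjectProperty.hom_ext _ ((ex s).choose_spec.2 m.hom
      ⟨congrArg InducedCategory.Hom.hom h₁, congrArg InducedCategory.Hom.hom h₂⟩)))

end Groth.Agent.AlgSpWA.ElemPushout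

end
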