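import Groth.Agent.AlgSpWA.ElemPushout
import Groth.Agent.AlgSpLib.ClosedImmDesc
import Groth.Agent.AlgSpLib.Covers
import Groth.Agent.AlgSpLib.EtLocalInst

/-!
# Separatedness over an elementary distinguished square

The diagonal is a closed immersion on each of the four pieces of the etale cover given by the two parts.
-/

set_option autoImplicit false
set_option backward.isDefEq.respectTransparency false
set_option backward.isDefEq.respectTransparency.types false
set_option linter.style.haveILetI false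

noncomputable section

universe v u

open CategoryTheory CategoryTheory.Limits AlgebraicGeometry Opposite AlgSp

namespace Groth.Agent.AlgSpWA.ElemSep

section Abstract

variable {C : Type*} [Category.{v} C] [HasPullbacks C] {X Y A B A' B' : C}

/-- The map of fibre products given by two maps. -/
abbrev prodMap (a : A' ⟶ A) (b : B' ⟶ B) (fA : A ⟶ X) (fB : B ⟶ X) :
    pullback (a ≫ fA) (b ≫ fB) ⟶ pullback fA fB :=
  pullback.map (a ≫ fA) (b ≫ fB) fA fB a b (𝟙 X) (Category.comp_id _) (Category.comp_id _)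

/-- The comparison for composites is a base change of the comparison. -/
theorem isPullback_mapDesc (a : A' ⟶ A) (b : B' ⟶ B) (fA : A ⟶ X) (fB : B ⟶ X) (g : X ⟶ Y) :
    IsPullback (prodMap a b fA fB) (pullback.mapDesc (a ≫ fA) (b ≫ fB) g) (pullback.mapDesc fA fB g)
      (pullback.map ((a ≫ fA) ≫ g) ((b ≫ fB) ≫ g) (fA ≫ g) (fB ≫ g) a b (𝟙 Y) (by simp) (by simp)) := by
  refine IsPullback.of_right ?_ ?_ (pullback_map_diagonal_isPullback fA fB g)
  · have h := pullback_map_diagonal_isPullback (a ≫ fA) (b ≫ fB) g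
    convert h using 1
    · simp [prodMap]
    · ext <;> simp
  · ext <;> simp [prodMap]

/-- Changing the first factor is a base change. -/
theorem isPullback_prodMap_left (a : A' ⟶ A) (fA : A ⟶ X) (fB : B ⟶ X) :
    IsPullback (pullback.fst (a ≫ fA) fB)
      (pullback.map (a ≫ fA) fB fA fB a (𝟙 _) (𝟙 X) (Category.comp_id _) (by simp)) a (pullback.fst fA fB) := by
  refine IsPullback.of_bot ?_ ?_ (IsPullback.of_hasPullback fA fB)
  · convert IsPullback.of_hasPullback (a ≫ fA) fB using 1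
    simp
  · simp

/-- Changing the second factor is a base change. -/
theorem isPullback_prodMap_right (b : B' ⟶ B) (fA : A ⟶ X) (fB : B ⟶ X) :
    IsPullback (pullback.snd fA (b ≫ fB))
      (pullback.map fA (b ≫ fB) fA fB (𝟙 _) b (𝟙 X) (by simp) (Category.comp_id _)) b (pullback.snd fA fB) := by
  refine IsPullback.of_bot ?_ ?_ (IsPullback.of_hasPullback fA fB).flip
  · convert (IsPullback.of_hasPullback fA (b ≫ fB)).flip using 1
    simp
  · simp

theorem prodMap_eq (a : A' ⟶ A) (b : B' ⟶ B) (fA : A ⟶ X) (fB : B ⟶ X) :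
    prodMap a b fA fB =
      pullback.map (a ≫ fA) (b ≫ fB) fA (b ≫ fB) a (𝟙 _) (𝟙 X) (Category.comp_id _) (by simp) ≫
        pullback.map fA (b ≫ fB) fA fB (𝟙 _) b (𝟙 X) (by simp) (Category.comp_id _) := by
  ext <;> simp [prodMap]

end Abstract

open Groth.Agent.AlgSpDec Groth.Agent.AlgSpLib Groth.Agent.AlgSpPts Groth.Agent.AlgSpWA.ElemPushout
open Groth.Agent.AlgSpWA.MVSheaf

variable {S : Scheme.{u}}

theorem repWith_prodMap {P : MorphismProperty Scheme.{u}} [P.IsStableUnderComposition] {A A' B B' X : Sp S}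
    {a : A' ⟶ A} {b : B' ⟶ B} (fA : A ⟶ X) (fB : B ⟶ X) (ha : RepWith P a) (hb : RepWith P b) :
    RepWith P (prodMap a b fA fB) := by
  rw [prodMap_eq]
  exact repWith_comp (repWith_of_isPullback (isPullback_prodMap_left a fA (b ≫ fB)) ha)
    (repWith_of_isPullback (isPullback_prodMap_right b fA fB) hb)

theorem exists_point_prodMap {A A' B B' X : Sp S} (a : A' ⟶ A) (b : B' ⟶ B) (fA : A ⟶ X) (fB : B ⟶ X)
    {z : Points (pullback fA fB)} {x : Points A'} {y : Points B'}
    (hx : Points.map a x = Points.map (pullback.fst fA fB) z)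
    (hy : Points.map b y = Points.map (pullback.snd fA fB) z) :
    ∃ w, Points.map (prodMap a b fA fB) w = z := by
  obtain ⟨z₁, -, hz₁⟩ := exists_point_of_isPullback (isPullback_prodMap_right b fA fB) hy
  obtain ⟨z₂, -, hz₂⟩ := exists_point_of_isPullback (isPullback_prodMap_left a fA (b ≫ fB))
    (x := x) (y := z₁) (by
      rw [hx, ← hz₁, ← Points.map_comp]
      congr 1
      simp)
  exact ⟨z₂, by rw [prodMap_eq, Points.map_comp, hz₂, hz₁]⟩

variable {U V X Y : Sp S} {g : X ⟶ Y} {j : U ⟶ X} {f : V ⟶ X}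

theorem repWith_mapDesc_self (hj : RepWith @IsOpenImmersion j) (hU : IsSeparatedMor (j ≫ g)) :
    RepWith @IsClosedImmersion (pullback.mapDesc j j g) := by
  haveI := AlgSpDec.mono_of_openImmersion hj
  refine repWith_of_isPullback (IsPullback.of_horiz_isIso ⟨?_⟩) hU
    (fst := pullback.fst j j) (g := 𝟙 (pullback (j ≫ g) (j ≫ g)))
  apply pullback.hom_ext
  · simp
  · simp [← cancel_mono j, pullback.condition]

theorem repWith_mapDesc_of_cones {A B PX PY : Sp S} {fA : A ⟶ X} {fB : B ⟶ X} {pX : PX ⟶ A} {qX : PX ⟶ B}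
    (hPX : IsPullback pX qX fA fB) {pY : PY ⟶ A} {qY : PY ⟶ B} (hPY : IsPullback pY qY (fA ≫ g) (fB ≫ g))
    {c : PX ⟶ PY} (hc₁ : c ≫ pY = pX) (hc₂ : c ≫ qY = qX) {P : MorphismProperty Scheme.{u}} (hc : RepWith P c) :
    RepWith P (pullback.mapDesc fA fB g) :=
  repWith_of_isPullback (fst := hPX.isoPullback.inv) (g := hPY.isoPullback.inv) (IsPullback.of_horiz_isIso ⟨by
    apply hPY.hom_ext
    · simp [hc₁]
    · simp [hc₂]⟩) hc

theorem repWith_mapDesc_symm {A B : Sp S} {fA : A ⟶ X} {fB : B ⟶ X} {P : MorphismProperty Scheme.{u}}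
    (h : RepWith P (pullback.mapDesc fA fB g)) : RepWith P (pullback.mapDesc fB fA g) :=
  repWith_of_isPullback (fst := (pullbackSymmetry fB fA).hom) (g := (pullbackSymmetry (fB ≫ g) (fA ≫ g)).hom)
    (IsPullback.of_horiz_isIso ⟨by ext <;> simp⟩) h

theorem repWith_isImmersion_of_cones {PX PY : Sp S} (hj : RepWith @IsOpenImmersion j)
    (hU : IsSeparatedMor (j ≫ g)) {pX : PX ⟶ U} {qX : PX ⟶ V} (hPX : IsPullback pX qX j f) {pY : PY ⟶ U}
    {qY : PY ⟶ V} (hPY : IsPullback pY qY (j ≫ g) (f ≫ g)) {c : PX ⟶ PY} (hc₁ : c ≫ pY = pX) (hc₂ : c ≫ qY = qX) :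
    RepWith @IsImmersion c := by
  have hqX : RepWith @IsOpenImmersion qX := repWith_of_isPullback hPX hj
  let o := pullback.fst qY qX
  have ho : RepWith @IsOpenImmersion o := repWith_of_isPullback (IsPullback.of_hasPullback qY qX).flip hqX
  let s : PX ⟶ pullback qY qX := pullback.lift c (𝟙 _) (by simp [hc₂])
  let φ : pullback qY qX ⟶ pullback (j ≫ g) (j ≫ g) :=
    pullback.lift (o ≫ pY) (pullback.snd qY qX ≫ pX) (by
      simp only [o, Category.assoc]
      rw [hPY.w, reassoc_of% (pullback.condition (f := qY) (g := qX)), reassoc_of% hPX.w])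
  have sqs : IsPullback pX s (pullback.diagonal (j ≫ g)) φ := by
    refine ⟨⟨?_⟩, ⟨PullbackCone.IsLimit.mk _ (fun t => t.snd ≫ pullback.snd qY qX) (fun t => ?_) (fun t => ?_)
      (fun t m _ h₂ => ?_)⟩⟩
    · ext <;> simp [s, o, φ, hc₁]
    · have h := congrArg (· ≫ pullback.snd _ _) t.condition
      simp [φ] at h
      simpa using h.symm
    · have h₁ := congrArg (· ≫ pullback.fst _ _) t.condition
      have h₂ := congrArg (· ≫ pullback.snd _ _) t.condition
      simp [φ, o] at h₁ h₂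
      apply pullback.hom_ext
      · apply hPY.hom_ext
        · simp [s, hc₁, ← h₂, h₁]
        · simp [s, hc₂, pullback.condition]
      · simp [s]
    · rw [← h₂]
      simp [s]
  have hs : RepWith @IsClosedImmersion s := repWith_of_isPullback sqs hU
  have e : c = s ≫ o := by simp [s, o]
  rw [e]
  exact repWith_comp (repWith_mono (fun _ _ k (_ : IsClosedImmersion k) => inferInstanceAs (IsImmersion k)) _ hs)
    (repWith_mono (fun _ _ k (_ : IsOpenImmersion k) => inferInstanceAs (IsImmersion k)) _ ho)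

/-- An immersion with closed image is a closed immersion. -/
theorem repWith_closedImm_of_isClosed_range {F G : Sp S} {c : F ⟶ G} (hc : RepWith @IsImmersion c)
    (h : IsClosed (Set.range (Points.map c))) : RepWith @IsClosedImmersion c := by
  refine repWith_of_squares fun T t => ⟨_, hc.rep.fst t, hc.rep.snd t, hc.rep.isPullback t, ?_⟩
  haveI : IsImmersion (hc.rep.snd t).left := hc.property_snd t
  refine IsClosedImmersion.of_isPreimmersion _ ?_
  have e : Set.range (hc.rep.snd t).left = Points.ofPt t ⁻¹' Set.range (Points.map c) := by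
    ext x
    refine ⟨?_, fun ⟨z, hz⟩ => ?_⟩
    · rintro ⟨r, rfl⟩
      exact ⟨Points.ofPt (hc.rep.fst t) r, by rw [Points.map_ofPt, (hc.rep.isPullback t).w, ofPt_comp]⟩
    · obtain ⟨w, -, hw⟩ := exists_point_of_isPullback (hc.rep.isPullback t)
        (y := Points.ofScheme T x) (by rw [hz, Points.ofPt_eq_map_ofScheme])
      refine ⟨Points.toScheme _ w, ?_⟩
      refine ((Points.toScheme_ofPt (hc.rep.snd t) _).symm.trans (congrArg (Points.toScheme T) ?_)).trans
        (Points.toScheme_ofScheme T x)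
      rw [Points.ofPt_eq_map_ofScheme, Points.ofScheme_toScheme]
      exact hw
  rw [e]
  exact h.preimage (Points.continuous_ofPt _)

/-- Separatedness from the two parts. -/
theorem isSeparatedMor (hX : IsAlgSpace X) (hY : IsAlgSpace Y) (hsq : IsElemDistSq j f) (hU' : IsAlgSpace U)
    (hV' : IsAlgSpace V) (hU : IsSeparatedMor (j ≫ g))
    (hUV : RepWith @IsClosedImmersion (pullback.mapDesc j f g))
    (hVV : RepWith @IsClosedImmersion (pullback.mapDesc f f g)) : IsSeparatedMor g := by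
  obtain ⟨U0, aU, haU, haUs⟩ := hU'.atlas
  obtain ⟨V0, aV, haV, haVs⟩ := hV'.atlas
  let T : ULift.{u} Bool → Over S := fun i => if i.down then U0 else V0
  let mk : ∀ i, (yon S).obj (T i) ⟶ X := fun i => match i with
    | ⟨true⟩ => aU ≫ j
    | ⟨false⟩ => aV ≫ f
  have hmk : ∀ i, RepWith @Etale (mk i) := by
    rintro ⟨(_ | _)⟩
    · exact hsq.2.1 aV haV
    · exact repWith_comp haU (repWith_etale_of_openImm hsq.1)
  have hsurj : ∀ x : Points X, ∃ i t, Points.map (mk i) t = x := fun x => by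
    by_cases hw : x ∈ Set.range (Points.map j)
    · obtain ⟨z, rfl⟩ := hw
      obtain ⟨z₀, rfl⟩ := surjective_map_of_repWith haUs z
      exact ⟨⟨true⟩, z₀, Points.map_comp _ _ _⟩
    · obtain ⟨v, rfl⟩ := exists_point_chart hsq hw
      obtain ⟨v₀, rfl⟩ := surjective_map_of_repWith haVs v
      exact ⟨⟨false⟩, v₀, Points.map_comp _ _ _⟩
  have hgood : ∀ i i', RepWith @IsClosedImmersion (pullback.mapDesc (mk i) (mk i') g) := by
    rintro ⟨(_ | _)⟩ ⟨(_ | _)⟩
    · exact repWith_of_isPullback (isPullback_mapDesc aV aV f f g) hVV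
    · exact repWith_of_isPullback (isPullback_mapDesc aV aU f j g) (repWith_mapDesc_symm hUV)
    · exact repWith_of_isPullback (isPullback_mapDesc aU aV j f g) hUV
    · exact repWith_of_isPullback (isPullback_mapDesc aU aU j j g) (repWith_mapDesc_self hsq.1 hU)
  have hXX := isAlgSpace_pullback hX hX hY g g
  have hcov : IsFppfCover (fun i : ULift.{u} Bool × ULift.{u} Bool => pullback (mk i.1 ≫ g) (mk i.2 ≫ g))
      fun i => prodMap (mk i.1) (mk i.2) g g := by
    refine ⟨fun i => ?_, fun z => ?_⟩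
    · have h := repWith_prodMap g g (hmk i.1) (hmk i.2)
      exact ⟨locP_of_repWith (repWith_mono (fun _ _ k (_ : Etale k) => inferInstanceAs (Flat k)) _ h),
        locP_of_repWith (repWith_mono
          (fun _ _ k (_ : Etale k) => inferInstanceAs (LocallyOfFinitePresentation k)) _ h)⟩
    · obtain ⟨i, x, hx⟩ := hsurj (Points.map (pullback.fst g g) z)
      obtain ⟨i', y, hy⟩ := hsurj (Points.map (pullback.snd g g) z)
      exact ⟨(i, i'), exists_point_prodMap (mk i) (mk i') g g hx hy⟩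
  have hYi : ∀ i : ULift.{u} Bool × ULift.{u} Bool, IsAlgSpace (pullback (mk i.1 ≫ g) (mk i.2 ≫ g)) := fun i =>
    isAlgSpace_pullback (IsAlgSpace.yon_obj _) (IsAlgSpace.yon_obj _) hY _ _
  exact (isLocalOnBase_fpqc_isClosedImmersion _ _ hXX hYi (isFpqcCover_of_isFppfCover hXX hYi _ hcov)
    (pullback.diagonal g) hX _ _ _
    (fun i => isAlgSpace_pullback (IsAlgSpace.yon_obj _) (IsAlgSpace.yon_obj _) hX (mk i.1) (mk i.2))
    (fun i => pullback_map_diagonal_isPullback (mk i.1) (mk i.2) g)).2 fun i => hgood i.1 i.2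

/-- Separatedness over a square in terms of chosen fibre products. -/
theorem isSeparatedMor_of_cones (hX : IsAlgSpace X) (hY : IsAlgSpace Y) (hsq : IsElemDistSq j f)
    (hU' : IsAlgSpace U) (hV' : IsAlgSpace V) (hU : IsSeparatedMor (j ≫ g))
    {PX PY : Sp S} {pX : PX ⟶ U} {qX : PX ⟶ V} (hPX : IsPullback pX qX j f) {pY : PY ⟶ U} {qY : PY ⟶ V}
    (hPY : IsPullback pY qY (j ≫ g) (f ≫ g)) {c : PX ⟶ PY} (hc₁ : c ≫ pY = pX) (hc₂ : c ≫ qY = qX)
    (hcl : IsClosedMor c) {QX QY : Sp S} {rX₁ rX₂ : QX ⟶ V} (hQX : IsPullback rX₁ rX₂ f f) {rY₁ rY₂ : QY ⟶ V}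
    (hQY : IsPullback rY₁ rY₂ (f ≫ g) (f ≫ g)) {d : QX ⟶ QY} (hd₁ : d ≫ rY₁ = rX₁) (hd₂ : d ≫ rY₂ = rX₂)
    (hd : RepWith @IsClosedImmersion d) : IsSeparatedMor g :=
  isSeparatedMor hX hY hsq hU' hV' hU
    (repWith_mapDesc_of_cones hPX hPY hc₁ hc₂ (repWith_closedImm_of_isClosed_range
      (repWith_isImmersion_of_cones hsq.1 hU hPX hPY hc₁ hc₂) hcl.isClosed_range))
    (repWith_mapDesc_of_cones hQX hQY hd₁ hd₂ hd)

end Groth.Agent.AlgSpWA.ElemSep

end
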