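import Groth.Agent.AlgSpWA.FTSub
import Groth.Agent.AlgSpWA.FP

/-!
# Quasi-coherent modules as filtered colimits of modules of finite presentation
-/

set_option autoImplicit false
set_option linter.style.haveILetI false
set_option linter.unusedSectionVars false
set_option backward.isDefEq.respectTransparency false
set_option backward.isDefEq.respectTransparency.types false

noncomputable section

universe u v w

open CategoryTheory CategoryTheory.Limits AlgebraicGeometry Opposite AlgSp TensorProduct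
open Groth.Agent.QCart13

namespace Groth.Agent.AlgSpWA.FPColim

variable {S : Scheme.{u}}

section locColim

open UnionColim (comp cι_w)

variable {X : Sp S} {J : Type w} [Category.{v} J] [IsFiltered J] {D : J ⥤ ModEt X} (c₀ : Cocone D)
  (hker : ∀ (W : EtOver X), Aff W → ∀ i (x : sectModEt (D.obj i) W), appL (comp c₀ i) W x = 0 →
    ∃ (j : J) (f : i ⟶ j), appL (D.map f) W x = 0)
  (hlift : ∀ (W : EtOver X), Aff W → ∀ s : sectModEt c₀.pt W, ∃ j t, appL (comp c₀ j) W t = s)
  (c : Cocone D)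

include hker in
theorem cι_indep {i j : J} {E : EtOver X} (x : sectModEt (D.obj i) E) (y : sectModEt (D.obj j) E)
    (h : appL (comp c₀ i) E x = appL (comp c₀ j) E y) : appL (comp c i) E x = appL (comp c j) E y := by
  refine sub_eq_zero.1 (eq_zero_of_affine c.pt _ fun W k hW => ?_)
  let m := IsFiltered.max i j
  let d : sectModEt (D.obj m) W := appL (D.map (IsFiltered.leftToMax i j)) W (res _ k x) -
    appL (D.map (IsFiltered.rightToMax i j)) W (res _ k y)
  have hd : appL (comp c₀ m) W d = 0 := by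
    rw [map_sub, cι_w, cι_w, ← res_appL, ← res_appL, h, sub_self]
  obtain ⟨l, f, hf⟩ := hker W hW m d hd
  have h0 : appL (comp c m) W d = 0 := by rw [← cι_w c f, hf, map_zero]
  rw [map_sub, cι_w, cι_w] at h0
  change res c.pt k (appL (comp c i) E x - appL (comp c j) E y) = 0
  rw [map_sub, res_appL, res_appL]
  exact h0

include hker hlift in
set_option maxHeartbeats 1000000 in
theorem exists_isVal {E : EtOver X} (s : sectModEt c₀.pt E) : ∃ y, UnionColim.IsVal c₀ c s y := by
  have hF := ((isSheaf_iff_isSheaf_of_type _ _).1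
    ((Presheaf.isSheaf_iff_isSheaf_forget (etTop X) c.pt.val.presheaf
      (CategoryTheory.forget AddCommGrpCat.{u + 1})).1 c.pt.isSheaf)) (UnionColim.liftSieve c₀ s)
        (UnionColim.liftSieve_mem c₀ hlift s)
  obtain ⟨y, hy, -⟩ := hF (fun W k hk => appL (comp c hk.choose) W hk.choose_spec.choose) (by
    intro W₁ W₂ Z g₁ g₂ k₁ k₂ h₁ h₂ e
    show res c.pt g₁ _ = res c.pt g₂ _
    rw [res_appL, res_appL]
    refine cι_indep c₀ hker c _ _ ?_
    rw [← res_appL, ← res_appL, h₁.choose_spec.choose_spec, h₂.choose_spec.choose_spec, ← res_comp, ← res_comp, e])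
  refine ⟨y, fun W k A t ht => ?_⟩
  have hk : UnionColim.liftSieve c₀ s k := ⟨A, t, ht⟩
  exact (hy k hk).trans (cι_indep c₀ hker c _ _ (hk.choose_spec.choose_spec.trans ht.symm))

include hker hlift in
theorem exists_desc : ∃ m : c₀.pt ⟶ c.pt, ∀ (E : EtOver X) (s : sectModEt c₀.pt E),
    UnionColim.IsVal c₀ c s (appL m E s) := by
  choose v hv using fun (E : EtOver X) (s : sectModEt c₀.pt E) => exists_isVal c₀ hker hlift c s
  have hnat : ∀ {E E' : EtOver X} (g : E' ⟶ E) (s : sectModEt c₀.pt E), v E' (res c₀.pt g s) = res c.pt g (v E s) :=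
    fun g s => UnionColim.isVal_unique c₀ hlift c (hv _ _) fun W k A t ht => by
      rw [← res_comp]
      exact hv _ s W (k ≫ g) A t (ht.trans (res_comp c₀.pt k g s).symm)
  have hadd : ∀ {E : EtOver X} (s s' : sectModEt c₀.pt E), v E (s + s') = v E s + v E s' := fun {E} s s' => by
    refine sub_eq_zero.1 (Gen.eq_zero_of_local c.pt _
      ((etTop X).intersection_covering (UnionColim.liftSieve_mem c₀ hlift s)
        (UnionColim.liftSieve_mem c₀ hlift s')) fun W k hk => ?_)
    obtain ⟨⟨A, t, ht⟩, B, t', ht'⟩ := hk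
    let f := IsFiltered.leftToMax A B
    let g := IsFiltered.rightToMax A B
    have e1 : appL (comp c₀ (IsFiltered.max A B)) W (appL (D.map f) W t) = res c₀.pt k s := by
      rw [cι_w, ht]
    have e2 : appL (comp c₀ (IsFiltered.max A B)) W (appL (D.map g) W t') = res c₀.pt k s' := by
      rw [cι_w, ht']
    change res c.pt k (v E (s + s') - (v E s + v E s')) = 0
    rw [map_sub, map_add, hv E s W k _ _ e1, hv E s' W k _ _ e2,
      hv E (s + s') W k _ _ ((map_add _ _ _).trans ((congrArg₂ (· + ·) e1 e2).trans (map_add _ s s').symm)),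
      map_add, sub_self]
  have hsmul : ∀ {E : EtOver X} (r : Fn E) (s : sectModEt c₀.pt E), v E (r • s) = r • v E s := fun {E} r s => by
    refine sub_eq_zero.1 (Gen.eq_zero_of_local c.pt _ (UnionColim.liftSieve_mem c₀ hlift s) fun W k hk => ?_)
    obtain ⟨A, t, ht⟩ := hk
    change res c.pt k (v E (r • s) - r • v E s) = 0
    rw [map_sub, res_smul, hv E s W k A t ht,
      hv E (r • s) W k A (rmap k r • t) (by rw [map_smul, ht, res_smul]), map_smul, sub_self]
  refine ⟨⟨PresheafOfModules.homMk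
    { app := fun E => AddCommGrpCat.ofHom (AddMonoidHom.mk' (v E.unop) fun a b => hadd a b)
      naturality := fun E E' g => by
        ext s
        exact hnat g.unop s } fun E r s => hsmul (E := E.unop) r.down s⟩, fun E s => hv E s⟩

include hker hlift in
theorem nonempty_isColimit : Nonempty (IsColimit c₀) := by
  choose m hm using fun c => exists_desc c₀ hker hlift c
  refine ⟨{ desc := m, fac := fun c A => ?_, uniq := fun c f hf => ?_ }⟩
  · refine SheafOfModules.hom_ext (PresheafOfModules.hom_ext fun E => ModuleCat.hom_ext (LinearMap.ext fun t => ?_))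
    show appL (m c) E.unop (appL (comp c₀ A) E.unop t) = appL (comp c A) E.unop t
    have := hm c E.unop (appL (comp c₀ A) E.unop t) E.unop (𝟙 _) A t (res_id c₀.pt _ _).symm
    rwa [res_id] at this
  · refine SheafOfModules.hom_ext (PresheafOfModules.hom_ext fun E => ModuleCat.hom_ext (LinearMap.ext fun s => ?_))
    refine UnionColim.isVal_unique c₀ hlift c (y := appL f E.unop s) (fun W k A t ht => ?_) (hm c _ s)
    refine (res_appL f k s).trans ((congrArg (appL f W) ht.symm).trans ?_)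
    refine (appL_appL (comp c₀ A) f W t).trans ?_
    exact congrArg (fun h : D.obj A ⟶ c.pt => appL h W t) (hf A)

end locColim

section generic

variable {C : Type*} [Category C] [Abelian C] {Λ : Type v} [Preorder Λ] (G : Λ ⥤ C) {i j k : Λ}

theorem cond_refl {A : C} (a : A ⟶ G.obj i) : a ≫ G.map (homOfLE (le_refl i)) ≫ cokernel.π a = 0 := by
  rw [show homOfLE (le_refl i) = 𝟙 i from rfl, CategoryTheory.Functor.map_id, Category.id_comp, cokernel.condition]

theorem cond_trans {A A' A'' : C} (a : A ⟶ G.obj i) (a' : A' ⟶ G.obj j) (a'' : A'' ⟶ G.obj k) (h : i ≤ j) (h' : j ≤ k)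
    (w : a ≫ G.map (homOfLE h) ≫ cokernel.π a' = 0) (w' : a' ≫ G.map (homOfLE h') ≫ cokernel.π a'' = 0) :
    a ≫ G.map (homOfLE (h.trans h')) ≫ cokernel.π a'' = 0 := by
  have h1 : G.map (homOfLE h) ≫ G.map (homOfLE h') ≫ cokernel.π a'' =
      (G.map (homOfLE h) ≫ cokernel.π a') ≫ cokernel.desc a' (G.map (homOfLE h') ≫ cokernel.π a'') w' := by
    rw [Category.assoc, cokernel.π_desc]
  rw [← homOfLE_comp h h', Functor.map_comp, Category.assoc, h1, ← Category.assoc, w, zero_comp]

theorem map_id_aux {A : C} (a : A ⟶ G.obj i) (w : a ≫ G.map (homOfLE (le_refl i)) ≫ cokernel.π a = 0) :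
    cokernel.desc a (G.map (homOfLE (le_refl i)) ≫ cokernel.π a) w = 𝟙 (cokernel a) := by
  refine coequalizer.hom_ext ?_
  rw [cokernel.π_desc, show homOfLE (le_refl i) = 𝟙 i from rfl, CategoryTheory.Functor.map_id, Category.id_comp, Category.comp_id]

theorem map_comp_aux {A A' A'' : C} (a : A ⟶ G.obj i) (a' : A' ⟶ G.obj j) (a'' : A'' ⟶ G.obj k) (h : i ≤ j)
    (h' : j ≤ k) (w : a ≫ G.map (homOfLE h) ≫ cokernel.π a' = 0) (w' : a' ≫ G.map (homOfLE h') ≫ cokernel.π a'' = 0)
    (w'' : a ≫ G.map (homOfLE (h.trans h')) ≫ cokernel.π a'' = 0) :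
    cokernel.desc a (G.map (homOfLE (h.trans h')) ≫ cokernel.π a'') w'' =
      cokernel.desc a (G.map (homOfLE h) ≫ cokernel.π a') w ≫
        cokernel.desc a' (G.map (homOfLE h') ≫ cokernel.π a'') w' := by
  refine coequalizer.hom_ext ?_
  rw [cokernel.π_desc, cokernel.π_desc_assoc, Category.assoc, cokernel.π_desc, ← Category.assoc,
    ← Functor.map_comp, homOfLE_comp]

theorem desc_naturality {A A' P : C} (a : A ⟶ G.obj i) (a' : A' ⟶ G.obj j) (f : G.obj i ⟶ P) (g : G.obj j ⟶ P)
    (h : i ≤ j) (hfg : G.map (homOfLE h) ≫ g = f) (hf : a ≫ f = 0) (hg : a' ≫ g = 0)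
    (w : a ≫ G.map (homOfLE h) ≫ cokernel.π a' = 0) :
    cokernel.desc a (G.map (homOfLE h) ≫ cokernel.π a') w ≫ cokernel.desc a' g hg = cokernel.desc a f hf := by
  refine coequalizer.hom_ext ?_
  rw [cokernel.π_desc_assoc, Category.assoc, cokernel.π_desc, cokernel.π_desc, hfg]

theorem exists_kernelLift {A B : C} (a : A ⟶ B) [Mono a] :
    ∃ l : kernel (cokernel.π a) ⟶ A, l ≫ a = kernel.ι (cokernel.π a) :=
  ⟨Abelian.monoLift a (kernel.ι (cokernel.π a)) (kernel.condition _), Abelian.monoLift_comp _ _ _⟩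

end generic

theorem comp_π_eq_zero {X : Sp S} {A A' B B' : ModEt X} (a : A ⟶ B) (a' : A' ⟶ B') (l : B ⟶ B')
    (h : ∀ (V : EtOver X), Aff V → ∀ x : sectModEt A V, ∃ t, appL a' V t = appL (a ≫ l) V x) :
    a ≫ l ≫ cokernel.π a' = 0 := by
  refine SheafOfModules.hom_ext (PresheafOfModules.hom_ext fun W => ModuleCat.hom_ext (LinearMap.ext fun x => ?_))
  refine eq_zero_of_affine _ (E := W.unop) _ fun V j hV => ?_
  show res (cokernel a') j (appL (a ≫ l ≫ cokernel.π a') W.unop x) = 0
  obtain ⟨t, ht⟩ := h V hV (res A j x)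
  rw [res_appL, ← Category.assoc, ← appL_appL, ← ht, appL_appL, cokernel.condition]
  rfl

theorem appL_π_eq_zero {X : Sp S} {A B : ModEt X} (a : A ⟶ B) (V : EtOver X) (y : sectModEt B V)
    (h : ∃ t, appL a V t = y) : appL (cokernel.π a) V y = 0 := by
  obtain ⟨t, rfl⟩ := h
  rw [appL_appL, cokernel.condition]
  rfl

theorem surjective_π {X : Sp S} {A B : ModEt X} (a : A ⟶ B) [A.IsQuasicoherent] [B.IsQuasicoherent]
    {V : EtOver X} (hV : Aff V) : Function.Surjective (appL (cokernel.π a) V) := by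
  haveI := isQuasicoherent_cokernel a
  haveI := isQuasicoherent_kernel (cokernel.π a)
  exact fun s => surjective_of_cart_kernel (kernel.ι (cokernel.π a)) (cokernel.π a) (kernel.condition _)
    (exists_kernel_preimage _) hV (cart_of_isQuasicoherent (kernel (cokernel.π a)) hV) s

theorem finitePresentation_coker {X : Sp S} {A B : ModEt X} (a : A ⟶ B) [Mono a] [A.IsQuasicoherent]
    [B.IsFinitePresentation] {U : EtOver X} (hU : Aff U) [Module.Finite (Fn U) (sectModEt A U)] :
    Module.FinitePresentation (Fn U) (sectModEt (cokernel a) U) := by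
  haveI := finitePresentation_sect B hU
  refine Module.finitePresentation_of_surjective (appL (cokernel.π a) U) (surjective_π a hU) ?_
  have hk : LinearMap.ker (appL (cokernel.π a) U) = LinearMap.range (appL a U) := by
    refine le_antisymm (fun x hx => ?_) ?_
    · obtain ⟨y, hy⟩ := exists_kernel_preimage (cokernel.π a) U x hx
      obtain ⟨l, hl⟩ := exists_kernelLift a
      refine ⟨appL l U y, ?_⟩
      exact (appL_appL l a U y).trans
        ((congrArg (fun m : kernel (cokernel.π a) ⟶ B => appL m U y) hl).trans hy)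
    · rintro _ ⟨y, rfl⟩
      exact appL_π_eq_zero a U _ ⟨y, rfl⟩
  rw [hk, LinearMap.range_eq_map]
  exact Module.Finite.fg_top.map _

open CohUnion FinSys SerreSub SerreGen

theorem map_π_eq_zero {X : Sp S} {Λ : Type v} [Preorder Λ] (G : Λ ⥤ ModEt X) {i k : Λ} {A A' A'' : ModEt X}
    (a : A ⟶ G.obj i) (a' : A' ⟶ G.obj i) (a'' : A'' ⟶ G.obj k) (h : i ≤ k)
    (w : a ≫ G.map (homOfLE h) ≫ cokernel.π a'' = 0) (w' : a' ≫ G.map (homOfLE h) ≫ cokernel.π a'' = 0)
    (W : EtOver X) (y : sectModEt (G.obj i) W) (hy : appL (cokernel.π a') W y = 0) :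
    appL (cokernel.desc a (G.map (homOfLE h) ≫ cokernel.π a'') w) W (appL (cokernel.π a) W y) = 0 := by
  rw [appL_appL, cokernel.π_desc, ← cokernel.π_desc a' _ w', ← appL_appL, hy, map_zero]

theorem finite_sub {X : Sp S} (N : ModEt X) [N.IsQuasicoherent] (Sg : Sys N (𝟙 X)) (U : EtOver X) (hU : Aff U) :
    Module.Finite (Fn U) (sectModEt (SerreSub.sub N (sysSub N Sg)) U) := by
  have hN := compat_sysSub N Sg
  haveI := Gen.mono_satι (subPre N (sysSub N Sg))
  haveI : Module.Finite (Fn U) ↥(sysSub N Sg U hU) := Module.Finite.iff_fg.2 (fg_sysSub N Sg U hU)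
  refine Module.Finite.equiv (LinearEquiv.ofBijective
    ((appL (subι N (sysSub N Sg)) U).codRestrict (sysSub N Sg U hU) (appL_mem hN U hU))
      ⟨fun a b hab => injective_appL (subι N (sysSub N Sg)) U (congrArg Subtype.val hab :), fun b => ?_⟩).symm
  obtain ⟨y, hy⟩ := exists_appL hN U hU b.2
  exact ⟨y, Subtype.ext hy⟩

variable [QuasiSeparatedSpace ↥S] {X : Space S} (hqc : IsQuasiCompactSp X.obj) (hqs : IsQuasiSeparatedSp X.obj)
  {U : EtOver X.obj} (hU : Aff U) (hcov : ∀ x : Points X.obj, ∃ u, Points.ofPt U.obj.hom u = x)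
  {M : ModEt X.obj} [M.IsQuasicoherent] {Λ : Type (u + 1)} [Preorder Λ] [IsDirectedOrder Λ] [Nonempty Λ]
  (G : Λ ⥤ ModEt X.obj) [hGfp : ∀ i, (G.obj i).IsFinitePresentation] (φ : Cocone G)

/-- The kernel of a member. -/
abbrev K (i : Λ) : ModEt X.obj := kernel (UnionColim.comp φ i)

/-- The index of the colimit: a member and a finitely generated part of its kernel. -/
structure Idx where
  /-- the member -/
  i : Λ
  /-- the part of the kernel -/
  sys : Sys (K G φ i) (𝟙 X.obj)

/-- The inclusion of the part of the kernel. -/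
abbrev inc (p : Idx G φ) : SerreSub.sub (K G φ p.i) (sysSub (K G φ p.i) p.sys) ⟶ G.obj p.i :=
  subι (K G φ p.i) (sysSub (K G φ p.i) p.sys) ≫ kernel.ι (UnionColim.comp φ p.i)

/-- The order on the index. -/
def Le (p q : Idx G φ) : Prop :=
  ∃ h : p.i ≤ q.i, inc G φ p ≫ G.map (homOfLE h) ≫ cokernel.π (inc G φ q) = 0

instance : Preorder (Idx G φ) where
  le := Le G φ
  le_refl p := ⟨le_rfl, cond_refl G (inc G φ p)⟩
  le_trans p q r := fun hpq hqr => ⟨hpq.1.trans hqr.1, cond_trans G (inc G φ p) (inc G φ q) (inc G φ r) hpq.1 hqr.1 hpq.2 hqr.2⟩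

theorem cond {p q : Idx G φ} (h : p ≤ q) :
    inc G φ p ≫ G.map (homOfLE (h : Le G φ p q).1) ≫ cokernel.π (inc G φ q) = 0 := (h : Le G φ p q).2

/-- The members of the colimit. -/
def D : Idx G φ ⥤ ModEt X.obj where
  obj p := cokernel (inc G φ p)
  map {p q} h := cokernel.desc (inc G φ p) (G.map (homOfLE (leOfHom h : Le G φ p q).1) ≫ cokernel.π (inc G φ q))
    (cond G φ (leOfHom h))
  map_id p := map_id_aux G (inc G φ p) _
  map_comp {p q r} h k := map_comp_aux G (inc G φ p) (inc G φ q) (inc G φ r) _ _ _ _ _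

theorem inc_comp (p : Idx G φ) : inc G φ p ≫ UnionColim.comp φ p.i = 0 := by
  rw [Category.assoc, kernel.condition, comp_zero]

/-- The cocone. -/
def cc : Cocone (D G φ) where
  pt := φ.pt
  ι := { app := fun p => cokernel.desc (inc G φ p) (UnionColim.comp φ p.i) (inc_comp G φ p)
         naturality := fun p q h => (desc_naturality G (inc G φ p) (inc G φ q) (UnionColim.comp φ p.i)
            (UnionColim.comp φ q.i) (leOfHom h : Le G φ p q).1 (φ.w _) (inc_comp G φ p) (inc_comp G φ q)
            (cond G φ (leOfHom h))).trans (Category.comp_id _).symm }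

theorem qc_K [φ.pt.IsQuasicoherent] (i : Λ) : (K G φ i).IsQuasicoherent := isQuasicoherent_kernel _

section qcoh

variable [φ.pt.IsQuasicoherent]

include hqc hqs hU hcov in
set_option maxHeartbeats 1000000 in
/-- Two indices and finitely many sections of a kernel lie under a third. -/
theorem exists_upper (p q : Idx G φ) (k : Λ) (hp : p.i ≤ k) (hq : q.i ≤ k) {n : ℕ}
    (m : Fin n → sectModEt (K G φ k) U) :
    ∃ r : Idx G φ, ∃ hr : r.i = k, p ≤ r ∧ q ≤ r ∧
      ∀ l, appL (cokernel.π (inc G φ r)) U (hr ▸ appL (kernel.ι (UnionColim.comp φ k)) U (m l)) = 0 := by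
  haveI := qc_K G φ k
  have gens : ∀ (p : Idx G φ) (hp : p.i ≤ k), ∃ (np : ℕ) (g : Fin np → sectModEt (K G φ k) U),
      ∀ r : Sys (K G φ k) (𝟙 X.obj), (∀ l, g l ∈ sysSub (K G φ k) r U hU) → p ≤ (⟨k, r⟩ : Idx G φ) := by
    intro p hp
    haveI := qc_K G φ p.i
    have hN := compat_sysSub (K G φ p.i) p.sys
    haveI := Gen.mono_satι (subPre (K G φ p.i) (sysSub (K G φ p.i) p.sys))
    haveI := isQuasicoherent_sub hN
    let A := SerreSub.sub (K G φ p.i) (sysSub (K G φ p.i) p.sys)
    let a : A ⟶ K G φ k := kernel.lift _ (inc G φ p ≫ G.map (homOfLE hp)) (by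
      rw [Category.assoc, show G.map (homOfLE hp) ≫ UnionColim.comp φ k = UnionColim.comp φ p.i from φ.w _, inc_comp])
    obtain ⟨np, g, hg⟩ := Submodule.fg_iff_exists_fin_generating_family.1 (fg_sysSub (K G φ p.i) p.sys U hU)
    choose y hy using fun l => exists_appL hN U hU (hg ▸ Submodule.subset_span ⟨l, rfl⟩ : g l ∈ sysSub (K G φ p.i) p.sys U hU)
    refine ⟨np, fun l => appL a U (y l), fun r hr => ⟨hp, ?_⟩⟩
    have hmem : ∀ x : sectModEt A U, appL a U x ∈ sysSub (K G φ k) r U hU := fun x => by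
      have hx : appL (subι (K G φ p.i) (sysSub (K G φ p.i) p.sys)) U x ∈ Submodule.span (Fn U) (Set.range g) :=
        hg.symm ▸ appL_mem hN U hU x
      obtain ⟨c, hc⟩ := (Submodule.mem_span_range_iff_exists_fun _).1 hx
      have hx' : x = ∑ l, c l • y l := injective_appL (subι (K G φ p.i) (sysSub (K G φ p.i) p.sys)) U (by
        rw [map_sum, ← hc]
        exact Finset.sum_congr rfl fun l _ => by rw [map_smul, hy])
      rw [hx', map_sum]
      exact Submodule.sum_mem _ fun l _ => by rw [map_smul]; exact Submodule.smul_mem _ _ (hr l)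
    refine comp_π_eq_zero (inc G φ p) (inc G φ ⟨k, r⟩) (G.map (homOfLE hp)) fun V hV x => ?_
    obtain ⟨t, ht⟩ := exists_appL (compat_sysSub (K G φ k) r) V hV
      (FTSub.mem_of_atlas hU hcov (K G φ k) r a hmem V hV x)
    refine ⟨t, ?_⟩
    have e1 := congrArg (appL (kernel.ι (UnionColim.comp φ k)) V) ht
    rw [appL_appL, appL_appL, kernel.lift_ι] at e1
    exact e1
  obtain ⟨np, gp, hgp⟩ := gens p hp
  obtain ⟨nq, gq, hgq⟩ := gens q hq
  obtain ⟨r, hr⟩ := FTSub.exists_sys_of_sections hqc hqs hU (K G φ k) (Fin.append (Fin.append gp gq) m)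
  refine ⟨⟨k, r⟩, rfl, hgp r fun l => ?_, hgq r fun l => ?_, fun l => ?_⟩
  · have h1 := hr (Fin.castAdd n (Fin.castAdd nq l))
    rwa [Fin.append_left, Fin.append_left] at h1
  · have h1 := hr (Fin.castAdd n (Fin.natAdd np l))
    rwa [Fin.append_left, Fin.append_right] at h1
  · have h1 := hr (Fin.natAdd (np + nq) l)
    rw [Fin.append_right] at h1
    obtain ⟨t, ht⟩ := exists_appL (compat_sysSub (K G φ k) r) U hU h1
    refine appL_π_eq_zero (inc G φ ⟨k, r⟩) U _ ⟨t, ?_⟩
    exact (appL_appL _ _ U t).symm.trans (congrArg (appL (kernel.ι (UnionColim.comp φ k)) U) ht)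

include hqc hqs hU in
theorem nonempty_idx (i : Λ) : ∃ p : Idx G φ, p.i = i := by
  haveI := qc_K G φ i
  obtain ⟨r, -⟩ := FTSub.exists_sys_of_sections hqc hqs hU (K G φ i) (n := 0) Fin.elim0
  exact ⟨⟨i, r⟩, rfl⟩

include hU hcov in
theorem isFinitePresentation_D (p : Idx G φ) : ((D G φ).obj p).IsFinitePresentation := by
  haveI := qc_K G φ p.i
  haveI := hGfp p.i
  have hN := compat_sysSub (K G φ p.i) p.sys
  haveI := Gen.mono_satι (subPre (K G φ p.i) (sysSub (K G φ p.i) p.sys))
  haveI := isQuasicoherent_sub hN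
  haveI := finite_sub (K G φ p.i) p.sys U hU
  haveI : Mono (inc G φ p) := mono_comp _ _
  haveI : (cokernel (inc G φ p)).IsQuasicoherent := isQuasicoherent_cokernel _
  exact isFinitePresentation_of_fp (cokernel (inc G φ p)) (I := PUnit) (fun _ => U) (fun _ => hU)
    (fun x => ⟨⟨⟩, hcov x⟩) fun _ => finitePresentation_coker (inc G φ p) hU

end qcoh

include hqc hqs hU hcov in
set_option maxHeartbeats 1000000 in
/-- A module locally hit by a directed system of modules of finite presentation is a filtered colimit of such. -/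
theorem exists_colimit (φ : Cocone G) [φ.pt.IsQuasicoherent]
    (hlift : ∀ (W : EtOver X.obj), Aff W → ∀ s : sectModEt φ.pt W, ∃ i t, appL (UnionColim.comp φ i) W t = s) :
    ∃ (J : Type (u + 1)) (_ : SmallCategory J) (_ : IsFiltered J) (D' : J ⥤ ModEt X.obj)
      (ι : D' ⟶ (Functor.const J).obj φ.pt),
      (∀ j, (D'.obj j).IsFinitePresentation) ∧ Nonempty (IsColimit (Cocone.mk φ.pt ι)) := by
  haveI : Nonempty (Idx G φ) := ⟨(nonempty_idx hqc hqs hU G φ (Classical.arbitrary Λ)).choose⟩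
  haveI : IsDirectedOrder (Idx G φ) := ⟨fun p q => by
    obtain ⟨k, hp, hq⟩ := exists_ge_ge p.i q.i
    obtain ⟨r, -, h₁, h₂, -⟩ := exists_upper hqc hqs hU hcov G φ p q k hp hq (n := 0) Fin.elim0
    exact ⟨r, h₁, h₂⟩⟩
  haveI : ∀ p, ((D G φ).obj p).IsFinitePresentation := isFinitePresentation_D hU hcov G φ
  refine ⟨Idx G φ, inferInstance, inferInstance, D G φ, (cc G φ).ι, inferInstance, ?_⟩
  refine nonempty_isColimit (cc G φ) (fun W hW p x hx => ?_) fun W hW s => ?_
  · haveI := qc_K G φ p.i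
    haveI := hGfp p.i
    haveI := isQuasicoherent_sub (compat_sysSub (K G φ p.i) p.sys)
    obtain ⟨y, rfl⟩ := surjective_π (inc G φ p) hW x
    have hy : appL (UnionColim.comp φ p.i) W y = 0 := by
      refine Eq.trans ?_ hx
      refine Eq.trans ?_ (appL_appL (cokernel.π (inc G φ p)) (UnionColim.comp (cc G φ) p) W y).symm
      exact congrArg (fun h : G.obj p.i ⟶ φ.pt => appL h W y) (cokernel.π_desc _ _ (inc_comp G φ p)).symm
    obtain ⟨z, hz⟩ := exists_kernel_preimage (UnionColim.comp φ p.i) W y hy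
    obtain ⟨Sg, hSg⟩ := hasSys X hqc hqs (K G φ p.i) PUnit inferInstance (fun _ => W) (fun _ => hW)
      (fun _ => top' W) (fun _ => z)
    have hzq : appL (cokernel.π (inc G φ ⟨p.i, Sg⟩)) W y = 0 := by
      have hmem : z ∈ sysSub (K G φ p.i) Sg W hW := hSg ⟨⟩
      obtain ⟨t, ht⟩ := exists_appL (compat_sysSub (K G φ p.i) Sg) W hW hmem
      exact appL_π_eq_zero _ W _ ⟨t, (appL_appL _ _ W t).symm.trans
        ((congrArg (appL (kernel.ι (UnionColim.comp φ p.i)) W) ht).trans hz)⟩
    obtain ⟨r, hr, hpr, hqr, -⟩ := exists_upper hqc hqs hU hcov G φ p ⟨p.i, Sg⟩ p.i le_rfl le_rfl (n := 0) Fin.elim0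
    refine ⟨r, homOfLE hpr, ?_⟩
    exact map_π_eq_zero G (inc G φ p) (inc G φ ⟨p.i, Sg⟩) (inc G φ r) _ (cond G φ hpr) (cond G φ hqr) W y hzq
  · obtain ⟨i, t, ht⟩ := hlift W hW s
    obtain ⟨p, rfl⟩ := nonempty_idx hqc hqs hU G φ i
    refine ⟨p, appL (cokernel.π (inc G φ p)) W t, ?_⟩
    refine (appL_appL _ _ W t).trans (Eq.trans ?_ ht)
    exact congrArg (fun h : G.obj p.i ⟶ φ.pt => appL h W t) (cokernel.π_desc _ _ (inc_comp G φ p))

end Groth.Agent.AlgSpWA.FPColim
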