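import Groth.Agent.AlgSpWA.FPColim
import Groth.Agent.AlgSpWA.ChevPull
import Groth.Agent.AlgSpWA.Pull
import Groth.Agent.AlgSpWA.SerreCoh
import Groth.Agent.AlgSpDec.LimDescentRep
import Groth.Agent.QCPull13.Space
import Groth.Agent.S9941

/-!
# Quasi-coherent modules on spaces affine over Noetherian spaces
-/

set_option autoImplicit false
set_option linter.style.haveILetI false
set_option linter.unusedSectionVars false
set_option backward.isDefEq.respectTransparency false
set_option backward.isDefEq.respectTransparency.types false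

noncomputable section

universe u

open CategoryTheory CategoryTheory.Limits AlgebraicGeometry Opposite AlgSp TensorProduct
open Groth.Agent.QCart13

namespace Groth.Agent.AlgSpWA.FPColim

variable {S : Scheme.{u}} {X Y : Sp S} {f : X ⟶ Y} (hf : Representable f)
  [(SheafOfModules.pushforward.{u + 1} (bcRingHom hf)).IsRightAdjoint]

theorem isFinitePresentation_pull (haff : IsAffineMor f) (G : ModEt Y) [G.IsFinitePresentation] {U : EtOver Y}
    (hU : Aff U) [((pullModEt hf).obj G).IsQuasicoherent]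
    (hcovX : ∀ x : Points X, ∃ u, Points.ofPt (EtOver.bcObj hf U).obj.hom u = x) :
    ((pullModEt hf).obj G).IsFinitePresentation := by
  haveI := hU
  have hUx : Aff (EtOver.bcObj hf U) := isAffine_bcObj hf haff U
  refine isFinitePresentation_of_fp ((pullModEt hf).obj G) (I := PUnit) (fun _ => EtOver.bcObj hf U) (fun _ => hUx)
    (fun x => ⟨⟨⟩, hcovX x⟩) fun _ => ?_
  letI := (bcFn hf U).toAlgebra
  letI : Module (Fn U) (sectModEt ((pullModEt hf).obj G) (EtOver.bcObj hf U)) := Module.compHom _ (bcFn hf U)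
  haveI : IsScalarTower (Fn U) (Fn (EtOver.bcObj hf U)) (sectModEt ((pullModEt hf).obj G) (EtOver.bcObj hf U)) :=
    IsScalarTower.of_algebraMap_smul fun _ _ => rfl
  haveI := finitePresentation_sect G hU
  exact Module.FinitePresentation.of_equiv (isBaseChange_unitSect hf G U hU hUx).equiv

theorem appL_unit {G : ModEt Y} {M : ModEt X} (j : G ⟶ (pushModEt hf).obj M) (U : EtOver Y) (y : sectModEt G U) :
    appL (((pullPushAdjModEt hf).homEquiv G M).symm j) (EtOver.bcObj hf U) (unitSect hf G U y) =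
      (show sectModEt M (EtOver.bcObj hf U) from appL j U y) := by
  have h : (pullPushAdjModEt hf).unit.app G ≫
      (pushModEt hf).map (((pullPushAdjModEt hf).homEquiv G M).symm j) = j := by
    exact ((pullPushAdjModEt hf).homEquiv_unit _ _ _).symm.trans (Equiv.apply_symm_apply _ _)
  conv_rhs => rw [← h]
  rfl

theorem exists_lift_over {G : ModEt Y} {M : ModEt X} (j : G ⟶ (pushModEt hf).obj M) {U : EtOver Y} {W : EtOver X}
    (gk : W ⟶ EtOver.bcObj hf U) (r : Fn W) (y : sectModEt G U) (m : sectModEt M (EtOver.bcObj hf U))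
    (hm : (show sectModEt M (EtOver.bcObj hf U) from appL j U y) = m) :
    ∃ t, appL (((pullPushAdjModEt hf).homEquiv G M).symm j) W t = r • res M gk m := by
  refine ⟨r • res ((pullModEt hf).obj G) gk (unitSect hf G U y), ?_⟩
  rw [map_smul, ← res_appL, appL_unit hf j U y, hm]

theorem mem_range_of_atlas {A M : ModEt X} [A.IsQuasicoherent] [M.IsQuasicoherent] (φ : A ⟶ M) {V : EtOver X}
    (hV : Aff V) (c : Cov V) (x : sectModEt M V)
    (h : ∀ k, ∃ t, appL φ (c.T k).left t = res M (c.T k).hom x) : ∃ t, appL φ V t = x := by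
  refine mem_of_cover M hV (cart_of_isQuasicoherent M hV) c (LinearMap.range (appL φ V)) x fun k => ?_
  obtain ⟨t, ht⟩ := h k
  rw [← ht]
  obtain ⟨z, hz⟩ := (bijective_bcMor (cart_of_isQuasicoherent A hV) (c.T k) (c.aff k)).2 t
  rw [← hz]
  clear hz ht
  induction z using TensorProduct.induction_on with
  | zero => rw [map_zero, map_zero]; exact zero_mem _
  | add p q hp hq => rw [map_add, map_add]; exact add_mem hp hq
  | tmul a m =>
    rw [appL_bcMor, LinearMap.lTensor_tmul]
    show bcMor M (c.T k) (a ⊗ₜ appL φ V m) ∈ _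
    rw [LinearMap.liftBaseChange_tmul]
    exact Submodule.smul_mem _ _ (Submodule.subset_span ⟨_, ⟨m, rfl⟩, rfl⟩)

variable [QuasiSeparatedSpace ↥S]

include hf in
set_option maxHeartbeats 1600000 in
theorem exists_colimit_of_affine (hX : IsAlgSpace X) (hY : IsAlgSpace Y) (haff : IsAffineMor f)
    (hR : RepWith @IsAffineHom f) (hqc : IsQuasiCompactSp Y) (hqs : IsQuasiSeparatedSp Y) (hN : IsLocNoethSp Y)
    (M : ModEt X) [M.IsQuasicoherent] :
    ∃ (J : Type (u + 1)) (_ : SmallCategory J) (_ : IsFiltered J) (D : J ⥤ ModEt X)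
      (ι : D ⟶ (Functor.const J).obj M),
      (∀ j, (D.obj j).IsFinitePresentation) ∧ Nonempty (IsColimit (Cocone.mk M ι)) := by
  classical
  let Xs : Space S := ⟨X, hX⟩
  have hqcX : IsQuasiCompactSp X := AlgSpDec.isQuasiCompactSp_of_affine hY f hR hqc
  have hqsX : IsQuasiSeparatedSp X := AlgSpDec.isQuasiSeparatedSp_of_affine f hR hqs
  obtain ⟨U₀, a, hU₀, ha, has⟩ := Groth.Agent.AlgSpDec.exists_affine_atlas hqc
  let U : EtOver Y := EtOver.mk a ha
  have hU : Aff U := hU₀
  have hcov : ∀ y : Points Y, ∃ u, Points.ofPt U.obj.hom u = y := fun y => AlgSpLib.surjective_ofPt has y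
  haveI : IsAffine U.obj.left.left := hU₀
  let Ux : EtOver Xs.obj := EtOver.bcObj hf U
  have hUx : Aff Ux := isAffine_bcObj hf haff U
  have hcovX : ∀ x : Points X, ∃ u, Points.ofPt Ux.obj.hom u = x := fun x => by
    obtain ⟨u, hu⟩ := hcov (Points.map f x)
    obtain ⟨w, hw, -⟩ := exists_bc_point hf U u x hu.symm
    exact ⟨w, hw⟩
  haveI hNq : ((pushModEt hf).obj M).IsQuasicoherent := isQuasicoherent_push_affine M hf haff
  let N := (pushModEt hf).obj M
  let F := CohUnion.finSys hY hqs hN hU hcov N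
  let adj := pullPushAdjModEt hf
  let G₀ : Finset (sectModEt N U) ⥤ ModEt Y :=
    F ⋙ ObjectProperty.ι (CohUnion.FPSub N) ⋙ MonoOver.forget N ⋙ Over.forget N
  let G : Finset (sectModEt N U) ⥤ ModEt Xs.obj := G₀ ⋙ pullModEt hf
  haveI hG₀ : ∀ P, (G₀.obj P).IsFinitePresentation := fun P => (F.obj P).property
  haveI hqG : ∀ P, (G.obj P).IsQuasicoherent := fun P =>
    QCPull13.isQuasicoherent_pullModEt hf a ha has (G₀.obj P) (haveI := hG₀ P; inferInstance)
  haveI hG : ∀ P, (G.obj P).IsFinitePresentation := fun P => by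
    haveI := hG₀ P
    haveI : ((pullModEt hf).obj (G₀.obj P)).IsQuasicoherent := hqG P
    exact isFinitePresentation_pull hf haff (G₀.obj P) hU hcovX
  let φ : Cocone G :=
    { pt := M
      ι := { app := fun P => (adj.homEquiv (G₀.obj P) M).symm (F.obj P).obj.obj.hom
             naturality := fun P Q h => by
              show (pullModEt hf).map (G₀.map h) ≫ _ = _ ≫ 𝟙 M
              rw [Category.comp_id, ← Adjunction.homEquiv_naturality_left_symm]
              exact congrArg _ (Over.w (F.map h).hom.hom) } }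
  haveI : φ.pt.IsQuasicoherent := ‹M.IsQuasicoherent›
  refine exists_colimit (X := Xs) hqcX hqsX hUx hcovX G φ fun V hV s => ?_
  obtain ⟨c, hc⟩ := QCart13.exists_cov hV (R :=
    { arrows := fun W _ => Nonempty (W ⟶ Ux)
      downward_closed := fun ⟨g⟩ k => ⟨k ≫ g⟩ }) (mem_etTop_of_exists _ fun e => by
    obtain ⟨v, hv⟩ := hcovX (Points.ofPt V.obj.hom e)
    obtain ⟨W, -, g, g', w, hw, -⟩ := exists_common V Ux hv.symm
    exact ⟨W, g, ⟨g'⟩, w, hw⟩)
  have key : ∀ k, ∃ P : Finset (sectModEt N U), ∀ Q, P ⊆ Q →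
      ∃ t, appL (φ.ι.app Q : G.obj Q ⟶ M) (c.T k).left t = res M (c.T k).hom s := fun k => by
    let gk := (hc k).some
    obtain ⟨z, hz⟩ := (bijective_bcMor (cart_of_isQuasicoherent M hUx) (Over.mk gk) (c.aff k)).2 (res M (c.T k).hom s)
    rw [← hz]
    clear hz
    induction z using TensorProduct.induction_on with
    | zero => exact ⟨∅, fun Q _ => ⟨0, by rw [map_zero, map_zero]⟩⟩
    | add p q hp hq =>
      obtain ⟨P₁, h₁⟩ := hp
      obtain ⟨P₂, h₂⟩ := hq
      refine ⟨P₁ ∪ P₂, fun Q hQ => ?_⟩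
      obtain ⟨t₁, ht₁⟩ := h₁ Q (Finset.union_subset_left hQ)
      obtain ⟨t₂, ht₂⟩ := h₂ Q (Finset.union_subset_right hQ)
      exact ⟨t₁ + t₂, by rw [map_add, map_add, ht₁, ht₂]⟩
    | tmul r m =>
      obtain ⟨P, hP, hm⟩ := CohUnion.exists_finite_inSub hY hqs hU N U hU (show sectModEt N U from m)
      refine ⟨hP.toFinset, fun Q hQ => ?_⟩
      have hm' : CohUnion.InSub N (Q : Set (sectModEt N U)) U (show sectModEt N U from m) :=
        CohUnion.inSub_mono N (fun x hx => hQ (hP.mem_toFinset.2 hx)) hm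
      let y : sectModEt (G₀.obj Q) U := ⟨_, (CohUnion.mem_sat_cohSub_iff N _ _).2 hm'⟩
      obtain ⟨t, ht⟩ := exists_lift_over hf (F.obj Q).obj.obj.hom (W := (c.T k).left) gk r y m rfl
      refine ⟨t, ht.trans ?_⟩
      rw [LinearMap.liftBaseChange_tmul]
      rfl
  choose P hP using key
  refine ⟨Finset.univ.biUnion P, ?_⟩
  exact mem_range_of_atlas (A := G.obj (Finset.univ.biUnion P)) (M := M) (φ.ι.app (Finset.univ.biUnion P)) hV c s fun k =>
    hP k _ (Finset.subset_biUnion_of_mem P (Finset.mem_univ k))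

end Groth.Agent.AlgSpWA.FPColim
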