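import Groth.Agent.AlgSpWA.SerreGlobal
import Groth.Agent.AlgSpDec.IdealFactor
import Groth.Agent.PushImage13.Adjoint
import Groth.Agent.QCart13.Ops2
import Groth.Agent.S10359
import Groth.Agent.S10201

/-!
# Global sections generate quasi-coherent modules when first cohomology vanishes
-/

set_option autoImplicit false
set_option linter.style.haveILetI false
set_option backward.isDefEq.respectTransparency false
set_option backward.isDefEq.respectTransparency.types false

noncomputable section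

universe u

open CategoryTheory CategoryTheory.Limits AlgebraicGeometry Opposite AlgSp Abelian
open Groth.Agent.QCart13

namespace Groth.Agent.AlgSpWA.SerreGen

open Groth.Agent.AlgSpPts MVSheaf CohUnion FinSys SerreSub SerreGlobal Groth.Agent.AlgSpDec Groth.Agent.AlgSpLib

variable {S : Scheme.{u}} {X : Sp S}

theorem mem_of_quot_zero {M : ModEt X} [M.IsQuasicoherent]
    {N : ∀ V : EtOver X, Aff V → Submodule (Fn V) (sectModEt M V)} (hN : Compat M N) (E : EtOver X) (hE : Aff E)
    {x : sectModEt M E} (hx : appL (quotπ (N := N)) E x = 0) : x ∈ N E hE := by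
  haveI := Gen.mono_satι (subPre M N)
  obtain ⟨R, hR, h⟩ := exists_local_of_cokernel (subι M N) E x hx
  have h1 : x ∈ spanAt M (N E hE : Set (sectModEt M E)) (𝟙 E) := by
    refine mem_spanAt_of_local M _ hE (𝟙 E) hR fun W k hW hk => ?_
    obtain ⟨y, hy⟩ := h W k hk
    rw [Category.comp_id, ← hN E W hE hW k, ← hy]
    exact appL_mem hN W hW y
  rwa [spanAt_eq_span, Submodule.span_eq] at h1

/-- The sections in an ideal times a module. -/
def idealSub (I : IdealEt X) (M : ModEt X) (V : EtOver X) (hV : Aff V) : Submodule (Fn V) (sectModEt M V) :=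
  (I.ideal V hV : Ideal (Fn V)) • ⊤

theorem compat_idealSub (I : IdealEt X) (hI : I.IsQCoh) (M : ModEt X) [M.IsQuasicoherent] :
    Compat M (idealSub I M) := by
  intro V V' hV hV' g
  have hgen : ∀ y : sectModEt M V', y ∈ spanAt M (Set.univ : Set (sectModEt M V)) g := fun y => by
    obtain ⟨v, rfl⟩ := (bijective_bcMor (cart_of_isQuasicoherent M hV) (Over.mk g) hV').2 y
    induction v using TensorProduct.induction_on with
    | zero => rw [map_zero]; exact zero_mem _
    | add a b ha hb => rw [map_add]; exact add_mem ha hb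
    | tmul r m => exact Submodule.smul_mem _ r (Submodule.subset_span ⟨m, trivial, rfl⟩)
  refine le_antisymm (Submodule.smul_le.2 fun a ha y hy' => ?_) (Submodule.span_le.2 ?_)
  · have ha' : a ∈ (I.ideal V hV).map (rmap g) := hI g hV hV' ha
    have hy := hgen y
    clear hy'
    induction hy using Submodule.span_induction with
    | mem y hy =>
      obtain ⟨m, -, rfl⟩ := hy
      clear ha
      induction ha' using Submodule.span_induction with
      | mem c hc =>
        obtain ⟨b, hb, rfl⟩ := hc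
        rw [← res_smul]
        exact Submodule.subset_span ⟨_, Submodule.smul_mem_smul hb Submodule.mem_top, rfl⟩
      | zero => rw [zero_smul]; exact zero_mem _
      | add c d _ _ hc hd => rw [add_smul]; exact add_mem hc hd
      | smul r c _ hc => rw [smul_eq_mul, mul_smul]; exact Submodule.smul_mem _ _ hc
    | zero => rw [smul_zero]; exact zero_mem _
    | add c d _ _ hc hd => rw [smul_add]; exact add_mem hc hd
    | smul r c _ hc => rw [smul_comm]; exact Submodule.smul_mem _ _ hc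
  · rintro _ ⟨m, hm, rfl⟩
    refine Submodule.smul_induction_on hm (fun a ha n _ => ?_) (fun a b ha hb => ?_)
    · show res M g (a • n) ∈ _
      rw [res_smul]
      exact Submodule.smul_mem_smul (I.map_le g hV hV' (Ideal.mem_map_of_mem _ ha)) Submodule.mem_top
    · show res M g (a + b) ∈ _
      rw [map_add]
      exact add_mem ha hb

section systems

variable (M : ModEt X) (Sg : Sys M (𝟙 X))

/-- The canonical point of an object over the whole space. -/
abbrev top' (V : EtOver X) : (pre (𝟙 X)).obj (op V) := ⟨V.obj.hom, Category.comp_id _⟩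

theorem map_top' {V V' : EtOver X} (g : V' ⟶ V) : (pre (𝟙 X)).map g.op (top' V) = top' V' :=
  Subtype.ext (EtOver.w g)

/-- The sections in the span of a system, as submodules. -/
def sysSub (V : EtOver X) (_ : Aff V) : Submodule (Fn V) (sectModEt M V) where
  carrier := {s | Mem Sg V (top' V) s}
  zero_mem' W hW a i b hb := by rw [map_zero]; exact zero_mem _
  add_mem' hx hy := hx.add hy
  smul_mem' r _ hx := hx.smul r

theorem compat_sysSub [M.IsQuasicoherent] : Compat M (sysSub M Sg) := by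
  intro V V' hV hV' g
  refine le_antisymm (fun s hs => ?_) (Submodule.span_le.2 ?_)
  · obtain ⟨Q, hQ, hQs⟩ := exists_gen Sg V hV (top' V)
    exact spanAt_mono (fun q hq => hQ q hq) g (hQs V' hV' g s (by rw [map_top']; exact hs))
  · rintro _ ⟨m, hm, rfl⟩
    have h := Mem.res Sg (hm : Mem Sg V (top' V) m) g
    rw [map_top'] at h
    exact h

theorem fg_sysSub [M.IsQuasicoherent] (V : EtOver X) (hV : Aff V) : (sysSub M Sg V hV).FG := by
  obtain ⟨Q, hQ, hQs⟩ := exists_gen Sg V hV (top' V)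
  refine ⟨Q, le_antisymm (Submodule.span_le.2 fun q hq => hQ q hq) fun s hs => ?_⟩
  have h := hQs V hV (𝟙 V) s (by rw [map_top']; exact hs)
  rwa [spanAt_eq_span] at h

end systems

variable {X : Space S} [QuasiSeparatedSpace ↥S] (hqc : IsQuasiCompactSp X.obj) (hqs : IsQuasiSeparatedSp X.obj)
  (h1 : ∀ M : ModEt X.obj, M.IsQuasicoherent → Subsingleton (HModEt X.obj M 1))
  {E₀ : EtOver X.obj} (hE₀ : Aff E₀) (hcov : ∀ p : Points X.obj, ∃ u, Points.ofPt E₀.obj.hom u = p)

include hqc hqs h1 hE₀ hcov in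
set_option maxHeartbeats 1600000 in
/-- A quasi-coherent module without global sections is zero. -/
theorem eq_zero_of_Inv (M : ModEt X.obj) [M.IsQuasicoherent] (h0 : ∀ x ∈ Inv E₀ M, x = 0)
    (x : sectModEt M E₀) : x = 0 := by
  obtain ⟨Sg, hSg⟩ := hasSys X hqc hqs M PUnit.{u + 2} inferInstance (fun _ => E₀) (fun _ => hE₀)
    (fun _ => top' E₀) (fun _ => x)
  have hN := compat_sysSub M Sg
  let M₁ : ModEt X.obj := sub M (sysSub M Sg)
  let ι₁ : M₁ ⟶ M := subι M (sysSub M Sg)
  haveI : Mono ι₁ := Gen.mono_satι (subPre M (sysSub M Sg))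
  haveI : M₁.IsQuasicoherent := isQuasicoherent_sub hN
  obtain ⟨x₁, rfl⟩ := exists_appL hN E₀ hE₀ (hSg ⟨⟩)
  suffices hx₁ : x₁ = 0 by rw [hx₁, map_zero]
  haveI hfin : Module.Finite (Fn E₀) (sectModEt M₁ E₀) := by
    haveI : Module.Finite (Fn E₀) ↥(sysSub M Sg E₀ hE₀) := Module.Finite.iff_fg.2 (fg_sysSub M Sg E₀ hE₀)
    refine Module.Finite.equiv (LinearEquiv.ofBijective ((appL ι₁ E₀).codRestrict (sysSub M Sg E₀ hE₀)
      (appL_mem hN E₀ hE₀)) ⟨fun a b hab => by
      have h := congrArg Subtype.val hab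
      exact injective_appL ι₁ E₀ h, fun b => ?_⟩).symm
    obtain ⟨y, hy⟩ := exists_appL hN E₀ hE₀ b.2
    exact ⟨y, Subtype.ext hy⟩
  -- the locus where the module vanishes
  let good : ↥E₀.obj.left.left → Prop := fun u => ∃ (V : EtOver X.obj) (b : V ⟶ E₀) (z : ↥V.obj.left.left),
    b.hom.left.left z = u ∧ ∀ q : sectModEt M₁ E₀, res M₁ b q = 0
  by_cases hall : ∀ u, good u
  · let R : Sieve E₀ := ⟨fun V b => ∀ q : sectModEt M₁ E₀, res M₁ b q = 0, fun hb g q => by
      rw [res_comp, hb, map_zero]⟩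
    refine MVSheaf.isSeparated_sections (G := (toAbEt X.obj).obj M₁) E₀ (R := R)
      (QCart13.mem_etTop_of_exists _ fun u => ?_) fun V b hb => ?_
    · obtain ⟨V, b, z, hz, hq⟩ := hall u
      exact ⟨V, b, hq, z, hz⟩
    · show res M₁ b x₁ = res M₁ b 0
      rw [map_zero]
      exact hb x₁
  exfalso
  obtain ⟨u₀, hu₀⟩ := not_forall.1 hall
  have hgo : IsOpen {u | good u} := by
    refine isOpen_iff_forall_mem_open.2 ?_
    rintro u ⟨V, b, z, hz, hq⟩
    exact ⟨Set.range b.hom.left.left, fun v ⟨z', hz'⟩ => ⟨V, b, z', hz', hq⟩, (isOpenMap_left b).isOpen_range, z, hz⟩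
  have hsat : ∀ u v, Points.ofPt E₀.obj.hom u = Points.ofPt E₀.obj.hom v → good u → good v := by
    rintro u v huv ⟨V, b, z, hz, hq⟩
    have h2 : Points.ofPt V.obj.hom z = Points.ofPt E₀.obj.hom u := by
      rw [← EtOver.w b, ← hz]
      exact AlgSpLib.ofPt_comp _ _ _
    obtain ⟨W, hW, g₁, g₂, w, hw₁, hw₂⟩ := exists_common V E₀ (h2.trans huv)
    refine ⟨W, g₂, w, hw₂, fun q => ?_⟩
    obtain ⟨c, hc⟩ := (bijective_bcMor (cart_of_isQuasicoherent M₁ hE₀) (Over.mk (g₁ ≫ b)) hW).2 (res M₁ g₂ q)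
    rw [← hc]
    clear hc
    induction c using TensorProduct.induction_on with
    | zero => rw [map_zero]
    | add p q hp hq => rw [map_add, hp, hq, add_zero]
    | tmul r m =>
      show (show Fn W from r) • res M₁ (g₁ ≫ b) m = 0
      rw [res_comp, hq, map_zero, smul_zero]
  let T : Set (Points X.obj) := (Points.ofPt E₀.obj.hom '' {u | good u})ᶜ
  have hTc : IsClosed T := ((AlgSpLib.isOpenMap_ofPt E₀.property) _ hgo).isClosed_compl
  have hTn : T.Nonempty := ⟨Points.ofPt E₀.obj.hom u₀, fun ⟨u, hu, he⟩ => hu₀ (hsat u u₀ he hu)⟩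
  haveI := S10201.result X hqc hqs
  obtain ⟨p₀, hp₀T, hp₀⟩ := hTc.exists_closed_singleton hTn
  obtain ⟨p, hp, hpi⟩ := S10359.result X (isDecent_of_isQuasiSeparatedSp X.property hqs) p₀ hp₀
  have hrep : Representable p.toHom := hpi.rep
  have hpc : IsQuasiCompactMor p.toHom :=
    isQuasiCompactMor_of_repWith (repWith_mono (fun _ _ m (_ : IsClosedImmersion m) => inferInstanceAs (QuasiCompact m)) _ hpi)
  let I := idealOfRep hrep
  have hI : I.IsQCoh := isQCoh_idealOfRep hrep hpc
  let N₂ := idealSub I M₁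
  have hN₂ : Compat M₁ N₂ := compat_idealSub I hI M₁
  let Q := quot (M := M₁) (N := N₂)
  haveI : Q.IsQuasicoherent := isQuasicoherent_quot hN₂ X.property
  let π₂ : M₁ ⟶ Q := quotπ (N := N₂)
  have hkill : PushImage13.Killed hrep Q := by
    intro V hV a ha y
    obtain ⟨R, hR, hy⟩ := exists_local_preimage π₂ y
    obtain ⟨c, hc⟩ := exists_cov hV hR
    refine c.ext Q fun i => ?_
    obtain ⟨m, hm⟩ := hy _ _ (hc i)
    rw [res_smul, ← hm, ← map_smul]
    exact eq_zero_of_mem _ (c.aff i) hN₂ (Submodule.smul_mem_smul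
      (I.map_le (c.T i).hom hV (c.aff i) (Ideal.mem_map_of_mem _ ((PushImage13.mem_ideal_iff hrep rfl V hV a).2 ha)))
      Submodule.mem_top)
  obtain ⟨G, hG, ⟨e⟩⟩ := PushImage13.exists_pushIso hrep hpi X.property ‹Q.IsQuasicoherent› hkill
  haveI := hG
  -- the point
  let ET : EtOver ((yon S).obj p.pt) := EtOver.mk (𝟙 _) (repWith_id _ _)
  have hET : Aff ET := by
    show IsAffine (Spec (CommRingCat.of p.K))
    infer_instance
  have hto : ∀ W : EtOver ((yon S).obj p.pt), ∃ k : W ⟶ ET, ∀ k' : W ⟶ ET, k' = k := fun W => by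
    obtain ⟨k, hk⟩ := (yon S).map_surjective W.obj.hom
    refine ⟨EtOver.homMk k (by show (yon S).map k ≫ 𝟙 _ = _; rw [Category.comp_id, hk]), fun k' =>
      EtOver.hom_ext _ _ ((yon S).map_injective ?_)⟩
    show (yon S).map k'.hom.left = (yon S).map k
    rw [hk, ← EtOver.w k']
    exact (Category.comp_id _).symm
  choose k hk using hto
  let w₀ : (EtOver.bc hrep).obj E₀ ⟶ ET := k _
  -- the fibre of the atlas is not killed
  have hQ : ∃ q : sectModEt Q E₀, q ≠ 0 := by
    by_contra hQ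
    push_neg at hQ
    have hle : (⊤ : Submodule (Fn E₀) (sectModEt M₁ E₀)) ≤ (I.ideal E₀ hE₀ : Ideal (Fn E₀)) • ⊤ :=
      fun m _ => mem_of_quot_zero hN₂ E₀ hE₀ (hQ _)
    obtain ⟨r, hr, hr0⟩ := Submodule.exists_sub_one_mem_and_smul_eq_zero_of_fg_of_le_smul _
      (⊤ : Submodule (Fn E₀) (sectModEt M₁ E₀)) Module.Finite.fg_top hle
    obtain ⟨u, hu⟩ := hcov p₀
    refine hp₀T ⟨u, ?_, hu⟩
    obtain ⟨pt, hpt⟩ : ∃ t, Points.ofPt p.toHom t = p₀ := by
      refine ⟨IsLocalRing.closedPoint p.K, ?_⟩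
      rw [← hp]
      exact (AlgSpLib.mk_eq_ofPt p).symm
    have sqz := EtOver.isPullback_bcObj hrep E₀
    obtain ⟨c₁, hc₁⟩ := (yon S).map_surjective (EtOver.bcObj hrep E₀).obj.hom
    rw [← hc₁] at sqz
    obtain ⟨z, -, hz⟩ := exists_ofPt_of_eq sqz (hpt.trans hu.symm)
    have hπr : PushImage13.π hrep E₀ r = 1 := by
      have h : PushImage13.π hrep E₀ (r - 1) = 0 := (PushImage13.mem_ideal_iff hrep rfl E₀ hE₀ _).1 hr
      rwa [map_sub, map_one, sub_eq_zero] at h
    have hmem : u ∈ E₀.obj.left.left.basicOpen r := by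
      rw [← hz]
      have h := Scheme.preimage_basicOpen (EtOver.bcπ hrep E₀).left r (U := ⊤)
      refine (congrArg (z ∈ ·) h).mpr ?_
      show z ∈ ((EtOver.bc hrep).obj E₀).obj.left.left.basicOpen (PushImage13.π hrep E₀ r)
      rw [hπr, Scheme.basicOpen_of_isUnit _ isUnit_one]
      trivial
    refine ⟨basic E₀ r, basicι E₀ r, ⟨u, hmem⟩, rfl, fun q => ?_⟩
    refine (isUnit_rmap_basicι E₀ r).smul_eq_zero.1 ?_
    rw [← res_smul, hr0 q Submodule.mem_top, map_zero]
  obtain ⟨q, hq⟩ := hQ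
  let σ : sectModEt G ((EtOver.bc hrep).obj E₀) → sectModEt Q E₀ := fun g => appL e.hom E₀ g
  have hσ : ∃ t : sectModEt G ET, σ (res G w₀ t) ≠ 0 := by
    by_contra hσ
    push_neg at hσ
    obtain ⟨g, hg⟩ : ∃ g, σ g = q := ⟨appL e.inv E₀ q, by
      show appL e.hom E₀ (appL e.inv E₀ q) = q
      rw [appL_appL, e.inv_hom_id]; rfl⟩
    refine hq (hg ▸ ?_)
    obtain ⟨c, rfl⟩ := (bijective_bcMor (cart_of_isQuasicoherent G hET) (Over.mk w₀)
      (PushImage13.aff_bc hrep hpi hE₀)).2 g
    have hsm : ∀ (r : Fn ((EtOver.bc hrep).obj E₀)) (g : sectModEt G ((EtOver.bc hrep).obj E₀)), σ g = 0 →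
        σ (r • g) = 0 := fun r g hg => by
      obtain ⟨r', rfl⟩ := PushImage13.π_surjective hrep hpi hE₀ r
      show appL e.hom E₀ (r' • (show sectModEt ((pushModEt hrep).obj G) E₀ from g)) = 0
      rw [map_smul]
      exact (congrArg (r' • ·) hg).trans (smul_zero r')
    clear hg
    induction c using TensorProduct.induction_on with
    | zero => rw [map_zero]; exact map_zero (appL e.hom E₀)
    | add a b ha hb =>
      rw [map_add]
      exact (map_add (appL e.hom E₀) _ _).trans ((congrArg₂ (· + ·) ha hb).trans (add_zero _))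
    | tmul r m => exact hsm r _ (hσ m)
  obtain ⟨t, ht⟩ := hσ
  have hinv : σ (res G w₀ t) ∈ Inv E₀ Q := fun Z a b => by
    show res Q a (appL e.hom E₀ _) = res Q b (appL e.hom E₀ _)
    rw [res_appL, res_appL]
    refine congrArg (appL e.hom Z) ?_
    show res G ((EtOver.bc hrep).map a) (res G w₀ t) = res G ((EtOver.bc hrep).map b) (res G w₀ t)
    rw [← res_comp, ← res_comp, hk _ ((EtOver.bc hrep).map a ≫ w₀), hk _ ((EtOver.bc hrep).map b ≫ w₀)]
  obtain ⟨m, hm, hmq⟩ := exists_lift hcov π₂ (h1 _ ((S10240.result X).2.1 _ _ π₂ ‹_› ‹_›).1) hinv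
  have hm0 : m = 0 := injective_appL ι₁ E₀ ((h0 _ (appL_mem_Inv ι₁ hm)).trans (map_zero _).symm)
  exact ht (by rw [← hmq, hm0, map_zero])

include hqc hqs h1 hE₀ hcov in
/-- Global sections generate. -/
theorem span_Inv_eq_top (M : ModEt X.obj) [M.IsQuasicoherent] :
    Submodule.span (Fn E₀) (Inv E₀ M : Set (sectModEt M E₀)) = ⊤ := by
  let Gs : ∀ V : EtOver X.obj, Set (sectModEt M V) := fun V =>
    {y | ∃ x ∈ Inv E₀ M, ∀ (W : EtOver X.obj) (a : W ⟶ V) (b : W ⟶ E₀), res M a y = res M b x}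
  let N : ∀ V : EtOver X.obj, Aff V → Submodule (Fn V) (sectModEt M V) := fun V _ => Submodule.span (Fn V) (Gs V)
  have hGs : ∀ x ∈ Inv E₀ M, x ∈ Gs E₀ := fun x hx => ⟨x, hx, fun W a b => hx W a b⟩
  have hN : Compat M N := by
    intro V V' hV hV' g
    refine le_antisymm (Submodule.span_le.2 ?_) (Submodule.span_le.2 ?_)
    · rintro y ⟨x, hx, hy⟩
      obtain ⟨s, hs, hnat, -⟩ := exists_ext hcov hx
      refine Submodule.subset_span ⟨s V, Submodule.subset_span ⟨x, hx, hs V⟩, ?_⟩
      rw [hnat]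
      exact eq_of_res_eq hcov fun W a b => by rw [hy W a b, hs V' W a b]
    · rintro _ ⟨y, hy, rfl⟩
      induction hy using Submodule.span_induction with
      | mem y hy =>
        obtain ⟨x, hx, hy⟩ := hy
        exact Submodule.subset_span ⟨x, hx, fun W a b => by rw [← res_comp]; exact hy W _ b⟩
      | zero => rw [map_zero]; exact zero_mem _
      | add a b _ _ ha hb => rw [map_add]; exact add_mem ha hb
      | smul r a _ ha => rw [res_smul]; exact Submodule.smul_mem _ _ ha
  let C := quot (M := M) (N := N)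
  haveI : C.IsQuasicoherent := isQuasicoherent_quot hN X.property
  let π : M ⟶ C := quotπ (N := N)
  have h0 : ∀ c ∈ Inv E₀ C, c = 0 := fun c hc => by
    obtain ⟨m, hm, rfl⟩ := exists_lift hcov π (h1 _ ((S10240.result X).2.1 _ _ π ‹_› ‹_›).1) hc
    exact eq_zero_of_mem E₀ hE₀ hN (Submodule.subset_span (hGs m hm))
  refine eq_top_iff.2 fun x _ => ?_
  refine Submodule.span_le.2 ?_ (mem_of_quot_zero hN E₀ hE₀ (eq_zero_of_Inv hqc hqs h1 hE₀ hcov C h0 (appL π E₀ x)))
  rintro y ⟨x', hx', hy⟩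
  refine Submodule.subset_span ?_
  have h := hy E₀ (𝟙 E₀) (𝟙 E₀)
  rw [res_id, res_id] at h
  rw [h]
  exact hx'

end Groth.Agent.AlgSpWA.SerreGen
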