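import Groth.Agent.AlgSpWA.UnionColim
import Groth.Agent.AlgSpDec.LimDescent
import Groth.Agent.AlgSpWA.SerreGen

/-!
# A quasi-coherent module is the union of its quasi-coherent submodules of finite type
-/

set_option autoImplicit false
set_option linter.style.haveILetI false
set_option backward.isDefEq.respectTransparency false
set_option backward.isDefEq.respectTransparency.types false

noncomputable section

universe u

open CategoryTheory CategoryTheory.Limits AlgebraicGeometry Opposite AlgSp
open Groth.Agent.QCart13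

namespace Groth.Agent.AlgSpWA.FTSub

open CohUnion FinSys SerreSub SerreGen

variable {S : Scheme.{u}} [QuasiSeparatedSpace ↥S] {X : Space S} (hqc : IsQuasiCompactSp X.obj)
  (hqs : IsQuasiSeparatedSp X.obj) {U : EtOver X.obj} (hU : Aff U)
  (hcov : ∀ x : Points X.obj, ∃ u, Points.ofPt U.obj.hom u = x) (M : ModEt X.obj) [M.IsQuasicoherent]

omit [QuasiSeparatedSpace ↥S] in
include hU hcov in
/-- The subobject cut out by a system. -/
theorem exists_subobject (Sg : Sys M (𝟙 X.obj)) :
    ∃ N : Subobject M, (Subobject.underlying.obj N).IsQuasicoherent ∧ (Subobject.underlying.obj N).IsFiniteType ∧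
      ∀ (V : EtOver X.obj) (hV : Aff V) (s : sectModEt M V), s ∈ sysSub M Sg V hV →
        ∃ t, appL N.arrow V t = s := by
  have hN := compat_sysSub M Sg
  let M₁ : ModEt X.obj := sub M (sysSub M Sg)
  let ι₁ : M₁ ⟶ M := subι M (sysSub M Sg)
  haveI : Mono ι₁ := Gen.mono_satι (subPre M (sysSub M Sg))
  haveI : M₁.IsQuasicoherent := isQuasicoherent_sub hN
  let N := Subobject.mk ι₁
  let e : Subobject.underlying.obj N ≅ M₁ := Subobject.underlyingIso ι₁
  haveI hqN : (Subobject.underlying.obj N).IsQuasicoherent :=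
    (SheafOfModules.isQuasicoherent (OEtRing X.obj)).prop_of_iso e.symm ‹_›
  refine ⟨N, hqN, ?_, fun V hV s hs => ?_⟩
  · refine isFiniteType_of_finite (Subobject.underlying.obj N) (I := PUnit) (fun _ => U) (fun _ => hU)
      (fun x => ⟨⟨⟩, hcov x⟩) fun _ => ?_
    haveI : Module.Finite (Fn U) ↥(sysSub M Sg U hU) := Module.Finite.iff_fg.2 (fg_sysSub M Sg U hU)
    have hmem : ∀ t, appL N.arrow U t ∈ sysSub M Sg U hU := fun t => by
      have h : appL N.arrow U t = appL ι₁ U (appL e.hom U t) := by
        rw [appL_appL, show e.hom ≫ ι₁ = N.arrow from Subobject.underlyingIso_hom_comp_eq_mk ι₁]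
      rw [h]
      exact appL_mem hN U hU _
    refine Module.Finite.equiv (LinearEquiv.ofBijective ((appL N.arrow U).codRestrict (sysSub M Sg U hU) hmem)
      ⟨fun a b hab => injective_appL N.arrow U (congrArg Subtype.val hab :), fun b => ?_⟩).symm
    obtain ⟨y, hy⟩ := exists_appL hN U hU b.2
    refine ⟨appL e.inv U y, Subtype.ext ?_⟩
    show appL N.arrow U (appL e.inv U y) = b.1
    rw [appL_appL, show e.inv ≫ N.arrow = ι₁ from Subobject.underlyingIso_arrow ι₁]
    exact hy
  · obtain ⟨y, hy⟩ := exists_appL hN V hV hs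
    refine ⟨appL e.inv V y, ?_⟩
    rw [appL_appL, show e.inv ≫ N.arrow = ι₁ from Subobject.underlyingIso_arrow ι₁]
    exact hy

include hU hqc hqs in
/-- A finitely generated subobject lies in the subobject of some system, and so do finitely many sections. -/
theorem exists_sys_of_sections {n : ℕ} (m : Fin n → sectModEt M U) :
    ∃ Sg : Sys M (𝟙 X.obj), ∀ k, m k ∈ sysSub M Sg U hU := by
  obtain ⟨Sg, hSg⟩ := hasSys X hqc hqs M (ULift.{u + 1} (Fin n)) inferInstance (fun _ => U) (fun _ => hU)
    (fun _ => top' U) (fun k => m k.down)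
  exact ⟨Sg, fun k => hSg ⟨k⟩⟩

include hU hcov in
omit [QuasiSeparatedSpace ↥S] in
/-- A submodule whose sections over the atlas are in a system lies in it everywhere. -/
theorem mem_of_atlas (Sg : Sys M (𝟙 X.obj)) {A : ModEt X.obj} [A.IsQuasicoherent] (j : A ⟶ M)
    (h : ∀ x : sectModEt A U, appL j U x ∈ sysSub M Sg U hU) (V : EtOver X.obj) (hV : Aff V) (x : sectModEt A V) :
    appL j V x ∈ sysSub M Sg V hV := by
  have hN := compat_sysSub M Sg
  obtain ⟨c, hc⟩ := QCart13.exists_cov hV (R :=
    { arrows := fun W _ => Nonempty (W ⟶ U)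
      downward_closed := fun ⟨g⟩ k => ⟨k ≫ g⟩ }) (mem_etTop_of_exists _ fun e => by
    obtain ⟨v, hv⟩ := hcov (Points.ofPt V.obj.hom e)
    obtain ⟨W, -, g, g', w, hw, -⟩ := exists_common V U hv.symm
    exact ⟨W, g, ⟨g'⟩, w, hw⟩)
  refine mem_of_cover M hV (cart_of_isQuasicoherent M hV) c _ _ fun k => ?_
  obtain ⟨g⟩ := hc k
  obtain ⟨z, hz⟩ := (bijective_bcMor (cart_of_isQuasicoherent A hU) (Over.mk g) (c.aff k)).2 (res A (c.T k).hom x)
  rw [res_appL, ← hz]
  clear hz
  induction z using TensorProduct.induction_on with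
  | zero => rw [map_zero, map_zero]; exact zero_mem _
  | add p q hp hq => rw [map_add, map_add]; exact add_mem hp hq
  | tmul a m =>
    rw [LinearMap.liftBaseChange_tmul]
    show appL j (c.T k).left ((show Fn (c.T k).left from a) • (show sectModEt A (c.T k).left from res A g m)) ∈ _
    rw [map_smul]
    refine Submodule.smul_mem _ _ ?_
    rw [← res_appL]
    have h1 : res M g (appL j U m) ∈ sysSub M Sg (c.T k).left (c.aff k) := res_mem hN hU (c.aff k) g (h m)
    rwa [hN V (c.T k).left hV (c.aff k) (c.T k).hom] at h1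

include hU hcov in
omit [QuasiSeparatedSpace ↥S] in
/-- A subobject below the subobject of a system. -/
theorem le_of_atlas (Sg : Sys M (𝟙 X.obj)) (A N : Subobject M) [(Subobject.underlying.obj A).IsQuasicoherent]
    [(Subobject.underlying.obj N).IsQuasicoherent]
    (h : ∀ x, appL A.arrow U x ∈ sysSub M Sg U hU)
    (hN : ∀ (V : EtOver X.obj) (hV : Aff V) (s : sectModEt M V), s ∈ sysSub M Sg V hV →
        ∃ t, appL N.arrow V t = s) : A ≤ N := by
  refine Subobject.le_of_comm (Abelian.monoLift N.arrow A.arrow ?_) (Abelian.monoLift_comp _ _ _)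
  refine SheafOfModules.hom_ext (PresheafOfModules.hom_ext fun W => ModuleCat.hom_ext (LinearMap.ext fun x => ?_))
  refine eq_zero_of_affine _ (E := W.unop) _ fun V k hV => ?_
  show res (cokernel N.arrow) k (appL (A.arrow ≫ cokernel.π N.arrow) W.unop x) = 0
  rw [res_appL, ← appL_appL]
  obtain ⟨t, ht⟩ := hN V hV _ (mem_of_atlas hU hcov M Sg A.arrow h V hV (res _ k x))
  rw [← ht, appL_appL, cokernel.condition]
  rfl

include hqc hqs hU hcov in
/-- Two subobjects of finite type lie in a third. -/
theorem exists_upper (A B : Subobject M) [(Subobject.underlying.obj A).IsQuasicoherent]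
    [(Subobject.underlying.obj A).IsFiniteType] [(Subobject.underlying.obj B).IsQuasicoherent]
    [(Subobject.underlying.obj B).IsFiniteType] :
    ∃ N : Subobject M, ((Subobject.underlying.obj N).IsQuasicoherent ∧ (Subobject.underlying.obj N).IsFiniteType) ∧
      A ≤ N ∧ B ≤ N := by
  haveI hfA := finite_sect (Subobject.underlying.obj A) hU
  haveI hfB := finite_sect (Subobject.underlying.obj B) hU
  obtain ⟨na, ga, hga⟩ := Submodule.fg_iff_exists_fin_generating_family.1
    (Module.Finite.fg_top (R := Fn U) (M := sectModEt (Subobject.underlying.obj A) U))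
  obtain ⟨nb, gb, hgb⟩ := Submodule.fg_iff_exists_fin_generating_family.1
    (Module.Finite.fg_top (R := Fn U) (M := sectModEt (Subobject.underlying.obj B) U))
  obtain ⟨Sg, hSg⟩ := exists_sys_of_sections hqc hqs hU M
    (Fin.append (fun i => appL A.arrow U (ga i)) (fun i => appL B.arrow U (gb i)))
  obtain ⟨N, hq, hf, hmem⟩ := exists_subobject hU hcov M Sg
  haveI := hq
  have hA : ∀ x, appL A.arrow U x ∈ sysSub M Sg U hU := by
    intro x
    have hx : x ∈ Submodule.span (Fn U) (Set.range ga) := hga ▸ Submodule.mem_top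
    refine (Submodule.span_le.2 ?_ hx : x ∈ Submodule.comap (appL A.arrow U) (sysSub M Sg U hU))
    rintro _ ⟨i, rfl⟩
    simpa using hSg (Fin.castAdd nb i)
  have hB : ∀ x, appL B.arrow U x ∈ sysSub M Sg U hU := by
    intro x
    have hx : x ∈ Submodule.span (Fn U) (Set.range gb) := hgb ▸ Submodule.mem_top
    refine (Submodule.span_le.2 ?_ hx : x ∈ Submodule.comap (appL B.arrow U) (sysSub M Sg U hU))
    rintro _ ⟨i, rfl⟩
    simpa using hSg (Fin.natAdd na i)
  exact ⟨N, ⟨hq, hf⟩, le_of_atlas hU hcov M Sg A N hA hmem, le_of_atlas hU hcov M Sg B N hB hmem⟩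

include hqc hqs hU hcov in
/-- Every section over an affine lies in a subobject of finite type. -/
theorem exists_mem_subobject (W : EtOver X.obj) (hW : Aff W) (s : sectModEt M W) :
    ∃ (N : Subobject M) (_ : (Subobject.underlying.obj N).IsQuasicoherent ∧ (Subobject.underlying.obj N).IsFiniteType)
      (t : sectModEt (Subobject.underlying.obj N) W), appL N.arrow W t = s := by
  obtain ⟨Sg, hSg⟩ := hasSys X hqc hqs M PUnit inferInstance (fun _ => W) (fun _ => hW)
    (fun _ => top' W) (fun _ => s)
  obtain ⟨N, hq, hf, hN⟩ := exists_subobject hU hcov M Sg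
  have hmem : s ∈ sysSub M Sg W hW := hSg ⟨⟩
  obtain ⟨t, ht⟩ := hN W hW s hmem
  exact ⟨N, ⟨hq, hf⟩, t, ht⟩

omit hqc hqs hU hcov in
set_option maxHeartbeats 3200000 in
/-- The quasi-coherent submodules of finite type are filtered with colimit the module. -/
theorem isFiltered_and_isColimit {X : Space S} (hqc : IsQuasiCompactSp X.obj) (hqs : IsQuasiSeparatedSp X.obj)
    (M : ModEt X.obj) [M.IsQuasicoherent]
    (P : ObjectProperty (Subobject M))
    (hP : P = fun N => (Subobject.underlying.obj N).IsQuasicoherent ∧ (Subobject.underlying.obj N).IsFiniteType)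
    (ι : P.ι ⋙ Subobject.underlying ⟶ (Functor.const P.FullSubcategory).obj M)
    (hι : ∀ N : P.FullSubcategory, ι.app N = N.obj.arrow) :
    IsFiltered P.FullSubcategory ∧ Nonempty (IsColimit (Cocone.mk M ι)) := by
  classical
  obtain ⟨U₀, a, hU₀, ha, has⟩ := Groth.Agent.AlgSpDec.exists_affine_atlas hqc
  let U : EtOver X.obj := EtOver.mk a ha
  have hU : Aff U := hU₀
  have hcov : ∀ x : Points X.obj, ∃ u, Points.ofPt U.obj.hom u = x :=
    fun x => Groth.Agent.AlgSpLib.surjective_ofPt has x
  subst hP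
  have key : ∀ {n : ℕ} (m : Fin n → sectModEt M U), ∃ (N : Subobject M)
      (_ : (Subobject.underlying.obj N).IsQuasicoherent ∧ (Subobject.underlying.obj N).IsFiniteType)
      (Sg : Groth.Agent.AlgSpWA.FinSys.Sys M (𝟙 X.obj)),
      (∀ k, m k ∈ SerreGen.sysSub M Sg U hU) ∧
      ∀ (V : EtOver X.obj) (hV : Aff V) (s : sectModEt M V),
        s ∈ SerreGen.sysSub M Sg V hV → ∃ t, appL N.arrow V t = s := fun m => by
    obtain ⟨Sg, hSg⟩ := exists_sys_of_sections hqc hqs hU M m
    obtain ⟨N, hq, hf, hN⟩ := exists_subobject hU hcov M Sg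
    exact ⟨N, ⟨hq, hf⟩, Sg, hSg, hN⟩
  obtain ⟨N₀, hN₀, -⟩ := key (n := 0) Fin.elim0
  haveI hne : Nonempty (ObjectProperty.FullSubcategory fun N : Subobject M =>
      (Subobject.underlying.obj N).IsQuasicoherent ∧ (Subobject.underlying.obj N).IsFiniteType) := ⟨⟨N₀, hN₀⟩⟩
  have hfil : IsFiltered (ObjectProperty.FullSubcategory fun N : Subobject M =>
      (Subobject.underlying.obj N).IsQuasicoherent ∧ (Subobject.underlying.obj N).IsFiniteType) :=
    { cocone_objs := fun A B => by
        haveI := A.property.1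
        haveI := A.property.2
        haveI := B.property.1
        haveI := B.property.2
        obtain ⟨N, hN, hAN, hBN⟩ := exists_upper hqc hqs hU hcov M A.obj B.obj
        exact ⟨⟨N, hN⟩, ObjectProperty.homMk (homOfLE hAN), ObjectProperty.homMk (homOfLE hBN), trivial⟩
      cocone_maps := fun A B f g => ⟨B, 𝟙 B, by
        rw [show f = g from ObjectProperty.hom_ext _ (Subsingleton.elim _ _)]⟩ }
  haveI := hfil
  refine ⟨hfil, Groth.Agent.AlgSpWA.UnionColim.nonempty_isColimit (Cocone.mk M ι) (fun N => ?_) fun W hW s => ?_⟩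
  · show Mono (ι.app N)
    rw [hι]
    exact inferInstanceAs (Mono N.obj.arrow)
  · obtain ⟨N, hN, t, ht⟩ := exists_mem_subobject hqc hqs hU hcov M W hW s
    refine ⟨⟨N, hN⟩, t, ?_⟩
    show appL (ι.app ⟨N, hN⟩) W t = s
    rw [hι]
    exact ht

end Groth.Agent.AlgSpWA.FTSub
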