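import Groth.Agent.RingPO.FEtDescent

/-!
# Etale morphisms of Ferrand pushouts

A morphism of pushouts of cartesian squares whose pieces are etale is etale and cartesian.
-/

set_option autoImplicit false

universe u

open AlgebraicGeometry CategoryTheory CategoryTheory.Limits TopologicalSpace Opposite TensorProduct RingPO

namespace Groth.Agent.AlgSpWA.RingPOEtale

variable {X Y Z P X' Y' Z' P' : Scheme.{u}} {i : Z ⟶ X} [IsClosedImmersion i] {j : Z ⟶ Y} {a : X ⟶ P} {b : Y ⟶ P}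
  {i' : Z' ⟶ X'} [IsClosedImmersion i'] {j' : Z' ⟶ Y'} {a' : X' ⟶ P'} {b' : Y' ⟶ P'}
  {f : X' ⟶ X} {g : Y' ⟶ Y} {c : Z' ⟶ Z} {h : P' ⟶ P}

/-- Etale pieces give an etale corner, and the two comparison squares are cartesian. -/
theorem etale_corner [IsAffineHom j] [IsAffineHom j'] [IsAffineHom a] [IsAffineHom b] [IsAffineHom a'] [IsAffineHom b']
    [Etale f] [Etale g] (hP : IsPushout i j a b) (hcP : ∀ y : Y, ∃ k : Chart i j, y ∈ k.V)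
    (hP' : IsPushout i' j' a' b') (hcP' : ∀ y : Y', ∃ k : Chart i' j', y ∈ k.V) (hX : IsPullback i' c f i)
    (hY : IsPullback j' c g j) (ha : a' ≫ h = f ≫ a) (hb : b' ≫ h = g ≫ b) :
    Etale h ∧ IsPullback a' f h a ∧ IsPullback b' g h b := by
  have h₁ : ∀ (U : P.Opens) (U' : P'.Opens), U' ≤ h ⁻¹ᵁ U → a' ⁻¹ᵁ U' ≤ f ⁻¹ᵁ a ⁻¹ᵁ U := fun U U' e => by
    rw [← Scheme.Hom.comp_preimage, ← ha, Scheme.Hom.comp_preimage]; exact a'.preimage_mono e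
  have h₂ : ∀ (U : P.Opens) (U' : P'.Opens), U' ≤ h ⁻¹ᵁ U → b' ⁻¹ᵁ U' ≤ g ⁻¹ᵁ b ⁻¹ᵁ U := fun U U' e => by
    rw [← Scheme.Hom.comp_preimage, ← hb, Scheme.Hom.comp_preimage]; exact b'.preimage_mono e
  have main : ∀ (U : P.affineOpens) (U' : P'.affineOpens) (e : U'.1 ≤ h ⁻¹ᵁ U.1),
      (h.appLE U U' e).hom.Etale := by
    intro U U' e
    have e₁ := h₁ U.1 U'.1 e
    have e₂ := h₂ U.1 U'.1 e
    obtain ⟨hB, hA, -, -⟩ := chart_spec hP hcP hP' hcP' hX hY ha hb U U' e e₁ e₂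
    have hfe : (f.appLE (a ⁻¹ᵁ U.1) (a' ⁻¹ᵁ U'.1) e₁).hom.Etale :=
      HasRingHomProperty.appLE @Etale _ inferInstance ⟨_, U.2.preimage a⟩ ⟨_, U'.2.preimage a'⟩ e₁
    have hge : (g.appLE (b ⁻¹ᵁ U.1) (b' ⁻¹ᵁ U'.1) e₂).hom.Etale :=
      HasRingHomProperty.appLE @Etale _ inferInstance ⟨_, U.2.preimage b⟩ ⟨_, U'.2.preimage b'⟩ e₂
    have hF := isFibreProd_of_affineOpen hP hcP U.2
    set W : Z.Opens := i ⁻¹ᵁ a ⁻¹ᵁ U.1 with hW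
    have eW : W = j ⁻¹ᵁ b ⁻¹ᵁ U.1 := by rw [hW, ← Scheme.Hom.comp_preimage, hP.w, Scheme.Hom.comp_preimage]
    have hF2 : IsFibreProd (i.appLE (a ⁻¹ᵁ U.1) W le_rfl).hom (j.appLE (b ⁻¹ᵁ U.1) W eW.le).hom
        (a.appLE U (a ⁻¹ᵁ U.1) le_rfl).hom (b.appLE U (b ⁻¹ᵁ U.1) le_rfl).hom := hF
    letI : Algebra Γ(P, U) Γ(Y, b ⁻¹ᵁ U.1) := (b.appLE U (b ⁻¹ᵁ U.1) le_rfl).hom.toAlgebra
    letI : Algebra Γ(P, U) Γ(X, a ⁻¹ᵁ U.1) := (a.appLE U (a ⁻¹ᵁ U.1) le_rfl).hom.toAlgebra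
    letI : Algebra Γ(Y, b ⁻¹ᵁ U.1) Γ(Z, W) := (j.appLE (b ⁻¹ᵁ U.1) W eW.le).hom.toAlgebra
    letI : Algebra Γ(X, a ⁻¹ᵁ U.1) Γ(Z, W) := (i.appLE (a ⁻¹ᵁ U.1) W le_rfl).hom.toAlgebra
    letI : Algebra Γ(P, U) Γ(Z, W) :=
      ((b.appLE U (b ⁻¹ᵁ U.1) le_rfl) ≫ (j.appLE (b ⁻¹ᵁ U.1) W eW.le)).hom.toAlgebra
    haveI : IsScalarTower Γ(P, U) Γ(Y, b ⁻¹ᵁ U.1) Γ(Z, W) := IsScalarTower.of_algebraMap_eq' rfl
    haveI : IsScalarTower Γ(P, U) Γ(X, a ⁻¹ᵁ U.1) Γ(Z, W) :=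
      IsScalarTower.of_algebraMap_eq' (RingHom.ext fun z => (hF2.comm z).symm)
    have hsq : EtMil.IsFibreSquare Γ(P, U) Γ(Y, b ⁻¹ᵁ U.1) Γ(X, a ⁻¹ᵁ U.1) Γ(Z, W) := isFibreSquare_of_isFibreProd hF2
    letI : Algebra Γ(P, U) Γ(P', U') := (h.appLE U U' e).hom.toAlgebra
    letI : Algebra Γ(Y, b ⁻¹ᵁ U.1) Γ(Y', b' ⁻¹ᵁ U'.1) := (g.appLE (b ⁻¹ᵁ U.1) (b' ⁻¹ᵁ U'.1) e₂).hom.toAlgebra
    letI : Algebra Γ(X, a ⁻¹ᵁ U.1) Γ(X', a' ⁻¹ᵁ U'.1) := (f.appLE (a ⁻¹ᵁ U.1) (a' ⁻¹ᵁ U'.1) e₁).hom.toAlgebra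
    letI : Algebra Γ(P', U') Γ(Y', b' ⁻¹ᵁ U'.1) := (b'.appLE U' (b' ⁻¹ᵁ U'.1) le_rfl).hom.toAlgebra
    letI : Algebra Γ(P', U') Γ(X', a' ⁻¹ᵁ U'.1) := (a'.appLE U' (a' ⁻¹ᵁ U'.1) le_rfl).hom.toAlgebra
    letI : Algebra Γ(P, U) Γ(Y', b' ⁻¹ᵁ U'.1) :=
      ((b.appLE U (b ⁻¹ᵁ U.1) le_rfl) ≫ (g.appLE (b ⁻¹ᵁ U.1) (b' ⁻¹ᵁ U'.1) e₂)).hom.toAlgebra
    haveI : IsScalarTower Γ(P, U) Γ(Y, b ⁻¹ᵁ U.1) Γ(Y', b' ⁻¹ᵁ U'.1) := IsScalarTower.of_algebraMap_eq' rfl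
    haveI : IsScalarTower Γ(P, U) Γ(P', U') Γ(Y', b' ⁻¹ᵁ U'.1) := IsScalarTower.of_algebraMap_eq' (by
      show ((b.appLE U (b ⁻¹ᵁ U.1) le_rfl) ≫ (g.appLE (b ⁻¹ᵁ U.1) (b' ⁻¹ᵁ U'.1) e₂)).hom =
        (h.appLE U U' e ≫ b'.appLE U' (b' ⁻¹ᵁ U'.1) le_rfl).hom
      rw [Scheme.Hom.appLE_comp_appLE, Scheme.Hom.appLE_comp_appLE]; simp only [hb])
    letI : Algebra Γ(P, U) Γ(X', a' ⁻¹ᵁ U'.1) :=
      ((a.appLE U (a ⁻¹ᵁ U.1) le_rfl) ≫ (f.appLE (a ⁻¹ᵁ U.1) (a' ⁻¹ᵁ U'.1) e₁)).hom.toAlgebra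
    haveI : IsScalarTower Γ(P, U) Γ(X, a ⁻¹ᵁ U.1) Γ(X', a' ⁻¹ᵁ U'.1) := IsScalarTower.of_algebraMap_eq' rfl
    haveI : IsScalarTower Γ(P, U) Γ(P', U') Γ(X', a' ⁻¹ᵁ U'.1) := IsScalarTower.of_algebraMap_eq' (by
      show ((a.appLE U (a ⁻¹ᵁ U.1) le_rfl) ≫ (f.appLE (a ⁻¹ᵁ U.1) (a' ⁻¹ᵁ U'.1) e₁)).hom =
        (h.appLE U U' e ≫ a'.appLE U' (a' ⁻¹ᵁ U'.1) le_rfl).hom
      rw [Scheme.Hom.appLE_comp_appLE, Scheme.Hom.appLE_comp_appLE]; simp only [ha])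
    haveI : Algebra.IsPushout Γ(P, U) Γ(Y, b ⁻¹ᵁ U.1) Γ(P', U') Γ(Y', b' ⁻¹ᵁ U'.1) := CommRingCat.isPushout_iff_isPushout.mp hB
    haveI : Algebra.IsPushout Γ(P, U) Γ(X, a ⁻¹ᵁ U.1) Γ(P', U') Γ(X', a' ⁻¹ᵁ U'.1) := CommRingCat.isPushout_iff_isPushout.mp hA
    let eB' := Algebra.IsPushout.equiv Γ(P, U) Γ(Y, b ⁻¹ᵁ U.1) Γ(P', U') Γ(Y', b' ⁻¹ᵁ U'.1)
    let eA' := Algebra.IsPushout.equiv Γ(P, U) Γ(X, a ⁻¹ᵁ U.1) Γ(P', U') Γ(X', a' ⁻¹ᵁ U'.1)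
    haveI : Algebra.Etale Γ(Y, b ⁻¹ᵁ U.1) Γ(Y', b' ⁻¹ᵁ U'.1) := hge
    haveI : Algebra.Etale Γ(X, a ⁻¹ᵁ U.1) Γ(X', a' ⁻¹ᵁ U'.1) := hfe
    haveI := Algebra.Etale.of_equiv eB'.symm
    haveI := Algebra.Etale.of_equiv eA'.symm
    exact Milnor.etale_of_pair hsq Γ(P', U')
  let ι := { p : P.affineOpens × P'.affineOpens // p.2.1 ≤ h ⁻¹ᵁ p.1.1 }
  have hcov : ∀ x, ∃ p : ι, x ∈ p.1.2.1 := by
    intro x
    obtain ⟨U, hU, hxU, -⟩ := exists_isAffineOpen_mem_and_subset (x := h x) (U := (⊤ : P.Opens)) (by simp)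
    obtain ⟨U', hU', hxU', hle⟩ := exists_isAffineOpen_mem_and_subset (x := x) (U := h ⁻¹ᵁ U) hxU
    exact ⟨⟨(⟨U, hU⟩, ⟨U', hU'⟩), hle⟩, hxU'⟩
  have hcov' : ∀ x, ∃ p : ι, x ∈ Set.range p.1.2.2.fromSpec := fun x => by
    obtain ⟨p, hp⟩ := hcov x
    exact ⟨p, by rw [p.1.2.2.range_fromSpec]; exact hp⟩
  haveI hopen : ∀ p : ι, IsOpenImmersion p.1.2.2.fromSpec := fun p => IsAffineOpen.isOpenImmersion_fromSpec p.1.2.2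
  have spec := fun p : ι => chart_spec hP hcP hP' hcP' hX hY ha hb p.1.1 p.1.2 p.2 (h₁ _ _ p.2) (h₂ _ _ p.2)
  refine ⟨?_, ?_, ?_⟩
  · exact (HasRingHomProperty.iff_appLE (P := @Etale) (f := h)).mpr fun U V e => main U V e
  · refine (RingPO.isPullback_of_cover (t := f) (l := a') (r := a) (d := h) ha.symm
      (fun p : ι => Spec Γ(_, p.1.2.1))
      (fun p : ι => Spec Γ(_, a' ⁻¹ᵁ p.1.2.1)) (fun p => p.1.2.2.fromSpec) hcov'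
      (fun p => (p.1.2.2.preimage a').fromSpec)
      (fun p => Spec.map (a'.appLE p.1.2 _ le_rfl)) (fun p => RingPO.isPullback_fromSpec _ p.1.2.2)
      (fun p => ?_)).flip
    have h2 := (isPullback_SpecMap_of_isPushout _ _ _ _ (spec p).2.1).paste_horiz
      (RingPO.isPullback_fromSpec a p.1.1.2)
    rwa [(p.1.1.2.preimage a).SpecMap_appLE_fromSpec f (p.1.2.2.preimage a') (h₁ _ _ p.2),
      p.1.1.2.SpecMap_appLE_fromSpec h p.1.2.2 p.2] at h2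
  · refine (RingPO.isPullback_of_cover (t := g) (l := b') (r := b) (d := h) hb.symm
      (fun p : ι => Spec Γ(_, p.1.2.1))
      (fun p : ι => Spec Γ(_, b' ⁻¹ᵁ p.1.2.1)) (fun p => p.1.2.2.fromSpec) hcov'
      (fun p => (p.1.2.2.preimage b').fromSpec)
      (fun p => Spec.map (b'.appLE p.1.2 _ le_rfl)) (fun p => RingPO.isPullback_fromSpec _ p.1.2.2)
      (fun p => ?_)).flip
    have h2 := (isPullback_SpecMap_of_isPushout _ _ _ _ (spec p).1).paste_horiz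
      (RingPO.isPullback_fromSpec b p.1.1.2)
    rwa [(p.1.1.2.preimage b).SpecMap_appLE_fromSpec g (p.1.2.2.preimage b') (h₂ _ _ p.2),
      p.1.1.2.SpecMap_appLE_fromSpec h p.1.2.2 p.2] at h2

/-- Etale pieces of a Ferrand pushout glue to an etale scheme over it. -/
theorem exists_etale_glue [IsAffineHom j] (hpo : IsPushout i j a b) (hc : ∀ y : Y, ∃ k : Chart i j, y ∈ k.V)
    [IsAffineHom a] [IsAffineHom j'] (hc' : ∀ y : Y', ∃ k : Chart i' j', y ∈ k.V) [Etale f] [Etale g]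
    (hX : IsPullback i' c f i) (hY : IsPullback j' c g j) :
    ∃ (Q : Scheme.{u}) (k : Q ⟶ P) (a' : X' ⟶ Q) (b' : Y' ⟶ Q),
      IsPushout i' j' a' b' ∧ Etale k ∧ IsPullback a' f k a ∧ IsPullback b' g k b := by
  haveI : IsClosedImmersion b := isClosedImmersion_inr hpo hc
  have hP' := isPushout_glued hc'
  haveI : IsClosedImmersion (inY hc') := isClosedImmersion_inr hP' hc'
  haveI : IsAffineHom (inX hc') := isAffineHom_inl hP' hc'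
  have w : i' ≫ f ≫ a = j' ≫ g ≫ b := by rw [reassoc_of% hX.w, hpo.w, reassoc_of% hY.w]
  obtain ⟨h2, h3, h4⟩ := etale_corner (h := hP'.desc (f ≫ a) (g ≫ b) w) hpo hc hP' hc' hX hY
    (hP'.inl_desc _ _ w) (hP'.inr_desc _ _ w)
  exact ⟨_, _, _, _, hP', h2, h3, h4⟩

end Groth.Agent.AlgSpWA.RingPOEtale
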