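import Groth.Agent.AlgSpWA.ColimSpace
import Groth.Agent.AlgSpWA.RingPOEtale
import Groth.Agent.RingPO.FibreAffine

/-!
# Ferrand pushouts of schemes are pushouts of algebraic spaces
-/

set_option autoImplicit false
set_option backward.isDefEq.respectTransparency false
set_option backward.isDefEq.respectTransparency.types false
set_option linter.style.haveILetI false

noncomputable section

universe u

open CategoryTheory CategoryTheory.Limits AlgebraicGeometry Opposite AlgSp RingPO

namespace Groth.Agent.AlgSpWA.FerrandSpace

/-- A cocone on a span is a colimit when its square is a pushout. -/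
theorem nonempty_isColimit_span {C : Type*} [Category C] {F : WalkingSpan ⥤ C} (c : Cocone F)
    (h : IsPushout (F.map WalkingSpan.Hom.fst) (F.map WalkingSpan.Hom.snd) (c.ι.app WalkingSpan.left)
      (c.ι.app WalkingSpan.right)) : Nonempty (IsColimit c) := by
  refine ⟨{
    desc := fun s => h.desc (s.ι.app WalkingSpan.left) (s.ι.app WalkingSpan.right)
      ((s.w WalkingSpan.Hom.fst).trans (s.w WalkingSpan.Hom.snd).symm)
    fac := fun s k => ?_
    uniq := fun s m hm => ?_ }⟩
  · rcases k with (_ | _ | _)
    · rw [← c.w WalkingSpan.Hom.fst, Category.assoc, h.inl_desc]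
      exact s.w _
    · exact h.inl_desc _ _ _
    · exact h.inr_desc _ _ _
  · apply h.hom_ext
    · rw [h.inl_desc]; exact hm _
    · rw [h.inr_desc]; exact hm _

variable {S : Scheme.{u}} {Z X Y P : Over S} {i : Z ⟶ X} {j : Z ⟶ Y} {a : X ⟶ P} {b : Y ⟶ P}

/-- A Ferrand pushout stays a pushout among algebraic spaces. -/
theorem isPushout_ofScheme [IsClosedImmersion i.left] [IsAffineHom j.left] (hpo : IsPushout i j a b)
    (hc : ∀ y : ↥Y.left, ∃ k : Chart i.left j.left, y ∈ k.V)
    (hc' : ∀ {Z' X' Y' : Scheme.{u}} (i' : Z' ⟶ X') [IsClosedImmersion i'] (j' : Z' ⟶ Y') [IsAffineHom j']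
      (f : X' ⟶ X.left) (g : Y' ⟶ Y.left) (c : Z' ⟶ Z.left) [Etale f] [IsSeparated f],
      IsPullback i' c f i.left → IsPullback j' c g j.left → ∀ y : Y', ∃ k : Chart i' j', y ∈ k.V) :
    IsPushout ((AlgSp.ofScheme S).map i) ((AlgSp.ofScheme S).map j) ((AlgSp.ofScheme S).map a)
      ((AlgSp.ofScheme S).map b) := by
  have hP : IsPushout i.left j.left a.left b.left := hpo.map (Over.forget S)
  haveI : IsClosedImmersion b.left := isClosedImmersion_inr hP hc
  haveI : IsAffineHom a.left := isAffineHom_inl hP hc
  obtain ⟨hcol⟩ := ColimSpace.nonempty_isColimit (D := span i j) hpo.cocone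
    (h₃ := fun D' α c' a₀ ha₀ hpb => by
      haveI := ha₀
      have sql : IsPullback (c'.ι.app WalkingSpan.left).left (α.app WalkingSpan.left).left a₀.left a.left :=
        (hpb WalkingSpan.left).map (Over.forget S)
      have sqr : IsPullback (c'.ι.app WalkingSpan.right).left (α.app WalkingSpan.right).left a₀.left b.left :=
        (hpb WalkingSpan.right).map (Over.forget S)
      have sq0 : IsPullback (c'.ι.app WalkingSpan.zero).left (α.app WalkingSpan.zero).left a₀.left
          (i.left ≫ a.left) := by
        have := (hpb WalkingSpan.zero).map (Over.forget S)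
        simpa [IsPushout.cocone, PushoutCocone.mk] using this
      have hw1 : (D'.map WalkingSpan.Hom.fst).left ≫ (c'.ι.app WalkingSpan.left).left =
          (c'.ι.app WalkingSpan.zero).left := congrArg (fun m => m.left) (c'.w WalkingSpan.Hom.fst)
      have hn1 : (α.app WalkingSpan.zero).left ≫ i.left =
          (D'.map WalkingSpan.Hom.fst).left ≫ (α.app WalkingSpan.left).left :=
        congrArg (fun m => m.left) (α.naturality WalkingSpan.Hom.fst).symm
      have hn2 : (D'.map WalkingSpan.Hom.snd).left ≫ (α.app WalkingSpan.right).left =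
          (α.app WalkingSpan.zero).left ≫ j.left :=
        congrArg (fun m => m.left) (α.naturality WalkingSpan.Hom.snd)
      have hw2 : (D'.map WalkingSpan.Hom.fst).left ≫ (c'.ι.app WalkingSpan.left).left =
          (D'.map WalkingSpan.Hom.snd).left ≫ (c'.ι.app WalkingSpan.right).left :=
        congrArg (fun m => m.left) ((c'.w WalkingSpan.Hom.fst).trans (c'.w WalkingSpan.Hom.snd).symm)
      have hZT : IsPullback (α.app WalkingSpan.zero).left (D'.map WalkingSpan.Hom.fst).left i.left
          (α.app WalkingSpan.left).left := by
        refine IsPullback.of_bot ?_ hn1 sql.flip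
        rw [hw1]
        exact sq0.flip
      refine nonempty_isColimit_span _ ?_
      exact isPushout_baseChange hP hc (𝟙 P.left) a₀.left (Or.inr inferInstance)
        (pP := a₀.left) (sT := 𝟙 _) (IsPullback.of_vert_isIso ⟨by simp⟩) sql.flip sqr.flip hZT hn2 hw2)
    (h₂ := fun x => by
      rcases exists_preimage_point hP hc x with ⟨y, hy⟩ | ⟨y, hy⟩
      · exact ⟨WalkingSpan.left, y, hy⟩
      · exact ⟨WalkingSpan.right, y, hy⟩)
    (h₄ := fun D' α hα het hsep => by
      haveI : Etale (α.app WalkingSpan.left).left := het _
      haveI : Etale (α.app WalkingSpan.right).left := het _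
      haveI : IsSeparated (α.app WalkingSpan.left).left := hsep _
      have hX : IsPullback (D'.map WalkingSpan.Hom.fst).left (α.app WalkingSpan.zero).left
          (α.app WalkingSpan.left).left i.left := (hα WalkingSpan.Hom.fst).map (Over.forget S)
      have hY : IsPullback (D'.map WalkingSpan.Hom.snd).left (α.app WalkingSpan.zero).left
          (α.app WalkingSpan.right).left j.left := (hα WalkingSpan.Hom.snd).map (Over.forget S)
      haveI : IsClosedImmersion (D'.map WalkingSpan.Hom.fst).left :=
        MorphismProperty.of_isPullback hX.flip ‹IsClosedImmersion i.left›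
      haveI : IsAffineHom (D'.map WalkingSpan.Hom.snd).left :=
        MorphismProperty.of_isPullback hY.flip ‹IsAffineHom j.left›
      obtain ⟨Q, k, a', b', hQ, hk, hA, hB⟩ := RingPOEtale.exists_etale_glue hP hc (hc' _ _ _ _ _ hX hY) hX hY
      let Q' : Over S := Over.mk (k ≫ P.hom)
      let a'' : D'.obj WalkingSpan.left ⟶ Q' := Over.homMk a' (by
        show a' ≫ k ≫ P.hom = _
        rw [← Category.assoc, hA.w, Category.assoc, Over.w a]
        exact Over.w (α.app WalkingSpan.left))
      let b'' : D'.obj WalkingSpan.right ⟶ Q' := Over.homMk b' (by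
        show b' ≫ k ≫ P.hom = _
        rw [← Category.assoc, hB.w, Category.assoc, Over.w b]
        exact Over.w (α.app WalkingSpan.right))
      have hw : D'.map WalkingSpan.Hom.fst ≫ a'' = D'.map WalkingSpan.Hom.snd ≫ b'' := Over.OverMorphism.ext hQ.w
      let c' : Cocone D' :=
        { pt := Q'
          ι := { app := fun o => match o with
                  | WalkingSpan.zero => D'.map WalkingSpan.Hom.fst ≫ a''
                  | WalkingSpan.left => a''
                  | WalkingSpan.right => b''
                 naturality := fun o o' f => by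
                  rcases f with (_ | ⟨_ | _⟩)
                  · simp
                  · exact (Category.comp_id _).symm
                  · exact hw.symm.trans (Category.comp_id _).symm } }
      let a₀ : c'.pt ⟶ P := Over.homMk k rfl
      have sqa : IsPullback a'' (α.app WalkingSpan.left) a₀ a :=
        IsPullback.of_map (Over.forget S) (Over.OverMorphism.ext hA.w) hA
      have sqb : IsPullback b'' (α.app WalkingSpan.right) a₀ b :=
        IsPullback.of_map (Over.forget S) (Over.OverMorphism.ext hB.w) hB
      refine ⟨c', a₀, hk, fun o => ?_⟩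
      rcases o with (_ | _ | _)
      · have := (hα WalkingSpan.Hom.fst).paste_horiz sqa
        simpa [c', IsPushout.cocone, PushoutCocone.mk] using this
      · exact sqa
      · exact sqb)
  refine ⟨⟨by rw [← Functor.map_comp, ← Functor.map_comp, hpo.w]⟩,
    ⟨PushoutCocone.isColimitMapCoconeEquiv hpo.cocone (AlgSp.ofScheme S) hcol⟩⟩

end Groth.Agent.AlgSpWA.FerrandSpace

end
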