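import Groth.Agent.AlgSpDec.FibreDiscrete
import Groth.Agent.AlgSpDec.RelDimSp
import Groth.Agent.AlgSpDec.FieldFibre
import Groth.Agent.AlgSpPts.Dim
import Groth.Agent.AlgSpLib.LocalBaseTop
import Groth.Agent.Triage.FibMaxFlat

/-!
# Dimension of the fibres of a morphism of algebraic spaces
-/

set_option autoImplicit false
set_option backward.isDefEq.respectTransparency false
set_option backward.isDefEq.respectTransparency.types false

universe u

open CategoryTheory CategoryTheory.Limits AlgebraicGeometry AlgSp Groth.Agent.AlgSpLib Groth.Agent.AlgSpPts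
open Topology

namespace Groth.Agent.AlgSpWA.FibreDimSp

open Groth.Agent.AlgSpDec Groth.Agent.FibDim

theorem localDim_le_of_dim {X : Type*} [TopologicalSpace X] {d : WithBot ℕ∞} (x : X)
    (h : topologicalKrullDim X ≤ d) : FlatMor.localDim X x ≤ d :=
  (FibreDiscrete.localDim_le_krullDim x).trans h

attribute [local instance] specializationOrder in
theorem coheight_le_localDim {X : Scheme.{u}} (x : X) :
    (Order.coheight x : WithBot ℕ∞) ≤ FlatMor.localDim ↥X x := by
  refine le_iInf fun O => ?_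
  let U : X.Opens := ⟨O.1, O.1.2⟩
  have h := coheight_eq_of_etale U.ι ⟨x, O.2⟩
  have h' := Order.coheight_le_krullDim (α := ↥U.toScheme) ⟨x, O.2⟩
  exact ((WithBot.coe_le_coe.2 h.ge).trans h').trans (topologicalKrullDim_eq_krullDim U.toScheme).ge

theorem fibreDimAt_ne_top {X Y : Scheme.{u}} (f : X ⟶ Y) [LocallyOfFiniteType f] (x : X) :
    ∃ n : ℕ, FlatMor.fibreDimAt f x = (n : WithBot ℕ∞) := by
  obtain ⟨z, -, -, he, -⟩ := exists_fibreDimAt_eq f x
  exact ⟨_, he⟩

theorem natCast_ne_top (n : ℕ) : ((n : ℕ) : WithBot ℕ∞) ≠ ⊤ :=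
  fun h => ENat.coe_ne_top n (WithBot.coe_injective h)

variable {S : Scheme.{u}} {F G : Sp S} {f : F ⟶ G}

/-- The relative dimension at a point, read on etale charts. -/
noncomputable def relDim (f : F ⟶ G) (x : Points F) : WithBot ℕ∞ :=
  ⨆ (e : WithBot ℕ∞) (_ : HasAtMor (fun _ _ h u => FlatMor.fibreDimAt h u = e) f x), e

theorem relDim_eq (hf : LocP @LocallyOfFiniteType f) {U V : Over S} {a : (yon S).obj U ⟶ F}
    {b : (yon S).obj V ⟶ G} {h : U ⟶ V} (ha : RepWith @Etale a) (hb : RepWith @Etale b)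
    (w : a ≫ f = (yon S).map h ≫ b) (u : ↥U.left) :
    relDim f (Points.ofPt a u) = FlatMor.fibreDimAt h.left u :=
  le_antisymm (iSup₂_le fun _ he => ((FieldFibre.hasAtMor_iff hf ha hb w u _).1 he).ge)
    (le_iSup₂_of_le _ ((FieldFibre.hasAtMor_iff hf ha hb w u _).2 rfl) le_rfl)

theorem hasAtMor_relDim (hF : IsAlgSpace F) (hG : IsAlgSpace G) (hf : LocP @LocallyOfFiniteType f)
    (x : Points F) : HasAtMor (fun _ _ h u => FlatMor.fibreDimAt h u = relDim f x) f x := by
  obtain ⟨U, V, a, b, h, ha, ha', hb, -, w⟩ := exists_chart hF hG f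
  obtain ⟨u, rfl⟩ := surjective_ofPt ha' x
  exact ⟨U, V, a, b, h, u, ha, hb, w, rfl, (relDim_eq hf ha hb w u).symm⟩

theorem relDim_le_iff (hF : IsAlgSpace F) (hG : IsAlgSpace G) (hf : LocP @LocallyOfFiniteType f)
    (x : Points F) (d : WithBot ℕ∞) :
    relDim f x ≤ d ↔ HasAtMor (fun _ _ h u => FlatMor.fibreDimAt h u ≤ d) f x := by
  constructor
  · intro h
    obtain ⟨U, V, a, b, k, u, ha, hb, w, hx, he⟩ := hasAtMor_relDim hF hG hf x
    exact ⟨U, V, a, b, k, u, ha, hb, w, hx, he.le.trans h⟩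
  · rintro ⟨U, V, a, b, k, u, ha, hb, w, rfl, he⟩
    exact (relDim_eq hf ha hb w u).le.trans he

theorem exists_relDim_nat (hF : IsAlgSpace F) (hG : IsAlgSpace G) (hf : LocP @LocallyOfFiniteType f)
    (x : Points F) : ∃ n : ℕ, relDim f x = (n : WithBot ℕ∞) := by
  obtain ⟨U, V, a, b, k, u, ha, hb, w, hx, he⟩ := hasAtMor_relDim hF hG hf x
  have : LocallyOfFiniteType k.left := hf a b k ha hb w
  obtain ⟨n, hn⟩ := fibreDimAt_ne_top k.left u
  exact ⟨n, he.symm.trans hn⟩

theorem relDim_ne_bot (hF : IsAlgSpace F) (hG : IsAlgSpace G) (hf : LocP @LocallyOfFiniteType f)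
    (x : Points F) : relDim f x ≠ ⊥ := by
  obtain ⟨n, hn⟩ := exists_relDim_nat hF hG hf x
  rw [hn]
  exact WithBot.coe_ne_bot

section Fibre

variable {k : FieldPt G} {P : Sp S} {fst : P ⟶ F} {snd : P ⟶ (yon S).obj k.pt}
  (sq : IsPullback fst snd f k.toHom)

include sq

theorem map_fst_eq (z : Points P) : Points.map f (Points.map fst z) = Points.mk k := by
  haveI : Subsingleton (Points ((yon S).obj k.pt)) := FibreDiscrete.subsingleton_points_field
  rw [← Points.map_comp, sq.w, Points.map_comp,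
    Subsingleton.elim (Points.map snd z) (Points.ofPt (𝟙 _) (IsLocalRing.closedPoint k.K)),
    Points.map_ofPt, Category.id_comp, Points.ofPt_toHom]

theorem exists_map_fst_eq {x : Points F} (hx : Points.map f x = Points.mk k) :
    ∃ z : Points P, Points.map fst z = x := by
  obtain ⟨z, hz, -⟩ := exists_point_of_isPullback sq (x := x)
    (y := Points.ofPt (𝟙 _) (IsLocalRing.closedPoint k.K)) (by
      rw [hx, Points.map_ofPt, Category.id_comp, Points.ofPt_toHom])
  exact ⟨z, hz⟩

/-- The relative dimension at the image of a point of the fibre is the local dimension of a chart of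
the fibre. -/
theorem relDim_eq_localDim (hF : IsAlgSpace F) (hG : IsAlgSpace G) (hf : LocP @LocallyOfFiniteType f)
    {U : Over S} {a : (yon S).obj U ⟶ P} (ha : RepWith @Etale a) (u : ↥U.left) :
    relDim f (Points.map fst (Points.ofPt a u)) = FlatMor.localDim ↥U.left u := by
  obtain ⟨h, hh⟩ := (yon S).map_surjective (a ≫ snd)
  have hs : LocP @LocallyOfFiniteType snd :=
    locP_of_isPullback sq hF hG (IsAlgSpace.yon_obj _) hf
  have h1 := RelDimSp.baseChange sq hF hG (IsAlgSpace.yon_obj _) hf (Points.ofPt a u) _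
    (hasAtMor_relDim hF hG hf _)
  have w : a ≫ snd = (yon S).map h ≫ 𝟙 _ := by rw [hh, Category.comp_id]
  rw [FieldFibre.hasAtMor_iff hs ha (repWith_id @Etale _) w] at h1
  haveI : Subsingleton ↥k.pt.left := inferInstanceAs (Subsingleton (PrimeSpectrum k.K))
  rw [← h1]
  exact FieldFibre.fibreDimAt_of_subsingleton h.left u

/-- The dimension of a fibre is bounded by `d` exactly when the relative dimension is, over the point. -/
theorem dim_le_iff_relDim (hF : IsAlgSpace F) (hG : IsAlgSpace G) (hf : LocP @LocallyOfFiniteType f)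
    (d : WithBot ℕ∞) :
    AlgSp.dim P ≤ d ↔ ∀ x : Points F, Points.map f x = Points.mk k → relDim f x ≤ d := by
  constructor
  · intro hd x hx
    obtain ⟨z, rfl⟩ := exists_map_fst_eq sq hx
    obtain ⟨U, a, ha, ha'⟩ := (isAlgSpace_of_isPullback sq hF (IsAlgSpace.yon_obj _) hG).atlas
    obtain ⟨u, rfl⟩ := surjective_ofPt ha' z
    rw [relDim_eq_localDim sq hF hG hf ha u]
    refine localDim_le_of_dim u (le_trans ?_ hd)
    exact le_iSup₂_of_le U a (le_iSup_of_le ha le_rfl)
  · intro h
    rw [dim_le_iff]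
    intro U a ha u
    refine le_trans (coheight_le_localDim u) ?_
    rw [← relDim_eq_localDim sq hF hG hf ha u]
    exact h _ (map_fst_eq sq _)

end Fibre

section Loci

/-- Points of the target over which all fibres have dimension at most `d`. -/
theorem setOf_forall_dim_iff {Q : WithBot ℕ∞ → Prop} (y : Points G) {e : WithBot ℕ∞}
    (he : ∀ (k : FieldPt G), Points.mk k = y → ∀ (P : Sp S) (fst : P ⟶ F) (snd : P ⟶ (yon S).obj k.pt),
      IsPullback fst snd f k.toHom → AlgSp.dim P = e) :
    (∀ (k : FieldPt G), Points.mk k = y → ∀ (P : Sp S) (fst : P ⟶ F) (snd : P ⟶ (yon S).obj k.pt),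
      IsPullback fst snd f k.toHom → Q (AlgSp.dim P)) ↔ Q e := by
  refine ⟨fun h => ?_, fun h k hk P fst snd hP => by rw [he k hk P fst snd hP]; exact h⟩
  obtain ⟨k, hk⟩ := Points.mk_surjective y
  have := h k hk _ _ _ (IsPullback.of_hasPullback f k.toHom)
  rwa [he k hk _ _ _ (IsPullback.of_hasPullback f k.toHom)] at this

/-- The dimension of the fibres over a point. -/
noncomputable def fibDim (f : F ⟶ G) (y : Points G) : WithBot ℕ∞ :=
  ⨆ (x : Points F) (_ : Points.map f x = y), relDim f x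

theorem dim_eq_fibDim (hF : IsAlgSpace F) (hG : IsAlgSpace G) (hf : LocP @LocallyOfFiniteType f)
    (k : FieldPt G) (y : Points G) (hk : Points.mk k = y) (P : Sp S) (fst : P ⟶ F)
    (snd : P ⟶ (yon S).obj k.pt) (sq : IsPullback fst snd f k.toHom) :
    AlgSp.dim P = fibDim f y := by
  subst hk
  refine eq_of_forall_ge_iff fun d => ?_
  rw [dim_le_iff_relDim sq hF hG hf d, fibDim, iSup₂_le_iff]

theorem setOf_dim_eq (hF : IsAlgSpace F) (hG : IsAlgSpace G) (hf : LocP @LocallyOfFiniteType f)
    (Q : WithBot ℕ∞ → Prop) :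
    {y : Points G | ∀ (k : FieldPt G), Points.mk k = y → ∀ (P : Sp S) (fst : P ⟶ F)
      (snd : P ⟶ (yon S).obj k.pt), IsPullback fst snd f k.toHom → Q (AlgSp.dim P)} =
      {y | Q (fibDim f y)} :=
  Set.ext fun y => setOf_forall_dim_iff y fun k hk => dim_eq_fibDim hF hG hf k y hk

theorem isOpen_lt_fibDim (hF : IsAlgSpace F) (hG : IsAlgSpace G) (hfl : LocP @Flat f)
    (hfp : LocP @LocallyOfFinitePresentation f) (d : WithBot ℕ∞) :
    IsOpen {y | d < fibDim f y} := by
  have hf : LocP @LocallyOfFiniteType f :=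
    locP_mono (fun _ _ g (hg : LocallyOfFinitePresentation g) => inferInstanceAs (LocallyOfFiniteType g)) hfp
  refine isOpen_iff_forall_mem_open.2 fun y hy => ?_
  obtain ⟨x, hx, hxd⟩ : ∃ x, Points.map f x = y ∧ d < relDim f x := by
    simpa [fibDim, lt_iSup_iff] using hy
  obtain ⟨U, V, a, b, h, u, ha, hb, w, hu, he⟩ := hasAtMor_relDim hF hG hf x
  have : Flat h.left := hfl a b h ha hb w
  have : LocallyOfFinitePresentation h.left := hfp a b h ha hb w
  obtain ⟨z, hzu, hhz, hmax, hez⟩ := exists_fibMax_generization h.left u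
  obtain ⟨W, hzW, hW⟩ := Triage.FibMaxFlat.exists_nhd_fibreDimAt_eq h.left hmax
  refine ⟨Points.ofPt b '' (h.left '' W), ?_,
    isOpenMap_ofPt hb _ (h.left.isOpenMap _ W.isOpen), h.left u, ⟨z, hzW, hhz⟩, ?_⟩
  · rintro _ ⟨_, ⟨v, hv, rfl⟩, rfl⟩
    refine lt_of_lt_of_le hxd (le_trans (le_of_eq ?_)
      (le_iSup₂_of_le (Points.ofPt a v) (by rw [Points.map_ofPt, w, ofPt_comp]) le_rfl))
    rw [relDim_eq hf ha hb w v, ← he, hez, hW v hv]
  · rw [← hx, ← hu, Points.map_ofPt, w, ofPt_comp]

theorem isClosedMap_of_univClosed (hG : IsAlgSpace G) (hf : IsUnivClosedMor f) :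
    IsClosedMap (Points.map f) :=
  hf hG (𝟙 G) (𝟙 F) f IsPullback.of_id_fst

theorem isOpen_relDim_le (hF : IsAlgSpace F) (hG : IsAlgSpace G) (hf : LocP @LocallyOfFiniteType f)
    (c : WithBot ℕ∞) (hc : c ≠ ⊤) : IsOpen {x | relDim f x ≤ c} := by
  induction c using WithBot.recBotCoe with
  | bot =>
    convert isOpen_empty
    exact Set.eq_empty_of_forall_notMem fun x hx => relDim_ne_bot hF hG hf x (le_bot_iff.1 hx)
  | coe c =>
    induction c using ENat.recTopCoe with
    | top => exact absurd rfl hc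
    | coe n =>
      convert RelDimSp.isOpen_le hf n using 1
      exact Set.ext fun x => relDim_le_iff hF hG hf x _

theorem isOpen_fibDim_le (hF : IsAlgSpace F) (hG : IsAlgSpace G) (hf : LocP @LocallyOfFiniteType f)
    (hu : IsUnivClosedMor f) (c : WithBot ℕ∞) (hc : c ≠ ⊤) : IsOpen {y | fibDim f y ≤ c} := by
  have h : {y | fibDim f y ≤ c} = (Points.map f '' {x | relDim f x ≤ c}ᶜ)ᶜ := by
    ext y
    simp only [Set.mem_setOf_eq, fibDim, iSup₂_le_iff, Set.mem_compl_iff, Set.mem_image, not_exists, not_and']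
    exact ⟨fun h x hx => not_not.2 (h x hx), fun h x hx => not_not.1 (h x hx)⟩
  rw [h]
  exact (isClosedMap_of_univClosed hG hu _ (isOpen_relDim_le hF hG hf c hc).isClosed_compl).isOpen_compl

theorem isOpen_fibDim_lt (hF : IsAlgSpace F) (hG : IsAlgSpace G) (hf : LocP @LocallyOfFiniteType f)
    (hu : IsUnivClosedMor f) (d : WithBot ℕ∞) : IsOpen {y | fibDim f y < d} := by
  have h : {y | fibDim f y < d} = ⋃ (c : WithBot ℕ∞) (_ : c < d), {y | fibDim f y ≤ c} := by
    ext y
    simp only [Set.mem_setOf_eq, Set.mem_iUnion, exists_prop]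
    exact ⟨fun h => ⟨_, h, le_rfl⟩, fun ⟨c, hc, hy⟩ => hy.trans_lt hc⟩
  rw [h]
  exact isOpen_biUnion fun c hc => isOpen_fibDim_le hF hG hf hu c (lt_of_lt_of_le hc le_top).ne

theorem fibDim_ne_top (hF : IsAlgSpace F) (hG : IsAlgSpace G) (hf : IsFiniteTypeMor f) (y : Points G) :
    fibDim f y ≠ ⊤ := by
  obtain ⟨k, rfl⟩ := Points.mk_surjective y
  have sq := IsPullback.of_hasPullback f k.toHom
  haveI : CompactSpace ↥k.pt.left := inferInstanceAs (CompactSpace (PrimeSpectrum k.K))
  haveI := compactSpace_points (hf.2 (IsAlgSpace.yon_obj k.pt)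
    ⟨k.pt, 𝟙 _, repWith_id @Etale _, repWith_id @Surjective _, inferInstance⟩ k.toHom _ _ sq)
  obtain ⟨t, ht⟩ := (isCompact_range (Points.continuous_map (pullback.fst f k.toHom))).elim_finite_subcover
    (fun n : ℕ => {x | relDim f x ≤ (n : WithBot ℕ∞)})
    (fun n => isOpen_relDim_le hF hG hf.1 _ (natCast_ne_top n)) fun x _ => by
      obtain ⟨n, hn⟩ := exists_relDim_nat hF hG hf.1 x
      exact Set.mem_iUnion.2 ⟨n, hn.le⟩
  refine ne_top_of_le_ne_top (b := ((t.sup id : ℕ) : WithBot ℕ∞))
    (natCast_ne_top _) (iSup₂_le fun x hx => ?_)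
  obtain ⟨z, rfl⟩ := exists_map_fst_eq sq hx
  obtain ⟨n, hn, hxn⟩ := Set.mem_iUnion₂.1 (ht ⟨z, rfl⟩)
  exact hxn.trans (by exact_mod_cast Finset.le_sup (f := id) hn)

/-- The set of points with fibre dimension exactly `d` is open for proper flat finitely presented maps. -/
theorem isOpen_fibDim_eq (hF : IsAlgSpace F) (hG : IsAlgSpace G) (hp : IsProperMor f) (hfl : LocP @Flat f)
    (hfp : LocP @LocallyOfFinitePresentation f) (d : WithBot ℕ∞) : IsOpen {y | fibDim f y = d} := by
  by_cases hd : d = ⊤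
  · convert isOpen_empty
    exact Set.eq_empty_of_forall_notMem fun y hy => fibDim_ne_top hF hG hp.2.1 y (hy.trans hd)
  have hle := isOpen_fibDim_le hF hG hp.2.1.1 hp.2.2 d hd
  induction d using WithBot.recBotCoe with
  | bot => simpa only [le_bot_iff] using hle
  | coe c =>
    induction c using ENat.recTopCoe with
    | top => exact absurd rfl hd
    | coe n =>
      cases n with
      | zero =>
        convert hle.inter (isOpen_lt_fibDim hF hG hfl hfp ⊥) using 1
        ext y
        simp only [Set.mem_setOf_eq, Set.mem_inter_iff, bot_lt_iff_ne_bot]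
        generalize fibDim f y = e
        induction e using WithBot.recBotCoe with
        | bot => simp
        | coe e =>
          rw [← WithBot.coe_natCast, WithBot.coe_le_coe, WithBot.coe_inj]
          exact ⟨fun h => ⟨h.le, WithBot.coe_ne_bot⟩, fun h => le_antisymm h.1 zero_le'⟩
      | succ n =>
        convert hle.inter (isOpen_lt_fibDim hF hG hfl hfp ((n : ℕ∞) : WithBot ℕ∞)) using 1
        ext y
        simp only [Set.mem_setOf_eq, Set.mem_inter_iff]
        generalize fibDim f y = e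
        induction e using WithBot.recBotCoe with
        | bot =>
          exact ⟨fun h => absurd h.symm WithBot.coe_ne_bot, fun h => absurd h.2 not_lt_bot⟩
        | coe e =>
          induction e using ENat.recTopCoe with
          | top =>
            refine ⟨fun h => absurd h.symm (natCast_ne_top (n + 1)), fun h => absurd h.1 ?_⟩
            simpa using natCast_ne_top (n + 1)
          | coe e => norm_cast; omega

end Loci

end Groth.Agent.AlgSpWA.FibreDimSp
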