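import Groth.Agent.AlgSpWA.AffAcyclic
import Groth.Agent.AlgSpDec.InductionPrinciple
import Groth.Agent.AlgSpDec.RedImage
import Mathlib.CategoryTheory.Adjunction.Whiskering
import Mathlib.Algebra.Homology.DerivedCategory.Ext.ExactSequences
import Mathlib.Algebra.Homology.Square
import Mathlib.Algebra.Category.Grp.Adjunctions
import Mathlib.GroupTheory.FreeAbelianGroup

/-!
# Free sheaves of spaces over a space and Mayer-Vietoris

For a space `E` over `X` the free abelian sheaf on the maps into `E`; an elementary distinguished square gives a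
short exact sequence of these sheaves.
-/

set_option autoImplicit false
set_option backward.isDefEq.respectTransparency false
set_option backward.isDefEq.respectTransparency.types false
set_option linter.style.haveILetI false

noncomputable section

universe u

open CategoryTheory CategoryTheory.Limits AlgebraicGeometry Opposite AlgSp Abelian

namespace Groth.Agent.AlgSpWA.MVSheaf

open Groth.Agent.AlgSpDec Groth.Agent.AlgSpDec.SymPower Groth.Agent.AlgSpLib

variable {S : Scheme.{u}} {X : Sp S}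

/-- The maps over `X` from the objects of the small etale site to a sheaf over `X`. -/
def pre {F : Sp S} (e : F ⟶ X) : (EtOver X)ᵒᵖ ⥤ Type (u + 1) where
  obj W := {y : (yon S).obj W.unop.obj.left ⟶ F // y ≫ e = W.unop.obj.hom}
  map g := TypeCat.ofHom fun y => ⟨(yon S).map g.unop.hom.left ≫ y.1, by rw [Category.assoc, y.2]; exact EtOver.w g.unop⟩
  map_id W := by
    refine ConcreteCategory.hom_ext _ _ fun y => ?_
    exact Subtype.ext ((congrArg (· ≫ y.1) ((yon S).map_id _)).trans (Category.id_comp _))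
  map_comp g h := by
    refine ConcreteCategory.hom_ext _ _ fun y => ?_
    exact Subtype.ext ((congrArg (· ≫ y.1) ((yon S).map_comp _ _)).trans (Category.assoc _ _ _))

/-- Functoriality in the sheaf over `X`. -/
def preMap {F F' : Sp S} {e : F ⟶ X} {e' : F' ⟶ X} (φ : F ⟶ F') (h : φ ≫ e' = e) : pre e ⟶ pre e' where
  app W := TypeCat.ofHom fun y => ⟨y.1 ≫ φ, by rw [Category.assoc, h, y.2]⟩
  naturality W W' g := by
    ext y
    exact Subtype.ext (Category.assoc _ _ _)

/-- The free abelian sheaf on the maps over `X` into a sheaf over `X`. -/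
def A {F : Sp S} (e : F ⟶ X) : AbEt X :=
  (presheafToSheaf (etTop X) AddCommGrpCat.{u + 1}).obj (pre e ⋙ AddCommGrpCat.free)

/-- Functoriality of the free sheaf. -/
def AMap {F F' : Sp S} {e : F ⟶ X} {e' : F' ⟶ X} (φ : F ⟶ F') (h : φ ≫ e' = e) : A e ⟶ A e' :=
  (presheafToSheaf (etTop X) AddCommGrpCat.{u + 1}).map (Functor.whiskerRight (preMap φ h) AddCommGrpCat.free)

/-- Maps out of the free sheaf. -/
def homEq {F : Sp S} (e : F ⟶ X) (G : AbEt X) : (A e ⟶ G) ≃ (pre e ⟶ G.obj ⋙ forget AddCommGrpCat.{u + 1}) :=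
  ((sheafificationAdjunction (etTop X) AddCommGrpCat.{u + 1}).homEquiv _ G).trans
    ((Adjunction.whiskerRight _ AddCommGrpCat.adj.{u + 1}).homEquiv (pre e) G.obj)

theorem homEq_AMap {F F' : Sp S} {e : F ⟶ X} {e' : F' ⟶ X} (φ : F ⟶ F') (h : φ ≫ e' = e) (G : AbEt X)
    (a : A e' ⟶ G) : homEq e G (AMap φ h ≫ a) = preMap φ h ≫ homEq e' G a := by
  show ((Adjunction.whiskerRight _ AddCommGrpCat.adj.{u + 1}).homEquiv _ _)
    ((sheafificationAdjunction (etTop X) AddCommGrpCat.{u + 1}).homEquiv _ _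
      ((presheafToSheaf (etTop X) AddCommGrpCat.{u + 1}).map _ ≫ a)) = _
  rw [Adjunction.homEquiv_naturality_left]
  exact Adjunction.homEquiv_naturality_left _ _ _

theorem homEq_comp {F : Sp S} (e : F ⟶ X) {G G' : AbEt X} (a : A e ⟶ G) (g : G ⟶ G') :
    homEq e G' (a ≫ g) = homEq e G a ≫ Functor.whiskerRight g.hom (forget _) := by
  show ((Adjunction.whiskerRight _ AddCommGrpCat.adj.{u + 1}).homEquiv _ _)
    ((sheafificationAdjunction (etTop X) AddCommGrpCat.{u + 1}).homEquiv _ _ (a ≫ g)) = _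
  rw [Adjunction.homEquiv_naturality_right]
  exact Adjunction.homEquiv_naturality_right _ _ _

/-- An etale scheme over an object as an object. -/
abbrev sub (W : EtOver X) {T : Over S} (k : T ⟶ W.obj.left) (hk : Etale k.left) : EtOver X :=
  EtOver.mk ((yon S).map k ≫ W.obj.hom) (repWith_comp ((repWith_yon_map_iff _ k).2 hk) W.property)

/-- The map of the sub-object. -/
abbrev subι (W : EtOver X) {T : Over S} (k : T ⟶ W.obj.left) (hk : Etale k.left) : sub W k hk ⟶ W :=
  EtOver.homMk k rfl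

/-- Maps from a scheme with reduced structure and points in the closed part of a square lift uniquely. -/
theorem lift_unique {U V E : Sp S} {j : U ⟶ E} {f : V ⟶ E} (hsq : IsElemDistSq j f) {T : Over S}
    [IsReduced T.left] (y y' : (yon S).obj T ⟶ V) (h : y ≫ f = y' ≫ f)
    (ht : ∀ t, Points.ofPt (y ≫ f) t ∉ Set.range (Points.map j)) : y = y' := by
  obtain ⟨-, -, T₀, P, i, p₁, p₂, hi, sq, hp⟩ := hsq
  have hred : IsReducedSp ((yon S).obj T) :=
    ⟨T, 𝟙 _, repWith_id _ _, repWith_id _ _, ‹IsReduced T.left›⟩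
  obtain ⟨t, ht'⟩ := exists_factor_reduced hred (y ≫ f) hi.1 (by
    rintro _ ⟨z, rfl⟩
    rw [hi.2.1, ← Points.ofScheme_toScheme T z, ← Points.ofPt_eq_map_ofScheme]
    exact ht _)
  have e : sq.lift t y ht' = sq.lift t y' (ht'.trans h) := (cancel_mono p₁).1 (by rw [sq.lift_fst, sq.lift_fst])
  rw [← sq.lift_snd t y ht', e, sq.lift_snd]

/-- The chart of an elementary distinguished square reaches every point outside the open part. -/
theorem exists_point_chart {U V E : Sp S} {j : U ⟶ E} {f : V ⟶ E} (hsq : IsElemDistSq j f) {x : Points E}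
    (hx : x ∉ Set.range (Points.map j)) : ∃ v : Points V, Points.map f v = x := by
  obtain ⟨-, -, T₀, P, i, p₁, p₂, hi, sq, hp⟩ := hsq
  obtain ⟨t, rfl⟩ := hi.2.1.symm.subset (hx : x ∈ (Set.range (Points.map j))ᶜ)
  refine ⟨Points.map (inv p₁ ≫ p₂) t, ?_⟩
  rw [← Points.map_comp, Category.assoc, ← sq.w, IsIso.inv_hom_id_assoc]

variable {E U V UV : Sp S} {e : E ⟶ X} {j : U ⟶ E} {f : V ⟶ E} {p : UV ⟶ U} {q : UV ⟶ V}
  (hE : IsAlgSpace E) (hj : RepWith @IsOpenImmersion j) (sq : IsPullback p q j f) (hsq : IsElemDistSq j f)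
  {T : Over S} (θ : (yon S).obj T ≅ V) (hT : IsAffine T.left)

variable {G : AbEt X} (a : pre (j ≫ e) ⟶ G.obj ⋙ forget AddCommGrpCat.{u + 1})
  (b : pre (f ≫ e) ⟶ G.obj ⋙ forget AddCommGrpCat.{u + 1})
  (hab : preMap p (rfl : p ≫ (j ≫ e) = _) ≫ a = preMap q (show q ≫ (f ≫ e) = p ≫ (j ≫ e) by
    rw [← Category.assoc, ← sq.w, Category.assoc]) ≫ b)

theorem isSeparated_sections (W : EtOver X) {R : Sieve W} (hR : R ∈ etTop X W) {x x' : G.obj.obj (op W)}
    (h : ∀ ⦃W' : EtOver X⦄ (k : W' ⟶ W), R k → (G.obj.map k.op).hom x = (G.obj.map k.op).hom x') : x = x' :=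
  (((isSheaf_iff_isSheaf_of_type _ _).1 ((sheafCompose (etTop X)
    (CategoryTheory.forget AddCommGrpCat.{u + 1})).obj G).property).isSeparated _ hR).ext fun _ k hk => h k hk

/-- An open piece of an object. -/
theorem exists_open_piece (W : EtOver X) (O : W.obj.left.left.Opens) {w : ↥W.obj.left.left} (hw : w ∈ O) :
    ∃ (W' : EtOver X) (k : W' ⟶ W), w ∈ Set.range k.hom.left.left ∧ ∀ z, k.hom.left.left z ∈ O :=
  ⟨sub W (Over.homMk O.ι rfl : Over.mk (O.ι ≫ W.obj.left.hom) ⟶ W.obj.left) (inferInstanceAs (Etale O.ι)),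
    subι W _ _, ⟨⟨w, hw⟩, rfl⟩, fun z => z.2⟩

include hE hj sq hsq θ hT hab in
theorem b_eq_of_eq (W : EtOver X) (l l' : (pre (f ≫ e)).obj (op W)) (h : l.1 ≫ f = l'.1 ≫ f) :
    b.app (op W) l = b.app (op W) l' := by
  haveI := hT
  have hg : RepWith @Etale (θ.hom ≫ f) := hsq.2.1 θ.hom (repWith_of_isIso _ _)
  haveI := isSeparated_snd hg (inferInstance : T.left.IsSeparated)
  obtain ⟨x, hx⟩ := (yon S).map_surjective (l.1 ≫ θ.inv)
  obtain ⟨x', hx'⟩ := (yon S).map_surjective (l'.1 ≫ θ.inv)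
  have hl : ∀ (W' : EtOver X) (k : W' ⟶ W), k.hom.left ≫ x = k.hom.left ≫ x' →
      (pre (f ≫ e)).map k.op l = (pre (f ≫ e)).map k.op l' := fun W' k hk => Subtype.ext (by
    show (yon S).map k.hom.left ≫ l.1 = (yon S).map k.hom.left ≫ l'.1
    rw [← cancel_mono θ.inv, Category.assoc, Category.assoc, ← hx, ← hx', ← Functor.map_comp, ← Functor.map_comp, hk])
  obtain ⟨O, hOc, hO⟩ := exists_apart_clopen hg x x' (by
    rw [hx, hx', Category.assoc, Category.assoc, θ.inv_hom_id_assoc]; exact h)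
  let C₁ : W.obj.left.left.Opens := ⟨(O : Set W.obj.left.left)ᶜ, hOc.isOpen_compl⟩
  let C₂ : W.obj.left.left.Opens := ⟨Points.ofPt (l.1 ≫ f) ⁻¹' Set.range (Points.map j),
    (isOpen_range_openImm hE hj).preimage (Points.continuous_ofPt _)⟩
  let R : Sieve W :=
    { arrows := fun W' k => (G.obj.map k.op).hom (b.app (op W) l) = (G.obj.map k.op).hom (b.app (op W) l')
      downward_closed := fun {W' W''} k hk g => by
        show (G.obj.map (g ≫ k).op).hom _ = (G.obj.map (g ≫ k).op).hom _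
        rw [op_comp, G.obj.map_comp, ConcreteCategory.comp_apply, ConcreteCategory.comp_apply, hk] }
  refine isSeparated_sections W (R := R) (QCart13.mem_etTop_of_exists _ fun w => ?_) fun W' k hk => hk
  have key : ∀ (W' : EtOver X) (k : W' ⟶ W), (b.app (op W') ((pre (f ≫ e)).map k.op l) =
      b.app (op W') ((pre (f ≫ e)).map k.op l')) → R k := fun W' k hk => by
    show (G.obj.map k.op).hom _ = (G.obj.map k.op).hom _
    exact (NatTrans.naturality_apply b k.op l).symm.trans (hk.trans (NatTrans.naturality_apply b k.op l'))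
  by_cases hw : w ∈ C₂
  · obtain ⟨W', k, hkw, hk⟩ := exists_open_piece W C₂ hw
    refine ⟨W', k, key W' k ?_, hkw⟩
    obtain ⟨y, hy⟩ := exists_factor_open hj ((yon S).map k.hom.left ≫ l.1 ≫ f) fun z => by
      rw [ofPt_comp]; exact hk z
    have hy' : y ≫ j = ((yon S).map k.hom.left ≫ l'.1) ≫ f := by rw [hy, Category.assoc, h]
    obtain ⟨z, hz₁, hz₂⟩ := sq.exists_lift y ((pre (f ≫ e)).map k.op l).1 (by
      rw [hy]; exact (Category.assoc _ _ _).symm)
    obtain ⟨z', hz₁', hz₂'⟩ := sq.exists_lift y ((pre (f ≫ e)).map k.op l').1 hy'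
    have hzw : z ≫ p ≫ j ≫ e = W'.obj.hom := by
      rw [reassoc_of% hz₁, reassoc_of% hy, l.2]; exact EtOver.w k
    have hzw' : z' ≫ p ≫ j ≫ e = W'.obj.hom := by
      rw [reassoc_of% hz₁', reassoc_of% hy, l.2]; exact EtOver.w k
    have h1 := types_congr_hom (NatTrans.congr_app hab (op W')) ⟨z, hzw⟩
    have h2 := types_congr_hom (NatTrans.congr_app hab (op W')) ⟨z', hzw'⟩
    refine ((congrArg (b.app (op W')) (Subtype.ext hz₂.symm)).trans h1.symm).trans
      ((congrArg (a.app (op W')) (Subtype.ext (hz₁.trans hz₁'.symm))).trans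
        (h2.trans (congrArg (b.app (op W')) (Subtype.ext hz₂'))))
  · have hw1 : w ∈ C₁ := by
      intro hwO
      have hy : (yon S).map (ptOver w) ≫ l.1 = (yon S).map (ptOver w) ≫ l'.1 := by
        haveI : IsReduced (Over.mk (W.obj.left.left.fromSpecResidueField w ≫ W.obj.left.hom)).left :=
          inferInstanceAs (IsReduced (Spec (W.obj.left.left.residueField w)))
        refine lift_unique hsq _ _ (by rw [Category.assoc, Category.assoc, h]) fun t => ?_
        rw [Category.assoc, ofPt_comp, ptOver_apply]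
        exact hw
      refine (hO _ (ptOver w)).1 (fun t => by rw [ptOver_apply]; exact hwO) inferInstance
        ((yon S).map_injective ?_)
      rw [Functor.map_comp, Functor.map_comp, hx, hx', reassoc_of% hy]
    obtain ⟨W', k, hkw, hk⟩ := exists_open_piece W C₁ hw1
    exact ⟨W', k, key W' k (congrArg _ (hl W' k ((hO _ k.hom.left).2 hk))), hkw⟩

/-- The pieces of a section of the glued space: lifts to the open part or to the chart. -/
def Piece (W : EtOver X) (y : (pre e).obj (op W)) : Sieve W where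
  arrows W' k := (∃ u : (pre (j ≫ e)).obj (op W'), u.1 ≫ j = (yon S).map k.hom.left ≫ y.1) ∨
    (∃ v : (pre (f ≫ e)).obj (op W'), v.1 ≫ f = (yon S).map k.hom.left ≫ y.1)
  downward_closed {W' W''} k hk g := by
    rcases hk with ⟨u, hu⟩ | ⟨v, hv⟩
    · refine Or.inl ⟨(pre (j ≫ e)).map g.op u, ?_⟩
      show ((yon S).map g.hom.left ≫ u.1) ≫ j = (yon S).map (g.hom.left ≫ k.hom.left) ≫ y.1
      rw [Category.assoc, hu, Functor.map_comp, Category.assoc]
    · refine Or.inr ⟨(pre (f ≫ e)).map g.op v, ?_⟩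
      show ((yon S).map g.hom.left ≫ v.1) ≫ f = (yon S).map (g.hom.left ≫ k.hom.left) ≫ y.1
      rw [Category.assoc, hv, Functor.map_comp, Category.assoc]

include hE hj hsq θ in
theorem piece_mem (W : EtOver X) (y : (pre e).obj (op W)) : Piece (j := j) (f := f) W y ∈ etTop X W := by
  refine QCart13.mem_etTop_of_exists _ fun w => ?_
  let C₂ : W.obj.left.left.Opens := ⟨Points.ofPt y.1 ⁻¹' Set.range (Points.map j),
    (isOpen_range_openImm hE hj).preimage (Points.continuous_ofPt _)⟩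
  by_cases hw : w ∈ C₂
  · obtain ⟨W', k, hkw, hk⟩ := exists_open_piece W C₂ hw
    obtain ⟨u, hu⟩ := exists_factor_open hj ((yon S).map k.hom.left ≫ y.1) fun z => by
      rw [ofPt_comp]; exact hk z
    refine ⟨W', k, Or.inl ⟨⟨u, ?_⟩, hu⟩, hkw⟩
    rw [reassoc_of% hu, y.2]
    exact EtOver.w k
  · obtain ⟨v, hv⟩ := exists_point_chart hsq hw
    have hg : RepWith @Etale (θ.hom ≫ f) := hsq.2.1 θ.hom (repWith_of_isIso _ _)
    have sqR := hg.rep.isPullback' y.1
    have hv' : Points.ofPt (θ.hom ≫ f) (Points.toScheme T (Points.map θ.inv v)) = Points.ofPt y.1 w := by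
      rw [Points.ofPt_eq_map_ofScheme, Points.ofScheme_toScheme, ← Points.map_comp, θ.inv_hom_id_assoc, hv]
    obtain ⟨r, -, hr⟩ := exists_ofPt_of_eq sqR hv'
    refine ⟨sub W (hg.rep.snd y.1) (hg.property_snd _), subι W _ _,
      Or.inr ⟨⟨(yon S).map (hg.rep.fst' y.1) ≫ θ.hom, ?_⟩, ?_⟩, ⟨r, hr⟩⟩
    · show ((yon S).map (hg.rep.fst' y.1) ≫ θ.hom) ≫ f ≫ e = (yon S).map (hg.rep.snd y.1) ≫ W.obj.hom
      refine Eq.trans ?_ (congrArg ((yon S).map (hg.rep.snd y.1) ≫ ·) y.2)
      exact (Category.assoc _ _ _).trans ((congrArg (_ ≫ ·) (Category.assoc _ _ _).symm).trans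
        ((Category.assoc _ _ _).symm.trans ((congrArg (· ≫ e) sqR.w).trans (Category.assoc _ _ _))))
    · show ((yon S).map (hg.rep.fst' y.1) ≫ θ.hom) ≫ f = (yon S).map (hg.rep.snd y.1) ≫ y.1
      rw [Category.assoc, sqR.w]

include hE hj sq hsq hT θ hab in
theorem existsUnique_glue :
    ∃! c : pre e ⟶ G.obj ⋙ forget AddCommGrpCat.{u + 1},
      preMap j (rfl : j ≫ e = _) ≫ c = a ∧ preMap f (rfl : f ≫ e = _) ≫ c = b := by
  haveI := mono_of_openImm hj
  have hsh := (isSheaf_iff_isSheaf_of_type _ _).1 ((sheafCompose (etTop X)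
    (CategoryTheory.forget AddCommGrpCat.{u + 1})).obj G).property
  have hcompat : ∀ (W : EtOver X) (y : (pre e).obj (op W)) (u : (pre (j ≫ e)).obj (op W))
      (v : (pre (f ≫ e)).obj (op W)), u.1 ≫ j = y.1 → v.1 ≫ f = y.1 → a.app _ u = b.app _ v := by
    intro W y u v hu hv
    obtain ⟨z, hz₁, hz₂⟩ := sq.exists_lift u.1 v.1 (hu.trans hv.symm)
    have hzw : z ≫ p ≫ j ≫ e = W.obj.hom := by rw [reassoc_of% hz₁]; exact u.2
    exact (congrArg (a.app (op W)) (Subtype.ext hz₁.symm)).trans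
      ((types_congr_hom (NatTrans.congr_app hab (op W)) ⟨z, hzw⟩).trans (congrArg (b.app (op W)) (Subtype.ext hz₂)))
  -- the value on a piece
  let val : ∀ (W : EtOver X) (y : (pre e).obj (op W)) ⦃W' : EtOver X⦄ (k : W' ⟶ W),
      Piece (j := j) (f := f) W y k → (G.obj ⋙ forget AddCommGrpCat.{u + 1}).obj (op W') := fun W y W' k hk => by
    classical
    exact if hu : ∃ u : (pre (j ≫ e)).obj (op W'), u.1 ≫ j = (yon S).map k.hom.left ≫ y.1 then a.app _ hu.choose
      else b.app _ (hk.resolve_left hu).choose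
  have valU : ∀ (W : EtOver X) (y : (pre e).obj (op W)) ⦃W' : EtOver X⦄ (k : W' ⟶ W) hk (u : (pre (j ≫ e)).obj (op W')),
      u.1 ≫ j = (yon S).map k.hom.left ≫ y.1 → val W y k hk = a.app _ u := fun W y W' k hk u hu => by
    have hex : ∃ u : (pre (j ≫ e)).obj (op W'), u.1 ≫ j = (yon S).map k.hom.left ≫ y.1 := ⟨u, hu⟩
    simp only [val, dif_pos hex]
    exact congrArg _ (Subtype.ext ((cancel_mono j).1 (hex.choose_spec.trans hu.symm)))
  have valV : ∀ (W : EtOver X) (y : (pre e).obj (op W)) ⦃W' : EtOver X⦄ (k : W' ⟶ W) hk (v : (pre (f ≫ e)).obj (op W')),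
      v.1 ≫ f = (yon S).map k.hom.left ≫ y.1 → val W y k hk = b.app _ v := fun W y W' k hk v hv => by
    by_cases hex : ∃ u : (pre (j ≫ e)).obj (op W'), u.1 ≫ j = (yon S).map k.hom.left ≫ y.1
    · simp only [val, dif_pos hex]
      exact hcompat W' ((pre e).map k.op y) _ _ hex.choose_spec hv
    · simp only [val, dif_neg hex]
      exact b_eq_of_eq hE hj sq hsq θ hT a b hab W' _ _ ((hk.resolve_left hex).choose_spec.trans hv.symm)
  let fml : ∀ (W : EtOver X) (y : (pre e).obj (op W)),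
      Presieve.FamilyOfElements (G.obj ⋙ forget AddCommGrpCat.{u + 1}) (Piece (j := j) (f := f) W y).arrows := fun W y => @val W y
  have fam : ∀ W y, (fml W y).Compatible := by
    intro W y
    rw [Presieve.compatible_iff_sieveCompatible]
    intro W' W'' k g hk
    have hk' : Piece (j := j) (f := f) W y k := hk
    show val W y (g ≫ k) ((Piece (j := j) (f := f) W y).downward_closed hk g) = (G.obj ⋙ forget AddCommGrpCat.{u + 1}).map g.op (val W y k hk)
    rcases hk' with ⟨u, hu⟩ | ⟨v, hv⟩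
    · rw [valU W y k hk u hu, valU W y (g ≫ k) ((Piece (j := j) (f := f) W y).downward_closed hk g) ((pre (j ≫ e)).map g.op u) (by
        show ((yon S).map g.hom.left ≫ u.1) ≫ j = (yon S).map (g.hom.left ≫ k.hom.left) ≫ y.1
        rw [Category.assoc, hu, Functor.map_comp, Category.assoc])]
      exact NatTrans.naturality_apply a g.op u
    · rw [valV W y k hk v hv, valV W y (g ≫ k) ((Piece (j := j) (f := f) W y).downward_closed hk g) ((pre (f ≫ e)).map g.op v) (by
        show ((yon S).map g.hom.left ≫ v.1) ≫ f = (yon S).map (g.hom.left ≫ k.hom.left) ≫ y.1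
        rw [Category.assoc, hv, Functor.map_comp, Category.assoc])]
      exact NatTrans.naturality_apply b g.op v
  let amal : ∀ (W : EtOver X) (y : (pre e).obj (op W)), (G.obj ⋙ forget AddCommGrpCat.{u + 1}).obj (op W) := fun W y =>
    (hsh _ (piece_mem hE hj hsq θ W y)).amalgamate (fml W y) (fam W y)
  have amal_spec : ∀ (W : EtOver X) (y : (pre e).obj (op W)) ⦃W' : EtOver X⦄ (k : W' ⟶ W) hk,
      (G.obj ⋙ forget AddCommGrpCat.{u + 1}).map k.op (amal W y) = val W y k hk := fun W y W' k hk =>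
    (hsh _ (piece_mem hE hj hsq θ W y)).valid_glue (fam W y) k hk
  have hid : ∀ {F : Sp S} (e' : F ⟶ X) (W : EtOver X) (u : (pre e').obj (op W)) (φ : F ⟶ E)
      (y : (pre e).obj (op W)), u.1 ≫ φ = y.1 → u.1 ≫ φ = (yon S).map (𝟙 W : W ⟶ W).hom.left ≫ y.1 :=
    fun e' W u φ y h => h.trans ((congrArg (· ≫ y.1) ((yon S).map_id _)).trans (Category.id_comp _)).symm
  refine ⟨{ app := fun W => TypeCat.ofHom fun y => amal W.unop y, naturality := ?_ }, ⟨?_, ?_⟩, ?_⟩
  · intro W W' g
    ext y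
    refine (hsh.isSeparated _ (piece_mem hE hj hsq θ W'.unop ((pre e).map g y))).ext fun W'' k hk => ?_
    refine (amal_spec _ _ k hk).trans ?_
    have hk' : Piece (j := j) (f := f) W.unop y (k ≫ g.unop) := by
      rcases hk with ⟨u, hu⟩ | ⟨v, hv⟩
      · refine Or.inl ⟨u, ?_⟩
        show u.1 ≫ j = (yon S).map (k.hom.left ≫ g.unop.hom.left) ≫ y.1
        rw [Functor.map_comp, Category.assoc]; exact hu
      · refine Or.inr ⟨v, ?_⟩
        show v.1 ≫ f = (yon S).map (k.hom.left ≫ g.unop.hom.left) ≫ y.1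
        rw [Functor.map_comp, Category.assoc]; exact hv
    refine Eq.trans ?_ (Functor.map_comp_apply (G.obj ⋙ forget _) g k.op (amal W.unop y))
    refine Eq.trans ?_ (amal_spec W.unop y (k ≫ g.unop) hk').symm
    rcases hk with ⟨u, hu⟩ | ⟨v, hv⟩
    · rw [valU _ _ k (Or.inl ⟨u, hu⟩) u hu, valU _ _ (k ≫ g.unop) hk' u (hu.trans (by
        show (yon S).map k.hom.left ≫ (yon S).map g.unop.hom.left ≫ y.1 = (yon S).map (k.hom.left ≫ g.unop.hom.left) ≫ y.1
        rw [Functor.map_comp, Category.assoc]))]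
    · rw [valV _ _ k (Or.inr ⟨v, hv⟩) v hv, valV _ _ (k ≫ g.unop) hk' v (hv.trans (by
        show (yon S).map k.hom.left ≫ (yon S).map g.unop.hom.left ≫ y.1 = (yon S).map (k.hom.left ≫ g.unop.hom.left) ≫ y.1
        rw [Functor.map_comp, Category.assoc]))]
  · ext W u
    obtain ⟨W⟩ := W
    let y : (pre e).obj (op W) := (preMap j rfl).app (op W) u
    have h1 := amal_spec W y (𝟙 W) (Or.inl ⟨u, hid _ W u j y rfl⟩)
    rw [valU W y (𝟙 W) (Or.inl ⟨u, hid _ W u j y rfl⟩) u (hid _ W u j y rfl), op_id, CategoryTheory.Functor.map_id] at h1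
    exact h1
  · ext W v
    obtain ⟨W⟩ := W
    let y : (pre e).obj (op W) := (preMap f rfl).app (op W) v
    have h1 := amal_spec W y (𝟙 W) (Or.inr ⟨v, hid _ W v f y rfl⟩)
    rw [valV W y (𝟙 W) (Or.inr ⟨v, hid _ W v f y rfl⟩) v (hid _ W v f y rfl), op_id, CategoryTheory.Functor.map_id] at h1
    exact h1
  · rintro c ⟨hc₁, hc₂⟩
    ext W y
    obtain ⟨W⟩ := W
    refine (hsh.isSeparated _ (piece_mem hE hj hsq θ W y)).ext fun W'' k hk => ?_
    refine (NatTrans.naturality_apply c k.op y).symm.trans (Eq.trans ?_ (amal_spec W y k hk).symm)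
    rcases hk with ⟨u, hu⟩ | ⟨v, hv⟩
    · rw [valU W y k (Or.inl ⟨u, hu⟩) u hu, ← hc₁]
      exact congrArg (c.app (op W'')) (Subtype.ext hu.symm)
    · rw [valV W y k (Or.inr ⟨v, hv⟩) v hv, ← hc₂]
      exact congrArg (c.app (op W'')) (Subtype.ext hv.symm)

end Groth.Agent.AlgSpWA.MVSheaf
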