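import Groth.Agent.AlgSpWA.CohUnion
import Groth.Agent.AlgSpWA.MVSheaf

/-!
# Finitely generated systems of sections

Finite type submodules of quasi-coherent modules, given by finitely many sections on finitely many
affine charts.
-/

set_option autoImplicit false
set_option linter.style.haveILetI false
set_option backward.isDefEq.respectTransparency false
set_option backward.isDefEq.respectTransparency.types false

noncomputable section

universe u

open CategoryTheory CategoryTheory.Limits AlgebraicGeometry Opposite AlgSp TensorProduct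
open Groth.Agent.QCart13

namespace Groth.Agent.AlgSpWA.FinSys

open CohUnion MVSheaf

variable {S : Scheme.{u}} {X : Sp S} (M : ModEt X)

set_option maxHeartbeats 1600000 in
theorem exists_lift [M.IsQuasicoherent] {E : EtOver X} (hE : Aff E) {ι : Type*} [Finite ι] (W : ι → EtOver X)
    {U : ι → EtOver X} (P : ∀ i, Set (sectModEt M (U i)))
    (a : ∀ i, W i ⟶ E) (b : ∀ i, W i ⟶ U i) (hW : ∀ i, Aff (W i)) (T : Over E) (hT : Aff T.left)
    (z : Fn T.left ⊗[Fn E] sectModEt M E)
    (hz : ∀ i, res M (bxFst T (Over.mk (a i))).left (bcMor M T z) ∈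
      spanAt M (P i) ((bxSnd T (Over.mk (a i))).left ≫ b i)) :
    z ∈ LinearMap.range ((Submodule.comap (LinearMap.pi fun i => res₀ M (Over.mk (a i)))
      (Submodule.pi Set.univ fun i => (spanAt M (P i) (V := (Over.mk (a i)).left) (b i)).restrictScalars (Fn E))).subtype.lTensor
        (Fn T.left)) := by
  classical
  haveI := Fintype.ofFinite ι
  let T' : ι → Over E := fun i => Over.mk (a i)
  let N : ∀ i, Submodule (Fn E) (sectModEt M (T' i).left) := fun i =>
    (spanAt M (P i) (V := (T' i).left) (b i)).restrictScalars (Fn E)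
  let μ : sectModEt M E →ₗ[Fn E] ∀ i, sectModEt M (T' i).left ⧸ N i :=
    LinearMap.pi fun i => (N i).mkQ ∘ₗ res₀ M (T' i)
  haveI : Module.Flat (Fn E) (Fn T.left) := flat_over hE hT
  have hker : LinearMap.ker μ = Submodule.comap (LinearMap.pi fun i => res₀ M (T' i)) (Submodule.pi Set.univ N) := by
    ext x
    simp [μ, Submodule.mem_pi, funext_iff]
  rw [← hker]
  refine ((Module.Flat.lTensor_exact (Fn T.left) (LinearMap.exact_subtype_ker_map μ)) z).1 ?_
  refine (piRight (Fn E) (Fn E) (Fn T.left) fun i => sectModEt M (T' i).left ⧸ N i).injective (funext fun i => ?_)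
  rw [map_zero, Pi.zero_apply]
  have h1 : ∀ y, piRight (Fn E) (Fn E) (Fn T.left) (fun i => sectModEt M (T' i).left ⧸ N i) (μ.lTensor _ y) i =
      (N i).mkQ.lTensor (Fn T.left) ((res₀ M (T' i)).lTensor (Fn T.left) y) := fun y => by
    induction y using TensorProduct.induction_on with
    | zero => simp
    | add p q hp hq => simp only [map_add, Pi.add_apply, hp, hq]
    | tmul c m => simp only [LinearMap.lTensor_tmul, piRight_apply, piRightHom_tmul]; rfl
  rw [h1]
  let w : Fn T.left ⊗[Fn E] sectModEt M (T' i).left := (res₀ M (T' i)).lTensor (Fn T.left) z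
  let U' : Over E := bx T (T' i)
  have hA : Aff U'.left := aff_bx hE hT (hW i)
  have hbc : IsBaseChange (Fn T.left) (resT M (bxSnd T (T' i))) :=
    isBaseChange_bx M hE hT (hW i) (cart_of_isQuasicoherent M (hW i) _ (bxSnd T (T' i)).left hA)
  have hw : hbc.equiv w = res M (bxFst T (T' i)).left (bcMor M T z) := by
    show hbc.equiv ((res₀ M (T' i)).lTensor (Fn T.left) z) = _
    clear hz
    induction z using TensorProduct.induction_on with
    | zero => simp
    | add p q hp hq => simp only [map_add, hp, hq]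
    | tmul c m =>
      rw [LinearMap.lTensor_tmul, IsBaseChange.equiv_tmul]
      refine Eq.trans ?_ (congrArg _ (LinearMap.liftBaseChange_tmul (l := res₀ M T) (A := Fn T.left) _ _).symm)
      refine Eq.trans ?_ (res_smul M (bxFst T (T' i)).left c (res M T.hom m)).symm
      refine congrArg (fun t : sectModEt M (bx T (T' i)).left => rmap (bxFst T (T' i)).left c • t) ?_
      show res M (bxSnd T (T' i)).left (res M (T' i).hom m) = res M (bxFst T (T' i)).left (res M T.hom m)
      rw [← res_comp, ← res_comp, Over.w, Over.w]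
  have hmem : res M (bxFst T (T' i)).left (bcMor M T z) ∈ spanAt M (P i) ((bxSnd T (T' i)).left ≫ b i) := hz i
  suffices key : ∀ x ∈ spanAt M (P i) ((bxSnd T (T' i)).left ≫ b i),
      x ∈ LinearMap.range (hbc.equiv.toLinearMap ∘ₗ (N i).subtype.baseChange (Fn T.left)) by
    obtain ⟨v, hv⟩ := key _ hmem
    have hv' : (N i).subtype.baseChange (Fn T.left) v = w := hbc.equiv.injective (hv.trans hw.symm)
    show (N i).mkQ.lTensor (Fn T.left) w = 0
    rw [← hv']
    show (N i).mkQ.lTensor (Fn T.left) ((N i).subtype.lTensor (Fn T.left) v) = 0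
    rw [← LinearMap.lTensor_comp_apply, LinearMap.exact_subtype_mkQ (N i) |>.linearMap_comp_eq_zero,
      LinearMap.lTensor_zero, LinearMap.zero_apply]
  let Q := LinearMap.range (hbc.equiv.toLinearMap ∘ₗ (N i).subtype.baseChange (Fn T.left))
  have hgen : ∀ m ∈ N i, res M (bxSnd T (T' i)).left m ∈ Q := fun m hm =>
    ⟨(1 : Fn T.left) ⊗ₜ ⟨m, hm⟩, by
      refine (hbc.equiv_tmul _ _).trans ?_
      exact one_smul _ _⟩
  have hsmul : ∀ (r : Fn U'.left), ∀ y ∈ Q, r • y ∈ Q := by
    letI := algOf (bxSnd T (T' i)).left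
    haveI : IsScalarTower (Fn E) (Fn (T' i).left) (Fn U'.left) :=
      IsScalarTower.of_algebraMap_eq fun x => by
        change rmap U'.hom x = rmap (bxSnd T (T' i)).left (rmap (T' i).hom x)
        rw [← rmap_comp, Over.w (bxSnd T (T' i))]
    haveI hpo : Algebra.IsPushout (Fn E) (Fn T.left) (Fn (T' i).left) (Fn U'.left) :=
      CommRingCat.isPushout_iff_isPushout.1 (isPushout_bx hE hT (hW i))
    intro r
    refine hpo.out.inductionOn r (fun r => ∀ y ∈ Q, r • y ∈ Q) ?_ ?_ ?_ ?_
    · intro y _; rw [zero_smul]; exact Submodule.zero_mem _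
    · intro c y hy
      obtain ⟨v, rfl⟩ := hy
      induction v using TensorProduct.induction_on with
      | zero => simp
      | add p q hp hq => rw [map_add, smul_add]; exact add_mem hp hq
      | tmul d m =>
        have e1 : (hbc.equiv.toLinearMap ∘ₗ (N i).subtype.baseChange (Fn T.left)) (d ⊗ₜ m) =
            rmap (bxFst T (T' i)).left d • res M (bxSnd T (T' i)).left (m : sectModEt M (T' i).left) :=
          hbc.equiv_tmul _ _
        rw [e1]
        change rmap (bxSnd T (T' i)).left c • (rmap (bxFst T (T' i)).left d • res M (bxSnd T (T' i)).left (m : sectModEt M (T' i).left)) ∈ Q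
        rw [smul_comm, ← res_smul]
        exact Q.smul_mem d (hgen _ ((spanAt M (P i) (V := (T' i).left) (b i)).smul_mem c m.2))
    · intro d r hr y hy
      change (rmap (bxFst T (T' i)).left d * r) • y ∈ Q
      rw [mul_smul]
      exact Q.smul_mem d (hr y hy)
    · intro r r' hr hr' y hy
      rw [add_smul]
      exact add_mem (hr y hy) (hr' y hy)
  intro x hx
  induction hx using Submodule.span_induction with
  | mem x hx =>
    obtain ⟨p, hp, rfl⟩ := hx
    rw [res_comp]
    exact hgen _ (Submodule.subset_span ⟨p, hp, rfl⟩)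
  | zero => exact Submodule.zero_mem _
  | add p q _ _ hp hq => exact add_mem hp hq
  | smul r p _ hp => exact hsmul r p hp

/-- Finitely many sections on finitely many affine charts of a space over `X`, compatible on overlaps. -/
structure Sys {F : Sp S} (e : F ⟶ X) where
  /-- the charts -/
  ι : Type
  [fin : Finite ι]
  /-- the objects -/
  E : ι → EtOver X
  aff : ∀ i, Aff (E i)
  /-- their maps to the space -/
  y : ∀ i, (pre e).obj (op (E i))
  /-- the sections -/
  P : ∀ i, Finset (sectModEt M (E i))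
  cover : ∀ (Z : EtOver X) (z : (pre e).obj (op Z)), ∃ R ∈ etTop X Z, ∀ (Z' : EtOver X) (g : Z' ⟶ Z), R g →
    ∃ (i : ι) (b : Z' ⟶ E i), (pre e).map b.op (y i) = (pre e).map g.op z
  good : ∀ (i j : ι) (Z : EtOver X), Aff Z → ∀ (a : Z ⟶ E i) (b : Z ⟶ E j),
    (pre e).map a.op (y i) = (pre e).map b.op (y j) → ∀ p ∈ P i, res M a p ∈ spanAt M (↑(P j)) b

variable {M} {F : Sp S} {e : F ⟶ X}

theorem pre_map_map (Z Z' Z'' : EtOver X) (g : Z' ⟶ Z) (h : Z'' ⟶ Z') (z : (pre e).obj (op Z)) :
    (pre e).map h.op ((pre e).map g.op z) = (pre e).map (h ≫ g).op z := by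
  rw [op_comp]
  exact (Functor.map_comp_apply (pre e) g.op h.op z).symm

/-- The sections in the span of a system. -/
def Mem (Sg : Sys M e) (Z : EtOver X) (z : (pre e).obj (op Z)) (s : sectModEt M Z) : Prop :=
  ∀ (V : EtOver X), Aff V → ∀ (a : V ⟶ Z) (i : Sg.ι) (b : V ⟶ Sg.E i),
    (pre e).map b.op (Sg.y i) = (pre e).map a.op z → res M a s ∈ spanAt M (↑(Sg.P i)) b

variable (Sg : Sys M e)

theorem Mem.res {Z Z' : EtOver X} {z : (pre e).obj (op Z)} {s : sectModEt M Z} (h : Mem Sg Z z s) (g : Z' ⟶ Z) :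
    Mem Sg Z' ((pre e).map g.op z) (QCart13.res M g s) := fun V hV a i b hb => by
  rw [← res_comp]
  exact h V hV _ i b (hb.trans (pre_map_map _ _ _ g a z))

theorem mem_of_P (i : Sg.ι) {p : sectModEt M (Sg.E i)} (hp : p ∈ Sg.P i) : Mem Sg (Sg.E i) (Sg.y i) p :=
  fun V hV a j b hb => Sg.good i j V hV a b hb.symm p hp

theorem spanAt_le [M.IsQuasicoherent] {Z U : EtOver X} (hZ : Aff Z) (Q : Set (sectModEt M U)) (k : Z ⟶ U)
    {P : Set (sectModEt M Z)} {V : EtOver X} (g : V ⟶ Z) (hP : ∀ p ∈ P, p ∈ spanAt M Q k) {x : sectModEt M V}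
    (hx : x ∈ spanAt M P g) : x ∈ spanAt M Q (g ≫ k) := by
  refine Submodule.span_le.2 ?_ hx
  rintro _ ⟨p, hp, rfl⟩
  exact res_mem_spanAt M Q g k (hP p hp)

set_option maxHeartbeats 1600000 in
/-- Over an affine object, the sections in the span are finitely generated, compatibly with restriction. -/
theorem exists_gen [M.IsQuasicoherent] (Z : EtOver X) (hZ : Aff Z) (z : (pre e).obj (op Z)) :
    ∃ Q : Finset (sectModEt M Z), (∀ q ∈ Q, Mem Sg Z z q) ∧
      ∀ (Z' : EtOver X), Aff Z' → ∀ (k : Z' ⟶ Z) (s : sectModEt M Z'), Mem Sg Z' ((pre e).map k.op z) s →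
        s ∈ spanAt M (↑Q) k := by
  classical
  obtain ⟨R, hR, hRf⟩ := Sg.cover Z z
  obtain ⟨c, hc⟩ := QCart13.exists_cov hZ hR
  choose ix b hb using fun k => hRf _ _ (hc k)
  let W : ∀ k, EtOver X := fun k => (c.T k).left
  let K : Submodule (Fn Z) (sectModEt M Z) :=
    Submodule.comap (LinearMap.pi fun k => res₀ M (Over.mk (c.T k).hom))
      (Submodule.pi Set.univ fun k => (spanAt M (↑(Sg.P (ix k))) (V := (Over.mk (c.T k).hom).left) (b k)).restrictScalars (Fn Z))
  have hK : ∀ s ∈ K, Mem Sg Z z s := fun s hs V hV a i b' hb' => by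
    refine mem_spanAt_of_local M _ hV b' ((etTop X).pullback_stable a (c.sieve_mem)) fun V' g hV' hg => ?_
    obtain ⟨k, h, hh⟩ := (Sieve.mem_ofArrows_iff _ _ _).1 hg
    rw [← res_comp, hh, res_comp]
    refine Submodule.span_le.2 ?_ (res_mem_spanAt M _ h (b k) (hs k trivial))
    rintro _ ⟨p, hp, rfl⟩
    refine Sg.good _ _ V' hV' (h ≫ b k) (g ≫ b') ?_ p hp
    rw [← pre_map_map, hb k, ← pre_map_map _ _ _ b' g, hb', pre_map_map, pre_map_map, hh]
  have hP : ∀ k, ∀ p ∈ Sg.P (ix k), ∃ Q : Finset (sectModEt M Z), (∀ q ∈ Q, q ∈ K) ∧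
      res M (b k) p ∈ spanAt M (↑Q) (c.T k).hom := by
    intro k p hp
    obtain ⟨w, hw⟩ := (bijective_bcMor (cart_of_isQuasicoherent M hZ) (Over.mk (c.T k).hom) (c.aff k)).2 (res M (b k) p)
    obtain ⟨v, rfl⟩ := exists_lift M hZ W (fun l => (↑(Sg.P (ix l)) : Set (sectModEt M (Sg.E (ix l))))) (fun l => (c.T l).hom)
      b c.aff (Over.mk (c.T k).hom) (c.aff k) w fun l => by
      rw [hw]
      refine (congrArg (· ∈ _) (res_comp M _ (b k) p)).mp ?_
      refine Sg.good _ _ _ (aff_bx hZ (c.aff k) (c.aff l)) _ _ ?_ p hp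
      rw [← pre_map_map, hb k, ← pre_map_map _ _ _ (b l), hb l, pre_map_map, pre_map_map]
      exact congrArg (fun m => (pre e).map (Quiver.Hom.op m) z)
        ((Over.w (bxFst (Over.mk (c.T k).hom) (Over.mk (c.T l).hom))).trans
          (Over.w (bxSnd (Over.mk (c.T k).hom) (Over.mk (c.T l).hom))).symm)
    rw [← hw]
    clear hw
    induction v using TensorProduct.induction_on with
    | zero => exact ⟨∅, by simp, by rw [map_zero, map_zero]; exact zero_mem _⟩
    | add p q hp hq =>
      obtain ⟨Q₁, h₁, h₁'⟩ := hp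
      obtain ⟨Q₂, h₂, h₂'⟩ := hq
      refine ⟨Q₁ ∪ Q₂, fun q hq => (Finset.mem_union.1 hq).elim (h₁ q) (h₂ q), ?_⟩
      rw [map_add, map_add]
      exact add_mem (Submodule.span_mono (Set.image_mono (Finset.coe_subset.2 Finset.subset_union_left)) h₁')
        (Submodule.span_mono (Set.image_mono (Finset.coe_subset.2 Finset.subset_union_right)) h₂')
    | tmul r m =>
      refine ⟨{(m : sectModEt M Z)}, fun q hq => (Finset.mem_singleton.1 hq).symm ▸ m.2, ?_⟩
      rw [LinearMap.lTensor_tmul]
      exact Submodule.smul_mem _ r (Submodule.subset_span ⟨_, by simp, rfl⟩)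
  choose! Qf hQK hQ using hP
  refine ⟨Finset.univ.biUnion fun k => (Sg.P (ix k)).biUnion (Qf k), fun q hq => ?_, fun Z' hZ' k s hs => ?_⟩
  · simp only [Finset.mem_biUnion, Finset.mem_univ, true_and] at hq
    obtain ⟨l, p, hp, hq⟩ := hq
    exact hK q (hQK l p hp q hq)
  · refine mem_spanAt_of_local M _ hZ' k ((etTop X).pullback_stable k c.sieve_mem) fun V g hV hg => ?_
    obtain ⟨l, h, hh⟩ := (Sieve.mem_ofArrows_iff _ _ _).1 hg
    have h1 := hs V hV g (ix l) (h ≫ b l) (by rw [← pre_map_map, hb l, pre_map_map, pre_map_map, hh])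
    rw [hh]
    refine Submodule.span_le.2 ?_ h1
    rintro _ ⟨p, hp, rfl⟩
    rw [res_comp]
    refine res_mem_spanAt M _ h (c.T l).hom (Submodule.span_mono (Set.image_mono ?_) (hQ l p hp))
    intro q hq
    simp only [Finset.mem_coe, Finset.mem_biUnion, Finset.mem_univ, true_and]
    exact ⟨l, p, hp, hq⟩

end Groth.Agent.AlgSpWA.FinSys
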