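import Groth.Agent.AlgSpWA.Basic
import Groth.Agent.QCart13.Crit
import Groth.Agent.AlgSpDec.Fibres
import Mathlib.RingTheory.Finiteness.Cardinality

/-!
# Modules of finite type and of finite presentation on small etale sites: sections on affine objects
-/

set_option autoImplicit false
set_option linter.style.haveILetI false
set_option backward.isDefEq.respectTransparency false
set_option backward.isDefEq.respectTransparency.types false

noncomputable section

universe u

open CategoryTheory CategoryTheory.Limits AlgebraicGeometry Opposite AlgSp TensorProduct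
open Groth.Agent.QCart13

namespace Groth.Agent.AlgSpWA

variable {S : Scheme.{u}} {X : Sp S} {E : EtOver X} (M : ModEt X)

/-- A submodule of the sections is recognised on a covering. -/
theorem mem_of_cover (hE : Aff E) (hc : Cart M E) (c : Cov E) (N : Submodule (Fn E) (sectModEt M E))
    (x : sectModEt M E)
    (h : ∀ k, res M (c.T k).hom x ∈ Submodule.span (Fn (c.T k).left) (res M (c.T k).hom '' N)) : x ∈ N := by
  rw [← Submodule.Quotient.mk_eq_zero]
  haveI : ∀ k, Module.Flat (Fn E) (Fn (c.T k).left) := fun k => flat_over hE (c.aff k)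
  refine eq_zero_of_forall_tmul (C := fun k => Fn (c.T k).left) (c.jointlySurj hE) _ fun k => ?_
  have hb := (isBC_iff M (c.T k)).1 (hc _ (c.T k).hom (c.aff k))
  let e := hb.equiv
  have hq : ∀ y ∈ Submodule.span (Fn (c.T k).left) (res M (c.T k).hom '' N),
      N.mkQ.lTensor (Fn (c.T k).left) (e.symm y) = 0 := fun y hy => by
    induction hy using Submodule.span_induction with
    | mem y hy =>
      obtain ⟨n, hn, rfl⟩ := hy
      rw [show e.symm (res M (c.T k).hom n) = (1 : Fn (c.T k).left) ⊗ₜ[Fn E] n from hb.equiv_symm_apply n,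
        LinearMap.lTensor_tmul, Submodule.mkQ_apply, (Submodule.Quotient.mk_eq_zero N).2 hn, tmul_zero]
    | zero => simp
    | add a b _ _ ha hb => rw [map_add, map_add, ha, hb, add_zero]
    | smul a y _ hy =>
      rw [map_smul]
      change (LinearMap.baseChange (Fn (c.T k).left) N.mkQ) (a • e.symm y) = 0
      rw [map_smul]
      exact (congrArg (a • ·) hy).trans (smul_zero a)
  have := hq _ (h k)
  rw [show e.symm (res M (c.T k).hom x) = (1 : Fn (c.T k).left) ⊗ₜ[Fn E] x from hb.equiv_symm_apply x,
    LinearMap.lTensor_tmul] at this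
  exact this

/-- Finitely many generators on a slice generate the sections over an affine object. -/
theorem span_gen_eq_top {I : Type (u + 1)} (φ : SheafOfModules.free (R := OEtOn E) I ⟶ M.over E) [Epi φ]
    (T : Over E) (hT : Aff T.left) (hc : Cart M T.left) :
    Submodule.span (Fn T.left) (Set.range fun i => toSect M T (gen φ T i)) = ⊤ := by
  refine eq_top_iff.2 fun x _ => ?_
  obtain ⟨y, hy⟩ := (toSect_bijective M T).2 x
  obtain ⟨R, hR, h⟩ := generation_local φ T y
  obtain ⟨c, hcR⟩ := exists_covOn hT hR
  refine mem_of_cover M hT hc c _ x fun k => ?_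
  obtain ⟨v, hv⟩ := h (cmp T (c.T k)) _ (hcR k)
  have e1 : res M (c.T k).hom x = toSect' M T (c.T k) (Gen.mres _ (cmpHom T (c.T k)) y) := by
    rw [← hy]
    exact res_toSect M (cmpHom T (c.T k)) y
  rw [e1]
  refine (congrArg (toSect' M T (c.T k)) hv.symm).symm ▸ ?_
  rw [toSect'_linearCombination, Finsupp.linearCombination_apply]
  refine Submodule.sum_mem _ fun i _ => Submodule.smul_mem _ _ (Submodule.subset_span ?_)
  refine ⟨toSect M T (gen φ T i), Submodule.subset_span ⟨i, rfl⟩, ?_⟩
  exact (res_toSect M (cmpHom T (c.T k)) (gen φ T i)).trans (congrArg _ (mres_gen φ (cmpHom T (c.T k)) i))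

/-- The sections of a quasi-coherent module of finite type over an affine object are finite. -/
theorem finite_sect [M.IsQuasicoherent] [M.IsFiniteType] (hE : Aff E) :
    Module.Finite (Fn E) (sectModEt M E) := by
  classical
  obtain ⟨σ, hσ⟩ := SheafOfModules.IsFiniteType.exists_localGeneratorsData M
  obtain ⟨c, hc⟩ := QCart13.exists_cov hE (σ.coversTop E)
  have hcE : Cart M E := cart_of_isQuasicoherent M hE
  have hfin : ∀ k, Module.Finite (Fn (c.T k).left) (sectModEt M (c.T k).left) := fun k => by
    obtain ⟨i, ⟨g⟩⟩ := (Sieve.mem_ofObjects_iff _ _).1 (hc k)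
    haveI := (hσ.isFiniteType i).finite
    haveI : Epi (σ.generators i).π := (σ.generators i).epi
    refine ⟨Submodule.fg_def.2 ⟨_, Set.finite_range _,
      span_gen_eq_top M (σ.generators i).π (Over.mk g) (c.aff k) (cart_of_isQuasicoherent M (c.aff k))⟩⟩
  have key : ∀ k, ∃ A : Finset (sectModEt M E), Submodule.span (Fn (c.T k).left) (res M (c.T k).hom '' A) = ⊤ :=
    fun k => by
    have htop : Submodule.span (Fn (c.T k).left) (Set.range (res M (c.T k).hom)) = ⊤ := by
      refine eq_top_iff.2 fun y hy => ?_
      clear hy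
      obtain ⟨z, rfl⟩ := ((isBaseChange_iff_bijective _).1 ((isBC_iff M (c.T k)).1 (hcE _ (c.T k).hom (c.aff k)))).2 y
      induction z using TensorProduct.induction_on with
      | zero => simp
      | tmul a m => rw [LinearMap.liftBaseChange_tmul]; exact Submodule.smul_mem _ a (Submodule.subset_span ⟨m, rfl⟩)
      | add a b ha hb => rw [map_add]; exact add_mem ha hb
    obtain ⟨B, hB⟩ := (hfin k).fg_top
    have hmem : ∀ b ∈ B, ∃ A : Finset (sectModEt M E),
        b ∈ Submodule.span (Fn (c.T k).left) (res M (c.T k).hom '' A) := fun b _ => by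
      obtain ⟨A, hA, hbA⟩ := Submodule.mem_span_finite_of_mem_span (htop.ge (Submodule.mem_top (x := b)))
      rw [← Set.image_univ] at hA
      obtain ⟨A', -, rfl⟩ := Finset.subset_set_image_iff.1 hA
      exact ⟨A', by simpa using hbA⟩
    choose A hA using hmem
    refine ⟨B.attach.biUnion fun b => A b.1 b.2, eq_top_iff.2 (hB.ge.trans (Submodule.span_le.2 fun b hb => ?_))⟩
    refine Submodule.span_mono (Set.image_mono ?_) (hA b hb)
    intro a ha
    simp only [Finset.coe_biUnion, Set.mem_iUnion]
    exact ⟨⟨b, hb⟩, Finset.mem_attach _ _, ha⟩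
  choose A hA using key
  refine ⟨Submodule.fg_def.2 ⟨_, (Finset.univ.biUnion A).finite_toSet, eq_top_iff.2 fun x _ => ?_⟩⟩
  refine mem_of_cover M hE hcE c _ x fun k => ?_
  refine Submodule.span_mono (Set.image_mono ?_) ((hA k).ge Submodule.mem_top)
  exact fun a ha => Submodule.subset_span (Finset.mem_coe.2 (Finset.mem_biUnion.2 ⟨k, Finset.mem_univ k, ha⟩))

section presentation

variable {I : Type (u + 1)} (m : I → sectModEt M E)

/-- The map from a free module given by sections over the final object of a slice. -/
def secπ : SheafOfModules.free (R := OEtOn E) I ⟶ M.over E :=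
  (SheafOfModules.freeHomEquiv _).symm fun i => secOf M (m i)

theorem toSect_secπ (T : Over E) (v : I →₀ Fn T.left) :
    toSect M T (appOn (secπ M m) T (eL T v)) =
      Finsupp.linearCombination (Fn T.left) (fun i => res M T.hom (m i)) v := by
  rw [← pi_eL, Finsupp.linearCombination_apply, Finsupp.linearCombination_apply, map_finsuppSum]
  refine Finsupp.sum_congr fun i _ => ?_
  rw [toSect_smul]
  congr 1
  exact congrArg (toSect M T) (gen_freeHomEquiv_symm (fun i => secOf M (m i)) T i)

variable (hc : Cart M E) (hm : Function.Surjective (Finsupp.linearCombination (Fn E) m))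
include hc hm

theorem secπ_surjective (T : Over E) (hT : Aff T.left) (x : (M.over E).val.obj (op T)) :
    ∃ y, appOn (secπ M m) T y = x := by
  obtain ⟨z, hz⟩ := ((isBaseChange_iff_bijective _).1 ((isBC_iff M T).1 (hc _ T.hom hT))).2 (toSect M T x)
  suffices h : ∀ z, ∃ v : I →₀ Fn T.left,
      Finsupp.linearCombination (Fn T.left) (fun i => res M T.hom (m i)) v = (res₀ M T).liftBaseChange (Fn T.left) z by
    obtain ⟨v, hv⟩ := h z
    exact ⟨eL T v, (toSect_bijective M T).1 (by rw [toSect_secπ, hv, hz])⟩
  intro z
  induction z using TensorProduct.induction_on with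
  | zero => exact ⟨0, by simp⟩
  | tmul a y =>
    obtain ⟨v, rfl⟩ := hm y
    refine ⟨a • v.mapRange (rmap T.hom) (map_zero _), ?_⟩
    rw [map_smul, LinearMap.liftBaseChange_tmul]
    congr 1
    rw [Finsupp.linearCombination_apply, Finsupp.linearCombination_apply, map_finsuppSum]
    refine (sum_mapRange_smul (rmap T.hom) (map_zero _) v (fun i => res M T.hom (m i))).trans ?_
    exact Finsupp.sum_congr fun i _ => (res_smul M T.hom _ _).symm
  | add z w hz hw =>
    obtain ⟨a, ha⟩ := hz
    obtain ⟨b, hb⟩ := hw
    exact ⟨a + b, by rw [map_add, map_add, ha, hb]⟩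

variable {J : Type (u + 1)} (r : J → I →₀ Fn E)
  (hr : Submodule.span (Fn E) (Set.range r) = LinearMap.ker (Finsupp.linearCombination (Fn E) m))
include hr

theorem secπ_relations (T : Over E) (hT : Aff T.left) (v : I →₀ Fn T.left)
    (hv : appOn (secπ M m) T (eL T v) = 0) :
    v ∈ Submodule.span (Fn T.left) (Set.range fun j => (r j).mapRange (rmap T.hom) (map_zero _)) := by
  replace hv : Finsupp.linearCombination (Fn T.left) (fun i => res M T.hom (m i)) v = 0 :=
    ((toSect_secπ M m T v).symm.trans (congrArg (toSect M T) hv)).trans (map_zero _)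
  let l := Finsupp.linearCombination (Fn E) m
  let Φ : (I →₀ Fn E) →ₗ[Fn E] (I →₀ Fn T.left) :=
    Finsupp.mapRange.linearMap (Algebra.linearMap (Fn E) (Fn T.left))
  let z : Fn T.left ⊗[Fn E] (I →₀ Fn E) := v.sum fun i a => a ⊗ₜ Finsupp.single i 1
  have hz : Φ.liftBaseChange (Fn T.left) z = v := by
    rw [map_finsuppSum]
    conv_rhs => rw [← Finsupp.sum_single v]
    refine Finsupp.sum_congr fun i _ => ?_
    simp [Φ, Finsupp.mapRange_single]
  have h0 : l.lTensor (Fn T.left) z = 0 := by
    refine ((isBaseChange_iff_bijective _).1 ((isBC_iff M T).1 (hc _ T.hom hT))).1 ?_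
    rw [map_zero, liftBaseChange_lTensor, map_finsuppSum]
    refine Eq.trans ?_ hv
    rw [Finsupp.linearCombination_apply]
    refine Finsupp.sum_congr fun i _ => ?_
    simp [l]
  obtain ⟨w, hw⟩ := exists_lTensor_ker l hm z h0
  rw [← hz, ← hw]
  clear hw
  induction w using TensorProduct.induction_on with
  | zero => simp
  | add x y hx hy => rw [map_add, map_add]; exact add_mem hx hy
  | tmul a s =>
    rw [LinearMap.lTensor_tmul, LinearMap.liftBaseChange_tmul]
    refine Submodule.smul_mem _ _ ?_
    suffices H : ∀ s ∈ Submodule.span (Fn E) (Set.range r), Φ s ∈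
        Submodule.span (Fn T.left) (Set.range fun j => (r j).mapRange (rmap T.hom) (map_zero _)) from
      H s.1 (hr.ge s.2)
    intro s hs
    induction hs using Submodule.span_induction with
    | mem s hs =>
      obtain ⟨j, rfl⟩ := hs
      exact Submodule.subset_span ⟨j, rfl⟩
    | zero => simp
    | add a b _ _ ha hb => rw [map_add]; exact add_mem ha hb
    | smul a s _ hs =>
      rw [map_smul, ← algebraMap_smul (Fn T.left) a]
      exact Submodule.smul_mem _ _ hs

/-- Generators and relations of the sections present the restriction to the slice. -/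
theorem exists_presentation : ∃ P : (M.over E).Presentation, P.generators.I = I ∧ P.relations.I = J := by
  have hrel : ∀ j, appOn (secπ M m) (Over.mk (𝟙 E)) (eL (Over.mk (𝟙 E)) (r j)) = 0 := fun j => by
    refine (toSect_bijective M _).1 (((toSect_secπ M m (Over.mk (𝟙 E)) (r j)).trans ?_).trans (map_zero _).symm)
    refine Eq.trans ?_ (LinearMap.mem_ker.1 (hr.le (Submodule.subset_span ⟨j, rfl⟩)))
    exact congrArg (fun g => Finsupp.linearCombination (Fn E) g (r j)) (funext fun i => res_id M E (m i))
  choose y hy using fun j => exists_kernel_sectionOn (secπ M m) _ _ (hrel j)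
  exact ⟨{ generators := { I := I, s := fun i => secOf M (m i),
                           epi := epi_of_local (secπ M m) (secπ_surjective M m hc hm) }
           relations := { I := J, s := fun j => secTop _ (y j),
                          epi := epi_of_relations (secπ M m) (kernel.ι (secπ M m)) (kernel.condition _) r y hy
                            (secπ_relations M m hc hm r hr) } }, rfl, rfl⟩

end presentation

/-- Over a Noetherian affine object a quasi-coherent module with finite sections has a finite presentation. -/
theorem exists_finite_presentation (hc : Cart M E) [IsNoetherianRing (Fn E)]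
    [Module.Finite (Fn E) (sectModEt M E)] : ∃ P : (M.over E).Presentation, P.IsFinite := by
  obtain ⟨n, m, hm⟩ := Module.Finite.exists_fin (R := Fn E) (M := sectModEt M E)
  let m' : ULift.{u + 1, 0} (Fin n) → sectModEt M E := fun i => m i.down
  have hm' : Function.Surjective (Finsupp.linearCombination (Fn E) m') := by
    rw [← LinearMap.range_eq_top, Finsupp.range_linearCombination]
    rw [eq_top_iff, ← hm]
    refine Submodule.span_mono ?_
    rintro _ ⟨i, rfl⟩
    exact ⟨⟨i⟩, rfl⟩
  obtain ⟨k, r, hr⟩ := Submodule.fg_iff_exists_fin_generating_family.1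
    (IsNoetherian.noetherian (LinearMap.ker (Finsupp.linearCombination (Fn E) m')))
  let r' : ULift.{u + 1, 0} (Fin k) → ULift.{u + 1, 0} (Fin n) →₀ Fn E := fun j => r j.down
  have hr' : Submodule.span (Fn E) (Set.range r') = LinearMap.ker (Finsupp.linearCombination (Fn E) m') := by
    rw [← hr]
    refine congrArg _ (Set.ext fun x => ⟨fun ⟨j, hj⟩ => ⟨j.down, hj⟩, fun ⟨j, hj⟩ => ⟨⟨j⟩, hj⟩⟩)
  obtain ⟨P, hI, hJ⟩ := exists_presentation M m' hc hm' r' hr'
  have h1 : Finite P.generators.I := by rw [hI]; infer_instance
  have h2 : Finite P.relations.I := by rw [hJ]; infer_instance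
  exact ⟨P, { isFiniteType_generators := ⟨h1⟩, isFiniteType_relations := ⟨h2⟩ }⟩

theorem isNoetherianRing_fn (hX : IsLocNoethSp X) (hE : Aff E) : IsNoetherianRing (Fn E) := by
  haveI : IsAffine E.obj.left.left := hE
  haveI := AlgSpDec.isLocallyNoetherian_chart E.property hX
  exact IsLocallyNoetherian.component_noetherian ⟨⊤, isAffineOpen_top E.obj.left.left⟩

theorem isFinitePresentation_of_finite (hX : IsLocNoethSp X) [M.IsQuasicoherent]
    (h : ∀ E : EtOver X, Aff E → Module.Finite (Fn E) (sectModEt M E)) : M.IsFinitePresentation := by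
  have key : ∀ E : {E : EtOver X // Aff E}, ∃ P : (M.over E.1).Presentation, P.IsFinite := fun E => by
    haveI := isNoetherianRing_fn hX E.2
    haveI := h E.1 E.2
    exact exists_finite_presentation M (cart_of_isQuasicoherent M E.2)
  choose P hP using key
  let q : SheafOfModules.QuasicoherentData.{u + 1, u + 1, u, u + 1} M :=
    { I := {E : EtOver X // Aff E}
      X := fun E => E.1
      coversTop := fun E => covering_of_affine fun W j hW =>
        (Sieve.mem_ofObjects_iff _ _).2 ⟨⟨W, hW⟩, ⟨𝟙 W⟩⟩
      presentation := P }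
  haveI hq : q.IsFinitePresentation := { isFinite_presentation := fun i => hP i }
  exact { exists_quasicoherentData := ⟨q, hq⟩ }

end Groth.Agent.AlgSpWA

end
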