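import Groth.Agent.AlgSpWA.FpqcHom
import Groth.Agent.AlgSpLib.Rep

/-!
# Colimits of algebraic spaces can be checked on an fpqc covering
-/

set_option autoImplicit false
set_option backward.isDefEq.respectTransparency false
set_option backward.isDefEq.respectTransparency.types false

noncomputable section

universe w v u

open CategoryTheory CategoryTheory.Limits AlgebraicGeometry Opposite AlgSp

namespace Groth.Agent.AlgSpWA.FpqcColim

open Groth.Agent.AlgSpLib

variable {S : Scheme.{u}} {B : Space S} {I : Type v} [Category.{w} I] {D : I ⥤ Over B} (c : Cocone D)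
  {W : Over B} (u : W ⟶ c.pt)

theorem left_hom_ext {P Q : Over B} {f g : P ⟶ Q} (h : f.left.hom = g.left.hom) : f = g :=
  Over.OverMorphism.ext (ObjectProperty.hom_ext _ h)

theorem left_hom_w {P Q : Over B} (f : P ⟶ Q) : f.left.hom ≫ Q.hom.hom = P.hom.hom :=
  congrArg InducedCategory.Hom.hom (Over.w f)

theorem ι_w {i k : I} (f : i ⟶ k) : (D.map f).left.hom ≫ (c.ι.app k).left.hom = (c.ι.app i).left.hom :=
  congrArg (fun z : D.obj i ⟶ c.pt => z.left.hom) (c.w f)

/-- The pullback of a diagram along a map to the cocone point. -/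
def pbObj (i : I) : Over B :=
  Over.mk (Y := (⟨pullback (c.ι.app i).left.hom u.left.hom,
      isAlgSpace_pullback (D.obj i).left.property W.left.property c.pt.left.property _ _⟩ : Space S))
    (ObjectProperty.homMk (pullback.snd (c.ι.app i).left.hom u.left.hom ≫ W.hom.hom))

/-- Transition maps of the pulled back diagram. -/
def pbMap {i k : I} (f : i ⟶ k) : pbObj c u i ⟶ pbObj c u k :=
  Over.homMk (ObjectProperty.homMk (pullback.map _ _ _ _ (D.map f).left.hom (𝟙 _) (𝟙 _)
    (by rw [Category.comp_id, ι_w]) (by simp))) (ObjectProperty.hom_ext _ (by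
      show pullback.lift _ _ _ ≫ pullback.snd _ _ ≫ W.hom.hom = pullback.snd _ _ ≫ W.hom.hom
      rw [pullback.lift_snd_assoc, Category.comp_id]))

/-- The pulled back diagram. -/
def pb : I ⥤ Over B where
  obj := pbObj c u
  map f := pbMap c u f
  map_id i := left_hom_ext (by
    show pullback.lift _ _ _ = 𝟙 (pullback _ _)
    ext
    · simp
    · simp)
  map_comp f g := left_hom_ext (by
    show pullback.lift _ _ _ =
      pullback.lift _ _ _ ≫ pullback.lift _ _ _
    ext <;> simp)

/-- Projection to the diagram. -/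
def pbα : pb c u ⟶ D where
  app i := Over.homMk (ObjectProperty.homMk (pullback.fst _ _)) (ObjectProperty.hom_ext _ (by
    show pullback.fst _ _ ≫ (D.obj i).hom.hom = pullback.snd _ _ ≫ W.hom.hom
    rw [← left_hom_w (c.ι.app i), ← left_hom_w u, pullback.condition_assoc]
    rfl))
  naturality i k f := left_hom_ext (by
    show pullback.lift _ _ _ ≫ pullback.fst _ _ = pullback.fst _ _ ≫ _
    simp)

/-- Projection to the base of the pullback. -/
def pbι : pb c u ⟶ (Functor.const I).obj W where
  app i := Over.homMk (ObjectProperty.homMk (pullback.snd _ _)) rfl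
  naturality i k f := left_hom_ext (by
    show pullback.lift _ _ _ ≫ pullback.snd _ _ = pullback.snd _ _ ≫ 𝟙 _
    simp)

theorem isPullback_pb (i : I) :
    IsPullback ((pbι c u).app i).left.hom ((pbα c u).app i).left.hom u.left.hom (c.ι.app i).left.hom :=
  (IsPullback.of_hasPullback (c.ι.app i).left.hom u.left.hom).flip

/-- The check of a colimit on an fpqc covering. -/
theorem nonempty_isColimit {κ : Type u} (Ua : κ → Over B) (ua : ∀ a, Ua a ⟶ c.pt)
    (hcov : IsFpqcCover (fun a => (Ua a).left.obj) (fun a => (ua a).left.hom))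
    (h₁ : ∀ (a : κ) (Da : I ⥤ Over B) (α : Da ⟶ D) (ι : Da ⟶ (Functor.const I).obj (Ua a)),
      (∀ i, IsPullback (ι.app i).left.hom (α.app i).left.hom (ua a).left.hom (c.ι.app i).left.hom) →
        Nonempty (IsColimit (Cocone.mk (Ua a) ι)))
    (h₂ : ∀ (a b : κ) (Uab : Over B) (pa : Uab ⟶ Ua a) (pb : Uab ⟶ Ua b),
      IsPullback pa.left.hom pb.left.hom (ua a).left.hom (ua b).left.hom →
      ∀ (Dab : I ⥤ Over B) (α : Dab ⟶ D) (ι : Dab ⟶ (Functor.const I).obj Uab),
        (∀ i, IsPullback (ι.app i).left.hom (α.app i).left.hom (pa ≫ ua a).left.hom (c.ι.app i).left.hom) →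
          Nonempty (IsColimit (Cocone.mk Uab ι))) :
    Nonempty (IsColimit c) := by
  have H : ∀ a, IsColimit (Cocone.mk (Ua a) (pbι c (ua a))) := fun a =>
    (h₁ a _ (pbα c (ua a)) _ (isPullback_pb c (ua a))).some
  let piece : ∀ (s : Cocone D) (a : κ), Ua a ⟶ s.pt := fun s a =>
    (H a).desc (Cocone.mk s.pt (pbα c (ua a) ≫ s.ι))
  have hpiece : ∀ (s : Cocone D) (a : κ) (i : I),
      (pbι c (ua a)).app i ≫ piece s a = (pbα c (ua a)).app i ≫ s.ι.app i := fun s a i =>
    (H a).fac (Cocone.mk s.pt (pbα c (ua a) ≫ s.ι)) i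
  have hcompat : ∀ (s : Cocone D) (a b : κ),
      pullback.fst (ua a).left.hom (ua b).left.hom ≫ (piece s a).left.hom =
        pullback.snd (ua a).left.hom (ua b).left.hom ≫ (piece s b).left.hom := by
    intro s a b
    let Uab : Over B := Over.mk (Y := (⟨pullback (ua a).left.hom (ua b).left.hom,
        isAlgSpace_pullback (Ua a).left.property (Ua b).left.property c.pt.left.property _ _⟩ : Space S))
      (ObjectProperty.homMk (pullback.fst (ua a).left.hom (ua b).left.hom ≫ (Ua a).hom.hom))
    let pa : Uab ⟶ Ua a := Over.homMk (ObjectProperty.homMk (pullback.fst _ _)) rfl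
    let pb' : Uab ⟶ Ua b := Over.homMk (ObjectProperty.homMk (pullback.snd _ _)) (ObjectProperty.hom_ext _ (by
      show pullback.snd _ _ ≫ (Ua b).hom.hom = pullback.fst _ _ ≫ (Ua a).hom.hom
      rw [← left_hom_w (ua a), ← left_hom_w (ua b), pullback.condition_assoc]))
    have Hab := (h₂ a b Uab pa pb' (IsPullback.of_hasPullback _ _) _ (pbα c (pa ≫ ua a)) _
      (isPullback_pb c (pa ≫ ua a))).some
    suffices e : pa ≫ piece s a = pb' ≫ piece s b from congrArg (fun z : Uab ⟶ s.pt => z.left.hom) e
    refine Hab.hom_ext fun i => ?_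
    have key : ∀ (e : κ) (p : Uab ⟶ Ua e), p ≫ ua e = pa ≫ ua a →
        (pbι c (pa ≫ ua a)).app i ≫ p ≫ piece s e = (pbα c (pa ≫ ua a)).app i ≫ s.ι.app i := by
      intro e p hp
      let m : pbObj c (pa ≫ ua a) i ⟶ pbObj c (ua e) i :=
        Over.homMk (ObjectProperty.homMk (pullback.map _ _ _ _ (𝟙 _) p.left.hom (𝟙 _) (by simp) (by
          rw [Category.comp_id]
          exact (congrArg (fun z : Uab ⟶ c.pt => z.left.hom) hp).symm))) (ObjectProperty.hom_ext _ (by
            show pullback.lift _ _ _ ≫ pullback.snd _ _ ≫ (Ua e).hom.hom = pullback.snd _ _ ≫ Uab.hom.hom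
            rw [pullback.lift_snd_assoc, Category.assoc, left_hom_w p]))
      have e₁ : m ≫ (pbι c (ua e)).app i = (pbι c (pa ≫ ua a)).app i ≫ p := left_hom_ext (by
        show pullback.lift _ _ _ ≫ pullback.snd _ _ = pullback.snd _ _ ≫ _
        rw [pullback.lift_snd])
      have e₂ : m ≫ (pbα c (ua e)).app i = (pbα c (pa ≫ ua a)).app i := left_hom_ext (by
        show pullback.lift _ _ _ ≫ pullback.fst _ _ = pullback.fst _ _
        rw [pullback.lift_fst, Category.comp_id])
      rw [← Category.assoc, ← e₁, Category.assoc, hpiece]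
      exact (Category.assoc _ _ _).symm.trans (congrArg (· ≫ s.ι.app i) e₂)
    exact (key a pa rfl).trans (key b pb' (left_hom_ext pullback.condition.symm)).symm
  choose gl hgl using fun s : Cocone D =>
    FpqcHom.exists_glue _ hcov s.pt.left.property (fun a => (piece s a).left.hom) (hcompat s)
  let desc : ∀ s : Cocone D, c.pt ⟶ s.pt := fun s =>
    Over.homMk (ObjectProperty.homMk (gl s)) (ObjectProperty.hom_ext _ (FpqcHom.hom_ext _ hcov B.property _ _
      fun a => by
        show (ua a).left.hom ≫ gl s ≫ s.pt.hom.hom = (ua a).left.hom ≫ c.pt.hom.hom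
        rw [← Category.assoc, hgl, left_hom_w, left_hom_w]))
  have hdesc : ∀ s a, ua a ≫ desc s = piece s a := fun s a => left_hom_ext (hgl s a)
  refine ⟨{ desc := desc, fac := fun s i => left_hom_ext ?_, uniq := fun s m hm => left_hom_ext ?_ }⟩
  · refine FpqcHom.hom_ext _
      (isFpqcCover_of_isPullback c.pt.left.property (D.obj i).left.property (fun a => (Ua a).left.property)
        (fun a => IsPullback.of_hasPullback (c.ι.app i).left.hom (ua a).left.hom) hcov)
      s.pt.left.property _ _ fun a => ?_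
    show pullback.fst _ _ ≫ (c.ι.app i).left.hom ≫ gl s = pullback.fst _ _ ≫ (s.ι.app i).left.hom
    rw [pullback.condition_assoc, hgl]
    exact congrArg (fun z : pbObj c (ua a) i ⟶ s.pt => z.left.hom) (hpiece s a i)
  · refine FpqcHom.hom_ext _ hcov s.pt.left.property _ _ fun a => ?_
    refine congrArg (fun z : Ua a ⟶ s.pt => z.left.hom) (?_ : ua a ≫ m = ua a ≫ desc s)
    rw [hdesc]
    refine (H a).hom_ext fun i => ?_
    refine Eq.trans ?_ (hpiece s a i).symm
    show (pbι c (ua a)).app i ≫ ua a ≫ m = _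
    rw [← hm i, ← Category.assoc, ← Category.assoc]
    exact congrArg (· ≫ m) (left_hom_ext (isPullback_pb c (ua a) i).w)

end Groth.Agent.AlgSpWA.FpqcColim

end
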