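import Groth.Agent.FpqcSpace13.Main
import Groth.Agent.AlgSpLib.Covers
import Groth.Agent.AlgSpDec.Glue

/-!
# Morphisms of algebraic spaces are local for fpqc coverings

The lifts of a point through an fpqc covering form a covering sieve, and a space is a sheaf for it.
-/

set_option autoImplicit false
set_option backward.isDefEq.respectTransparency false
set_option backward.isDefEq.respectTransparency.types false

noncomputable section

universe u

open CategoryTheory CategoryTheory.Limits AlgebraicGeometry Opposite AlgSp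

namespace Groth.Agent.AlgSpWA.FpqcHom

open Groth.Agent.AlgSpDec Groth.Agent.AlgSpLib Groth.Agent.FpqcSpace13

variable {S : Scheme.{u}} {ι : Type u} {X : Sp S} {Xi : ι → Sp S} (g : ∀ i, Xi i ⟶ X)

/-- The sieve of lifts of a point through a family. -/
def liftSieve {T : Over S} (t : (yon S).obj T ⟶ X) : Sieve T where
  arrows A φ := ∃ (i : ι) (l : (yon S).obj A ⟶ Xi i), l ≫ g i = (yon S).map φ ≫ t
  downward_closed := by
    rintro A A' φ ⟨i, l, hl⟩ ψ
    exact ⟨i, (yon S).map ψ ≫ l, by rw [Category.assoc, hl, Functor.map_comp, Category.assoc]⟩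

theorem mem_fpqcJ_of_openCover {T : Over S} (𝒰 : T.left.OpenCover) (R : Sieve T)
    (h : ∀ i, R (Over.homMk (U := Over.mk (𝒰.f i ≫ T.hom)) (𝒰.f i) rfl)) : R ∈ fpqcJ S T := by
  rw [GrothendieckTopology.mem_over_iff]
  exact Scheme.fppfTopology_le_fpqcTopology _
    ((GrothendieckTopology.mem_over_iff _ _).1 (mem_J_of_openCover 𝒰 R h))

/-- The lifts through an fpqc covering form a covering sieve. -/
theorem liftSieve_mem {g : ∀ i, Xi i ⟶ X} (hg : IsFpqcCover Xi g) {T : Over S} (t : (yon S).obj T ⟶ X) :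
    liftSieve g t ∈ fpqcJ S T := by
  let R₀ : Sieve T := Sieve.ofArrows (fun U : T.left.affineOpens => Over.mk (U.1.ι ≫ T.hom))
    fun U => Over.homMk U.1.ι rfl
  have hR₀ : R₀ ∈ fpqcJ S T := mem_fpqcJ_of_openCover
    (T.left.openCoverOfIsOpenCover (fun U : T.left.affineOpens => U.1)
      (TopologicalSpace.Opens.IsBasis.isOpenCover (Scheme.isBasis_affineOpens _)))
    _ fun U => Sieve.ofArrows_mk _ _ U
  refine (fpqcJ S).transitive hR₀ _ fun A φ hφ => ?_
  obtain ⟨U, k, rfl⟩ := (Sieve.mem_ofArrows_iff _ _ φ).1 hφ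
  rw [Sieve.pullback_comp]
  refine (fpqcJ S).pullback_stable _ ?_
  let Z : Over S := Over.mk (U.1.ι ≫ T.hom)
  haveI : IsAffine Z.left := U.2
  obtain ⟨m, W, c, hW, hc, hs, hl⟩ := hg.2 Z U.2 ((yon S).map (Over.homMk U.1.ι rfl) ≫ t)
  let Wu : ULift.{u} (Fin m) → Over S := fun j => W j.down
  let q : sigmaOver Wu ⟶ Z := Over.homMk (Sigma.desc fun j => (c j.down).left) (Sigma.hom_ext _ _ fun j => by
    simp only [sigmaOver, Over.mk_hom, Sigma.ι_desc_assoc, Sigma.ι_desc]
    exact Over.w (c j.down))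
  have hq : ∀ j, sigmaι Wu j ≫ q = c j.down := fun j => Over.OverMorphism.ext (Sigma.ι_desc _ _)
  haveI : Flat q.left :=
    (IsZariskiLocalAtSource.iff_of_openCover (P := @Flat) (sigmaOpenCover fun j => (Wu j).left)).2 fun j => by
      show Flat ((sigmaι Wu j).left ≫ q.left)
      rw [← Over.comp_left, hq]
      exact hc j.down
  haveI : Surjective q.left := ⟨fun z => by
    obtain ⟨j, w, rfl⟩ := hs z
    exact ⟨(sigmaι Wu ⟨j⟩).left w, by rw [← Scheme.Hom.comp_apply, ← Over.comp_left, hq]⟩⟩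
  haveI : ∀ j, IsAffine (Wu j).left := fun j => hW j.down
  haveI : IsAffine (sigmaOver Wu).left := inferInstanceAs (IsAffine (∐ fun j => (Wu j).left))
  haveI : QuasiCompact q.left := inferInstance
  refine (fpqcJ S).transitive (S := Sieve.generate (Presieve.singleton q)) ?_ _ ?_
  · rw [GrothendieckTopology.mem_over_iff]
    refine GrothendieckTopology.superset_covering _ ?_
      (Precoverage.generate_mem_toGrothendieck (Scheme.Hom.singleton_mem_fpqcPrecoverage q.left))
    rw [Sieve.generate_le_iff]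
    rintro _ _ ⟨⟩
    rw [Sieve.overEquiv_iff]
    exact ⟨sigmaOver Wu, Over.homMk (𝟙 _) (by simp), q, Presieve.singleton_self q, by ext; simp⟩
  · rintro B _ ⟨_, ψ, _, ⟨⟩, rfl⟩
    rw [Sieve.pullback_comp]
    refine (fpqcJ S).pullback_stable _ (mem_fpqcJ_of_openCover (sigmaOpenCover fun j => (Wu j).left) _ fun j => ?_)
    obtain ⟨i, l, hl⟩ := hl j.down
    let e : Over.mk ((sigmaOpenCover fun j => (Wu j).left).f j ≫ (sigmaOver Wu).hom) ⟶ W j.down :=
      Over.homMk (𝟙 _) (by
        change 𝟙 _ ≫ (Wu j).hom = Sigma.ι (fun j => (Wu j).left) j ≫ Sigma.desc _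
        rw [Sigma.ι_desc, Category.id_comp])
    refine ⟨i, (yon S).map e ≫ l, ?_⟩
    rw [Category.assoc, hl]
    simp only [← Category.assoc, ← Functor.map_comp]
    congr 2
    rw [← hq]
    simp only [← Category.assoc]
    congr 1

variable {B : Sp S}

/-- Morphisms to an algebraic space agree if they agree on an fpqc covering. -/
theorem hom_ext (hg : IsFpqcCover Xi g) (hB : IsAlgSpace B) (a b : X ⟶ B) (h : ∀ i, g i ≫ a = g i ≫ b) :
    a = b := by
  have key : ∀ (T : Over S) (t : (yon S).obj T ⟶ X), t ≫ a = t ≫ b := fun T t =>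
    hom_ext_fpqc hB _ (liftSieve_mem hg t) _ _ fun A φ ⟨i, l, hl⟩ => by
      rw [← Category.assoc, ← hl, Category.assoc, h i, ← Category.assoc, hl, Category.assoc]
  refine Sheaf.hom_ext (NatTrans.ext (funext fun T => ConcreteCategory.hom_ext _ _ fun x => ?_))
  have h' := congrArg (J S).uliftYonedaEquiv (key T.unop ((J S).uliftYonedaEquiv.symm x))
  rw [GrothendieckTopology.uliftYonedaEquiv_comp, GrothendieckTopology.uliftYonedaEquiv_comp,
    Equiv.apply_symm_apply] at h'
  exact h'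

/-- Compatible morphisms on an fpqc covering glue. -/
theorem exists_glue (hg : IsFpqcCover Xi g) (hB : IsAlgSpace B) (bi : ∀ i, Xi i ⟶ B)
    (h : ∀ i j, pullback.fst (g i) (g j) ≫ bi i = pullback.snd (g i) (g j) ≫ bi j) :
    ∃ b : X ⟶ B, ∀ i, g i ≫ b = bi i := by
  have hwd : ∀ {A : Over S} {i i' : ι} (l : (yon S).obj A ⟶ Xi i) (l' : (yon S).obj A ⟶ Xi i'),
      l ≫ g i = l' ≫ g i' → l ≫ bi i = l' ≫ bi i' := fun {A i i'} l l' e => by
    have := congrArg (pullback.lift l l' e ≫ ·) (h i i')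
    simpa using this
  have hsh := (isSheaf_iff_isSheaf_of_type _ _).1 (FpqcSpace13.isSheaf_fpqc ⟨B, hB⟩)
  have glue : ∀ (T : Over S) (t : (yon S).obj T ⟶ X), ∃ b : (yon S).obj T ⟶ B,
      ∀ ⦃A : Over S⦄ (φ : A ⟶ T) (i : ι) (l : (yon S).obj A ⟶ Xi i), l ≫ g i = (yon S).map φ ≫ t →
        (yon S).map φ ≫ b = l ≫ bi i := by
    intro T t
    let fam : Presieve.FamilyOfElements B.obj (liftSieve g t).arrows := fun A φ hφ =>
      (J S).uliftYonedaEquiv (hφ.choose_spec.choose ≫ bi hφ.choose)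
    have hfam : ∀ {A : Over S} (φ : A ⟶ T) (hφ : liftSieve g t φ) (i : ι) (l : (yon S).obj A ⟶ Xi i),
        l ≫ g i = (yon S).map φ ≫ t → fam φ hφ = (J S).uliftYonedaEquiv (l ≫ bi i) := fun φ hφ i l hl => by
      show (J S).uliftYonedaEquiv (hφ.choose_spec.choose ≫ bi hφ.choose) = _
      rw [hwd _ _ (hφ.choose_spec.choose_spec.trans hl.symm)]
    have hc : fam.Compatible := by
      rw [Presieve.compatible_iff_sieveCompatible]
      intro A A' φ ψ hφ
      have hl := hφ.choose_spec.choose_spec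
      rw [hfam (ψ ≫ φ) _ hφ.choose ((yon S).map ψ ≫ hφ.choose_spec.choose)
        (by rw [Category.assoc, hl, Functor.map_comp, Category.assoc]), Category.assoc]
      exact (uliftYonedaEquiv_precomp ψ _).symm
    refine ⟨(J S).uliftYonedaEquiv.symm (((hsh _ (liftSieve_mem hg t)).amalgamate fam hc)),
      fun A φ i l hl => (J S).uliftYonedaEquiv.injective ?_⟩
    rw [← uliftYonedaEquiv_precomp, Equiv.apply_symm_apply,
      Presieve.IsSheafFor.valid_glue (hsh _ (liftSieve_mem hg t)) hc φ ⟨i, l, hl⟩, hfam φ _ i l hl]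
  choose b hb using glue
  have uniq : ∀ (T : Over S) (t : (yon S).obj T ⟶ X) (b' : (yon S).obj T ⟶ B),
      (∀ ⦃A : Over S⦄ (φ : A ⟶ T) (i : ι) (l : (yon S).obj A ⟶ Xi i), l ≫ g i = (yon S).map φ ≫ t →
        (yon S).map φ ≫ b' = l ≫ bi i) → b' = b T t := fun T t b' hb' =>
    hom_ext_fpqc hB _ (liftSieve_mem hg t) _ _ fun A φ ⟨i, l, hl⟩ => by rw [hb' φ i l hl, hb T t φ i l hl]
  have nat : ∀ {T T' : Over S} (ψ : T' ⟶ T) (t : (yon S).obj T ⟶ X),
      b T' ((yon S).map ψ ≫ t) = (yon S).map ψ ≫ b T t := fun {T T'} ψ t =>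
    (uniq T' _ _ fun A φ i l hl => by
      rw [← Category.assoc, ← Functor.map_comp]
      exact hb T t (φ ≫ ψ) i l (by rw [hl, Functor.map_comp, Category.assoc])).symm
  let η : X.obj ⟶ B.obj :=
    { app := fun T => TypeCat.ofHom fun x =>
        (J S).uliftYonedaEquiv (b T.unop ((J S).uliftYonedaEquiv.symm x))
      naturality := fun T T' ψ => by
        refine ConcreteCategory.hom_ext _ _ fun x => ?_
        show (J S).uliftYonedaEquiv (b T'.unop ((J S).uliftYonedaEquiv.symm (X.obj.map ψ x))) =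
          B.obj.map ψ ((J S).uliftYonedaEquiv (b T.unop ((J S).uliftYonedaEquiv.symm x)))
        refine Eq.trans ?_ (uliftYonedaEquiv_precomp ψ.unop _).symm
        rw [← nat]
        congr 2
        apply (J S).uliftYonedaEquiv.injective
        rw [Equiv.apply_symm_apply, ← uliftYonedaEquiv_precomp, Equiv.apply_symm_apply]
        rfl }
  have hη : ∀ (T : Over S) (t : (yon S).obj T ⟶ X), t ≫ (⟨η⟩ : X ⟶ B) = b T t := fun T t => by
    apply (J S).uliftYonedaEquiv.injective
    rw [GrothendieckTopology.uliftYonedaEquiv_comp]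
    show (J S).uliftYonedaEquiv (b T ((J S).uliftYonedaEquiv.symm ((J S).uliftYonedaEquiv t))) = _
    rw [Equiv.symm_apply_apply]
  refine ⟨⟨η⟩, fun i => ?_⟩
  refine Sheaf.hom_ext (NatTrans.ext (funext fun T => ConcreteCategory.hom_ext _ _ fun x => ?_))
  let l : (yon S).obj T.unop ⟶ Xi i := (J S).uliftYonedaEquiv.symm x
  have e : l ≫ g i ≫ (⟨η⟩ : X ⟶ B) = l ≫ bi i := by
    rw [← Category.assoc, hη, ← hb T.unop (l ≫ g i) (𝟙 _) i l (by simp)]
    simp
  have e' := congrArg (J S).uliftYonedaEquiv e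
  rw [GrothendieckTopology.uliftYonedaEquiv_comp, GrothendieckTopology.uliftYonedaEquiv_comp] at e'
  simp only [l, Equiv.apply_symm_apply] at e'
  exact e'

end Groth.Agent.AlgSpWA.FpqcHom

end
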