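import Groth.Agent.AlgSpWA.AffAcyclic
import Groth.Agent.EtFound.PushExact
import Groth.Agent.SitePullUnit.DerivedClass

/-!
# Direct images along integral morphisms are exact on the small etale sites
-/

set_option autoImplicit false
set_option backward.isDefEq.respectTransparency false
set_option backward.isDefEq.respectTransparency.types false

noncomputable section

universe u

open CategoryTheory CategoryTheory.Limits AlgebraicGeometry Opposite AlgSp

namespace Groth.Agent.AlgSpWA.IntegralPush

variable {S : Scheme.{u}} {X Y : Sp S} {f : X ⟶ Y} (hf : Representable f)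

theorem isIntegralHom_bcπ (hint : IsIntegralMor f) (E : EtOver Y) [hE : IsAffine E.obj.left.left] :
    IsIntegralHom (EtOver.bcπ hf E).left := by
  obtain ⟨W, i, fst, sq, hW, hi⟩ := hint hE E.obj.hom
  let e : W ≅ (EtOver.bcObj hf E).obj.left :=
    (yon S).preimageIso (sq.isoIsPullback _ _ (hf.isPullback E.obj.hom))
  have h : e.hom ≫ EtOver.bcπ hf E = i := (yon S).map_injective (by
    simp only [e, (yon S).map_comp, Functor.preimageIso_hom, Functor.map_preimage]
    exact IsPullback.isoIsPullback_hom_snd _ _ _ _)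
  have hh : (EtOver.bcπ hf E).left = e.inv.left ≫ i.left := by
    rw [← Over.comp_left, Iso.eq_inv_comp e |>.2 h]
  rw [hh]
  infer_instance

/-- The map to the base of an etale scheme over an object. -/
def toBase (B : EtOver X) (V : B.obj.left.left.Etale) : (EtOver.ofChart B.obj.hom B.property).obj V ⟶ B :=
  EtOver.homMk (EtOver.homOfEtale V) rfl

theorem map_toBase (B : EtOver X) {V V' : B.obj.left.left.Etale} (g : V ⟶ V') :
    (EtOver.ofChart B.obj.hom B.property).map g ≫ toBase B V' = toBase B V :=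
  EtOver.hom_ext _ _ (Over.OverMorphism.ext (MorphismProperty.Over.w g))

theorem exists_lift_bc (W : EtOver Y) (V : W.obj.left.left.Etale) :
    ∃ a : (EtOver.bc hf).obj ((EtOver.ofChart W.obj.hom W.property).obj V) ⟶
        (EtOver.ofChart (EtOver.bcObj hf W).obj.hom (EtOver.bcObj hf W).property).obj
          ((EtCoh.bc (EtOver.bcπ hf W).left).obj V),
      a ≫ toBase (EtOver.bcObj hf W) _ = (EtOver.bc hf).map (toBase W V) := by
  let P := (EtOver.ofChart W.obj.hom W.property).obj V
  let m := (EtOver.bcMap hf (toBase W V)).hom.left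
  have hw : (EtOver.bcπ hf P).left ≫ V.hom = m.left ≫ (EtOver.bcπ hf W).left :=
    (congrArg CommaMorphism.left (EtOver.bcMap_snd hf (toBase W V))).symm
  let c : (EtOver.bcObj hf P).obj.left.left ⟶ ((EtCoh.bc (EtOver.bcπ hf W).left).obj V).left :=
    pullback.lift (f := V.hom) (g := (EtOver.bcπ hf W).left) (EtOver.bcπ hf P).left m.left hw
  have hc : c ≫ ((EtCoh.bc (EtOver.bcπ hf W).left).obj V).hom = m.left := pullback.lift_snd _ _ _
  let a₀ : (EtOver.bcObj hf P).obj.left ⟶
      ((EtOver.ofChart (EtOver.bcObj hf W).obj.hom (EtOver.bcObj hf W).property).obj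
        ((EtCoh.bc (EtOver.bcπ hf W).left).obj V)).obj.left :=
    Over.homMk c (by
      change c ≫ ((EtCoh.bc (EtOver.bcπ hf W).left).obj V).hom ≫ (EtOver.bcObj hf W).obj.left.hom = _
      rw [← Category.assoc, hc]
      exact Over.w m)
  have ha : a₀ ≫ EtOver.homOfEtale ((EtCoh.bc (EtOver.bcπ hf W).left).obj V) = m := Over.OverMorphism.ext hc
  exact ⟨EtOver.homMk a₀ (by
    change (yon S).map a₀ ≫ (yon S).map _ ≫ (EtOver.bcObj hf W).obj.hom = (EtOver.bcObj hf P).obj.hom
    rw [← Category.assoc, ← Functor.map_comp, ha]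
    exact EtOver.w (EtOver.bcMap hf (toBase W V))), EtOver.hom_ext _ _ ha⟩

theorem epi_pushEt_map (hint : IsIntegralMor f) {F G : AbEt X} (φ : F ⟶ G) [Epi φ] :
    Epi ((pushEt hf AddCommGrpCat.{u + 1}).map φ) := by
  refine (Sheaf.isLocallySurjective_iff_epi' (J := etTop Y) AddCommGrpCat.{u + 1}
    ((pushEt hf AddCommGrpCat.{u + 1}).map φ)).1 ⟨fun {V} s => ?_⟩
  refine QCart13.mem_etTop_of_exists _ fun y => ?_
  obtain ⟨W, k, hW, w, hy⟩ := QCart13.exists_aff_open V y
  haveI : IsAffine W.obj.left.left := hW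
  haveI := isIntegralHom_bcπ hf hint W
  let B := EtOver.bcObj hf W
  let π := (EtOver.bcπ hf W).left
  haveI : Epi ((ChartGen.restr B.obj.hom B.property).map φ) := ChartGen.epi_restr _ _ φ
  haveI : Sheaf.IsLocallySurjective ((ChartGen.restr B.obj.hom B.property).map φ) :=
    (Sheaf.isLocallySurjective_iff_epi' (J := B.obj.left.left.smallEtaleTopology) AddCommGrpCat.{u + 1} _).2
      inferInstance
  have hpush := EtFound.isLocallySurjective_push_of_propB π (EtFound.propB_integral π)
    ((ChartGen.restr B.obj.hom B.property).map φ)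
  let T := EtCoh.top W.obj.left.left
  have hs := hpush.imageSieve_mem (U := T)
    ((G.obj.map (toBase B ((EtCoh.bc π).obj T) ≫ (EtOver.bc hf).map k).op).hom s)
  obtain ⟨Vj, g, z, ⟨t, ht⟩, hz⟩ := (EtFound.mem_topology_iff _).1 hs w
  obtain ⟨a, ha⟩ := exists_lift_bc hf W Vj
  refine ⟨(EtOver.ofChart W.obj.hom W.property).obj Vj, toBase W Vj ≫ k, ⟨(F.obj.map a.op).hom t, ?_⟩, z, ?_⟩
  · refine (NatTrans.naturality_apply φ.hom a.op t).trans ?_
    refine (congrArg (G.obj.map a.op).hom ht).trans ?_
    show (G.obj.map a.op).hom ((G.obj.map ((EtOver.ofChart B.obj.hom B.property).map ((EtCoh.bc π).map g)).op).hom _) =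
      (G.obj.map ((EtOver.bc hf).map (toBase W Vj ≫ k)).op).hom s
    rw [← ConcreteCategory.comp_apply, ← G.obj.map_comp, ← ConcreteCategory.comp_apply, ← G.obj.map_comp,
      ← op_comp, ← op_comp]
    refine congrArg (fun h => (G.obj.map h).hom s) (congrArg Quiver.Hom.op ?_)
    rw [Category.assoc, ← Category.assoc ((EtOver.ofChart B.obj.hom B.property).map _), map_toBase,
      ← Category.assoc, ha, ← Functor.map_comp]
  · refine Eq.trans ?_ hy
    refine congrArg k.hom.left.left (Eq.trans ?_ hz)
    exact congrArg (fun h : Vj.left ⟶ W.obj.left.left => h z)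
      ((MorphismProperty.Over.w g).symm.trans (Category.comp_id _))

theorem preservesFiniteColimits_pushEt (hint : IsIntegralMor f) :
    PreservesFiniteColimits (pushEt hf AddCommGrpCat.{u + 1}) := by
  haveI : (pushEt hf AddCommGrpCat.{u + 1}).PreservesEpimorphisms := ⟨fun φ _ => epi_pushEt_map hf hint φ⟩
  rw [Functor.preservesFiniteColimits_iff_forall_exact_map_and_epi]
  intro E hE
  haveI := hE.mono_f
  haveI := hE.epi_g
  exact ⟨hE.exact.map_of_mono_of_preservesKernel _ inferInstance inferInstance, inferInstance⟩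

theorem isZero_rpushEt (hint : IsIntegralMor f) (q : ℕ) (hq : 0 < q) (G : AbEt X) :
    IsZero ((RpushEt hf q).obj G) := by
  obtain ⟨n, rfl⟩ : ∃ n, q = n + 1 := ⟨q - 1, by omega⟩
  exact SitePullUnit.isZero_rightDerived_of_class (pushEt hf AddCommGrpCat.{u + 1}) (fun _ => True)
    (fun _ _ _ _ => trivial) (fun E hE _ _ => haveI := hE.epi_g; epi_pushEt_map hf hint E.g) trivial n

end Groth.Agent.AlgSpWA.IntegralPush
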