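import Groth.Agent.AlgSpDec.LciLocus
import Groth.Agent.AlgSpLib.FlatAt
import Groth.Agent.S8658
import Groth.Agent.KRegLib.FpqcDescent

/-!
# Local complete intersection morphisms of algebraic spaces are fpqc local on the base
-/

set_option autoImplicit false
set_option backward.isDefEq.respectTransparency false
set_option backward.isDefEq.respectTransparency.types false

universe u

open CategoryTheory CategoryTheory.Limits AlgebraicGeometry AlgSp Groth.Agent.AlgSpLib Groth.Agent.AlgSpPts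
open Groth.Agent.KRegLib (IsLCI' forall_isKoszulAt_iff)

namespace Groth.Agent.AlgSpWA.LciFpqc

open Groth.Agent.AlgSpDec

/-- `IsLCI'` can be tested after a jointly surjective finite family of flat affine base changes. -/
theorem isLCI'_of_finite_flat_family {X Z : Scheme.{u}} [IsAffine Z] (h : X ⟶ Z) {ι : Type u} [Finite ι]
    (O : ι → Scheme.{u}) [∀ a, IsAffine (O a)] (c : ∀ a, O a ⟶ Z) [∀ a, Flat (c a)]
    (hs : ∀ z, ∃ a, z ∈ Set.range (c a)) (hl : ∀ a, IsLCI' (pullback.snd h (c a))) : IsLCI' h := by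
  let q : (∐ O) ⟶ Z := Sigma.desc c
  haveI : Flat q := IsZariskiLocalAtSource.sigmaDesc inferInstance
  haveI : Surjective q := Surjective.sigmaDesc_of_union_range_eq_univ (Set.eq_univ_of_forall fun z => by
    obtain ⟨a, ha⟩ := hs z
    exact Set.mem_iUnion.2 ⟨a, ha⟩)
  haveI : QuasiCompact q := inferInstance
  refine KRegLib.isLCI'_of_fpqc (IsPullback.of_hasPullback h q) ?_
  refine IsZariskiLocalAtTarget.of_openCover (P := IsLCI'.{u}) (sigmaOpenCover O) fun a => ?_
  have e := (IsPullback.of_hasPullback (pullback.snd h q) ((sigmaOpenCover O).f a)).paste_horiz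
    (IsPullback.of_hasPullback h q)
  rw [show (sigmaOpenCover O).f a ≫ q = c a from Sigma.ι_desc c a] at e
  let l := (IsPullback.of_hasPullback h (c a)).lift _ _ e.w
  have e' := IsPullback.of_right (h₁₁ := l) (v₁₁ := pullback.snd (pullback.snd h q) ((sigmaOpenCover O).f a))
    (h₂₁ := 𝟙 (O a)) (by rw [IsPullback.lift_fst, Category.id_comp]; exact e)
    (by rw [Category.comp_id]; exact IsPullback.lift_snd _ _ _ _) (IsPullback.of_hasPullback h (c a))
  haveI := e'.isIso_fst_of_isIso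
  exact (MorphismProperty.arrow_mk_iso_iff IsLCI'.{u}
    (Arrow.isoMk (asIso l) (Iso.refl _) e'.w)).2 (hl a)

variable {S : Scheme.{u}} {ι : Type u} {Y : Sp S} {Yi : ι → Sp S} {g : ∀ i, Yi i ⟶ Y} {X : Sp S} {f : X ⟶ Y}
  {Xi : ι → Sp S} {p : ∀ i, Xi i ⟶ Yi i} {q : ∀ i, Xi i ⟶ X}

theorem isLCIMor_iff (hY : IsAlgSpace Y) (hYi : ∀ i, IsAlgSpace (Yi i)) (hg : IsFpqcCover Yi g)
    (hX : IsAlgSpace X) (hXi : ∀ i, IsAlgSpace (Xi i)) (sq : ∀ i, IsPullback (q i) (p i) f (g i)) :
    IsLCIMor f ↔ ∀ i, IsLCIMor (p i) := by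
  obtain ⟨V, b, hb, hbs⟩ := hY.atlas
  obtain ⟨U, e, h, he, hes, hh⟩ := exists_chart_over hX hY f b
  have ha : RepWith @Etale (e ≫ pullback.fst f b) := repWith_comp he (repWith_fst f hb)
  have has : RepWith @Surjective (e ≫ pullback.fst f b) := repWith_comp hes (repWith_fst f hbs)
  have w : (e ≫ pullback.fst f b) ≫ f = (yon S).map h ≫ b := by
    rw [Category.assoc, pullback.condition, ← Category.assoc, hh]
  choose V' b₀ c hb₀ hbs₀ hc using fun i => exists_chart_over (hYi i) hY (g i) b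
  have hb' : ∀ i, RepWith @Etale (b₀ i ≫ pullback.fst (g i) b) := fun i =>
    repWith_comp (hb₀ i) (repWith_fst _ hb)
  have hbs' : ∀ i, RepWith @Surjective (b₀ i ≫ pullback.fst (g i) b) := fun i =>
    repWith_comp (hbs₀ i) (repWith_fst _ hbs)
  have hcw : ∀ i, (b₀ i ≫ pullback.fst (g i) b) ≫ g i = (yon S).map (c i) ≫ b := fun i => by
    rw [Category.assoc, pullback.condition, ← Category.assoc, hc]
  haveI : ∀ i, Flat (c i).left := fun i => hg.1 i _ b (c i) (hb' i) hb (hcw i)
  choose U' c' h' a' sU ha' has' ham' hac using fun i =>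
    exists_chart_baseChange (sq i) (hcw i) hh he hes (hb' i) (hbs' i)
  constructor
  · intro hf i
    refine (LciLocus.isLCIMor_iff (hXi i) (hYi i) (p i)).2 fun x => ?_
    obtain ⟨u, rfl⟩ := surjective_ofPt (has' i) x
    exact (LciLocus.mem_koszulSet_iff (ha' i) (hb' i) (ham' i) u).2
      (Groth.Agent.S8658.result h.left (c i).left (h' i).left (c' i).left ((sU i).map (Over.forget S))
        (hf _ b h ha hb w) u)
  · intro hp
    have hlci : ∀ i, IsLCI' (h' i).left := fun i =>
      (forall_isKoszulAt_iff _).1 (hp i _ _ (h' i) (ha' i) (hb' i) (ham' i))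
    refine (LciLocus.isLCIMor_iff hX hY f).2 fun x => ?_
    obtain ⟨u, rfl⟩ := surjective_ofPt has x
    refine (LciLocus.mem_koszulSet_iff ha hb w u).2 ((forall_isKoszulAt_iff h.left).2 ?_ u)
    refine IsZariskiLocalAtTarget.of_iSup_eq_top (fun Z : V.left.affineOpens => Z.1)
      (iSup_affineOpens_eq_top _) fun Z => ?_
    haveI : IsAffine Z.1.toScheme := Z.2
    let ζ : Over.mk (Z.1.ι ≫ V.hom) ⟶ V := Over.homMk Z.1.ι rfl
    obtain ⟨m, W, d, hWa, hdf, hds, hlift⟩ := hg.2 (Over.mk (Z.1.ι ≫ V.hom)) Z.2 ((yon S).map ζ ≫ b)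
    choose i l hl using hlift
    -- lifts to the pullback and its atlas
    let ρ : ∀ j, (yon S).obj (W j) ⟶ pullback (g (i j)) b := fun j =>
      pullback.lift (l j) ((yon S).map (d j ≫ ζ)) (by rw [hl j, Functor.map_comp, Category.assoc])
    have hr := fun j => (hb₀ (i j)).rep
    let pT : ∀ j, (hr j).pullback (ρ j) ⟶ V' (i j) := fun j => (hr j).fst' (ρ j)
    let qT : ∀ j, (hr j).pullback (ρ j) ⟶ W j := fun j => (hr j).snd (ρ j)
    have hsqT : ∀ j, pT j ≫ c (i j) = qT j ≫ d j ≫ ζ := fun j => (yon S).map_injective (by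
      rw [Functor.map_comp, ← hc, ← Category.assoc, ((hr j).isPullback' (ρ j)).w, Category.assoc,
        pullback.lift_snd, ← Functor.map_comp])
    haveI hqE : ∀ j, Etale (qT j).left := fun j => (hb₀ (i j)).property_snd (ρ j)
    haveI hqS : ∀ j, Surjective (qT j).left := fun j =>
      (hbs₀ (i j)).property _ _ _ ((hr j).isPullback (ρ j))
    have hopen : ∀ j (w : ↥(W j).left), ∃ O : (V' (i j)).left.Opens, IsAffineOpen O ∧
        O ≤ (c (i j)).left ⁻¹ᵁ Z.1 ∧ w ∈ (qT j).left '' ((pT j).left ⁻¹' (O : Set _)) := fun j w => by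
      obtain ⟨r, rfl⟩ := (qT j).left.surjective w
      have hmem : (c (i j)).left ((pT j).left r) ∈ Z.1 := by
        rw [← Scheme.Hom.comp_apply, ← Over.comp_left, hsqT j]
        exact (((qT j ≫ d j).left r) : ↥Z.1.toScheme).2
      obtain ⟨O, hO, hrO, hle⟩ := exists_isAffineOpen_mem_and_subset (U := (c (i j)).left ⁻¹ᵁ Z.1) hmem
      exact ⟨O, hO, hle, r, hrO, rfl⟩
    choose O hO hle hwO using hopen
    have hcov : ∀ j, ∃ t : Finset ↥(W j).left, ∀ w, ∃ y ∈ t,
        w ∈ (qT j).left '' ((pT j).left ⁻¹' (O j y : Set _)) := fun j => by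
      haveI := hWa j
      haveI : CompactSpace ↥(W j).left := inferInstance
      obtain ⟨t, ht⟩ := (isCompact_univ (X := ↥(W j).left)).elim_finite_subcover
        (fun y => (qT j).left '' ((pT j).left ⁻¹' (O j y : Set _)))
        (fun y => (qT j).left.isOpenMap _ ((O j y).2.preimage (pT j).left.continuous))
        fun w _ => Set.mem_iUnion.2 ⟨w, hwO j w⟩
      exact ⟨t, fun w => by
        obtain ⟨y, hy, hwy⟩ := Set.mem_iUnion₂.1 (ht (Set.mem_univ w))
        exact ⟨y, hy, hwy⟩⟩
    choose t ht using hcov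
    let A := ULift.{u} (Fin m)
    let ι' := Σ j : A, {y // y ∈ t j.down}
    let T : ι' → Scheme.{u} := fun s => (O s.1.down s.2.1).toScheme
    haveI : ∀ s, IsAffine (T s) := fun s => hO s.1.down s.2.1
    let cT : ∀ s, T s ⟶ Z.1.toScheme := fun s =>
      (c (i s.1.down)).left.resLE Z.1 (O s.1.down s.2.1) (hle _ _)
    haveI : ∀ s, Flat (cT s) := fun s => by
      dsimp only [cT]; infer_instance
    refine isLCI'_of_finite_flat_family _ T cT (fun z => ?_) fun s => ?_
    · obtain ⟨j, w, hw⟩ := hds z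
      obtain ⟨y, hy, r, hr', hrw⟩ := ht j w
      refine ⟨⟨⟨j⟩, y, hy⟩, ⟨(pT j).left r, hr'⟩, Subtype.ext ?_⟩
      rw [Scheme.Hom.coe_resLE_apply]
      show (c (i j)).left ((pT j).left r) = _
      rw [← Scheme.Hom.comp_apply, ← Over.comp_left, hsqT j, ← hw, ← hrw]
      rfl
    · -- the base change is a restriction of the lci morphism over the cover
      have s₁ := (IsPullback.of_hasPullback (h.left ∣_ Z.1) (cT s)).paste_horiz
        (isPullback_morphismRestrict h.left Z.1).flip
      rw [show cT s ≫ Z.1.ι = (O s.1.down s.2.1).ι ≫ (c (i s.1.down)).left from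
        Scheme.Hom.resLE_comp_ι _ _] at s₁
      have s₂ := (sU (i s.1.down)).map (Over.forget S)
      exact IsZariskiLocalAtTarget.of_isPullback (P := IsLCI'.{u}) (iY := (O s.1.down s.2.1).ι)
        (IsPullback.of_right (h₁₁ := s₂.lift _ _ (s₁.w.trans (Category.assoc _ _ _).symm))
          (by rw [IsPullback.lift_fst]; exact s₁) (IsPullback.lift_snd _ _ _ _) s₂)
        (hlci _)

end Groth.Agent.AlgSpWA.LciFpqc
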