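import Mathlib.Algebra.Category.ModuleCat.Presheaf.Generator
import Mathlib.Algebra.Category.ModuleCat.Presheaf.Pullback
import Mathlib.Algebra.Category.ModuleCat.Sheaf.PullbackContinuous
import Mathlib.Algebra.Category.Grp.Colimits
import Mathlib.Algebra.Category.ModuleCat.Presheaf.Colimits

/-!
# Pullbacks of modules on sites with objects one universe above the morphisms
-/

set_option autoImplicit false
set_option backward.isDefEq.respectTransparency false
set_option backward.isDefEq.respectTransparency.types false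

noncomputable section

universe u

open CategoryTheory Limits Opposite

namespace Groth.Agent.AlgSpWA.ModPullExists

open PresheafOfModules

variable {C D : Type (u + 1)} [Category.{u} C] [Category.{u} D] {F : C ⥤ D}
  {R : Dᵒᵖ ⥤ RingCat.{u + 1}} {S : Cᵒᵖ ⥤ RingCat.{u + 1}} (φ : S ⟶ F.op ⋙ R)

/-- Maps out of a free module on a representable presheaf. -/
def freeEquiv {E : Type (u + 1)} [Category.{u} E] {Q : Eᵒᵖ ⥤ RingCat.{u + 1}} {M : PresheafOfModules.{u + 1} Q} {X : E} :
    ((free Q).obj (uliftYoneda.{u + 1}.obj X) ⟶ M) ≃ M.obj (op X) :=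
  freeHomEquiv.trans uliftYonedaEquiv

theorem freeEquiv_comp {E : Type (u + 1)} [Category.{u} E] {Q : Eᵒᵖ ⥤ RingCat.{u + 1}}
    {M N : PresheafOfModules.{u + 1} Q} {X : E} (m : (free Q).obj (uliftYoneda.{u + 1}.obj X) ⟶ M) (f : M ⟶ N) :
    freeEquiv (m ≫ f) = f.app _ (freeEquiv m) := rfl

theorem isDefined_free (X : C) :
    (pushforward.{u + 1} φ).leftAdjointObjIsDefined ((free S).obj (uliftYoneda.{u + 1}.obj X)) :=
  Functor.CorepresentableBy.isCorepresentable (X := (free R).obj (uliftYoneda.{u + 1}.obj (F.obj X)))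
    { homEquiv := fun {M} => freeEquiv.trans (freeEquiv (M := (pushforward φ).obj M)).symm
      homEquiv_comp := fun {M N} g f => freeEquiv.injective (by
        dsimp
        erw [Equiv.apply_symm_apply, freeEquiv_comp]
        conv_rhs => erw [freeEquiv_comp]
        erw [Equiv.apply_symm_apply]
        rfl) }

variable (M : PresheafOfModules.{u + 1} S)

/-- The free module on all sections. -/
abbrev cop : PresheafOfModules.{u + 1} S :=
  ∐ fun m : M.Elements => (free S).obj (uliftYoneda.{u + 1}.obj m.1.unop)

/-- The map from the free module on all sections. -/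
def fromCop : cop M ⟶ M := Sigma.desc fun m => freeEquiv.symm m.2

theorem epi_fromCop : Epi (fromCop M) := by
  refine PresheafOfModules.epi_of_surjective fun {X} x => ?_
  let m : M.Elements := M.elementsMk X x
  let ιm : (free S).obj (uliftYoneda.{u + 1}.obj m.1.unop) ⟶ cop M :=
    Sigma.ι (fun m : M.Elements => (free S).obj (uliftYoneda.{u + 1}.obj m.1.unop)) m
  refine ⟨ιm.app X (ModuleCat.freeMk (ULift.up (𝟙 _))), ?_⟩
  have h : ιm ≫ fromCop M = freeEquiv.symm m.2 := Sigma.ι_desc _ _
  have h' : freeEquiv (ιm ≫ fromCop M) = x := by rw [h]; exact Equiv.apply_symm_apply _ _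
  refine Eq.trans ?_ h'
  rw [freeEquiv_comp]
  rfl

theorem pullbackObjIsDefined_eq_top : (pushforward.{u + 1} φ).leftAdjointObjIsDefined = ⊤ := by
  ext M
  simp only [Pi.top_apply, Prop.top_eq_true, iff_true]
  let g := fromCop (kernel (fromCop M)) ≫ kernel.ι (fromCop M)
  have w : g ≫ fromCop M = 0 := by simp [g]
  haveI := epi_fromCop M
  haveI := epi_fromCop (kernel (fromCop M))
  have hc : IsColimit (CokernelCofork.ofπ _ w) := by
    let S' := ShortComplex.mk _ _ w
    let T := ShortComplex.mk _ _ (kernel.condition (fromCop M))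
    let ψ : S' ⟶ T :=
      { τ₁ := fromCop _
        τ₂ := 𝟙 _
        τ₃ := 𝟙 _ }
    exact ((ShortComplex.exact_iff_of_epi_of_isIso_of_mono ψ).2
      (T.exact_of_f_is_kernel (kernelIsKernel _))).gIsCokernel
  refine Functor.leftAdjointObjIsDefined_of_isColimit hc ?_
  rintro (_ | _)
  all_goals
    exact Functor.leftAdjointObjIsDefined_colimit _ fun _ => isDefined_free φ _

theorem isRightAdjoint_pushforward : (pushforward.{u + 1} φ).IsRightAdjoint :=
  Functor.isRightAdjoint_of_leftAdjointObjIsDefined_eq_top (pullbackObjIsDefined_eq_top φ)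

end Groth.Agent.AlgSpWA.ModPullExists
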