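import Groth.Agent.KindDescent.Scheme
import Groth.Agent.CAlgOdd.H1Append
import Groth.Agent.S1125
import Groth.Prelude.Def_AlgSpMor6

/-!
# Regular immersions of schemes: base change, locality on the target, composition
-/

set_option autoImplicit false
set_option backward.isDefEq.respectTransparency false
set_option backward.isDefEq.respectTransparency.types false

universe u

open CategoryTheory CategoryTheory.Limits AlgebraicGeometry
open Groth.Agent.KRegLib Groth.Agent.RegConormal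

namespace Groth.Agent.AlgSpWA.RegImmLocal

variable {k : RegImm.Kind}

theorem cases_kind (hk : k ≠ .regular) : k = .koszul ∨ (k = .h1 ∨ k = .quasi) := by
  cases k <;> simp_all

theorem baseChange (hk : k ≠ .regular) {X Y X' Y' : Scheme.{u}} {i : Y ⟶ X} {g : X' ⟶ X} [Flat g]
    {i' : Y' ⟶ X'} {g' : Y' ⟶ Y} (sq : IsPullback g' i' i g) (hi : RegImm.IsRegularImmersion k i) :
    RegImm.IsRegularImmersion k i' := by
  rcases cases_kind hk with rfl | hk
  · exact RegImmLib.isRegularImmersion_baseChange sq hi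
  · exact ⟨MorphismProperty.of_isPullback (P := @IsImmersion) sq hi.1, fun z =>
      (KindDescent.isRegularImmersionAt_iff hk i' z).2
        (((KindDescent.isRegularImmersionAt_iff hk i _).1 (hi.2 _)).baseChange sq z)⟩

theorem of_fpqc (hk : k ≠ .regular) {X Y X' Y' : Scheme.{u}} {i : Y ⟶ X} [IsImmersion i]
    {g : X' ⟶ X} [Flat g] [Surjective g] [QuasiCompact g]
    {i' : Y' ⟶ X'} {g' : Y' ⟶ Y} (sq : IsPullback g' i' i g) (hi : RegImm.IsRegularImmersion k i') :
    RegImm.IsRegularImmersion k i := by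
  rcases cases_kind hk with rfl | hk
  · exact RegImmLib.isRegularImmersion_of_fpqc i g i' g' sq hi
  · exact KindDescent.isRegularImmersion_of_fpqc hk i g i' g' sq hi

theorem respectsIso (hk : k ≠ .regular) : (AlgSp.regImm.{u} k).RespectsIso := by
  refine MorphismProperty.RespectsIso.of_respects_arrow_iso _ fun f g e hf => ?_
  exact baseChange hk (g := e.inv.right) (IsPullback.of_horiz_isIso ⟨e.inv.w⟩) hf

theorem regImmAt_of_restrict {Z X : Scheme.{u}} (i : Z ⟶ X) (U : X.Opens)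
    (z : ↥(i ⁻¹ᵁ U).toScheme) (h : RegImm.IsRegularImmersionAt k (i ∣_ U) z) :
    RegImm.IsRegularImmersionAt k i ((i ⁻¹ᵁ U).ι z) := by
  obtain ⟨⟨V, hV⟩, hzV, hci, rs, hrs, hker⟩ := h
  refine ⟨⟨U.ι ''ᵁ V, hV.image_of_isOpenImmersion U.ι⟩, ⟨_, hzV, ?_⟩,
    (MorphismProperty.arrow_mk_iso_iff (@IsClosedImmersion) (morphismRestrictRestrict i U V)).1 hci,
    rs, hrs, ?_⟩
  · exact congrArg (fun φ : _ ⟶ X => φ z) (morphismRestrict_ι i U)
  · refine Eq.trans ?_ hker
    rw [morphismRestrict_app]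
    exact Ideal.ext fun a => (map_eq_zero_iff (Z.presheaf.map
      (eqToHom (image_morphismRestrict_preimage i U V)).op).hom
      (ConcreteCategory.bijective_of_isIso
        (Z.presheaf.map (eqToHom (image_morphismRestrict_preimage i U V)).op)).injective).symm

theorem of_restrict {Z X : Scheme.{u}} (i : Z ⟶ X) {ι : Type*} (U : ι → X.Opens) (hU : iSup U = ⊤)
    (h : ∀ a, RegImm.IsRegularImmersion k (i ∣_ U a)) : RegImm.IsRegularImmersion k i := by
  refine ⟨IsZariskiLocalAtTarget.of_iSup_eq_top (P := @IsImmersion) U hU fun a => (h a).1, fun z => ?_⟩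
  obtain ⟨a, ha⟩ := TopologicalSpace.Opens.mem_iSup.1 (hU.ge (show i z ∈ (⊤ : X.Opens) from trivial))
  exact regImmAt_of_restrict i (U a) ⟨z, ha⟩ ((h a).2 _)

theorem isZariskiLocalAtTarget (hk : k ≠ .regular) : IsZariskiLocalAtTarget (AlgSp.regImm.{u} k) := by
  have := respectsIso.{u} hk
  exact IsZariskiLocalAtTarget.mk' (fun f U hf => baseChange hk (isPullback_morphismRestrict f U).flip hf)
    fun f _ U hU h => of_restrict f U hU h

/-- Regularity of immersions descends along jointly surjective etale families. -/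
theorem of_etale_family (hk : k ≠ .regular) {Z X : Scheme.{u}} (i : Z ⟶ X)
    (h : ∀ x : X, ∃ (T : Scheme.{u}) (g : T ⟶ X), Etale g ∧ x ∈ Set.range g ∧
      RegImm.IsRegularImmersion k (pullback.snd i g)) :
    RegImm.IsRegularImmersion k i := by
  have hloc := isZariskiLocalAtTarget.{u} hk
  have : (AlgSp.regImm.{u} k).RespectsIso := respectsIso hk
  refine of_restrict i (fun U : X.affineOpens => U.1) (iSup_affineOpens_eq_top X) fun U => ?_
  choose T g hge hgx hgP using h
  have hopen : ∀ x, ∃ V : (T x).Opens, IsAffineOpen V ∧ V ≤ g x ⁻¹ᵁ U.1 ∧ (x ∈ U.1 → x ∈ g x '' V) := fun x => by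
    by_cases hx : x ∈ U.1
    · obtain ⟨t, ht⟩ := hgx x
      obtain ⟨V, hV, htV, hle⟩ := exists_isAffineOpen_mem_and_subset (U := g x ⁻¹ᵁ U.1) (x := t)
        (show g x t ∈ U.1 by rwa [ht])
      exact ⟨V, hV, hle, fun _ => ⟨t, htV, ht⟩⟩
    · exact ⟨⊥, isAffineOpen_bot _, bot_le, fun h => absurd h hx⟩
  choose V hV hle hxV using hopen
  obtain ⟨t, ht⟩ := U.2.isCompact.elim_finite_subcover (fun x => g x '' (V x : Set (T x)))
    (fun x => (g x).isOpenMap _ (V x).2) (fun x hx => Set.mem_iUnion.2 ⟨x, hxV x hx⟩)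
  let W : t → Scheme.{u} := fun a => (V a.1).toScheme
  have : ∀ a, IsAffine (W a) := fun a => hV a.1
  let p : ∀ a : t, W a ⟶ U.1.toScheme := fun a => (g a.1).resLE U.1 (V a.1) (hle a.1)
  have hp : ∀ a, p a ≫ U.1.ι = (V a.1).ι ≫ g a.1 := fun a => Scheme.Hom.resLE_comp_ι _ _
  have : ∀ a, Etale (p a) := fun a => by
    refine MorphismProperty.of_postcomp (W := @Etale) (p a) U.1.ι (show Etale U.1.ι from inferInstance) ?_
    rw [hp]; exact MorphismProperty.comp_mem _ _ _ (show Etale (V a.1).ι from inferInstance) (hge _)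
  let q : (∐ W) ⟶ U.1.toScheme := Sigma.desc p
  have : Etale q := IsZariskiLocalAtSource.sigmaDesc inferInstance
  have : Surjective q := Surjective.sigmaDesc_of_union_range_eq_univ (Set.eq_univ_of_forall fun y => by
    obtain ⟨x, hxt, s, hs, hsx⟩ := Set.mem_iUnion₂.1 (ht y.2)
    refine Set.mem_iUnion.2 ⟨⟨x, hxt⟩, ⟨s, hs⟩, Subtype.ext ?_⟩
    exact (congrArg (fun f => f ⟨s, hs⟩) (hp ⟨x, hxt⟩)).trans hsx)
  have : IsAffine U.1.toScheme := U.2
  have : QuasiCompact q := inferInstance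
  have hq : RegImm.IsRegularImmersion k (pullback.snd (i ∣_ U.1) q) := by
    refine IsZariskiLocalAtTarget.of_openCover (P := AlgSp.regImm k) (sigmaOpenCover W) fun a => ?_
    have sq₀ := IsPullback.of_hasPullback (pullback.snd (i ∣_ U.1) q) ((sigmaOpenCover W).f a)
    have sq : IsPullback (pullback.fst (pullback.snd (i ∣_ U.1) q) ((sigmaOpenCover W).f a) ≫
        pullback.fst (i ∣_ U.1) q ≫ (i ⁻¹ᵁ U.1).ι)
        (pullback.snd (pullback.snd (i ∣_ U.1) q) ((sigmaOpenCover W).f a)) i ((V a.1).ι ≫ g a.1) := by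
      have := (sq₀.paste_horiz (IsPullback.of_hasPullback (i ∣_ U.1) q)).paste_horiz
        (isPullback_morphismRestrict i U.1).flip
      simp only [Category.assoc] at this
      convert this using 1
      rw [← hp]
      exact (Sigma.ι_desc_assoc _ a _).symm
    let l := (IsPullback.of_hasPullback i (g a.1)).lift _ _ (sq.w.trans (Category.assoc _ _ _).symm)
    exact baseChange hk (IsPullback.of_right (h₁₁ := l) (by rw [IsPullback.lift_fst]; exact sq)
      (IsPullback.lift_snd _ _ _ _) (IsPullback.of_hasPullback i (g a.1))) (hgP a.1)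
  have := Groth.Agent.S1125.result.{u}
  have : IsImmersion (i ∣_ U.1) := MorphismProperty.of_pullback_snd_of_descendsAlong
    (P := @IsImmersion) (Q := @Surjective ⊓ @Flat ⊓ @LocallyOfFinitePresentation)
    ⟨⟨inferInstance, inferInstance⟩, inferInstance⟩ hq.1
  exact of_fpqc hk (IsPullback.of_hasPullback (i ∣_ U.1) q) hq

theorem isLocalAtTarget (hk : k ≠ .regular) :
    (AlgSp.regImm.{u} k).IsLocalAtTarget Scheme.etalePrecoverage := by
  have := respectsIso.{u} hk
  refine ⟨fun {X Y f R U g} hR hg hf _ => ?_, fun {X Y f R} hR h => ?_⟩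
  · have : Etale g := hR.2 hg
    exact baseChange hk (IsPullback.of_hasPullback f g) hf
  · refine of_etale_family hk f fun x => ?_
    obtain ⟨ι, T, g, rfl⟩ := R.exists_eq_ofArrows
    obtain ⟨hs, he⟩ := (Scheme.ofArrows_mem_precoverage_iff @Etale).1 hR
    obtain ⟨a, ha⟩ := hs x
    exact ⟨T a, g a, he a, ha, h ⟨a⟩⟩

theorem seqP_of_equiv {R R' : Type u} [CommRing R] [CommRing R'] (e : R ≃+* R') {n : ℕ} {f : Fin n → R}
    (hf : SeqP k f) : SeqP k fun j => e (f j) := by
  letI : Algebra R R' := e.toRingHom.toAlgebra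
  haveI : Module.Flat R R' := RingHom.Flat.of_bijective (f := e.toRingHom) e.bijective
  exact KindDescent.seqP_flat hf

theorem seqP_basicOpen {Z X : Scheme.{u}} (i : Z ⟶ X) {U : X.Opens} (hU : IsAffineOpen U)
    [IsClosedImmersion (i ∣_ U)] (g : Γ(X, U)) {n : ℕ} {f : Fin n → Γ(X, U)} (hf : SeqP k f)
    (hker : RingHom.ker (i.app U).hom = Ideal.span (Set.range f)) :
    ∃ f' : Fin n → Γ(X, X.basicOpen g), SeqP k f' ∧
      RingHom.ker (i.app (X.basicOpen g)).hom = Ideal.span (Set.range f') := by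
  obtain ⟨hU', hs⟩ := Synt29.surjective_app_of_isClosedImmersion_restrict i U hU
  letI : Algebra Γ(X, U) Γ(X, X.basicOpen g) := (X.presheaf.map (homOfLE (X.basicOpen_le g)).op).hom.toAlgebra
  haveI : IsLocalization.Away g Γ(X, X.basicOpen g) := hU.isLocalization_basicOpen g
  haveI : Module.Flat Γ(X, U) Γ(X, X.basicOpen g) := IsLocalization.flat _ (Submonoid.powers g)
  refine ⟨fun j => algebraMap Γ(X, U) Γ(X, X.basicOpen g) (f j), KindDescent.seqP_flat hf,
    (app_basicOpen_props i hU hU' hs g).2.2.trans ?_⟩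
  rw [hker, Ideal.map_span, ← Set.range_comp]
  rfl

/-- `H_1`-regular after `k`-regular is `k`-regular, for the kinds `h1` and `quasi`. -/
theorem seqAt_comp {X Y Z : Scheme.{u}} (i : Y ⟶ X) (j : Z ⟶ Y) (z : Z)
    (hi : KindDescent.SeqAt k i (j z)) (hj : KindDescent.SeqAt .h1 j z) :
    KindDescent.SeqAt k (j ≫ i) z := by
  obtain ⟨U, hU, hzU, hci, n, f, hf, hker⟩ := hi
  obtain ⟨V, hV, hzV, hcj, m, h, hh, hkerh⟩ := hj
  obtain ⟨hU', hUs⟩ := Synt29.surjective_app_of_isClosedImmersion_restrict i U hU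
  obtain ⟨g, g', hgg, hzg⟩ := exists_basicOpen_le_affine_inter hU' hV (j z) ⟨hzU, hzV⟩
  obtain ⟨G, rfl⟩ := hUs g
  let W := X.basicOpen G
  have hW : IsAffineOpen W := hU.basicOpen G
  haveI hciW : IsClosedImmersion (i ∣_ W) := isClosedImmersion_restrict_of_le i (X.basicOpen_le G)
  obtain ⟨hW', hWs⟩ := Synt29.surjective_app_of_isClosedImmersion_restrict i W hW
  obtain ⟨f', hf', hkerf'⟩ := seqP_basicOpen i hU G hf hker
  obtain ⟨h', hh', hkerh'⟩ := seqP_basicOpen j hV g' hh hkerh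
  have hpre : i ⁻¹ᵁ W = Y.basicOpen g' := (Scheme.preimage_basicOpen i G).trans hgg
  have key : ∀ O : Y.Opens, O = Y.basicOpen g' → IsClosedImmersion (j ∣_ O) ∧
      ∃ h'' : Fin m → Γ(Y, O), SeqP .h1 h'' ∧ RingHom.ker (j.app O).hom = Ideal.span (Set.range h'') := by
    rintro O rfl
    exact ⟨isClosedImmersion_restrict_of_le j (Y.basicOpen_le g'), h', hh', hkerh'⟩
  obtain ⟨hcjW, h'', hh'', hkerh''⟩ := key (i ⁻¹ᵁ W) hpre
  choose l hl using fun k => hWs (h'' k)
  have hquot : CAlgX.IsH1Regular fun b => Ideal.Quotient.mk (Ideal.span (Set.range f')) (l b) := by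
    let e : (Γ(X, W) ⧸ Ideal.span (Set.range f')) ≃+* Γ(Y, i ⁻¹ᵁ W) :=
      (Ideal.quotEquivOfEq hkerf'.symm).trans (RingHom.quotientKerEquivOfSurjective hWs)
    have := seqP_of_equiv e.symm hh''
    rcases this with ⟨-, this⟩ | ⟨h0, -⟩
    · convert this using 2 with b
      apply e.injective
      rw [e.apply_symm_apply, ← hl b]
      rfl
    · cases h0
  refine ⟨W, hW, ?_, ?_, n + m, Fin.append f' l, ?_, ?_⟩
  · show j z ∈ i ⁻¹ᵁ W
    rw [hpre, ← hgg]
    exact hzg
  · rw [morphismRestrict_comp]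
    exact MorphismProperty.comp_mem @IsClosedImmersion _ _ hcjW hciW
  · rcases hf' with ⟨hk, hf'⟩ | ⟨hk, hf'⟩
    · exact Or.inl ⟨hk, CAlgOdd.H1Append.isH1Regular_append f' l hf' hquot⟩
    · exact Or.inr ⟨hk, CAlgOdd.H1Append.isQuasiRegular_append f' l hf' hquot⟩
  · show RingHom.ker ((j.app (i ⁻¹ᵁ W)).hom.comp (i.app W).hom) = _
    rw [← RingHom.comap_ker, hkerh'', range_append, Ideal.span_union, ← hkerf']
    have h5 : (Ideal.span (Set.range l)).map (i.app W).hom = Ideal.span (Set.range h'') := by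
      rw [Ideal.map_span, ← Set.range_comp]
      exact congrArg (fun z => Ideal.span (Set.range z)) (funext hl)
    rw [← h5, Ideal.comap_map_of_surjective _ hWs, ← RingHom.ker_eq_comap_bot, sup_comm]

theorem comp_h1 (hk : k = .h1 ∨ k = .quasi) {X Y Z : Scheme.{u}} (i : Y ⟶ X) (j : Z ⟶ Y)
    (hi : RegImm.IsRegularImmersion k i) (hj : RegImm.IsRegularImmersion .h1 j) :
    RegImm.IsRegularImmersion k (j ≫ i) := by
  refine ⟨MorphismProperty.comp_mem @IsImmersion _ _ hj.1 hi.1, fun z => ?_⟩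
  exact (KindDescent.isRegularImmersionAt_iff hk _ z).2 (seqAt_comp i j z
    ((KindDescent.isRegularImmersionAt_iff hk i _).1 (hi.2 _))
    ((KindDescent.isRegularImmersionAt_iff (Or.inl rfl) j z).1 (hj.2 z)))

end Groth.Agent.AlgSpWA.RegImmLocal
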