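import Groth.Agent.AlgSpWA.RegImmLocal
import Groth.Agent.AlgSpDec.LciLocus
import Groth.Agent.AlgSpDec.Fibres
import Groth.Agent.AlgSpPts.OpenSub
import Groth.Agent.S10659
import Groth.Agent.S8654
import Groth.Agent.S8656
import Groth.Agent.S2103

/-!
# Regular immersions and Koszul morphisms of algebraic spaces
-/

set_option autoImplicit false
set_option backward.isDefEq.respectTransparency false
set_option backward.isDefEq.respectTransparency.types false

universe u

open CategoryTheory CategoryTheory.Limits AlgebraicGeometry AlgSp Groth.Agent.AlgSpLib Groth.Agent.AlgSpPts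

namespace Groth.Agent.AlgSpWA.RegImmSp

open Groth.Agent.AlgSpDec

variable {S : Scheme.{u}}

theorem isRegularImmersion_h1_of_koszul {Z P : Scheme.{u}} {i : Z ⟶ P}
    (h : RegImm.IsRegularImmersion .koszul i) : RegImm.IsRegularImmersion .h1 i :=
  ⟨h.1, fun z => by
    obtain ⟨U, hU, hc, rs, hrs, hk⟩ := h.2 z
    exact ⟨U, hU, hc, rs, KRegLib.h1_of_koszul rs hrs, hk⟩⟩

theorem isRegularImmersion_quasi_of_h1 {Z P : Scheme.{u}} {i : Z ⟶ P}
    (h : RegImm.IsRegularImmersion .h1 i) : RegImm.IsRegularImmersion .quasi i :=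
  ⟨h.1, fun z => by
    obtain ⟨U, hU, hc, rs, hrs, hk⟩ := h.2 z
    exact ⟨U, hU, hc, rs, Groth.Agent.S2103.result _ hrs, hk⟩⟩

theorem isRegImmMor_of_chartwise {k k' : RegImm.Kind} {F G : Sp S} {f : F ⟶ G}
    (himp : ∀ {Z P : Scheme.{u}} (i : Z ⟶ P), RegImm.IsRegularImmersion k i → RegImm.IsRegularImmersion k' i)
    (h : IsRegImmMor k f) : IsRegImmMor k' f :=
  ⟨h.1, fun _ _ b fst snd hb sq => himp _ (h.2 b fst snd hb sq)⟩

theorem isRegImmMor_of_locNoeth (k k' : RegImm.Kind) {F G : Sp S} {f : F ⟶ G} (hG : IsLocNoethSp G)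
    (h : IsRegImmMor k f) : IsRegImmMor k' f :=
  ⟨h.1, fun V W b fst snd hb sq => by
    haveI := isLocallyNoetherian_chart hb hG
    exact KRegLib.regImm_of_regImm k k' _ (h.2 b fst snd hb sq)⟩

theorem isPullback_chart {F F' G G' : Sp S} {i : F ⟶ G} {g : G' ⟶ G} {fst : F' ⟶ F} {i' : F' ⟶ G'}
    (sq : IsPullback fst i' i g) {V U W : Over S} {b : (yon S).obj V ⟶ G} {a : (yon S).obj U ⟶ G'}
    {h : U ⟶ V} (w : a ≫ g = (yon S).map h ≫ b) {f₁ : (yon S).obj W ⟶ F} {s₁ : W ⟶ V}
    (sq₁ : IsPullback f₁ ((yon S).map s₁) i b) :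
    ∃ f₂ : (yon S).obj (pullback s₁ h) ⟶ F',
      IsPullback f₂ ((yon S).map (pullback.snd s₁ h)) i' a := by
  have e := ((IsPullback.of_hasPullback s₁ h).map (yon S)).paste_horiz sq₁
  rw [← w] at e
  refine ⟨sq.lift _ _ (e.w.trans (Category.assoc _ _ _).symm), ?_⟩
  exact IsPullback.of_right (by rw [IsPullback.lift_fst]; exact e) (IsPullback.lift_snd _ _ _ _) sq

/-- Flat base change of regular immersions of algebraic spaces. -/
theorem isRegImmMor_baseChange {k : RegImm.Kind} (hk : k ≠ .regular) {Z X X' P : AlgSp.Space S}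
    {i : Z ⟶ X} {g : X' ⟶ X} {fst : P ⟶ Z} {i' : P ⟶ X'}
    (sq : IsPullback fst.hom i'.hom i.hom g.hom) (hi : IsRegImmMor k i.hom) (hg : LocP @Flat g.hom) :
    IsRegImmMor k i'.hom := by
  have := RegImmLocal.isLocalAtTarget.{u} hk
  have hr : Representable i'.hom := MorphismProperty.of_isPullback (P := Representable (S := S)) sq hi.1
  obtain ⟨U, V, a, b, h, ha, ha', hb, -, w⟩ := exists_chart X'.property X.property g.hom
  have : Flat h.left := hg a b h ha hb w
  have : Flat ((Over.forget S).map h) := ‹Flat h.left›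
  obtain ⟨f₂, e₂⟩ := isPullback_chart sq w (hi.1.isPullback b)
  refine Groth.Agent.S10659.result (regImm k) i' hr a ha ha' f₂ _ e₂ ?_
  exact RegImmLocal.baseChange hk ((IsPullback.of_hasPullback (hi.1.snd b) h).map (Over.forget S))
    (hi.2 b _ _ hb (hi.1.isPullback b))

/-- Composites of regular immersions of algebraic spaces. -/
theorem isRegImmMor_comp {k₁ k₂ k₃ : RegImm.Kind}
    (hcomp : ∀ {Z Y X : Scheme.{u}} (i : Z ⟶ Y) (j : Y ⟶ X), RegImm.IsRegularImmersion k₁ i →
      RegImm.IsRegularImmersion k₂ j → RegImm.IsRegularImmersion k₃ (i ≫ j))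
    {Z Y X : Sp S} {i : Z ⟶ Y} {j : Y ⟶ X} (hi : IsRegImmMor k₁ i) (hj : IsRegImmMor k₂ j) :
    IsRegImmMor k₃ (i ≫ j) := by
  refine ⟨MorphismProperty.comp_mem (Representable (S := S)) _ _ hi.1 hj.1, fun V W b fst snd hb sq => ?_⟩
  have sj := hj.1.isPullback b
  obtain ⟨m, hm⟩ := (yon S).map_surjective (sj.lift (fst ≫ i) ((yon S).map snd)
    (by rw [Category.assoc]; exact sq.w))
  have hm₁ : fst ≫ i = (yon S).map m ≫ hj.1.fst b := by rw [hm, IsPullback.lift_fst]
  have hm₂ : m ≫ hj.1.snd b = snd := (yon S).map_injective (by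
    rw [Functor.map_comp, hm, IsPullback.lift_snd])
  have si : IsPullback fst ((yon S).map m) i (hj.1.fst b) :=
    IsPullback.of_bot (by rw [← Functor.map_comp, hm₂]; exact sq) hm₁ sj
  rw [← hm₂]
  show RegImm.IsRegularImmersion k₃ (m ≫ hj.1.snd b).left
  rw [Over.comp_left]
  exact hcomp _ _ (hi.2 _ _ _ (repWith_of_isPullback sj.flip hb) si) (hj.2 b _ _ hb sj)

/-- A Koszul regular immersion is a local complete intersection morphism. -/
theorem isLCIMor_of_isRegImmMor {X Y : Sp S} {i : X ⟶ Y} (hi : IsRegImmMor .koszul i) : IsLCIMor i := by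
  intro U V a b h ha hb w u
  let l : U ⟶ hi.1.pullback b := hi.1.lift a h w
  let s : hi.1.pullback b ⟶ V := hi.1.snd b
  have hr : RegImm.IsRegularImmersion .koszul s.left := hi.2 b _ _ hb (hi.1.isPullback b)
  have h1 : RepWith @Etale (hi.1.fst b) := repWith_of_isPullback (hi.1.isPullback b).flip hb
  have h2 : RepWith @Etale ((yon S).map l) :=
    repWith_etale_of_comp _ _ (by rwa [Functor.relativelyRepresentable.lift_fst]) h1
  haveI : Etale l.left := (repWith_yon_map_iff _ _).1 h2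
  haveI : IsImmersion s.left := hr.1
  rw [← hi.1.lift_snd a h w, Over.comp_left, LciLocus.koszul_etale_comp]
  haveI : IsIso (⊤ : (hi.1.pullback b).left.Opens).ι := (Scheme.topIso _).isIso_hom
  exact ⟨⊤, V.left, (⊤ : (hi.1.pullback b).left.Opens).ι ≫ s.left, 𝟙 _, trivial, inferInstance,
    RegImmLocal.baseChange (g := 𝟙 _) (by simp)
      (IsPullback.of_horiz_isIso (fst := (⊤ : (hi.1.pullback b).left.Opens).ι) ⟨by simp⟩) hr,
    inferInstance, Category.comp_id _⟩

/-- Koszul near a point is the chart condition. -/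
theorem locPNear_lci_iff {F G : Sp S} (hF : IsAlgSpace F) (hG : IsAlgSpace G) (f : F ⟶ G) (x : Points F) :
    LocPNear lci f x ↔ x ∈ LciLocus.koszulSet f := by
  constructor
  · rintro ⟨W, j, hj, ⟨z, rfl⟩, hjf⟩
    have hW : IsAlgSpace W := isAlgSpace_of_representable j hj.1 hF
    obtain ⟨U, V, a, b, h, ha, ha', hb, -, w⟩ := exists_chart hW hG (j ≫ f)
    obtain ⟨u, rfl⟩ := surjective_ofPt ha' z
    exact ⟨U, V, a ≫ j, b, h, u,
      repWith_comp ha (repWith_mono (fun _ _ e (_ : IsOpenImmersion e) => inferInstanceAs (Etale e)) _ hj), hb,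
      by rw [Category.assoc]; exact w, (Points.map_ofPt a j u).symm, hjf a b h ha hb w u⟩
  · intro hx
    obtain ⟨W, j, hW, hj, hr⟩ := exists_open_subspace hF (LciLocus.isOpen_koszulSet f)
    refine ⟨W, j, hj, hr.ge hx, fun U V a b h ha hb w u => ?_⟩
    refine (LciLocus.mem_koszulSet_iff (f := f)
      (repWith_comp ha (repWith_mono (fun _ _ e (_ : IsOpenImmersion e) => inferInstanceAs (Etale e)) _ hj))
      hb (by rw [Category.assoc]; exact w) u).1 (hr.le ⟨Points.ofPt a u, Points.map_ofPt a j u⟩)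

/-- Cancellation of a smooth morphism. -/
theorem isLCIMor_of_comp_smooth {X Y Z : Sp S} (hX : IsAlgSpace X) (hY : IsAlgSpace Y) (hZ : IsAlgSpace Z)
    {f : X ⟶ Y} {q : Y ⟶ Z} (hq : LocP @Smooth q) (hp : IsLCIMor (f ≫ q)) : IsLCIMor f := by
  rw [LciLocus.isLCIMor_iff hX hY]
  intro x
  obtain ⟨W, w, hw, hws⟩ := hZ.atlas
  obtain ⟨V, e, k, he, hes, hk⟩ := exists_chart_over hY hZ q w
  have hb : RepWith @Etale (e ≫ pullback.fst q w) := repWith_comp he (repWith_fst q hw)
  have hbs : RepWith @Surjective (e ≫ pullback.fst q w) := repWith_comp hes (repWith_fst q hws)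
  obtain ⟨U, eX, m, heX, heXs, hm⟩ := exists_chart_over hX hY f (e ≫ pullback.fst q w)
  have ha : RepWith @Etale (eX ≫ pullback.fst f _) := repWith_comp heX (repWith_fst f hb)
  have has : RepWith @Surjective (eX ≫ pullback.fst f _) := repWith_comp heXs (repWith_fst f hbs)
  have wk : (e ≫ pullback.fst q w) ≫ q = (yon S).map k ≫ w := by
    rw [Category.assoc, pullback.condition, ← Category.assoc, hk]
  have wm : (eX ≫ pullback.fst f _) ≫ f = (yon S).map m ≫ (e ≫ pullback.fst q w) := by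
    rw [Category.assoc, pullback.condition, ← Category.assoc, hm]
  have wmk : (eX ≫ pullback.fst f _) ≫ f ≫ q = (yon S).map (m ≫ k) ≫ w := by
    rw [← Category.assoc, wm, Category.assoc, wk, Functor.map_comp, Category.assoc]
  obtain ⟨u, rfl⟩ := surjective_ofPt has x
  refine (LciLocus.mem_koszulSet_iff ha hb wm u).2 ?_
  haveI : Smooth k.left := hq _ _ _ hb hw wk
  exact KRegLib.isKoszulAt_of_comp_smooth m.left k.left
    (fun y => hp _ w (m ≫ k) ha hw wmk y) u

/-- An immersion from an etale neighbourhood of a Koszul morphism into something smooth is Koszul regular. -/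
theorem isRegImmMor_of_lci_smooth {X Y P U : Sp S} (hP : IsAlgSpace P) (hY : IsAlgSpace Y)
    {f : X ⟶ Y} {g : P ⟶ Y} {e : U ⟶ X} {i : U ⟶ P} (hc : i ≫ g = e ≫ f) (hf : IsLCIMor f)
    (hg : LocP @Smooth g) (he : IsEtaleMor e) (hi : RepWith @IsImmersion i) : IsRegImmMor .koszul i := by
  refine ⟨hi.1, fun V W b fst snd hb sq => ?_⟩
  obtain ⟨T, w, hw, hws⟩ := hY.atlas
  obtain ⟨V', a, k, ha, has, hk⟩ := exists_chart_over (IsAlgSpace.yon_obj V) hY (b ≫ g) w
  obtain ⟨c, hc'⟩ := (yon S).map_surjective (a ≫ pullback.fst (b ≫ g) w)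
  have hcE : Etale c.left := (repWith_yon_map_iff _ c).1 (hc' ▸ repWith_comp ha (repWith_fst _ hw))
  have hcS : Surjective c.left := (repWith_yon_map_iff _ c).1 (hc' ▸ repWith_comp has (repWith_fst _ hws))
  refine RegImmLocal.of_etale_family (by simp) _ fun x => ⟨V'.left, c.left, hcE, c.left.surjective x, ?_⟩
  have hb' : RepWith @Etale ((yon S).map c ≫ b) :=
    repWith_comp ((repWith_yon_map_iff _ c).2 hcE) hb
  have wk : ((yon S).map c ≫ b) ≫ g = (yon S).map k ≫ w := by
    rw [hc', Category.assoc, Category.assoc, pullback.condition, ← Category.assoc, hk]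
  haveI : Smooth k.left := hg _ _ _ hb' hw wk
  have e₁ := ((IsPullback.of_hasPullback snd c).map (yon S)).paste_horiz sq
  haveI : IsImmersion (pullback.snd snd c).left := hi.2 _ _ _ e₁
  have hcU : RepWith @Etale ((yon S).map (pullback.fst snd c) ≫ fst) := repWith_of_isPullback e₁.flip hb'
  have wU : (((yon S).map (pullback.fst snd c) ≫ fst) ≫ e) ≫ f =
      (yon S).map (pullback.snd snd c ≫ k) ≫ w := by
    rw [Category.assoc _ e f, ← hc, ← Category.assoc, e₁.w, Category.assoc, wk, Functor.map_comp,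
      Category.assoc]
  have hk' := Groth.Agent.S8656.result _
    (hf _ w (pullback.snd snd c ≫ k) (he _ hcU) hw wU) k.left (pullback.snd snd c).left rfl
  have sF := (IsPullback.of_hasPullback snd c).map (Over.forget S)
  exact RegImmLocal.baseChange (by simp) (g := 𝟙 V'.left) (g' := sF.isoPullback.inv)
    (IsPullback.of_horiz_isIso ⟨by simpa using (sF.isoPullback_inv_snd)⟩) hk'

end Groth.Agent.AlgSpWA.RegImmSp
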