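import Mathlib
import Groth.Agent.RingPO.Props2
import Groth.Agent.S6900
import Groth.Agent.AlgSpWA.RingPOEtale

/-!
# Properties of morphisms of Ferrand pushouts

The comparison of a morphism of pushouts with its pieces, for a closed immersion and an affine morphism.
-/

set_option autoImplicit false

universe u

open AlgebraicGeometry CategoryTheory CategoryTheory.Limits TopologicalSpace Opposite TensorProduct RingPO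

namespace Groth.Agent.AlgSpWA.RingPOProps

variable {X Y Z P X' Y' Z' P' : Scheme.{u}} {i : Z ⟶ X} [IsClosedImmersion i] {j : Z ⟶ Y} {a : X ⟶ P} {b : Y ⟶ P}
  {i' : Z' ⟶ X'} [IsClosedImmersion i'] {j' : Z' ⟶ Y'} {a' : X' ⟶ P'} {b' : Y' ⟶ P'}
  {f : X' ⟶ X} {g : Y' ⟶ Y} {c : Z' ⟶ Z} {h : P' ⟶ P}

/-- The properties of a morphism of pushouts against those of its pieces. -/
theorem props_corner [IsAffineHom j] [IsAffineHom j'] [IsAffineHom a] [IsAffineHom b] [IsAffineHom a'] [IsAffineHom b']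
    (hP : IsPushout i j a b) (hcP : ∀ y : Y, ∃ k : Chart i j, y ∈ k.V)
    (hP' : IsPushout i' j' a' b') (hcP' : ∀ y : Y', ∃ k : Chart i' j', y ∈ k.V) (hX : IsPullback i' c f i)
    (hY : IsPullback j' c g j) (ha : a' ≫ h = f ≫ a) (hb : b' ≫ h = g ≫ b) :
    (LocallyOfFiniteType h ↔ LocallyOfFiniteType f ∧ LocallyOfFiniteType g) ∧
    (Flat h ↔ Flat f ∧ Flat g) ∧
    ((Flat h ∧ LocallyOfFinitePresentation h) ↔ (Flat f ∧ LocallyOfFinitePresentation f) ∧ (Flat g ∧ LocallyOfFinitePresentation g)) ∧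
    (Smooth h ↔ Smooth f ∧ Smooth g) ∧
    (Etale h ↔ Etale f ∧ Etale g) := by
  have main : ∀ (U : P.affineOpens) (U' : P'.affineOpens) (e : U'.1 ≤ h ⁻¹ᵁ U.1) (e₁ : a' ⁻¹ᵁ U'.1 ≤ f ⁻¹ᵁ a ⁻¹ᵁ U.1)
      (e₂ : b' ⁻¹ᵁ U'.1 ≤ g ⁻¹ᵁ b ⁻¹ᵁ U.1),
      let r := (h.appLE U U' e).hom
      let s := (f.appLE (a ⁻¹ᵁ U.1) (a' ⁻¹ᵁ U'.1) e₁).hom
      let t := (g.appLE (b ⁻¹ᵁ U.1) (b' ⁻¹ᵁ U'.1) e₂).hom
      (r.FiniteType ↔ t.FiniteType ∧ s.FiniteType) ∧ (r.Flat ↔ t.Flat ∧ s.Flat) ∧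
      (r.Flat ∧ r.FinitePresentation ↔ (t.Flat ∧ t.FinitePresentation) ∧ (s.Flat ∧ s.FinitePresentation)) ∧
      (r.Smooth ↔ t.Smooth ∧ s.Smooth) ∧ (r.Etale ↔ t.Etale ∧ s.Etale) := by
    intro U U' e e₁ e₂
    have hF := RingPO.isFibreProd_of_affineOpen hP hcP U.2
    have hF' := RingPO.isFibreProd_of_affineOpen hP' hcP' U'.2
    set W : Z.Opens := i ⁻¹ᵁ a ⁻¹ᵁ U.1 with hW
    set W' : Z'.Opens := i' ⁻¹ᵁ a' ⁻¹ᵁ U'.1 with hW'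
    have hWA : IsAffineOpen W := (U.2.preimage a).preimage i
    have hWA' : IsAffineOpen W' := (U'.2.preimage a').preimage i'
    have eW : W = j ⁻¹ᵁ b ⁻¹ᵁ U.1 := by
      rw [hW, ← Scheme.Hom.comp_preimage, hP.w, Scheme.Hom.comp_preimage]
    have eW' : W' = j' ⁻¹ᵁ b' ⁻¹ᵁ U'.1 := by
      rw [hW', ← Scheme.Hom.comp_preimage, hP'.w, Scheme.Hom.comp_preimage]
    have ec : W' ≤ c ⁻¹ᵁ W := by
      rw [hW, hW', ← Scheme.Hom.comp_preimage c i, ← hX.w, Scheme.Hom.comp_preimage]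
      exact i'.preimage_mono e₁
    have hwY : j' ≫ g = c ≫ j := hY.w
    letI : Algebra Γ(P, U) Γ(Y, b ⁻¹ᵁ U.1) := (b.appLE U (b ⁻¹ᵁ U.1) le_rfl).hom.toAlgebra
    letI : Algebra Γ(P, U) Γ(X, a ⁻¹ᵁ U.1) := (a.appLE U (a ⁻¹ᵁ U.1) le_rfl).hom.toAlgebra
    letI : Algebra Γ(Y, b ⁻¹ᵁ U.1) Γ(Z, W) := (j.appLE (b ⁻¹ᵁ U.1) W eW.le).hom.toAlgebra
    letI : Algebra Γ(X, a ⁻¹ᵁ U.1) Γ(Z, W) := (i.appLE (a ⁻¹ᵁ U.1) W le_rfl).hom.toAlgebra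
    letI : Algebra Γ(P, U) Γ(Z, W) :=
      ((b.appLE U (b ⁻¹ᵁ U.1) le_rfl) ≫ (j.appLE (b ⁻¹ᵁ U.1) W eW.le)).hom.toAlgebra
    haveI : IsScalarTower Γ(P, U) Γ(Y, b ⁻¹ᵁ U.1) Γ(Z, W) := IsScalarTower.of_algebraMap_eq' rfl
    haveI : IsScalarTower Γ(P, U) Γ(X, a ⁻¹ᵁ U.1) Γ(Z, W) :=
      IsScalarTower.of_algebraMap_eq' (RingHom.ext fun z => (hF.comm z).symm)
    letI : Algebra Γ(P', U') Γ(Y', b' ⁻¹ᵁ U'.1) := (b'.appLE U' (b' ⁻¹ᵁ U'.1) le_rfl).hom.toAlgebra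
    letI : Algebra Γ(P', U') Γ(X', a' ⁻¹ᵁ U'.1) := (a'.appLE U' (a' ⁻¹ᵁ U'.1) le_rfl).hom.toAlgebra
    letI : Algebra Γ(Y', b' ⁻¹ᵁ U'.1) Γ(Z', W') := (j'.appLE (b' ⁻¹ᵁ U'.1) W' eW'.le).hom.toAlgebra
    letI : Algebra Γ(X', a' ⁻¹ᵁ U'.1) Γ(Z', W') := (i'.appLE (a' ⁻¹ᵁ U'.1) W' le_rfl).hom.toAlgebra
    letI : Algebra Γ(P', U') Γ(Z', W') :=
      ((b'.appLE U' (b' ⁻¹ᵁ U'.1) le_rfl) ≫ (j'.appLE (b' ⁻¹ᵁ U'.1) W' eW'.le)).hom.toAlgebra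
    haveI : IsScalarTower Γ(P', U') Γ(Y', b' ⁻¹ᵁ U'.1) Γ(Z', W') := IsScalarTower.of_algebraMap_eq' rfl
    haveI : IsScalarTower Γ(P', U') Γ(X', a' ⁻¹ᵁ U'.1) Γ(Z', W') :=
      IsScalarTower.of_algebraMap_eq' (RingHom.ext fun z => (hF'.comm z).symm)
    letI : Algebra Γ(P, U) Γ(P', U') := (h.appLE U U' e).hom.toAlgebra
    letI : Algebra Γ(Y, b ⁻¹ᵁ U.1) Γ(Y', b' ⁻¹ᵁ U'.1) := (g.appLE (b ⁻¹ᵁ U.1) (b' ⁻¹ᵁ U'.1) e₂).hom.toAlgebra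
    letI : Algebra Γ(X, a ⁻¹ᵁ U.1) Γ(X', a' ⁻¹ᵁ U'.1) := (f.appLE (a ⁻¹ᵁ U.1) (a' ⁻¹ᵁ U'.1) e₁).hom.toAlgebra
    letI : Algebra Γ(Z, W) Γ(Z', W') := (c.appLE W W' ec).hom.toAlgebra
    letI : Algebra Γ(P, U) Γ(Y', b' ⁻¹ᵁ U'.1) :=
      ((b.appLE U (b ⁻¹ᵁ U.1) le_rfl) ≫ (g.appLE (b ⁻¹ᵁ U.1) (b' ⁻¹ᵁ U'.1) e₂)).hom.toAlgebra
    haveI : IsScalarTower Γ(P, U) Γ(Y, b ⁻¹ᵁ U.1) Γ(Y', b' ⁻¹ᵁ U'.1) := IsScalarTower.of_algebraMap_eq' rfl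
    haveI : IsScalarTower Γ(P, U) Γ(P', U') Γ(Y', b' ⁻¹ᵁ U'.1) := IsScalarTower.of_algebraMap_eq' (by
      show ((b.appLE U (b ⁻¹ᵁ U.1) le_rfl) ≫ (g.appLE (b ⁻¹ᵁ U.1) (b' ⁻¹ᵁ U'.1) e₂)).hom =
        (h.appLE U U' e ≫ b'.appLE U' (b' ⁻¹ᵁ U'.1) le_rfl).hom
      rw [Scheme.Hom.appLE_comp_appLE, Scheme.Hom.appLE_comp_appLE]; simp only [hb])
    letI : Algebra Γ(P, U) Γ(X', a' ⁻¹ᵁ U'.1) :=
      ((a.appLE U (a ⁻¹ᵁ U.1) le_rfl) ≫ (f.appLE (a ⁻¹ᵁ U.1) (a' ⁻¹ᵁ U'.1) e₁)).hom.toAlgebra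
    haveI : IsScalarTower Γ(P, U) Γ(X, a ⁻¹ᵁ U.1) Γ(X', a' ⁻¹ᵁ U'.1) := IsScalarTower.of_algebraMap_eq' rfl
    haveI : IsScalarTower Γ(P, U) Γ(P', U') Γ(X', a' ⁻¹ᵁ U'.1) := IsScalarTower.of_algebraMap_eq' (by
      show ((a.appLE U (a ⁻¹ᵁ U.1) le_rfl) ≫ (f.appLE (a ⁻¹ᵁ U.1) (a' ⁻¹ᵁ U'.1) e₁)).hom =
        (h.appLE U U' e ≫ a'.appLE U' (a' ⁻¹ᵁ U'.1) le_rfl).hom
      rw [Scheme.Hom.appLE_comp_appLE, Scheme.Hom.appLE_comp_appLE]; simp only [ha])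
    letI : Algebra Γ(Y, b ⁻¹ᵁ U.1) Γ(Z', W') := ((j.appLE (b ⁻¹ᵁ U.1) W eW.le) ≫ c.appLE W W' ec).hom.toAlgebra
    haveI : IsScalarTower Γ(Y, b ⁻¹ᵁ U.1) Γ(Z, W) Γ(Z', W') := IsScalarTower.of_algebraMap_eq' rfl
    haveI : IsScalarTower Γ(Y, b ⁻¹ᵁ U.1) Γ(Y', b' ⁻¹ᵁ U'.1) Γ(Z', W') := IsScalarTower.of_algebraMap_eq' (by
      show ((j.appLE (b ⁻¹ᵁ U.1) W eW.le) ≫ c.appLE W W' ec).hom =
        (g.appLE (b ⁻¹ᵁ U.1) (b' ⁻¹ᵁ U'.1) e₂ ≫ j'.appLE (b' ⁻¹ᵁ U'.1) W' eW'.le).hom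
      rw [Scheme.Hom.appLE_comp_appLE, Scheme.Hom.appLE_comp_appLE]; simp only [hwY])
    letI : Algebra Γ(X, a ⁻¹ᵁ U.1) Γ(Z', W') := ((i.appLE (a ⁻¹ᵁ U.1) W le_rfl) ≫ c.appLE W W' ec).hom.toAlgebra
    haveI : IsScalarTower Γ(X, a ⁻¹ᵁ U.1) Γ(Z, W) Γ(Z', W') := IsScalarTower.of_algebraMap_eq' rfl
    haveI : IsScalarTower Γ(X, a ⁻¹ᵁ U.1) Γ(X', a' ⁻¹ᵁ U'.1) Γ(Z', W') := IsScalarTower.of_algebraMap_eq' (by
      show ((i.appLE (a ⁻¹ᵁ U.1) W le_rfl) ≫ c.appLE W W' ec).hom =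
        (f.appLE (a ⁻¹ᵁ U.1) (a' ⁻¹ᵁ U'.1) e₁ ≫ i'.appLE (a' ⁻¹ᵁ U'.1) W' le_rfl).hom
      rw [Scheme.Hom.appLE_comp_appLE, Scheme.Hom.appLE_comp_appLE]; simp only [hX.w])
    haveI : Algebra.IsPushout Γ(Y, b ⁻¹ᵁ U.1) Γ(Y', b' ⁻¹ᵁ U'.1) Γ(Z, W) Γ(Z', W') :=
      CommRingCat.isPushout_iff_isPushout.mp
        (RingPO.isPushout_appLE_of_isPullback hY (U.2.preimage b) (U'.2.preimage b') e₂ hWA eW hWA' eW' ec)
    haveI : Algebra.IsPushout Γ(X, a ⁻¹ᵁ U.1) Γ(X', a' ⁻¹ᵁ U'.1) Γ(Z, W) Γ(Z', W') :=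
      CommRingCat.isPushout_iff_isPushout.mp
        (RingPO.isPushout_appLE_of_isPullback hX (U.2.preimage a) (U'.2.preimage a') e₁ hWA hW hWA' hW' ec)
    have hF2 : RingPO.IsFibreProd (i.appLE (a ⁻¹ᵁ U.1) W le_rfl).hom (j.appLE (b ⁻¹ᵁ U.1) W eW.le).hom
        (a.appLE U (a ⁻¹ᵁ U.1) le_rfl).hom (b.appLE U (b ⁻¹ᵁ U.1) le_rfl).hom := hF
    have hF2' : RingPO.IsFibreProd (i'.appLE (a' ⁻¹ᵁ U'.1) W' le_rfl).hom (j'.appLE (b' ⁻¹ᵁ U'.1) W' eW'.le).hom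
        (a'.appLE U' (a' ⁻¹ᵁ U'.1) le_rfl).hom (b'.appLE U' (b' ⁻¹ᵁ U'.1) le_rfl).hom := hF'
    exact Groth.Agent.S6900.result Γ(P, U) Γ(Y, b ⁻¹ᵁ U.1) Γ(X, a ⁻¹ᵁ U.1) Γ(Z, W)
      (RingPO.isFibreSquare_of_isFibreProd hF2) Γ(P', U') Γ(Y', b' ⁻¹ᵁ U'.1) Γ(X', a' ⁻¹ᵁ U'.1) Γ(Z', W')
      (RingPO.isFibreSquare_of_isFibreProd hF2')
  have hl : ∀ {Q : ∀ {R S : Type u} [CommRing R] [CommRing S], (R →+* S) → Prop},
      RingHom.StableUnderComposition Q → RingHom.HoldsForLocalizationAway Q →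
      RingHom.StableUnderCompositionWithLocalizationAwaySource Q := fun h1 h2 =>
    (h1.stableUnderCompositionWithLocalizationAway h2).1
  refine ⟨?_, ?_, ?_, ?_, ?_⟩
  · exact RingPO.iff_of_charts ha hb @RingHom.FiniteType @LocallyOfFiniteType
      (fun φ hφ => HasRingHomProperty.appLE @LocallyOfFiniteType φ hφ)
      (fun φ => (HasRingHomProperty.iff_exists_appLE (P := @LocallyOfFiniteType)
        (hl RingHom.finiteType_stableUnderComposition RingHom.finiteType_holdsForLocalizationAway)).mpr)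
      (fun U U' e e₁ e₂ => ((main U U' e e₁ e₂).1).trans and_comm)
  · exact RingPO.iff_of_charts ha hb @RingHom.Flat @Flat
      (fun φ hφ => HasRingHomProperty.appLE @Flat φ hφ)
      (fun φ => (HasRingHomProperty.iff_exists_appLE (P := @Flat)
        (hl RingHom.Flat.stableUnderComposition RingHom.Flat.holdsForLocalizationAway)).mpr)
      (fun U U' e e₁ e₂ => ((main U U' e e₁ e₂).2.1).trans and_comm)
  · exact RingPO.iff_of_charts ha hb (fun φ => φ.Flat ∧ φ.FinitePresentation)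
      (fun φ => Flat φ ∧ LocallyOfFinitePresentation φ)
      (fun φ hφ U U' e => ⟨HasRingHomProperty.appLE @Flat φ hφ.1 U U' e,
        HasRingHomProperty.appLE @LocallyOfFinitePresentation φ hφ.2 U U' e⟩)
      (fun φ H => ⟨(HasRingHomProperty.iff_exists_appLE (P := @Flat)
          (hl RingHom.Flat.stableUnderComposition RingHom.Flat.holdsForLocalizationAway)).mpr
          (fun x => by obtain ⟨U, U', hx, e, h1, -⟩ := H x; exact ⟨U, U', hx, e, h1⟩),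
        (HasRingHomProperty.iff_exists_appLE (P := @LocallyOfFinitePresentation)
          (hl RingHom.finitePresentation_stableUnderComposition RingHom.finitePresentation_holdsForLocalizationAway)).mpr
          (fun x => by obtain ⟨U, U', hx, e, -, h2⟩ := H x; exact ⟨U, U', hx, e, h2⟩)⟩)
      (fun U U' e e₁ e₂ => ((main U U' e e₁ e₂).2.2.1).trans and_comm)
  · exact RingPO.iff_of_charts ha hb @RingHom.Smooth @Smooth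
      (fun φ hφ => HasRingHomProperty.appLE @Smooth φ hφ)
      (fun φ => (HasRingHomProperty.iff_exists_appLE (P := @Smooth)
        (hl RingHom.Smooth.stableUnderComposition RingHom.Smooth.holdsForLocalizationAway)).mpr)
      (fun U U' e e₁ e₂ => ((main U U' e e₁ e₂).2.2.2.1).trans and_comm)
  · exact RingPO.iff_of_charts ha hb @RingHom.Etale @Etale
      (fun φ hφ => HasRingHomProperty.appLE @Etale φ hφ)
      (fun φ => (HasRingHomProperty.iff_exists_appLE (P := @Etale)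
        (hl RingHom.Etale.stableUnderComposition (fun R S _ _ _ r _ =>
          RingHom.etale_algebraMap.mpr (Algebra.Etale.of_isLocalizationAway r)))).mpr)
      (fun U U' e e₁ e₂ => ((main U U' e e₁ e₂).2.2.2.2).trans and_comm)

/-- The two comparison squares are cartesian. -/
theorem cart_corner [IsAffineHom j] [IsAffineHom j'] [IsAffineHom a] [IsAffineHom b] [IsAffineHom a'] [IsAffineHom b']
    (hP : IsPushout i j a b) (hcP : ∀ y : Y, ∃ k : Chart i j, y ∈ k.V)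
    (hP' : IsPushout i' j' a' b') (hcP' : ∀ y : Y', ∃ k : Chart i' j', y ∈ k.V) (hX : IsPullback i' c f i)
    (hY : IsPullback j' c g j) (ha : a' ≫ h = f ≫ a) (hb : b' ≫ h = g ≫ b) :
    IsPullback a' f h a ∧ IsPullback b' g h b := by
  have h₁ : ∀ (U : P.Opens) (U' : P'.Opens), U' ≤ h ⁻¹ᵁ U → a' ⁻¹ᵁ U' ≤ f ⁻¹ᵁ a ⁻¹ᵁ U := fun U U' e => by
    rw [← Scheme.Hom.comp_preimage, ← ha, Scheme.Hom.comp_preimage]; exact a'.preimage_mono e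
  have h₂ : ∀ (U : P.Opens) (U' : P'.Opens), U' ≤ h ⁻¹ᵁ U → b' ⁻¹ᵁ U' ≤ g ⁻¹ᵁ b ⁻¹ᵁ U := fun U U' e => by
    rw [← Scheme.Hom.comp_preimage, ← hb, Scheme.Hom.comp_preimage]; exact b'.preimage_mono e
  let ι := { p : P.affineOpens × P'.affineOpens // p.2.1 ≤ h ⁻¹ᵁ p.1.1 }
  have hcov : ∀ x, ∃ p : ι, x ∈ p.1.2.1 := by
    intro x
    obtain ⟨U, hU, hxU, -⟩ := exists_isAffineOpen_mem_and_subset (x := h x) (U := (⊤ : P.Opens)) (by simp)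
    obtain ⟨U', hU', hxU', hle⟩ := exists_isAffineOpen_mem_and_subset (x := x) (U := h ⁻¹ᵁ U) hxU
    exact ⟨⟨(⟨U, hU⟩, ⟨U', hU'⟩), hle⟩, hxU'⟩
  have hcov' : ∀ x, ∃ p : ι, x ∈ Set.range p.1.2.2.fromSpec := fun x => by
    obtain ⟨p, hp⟩ := hcov x
    exact ⟨p, by rw [p.1.2.2.range_fromSpec]; exact hp⟩
  haveI hopen : ∀ p : ι, IsOpenImmersion p.1.2.2.fromSpec := fun p => IsAffineOpen.isOpenImmersion_fromSpec p.1.2.2
  have spec := fun p : ι => chart_spec hP hcP hP' hcP' hX hY ha hb p.1.1 p.1.2 p.2 (h₁ _ _ p.2) (h₂ _ _ p.2)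
  refine ⟨?_, ?_⟩
  · refine (RingPO.isPullback_of_cover (t := f) (l := a') (r := a) (d := h) ha.symm
      (fun p : ι => Spec Γ(_, p.1.2.1))
      (fun p : ι => Spec Γ(_, a' ⁻¹ᵁ p.1.2.1)) (fun p => p.1.2.2.fromSpec) hcov'
      (fun p => (p.1.2.2.preimage a').fromSpec)
      (fun p => Spec.map (a'.appLE p.1.2 _ le_rfl)) (fun p => RingPO.isPullback_fromSpec _ p.1.2.2)
      (fun p => ?_)).flip
    have h2 := (isPullback_SpecMap_of_isPushout _ _ _ _ (spec p).2.1).paste_horiz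
      (RingPO.isPullback_fromSpec a p.1.1.2)
    rwa [(p.1.1.2.preimage a).SpecMap_appLE_fromSpec f (p.1.2.2.preimage a') (h₁ _ _ p.2),
      p.1.1.2.SpecMap_appLE_fromSpec h p.1.2.2 p.2] at h2
  · refine (RingPO.isPullback_of_cover (t := g) (l := b') (r := b) (d := h) hb.symm
      (fun p : ι => Spec Γ(_, p.1.2.1))
      (fun p : ι => Spec Γ(_, b' ⁻¹ᵁ p.1.2.1)) (fun p => p.1.2.2.fromSpec) hcov'
      (fun p => (p.1.2.2.preimage b').fromSpec)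
      (fun p => Spec.map (b'.appLE p.1.2 _ le_rfl)) (fun p => RingPO.isPullback_fromSpec _ p.1.2.2)
      (fun p => ?_)).flip
    have h2 := (isPullback_SpecMap_of_isPushout _ _ _ _ (spec p).1).paste_horiz
      (RingPO.isPullback_fromSpec b p.1.1.2)
    rwa [(p.1.1.2.preimage b).SpecMap_appLE_fromSpec g (p.1.2.2.preimage b') (h₂ _ _ p.2),
      p.1.1.2.SpecMap_appLE_fromSpec h p.1.2.2 p.2] at h2

end Groth.Agent.AlgSpWA.RingPOProps
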