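import Groth.Agent.AlgSpWA.SerrePush
import Groth.Agent.AlgSpDec.SymStrata
import Groth.Agent.AlgSpDec.AffineClassQuot

/-!
# Serre's criterion for affineness of algebraic spaces
-/

set_option autoImplicit false
set_option linter.style.haveILetI false
set_option linter.unusedSectionVars false
set_option backward.isDefEq.respectTransparency false
set_option backward.isDefEq.respectTransparency.types false

noncomputable section

universe u

open CategoryTheory CategoryTheory.Limits AlgebraicGeometry Opposite AlgSp TensorProduct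
open Groth.Agent.QCart13

namespace Groth.Agent.AlgSpWA.SerreAffine

open MVSheaf SerreGlobal SerreTheta SerrePush Groth.Agent.AlgSpDec Groth.Agent.AlgSpLib Groth.Agent.AlgSpPts

section algebra

theorem isPushout_of_bijective_pairing (B T P : CommRingCat.{u}) (A : Subring B) [Algebra A T]
    (φB : B ⟶ P) (φT : T ⟶ P) (h : ∀ a : A, φB (a : B) = φT (algebraMap A T a))
    (hbij : Function.Bijective (pairing A φB.hom φT.hom h)) :
    IsPushout (CommRingCat.ofHom A.subtype) (CommRingCat.ofHom (algebraMap A T)) φB φT := by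
  letI : Algebra A P := (φT.hom.comp (algebraMap A T)).toAlgebra
  let fB : (B : Type u) →ₐ[A] P := { φB.hom with commutes' := fun a => h a }
  let fT : (T : Type u) →ₐ[A] P := { φT.hom with commutes' := fun a => rfl }
  let L : (B : Type u) ⊗[A] T →ₐ[A] P := Algebra.TensorProduct.lift fB fT fun _ _ => Commute.all _ _
  have hL : ⇑L = ⇑(pairing A φB.hom φT.hom h) := funext fun z => by
    induction z using TensorProduct.induction_on with
    | zero => exact (map_zero L).trans (map_zero _).symm
    | add a b ha hb => rw [map_add, map_add, ha, hb]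
    | tmul b t => exact Algebra.TensorProduct.lift_tmul fB fT (fun _ _ => Commute.all _ _) b t
  have hL' : Function.Bijective L := by rw [hL]; exact hbij
  let e : CommRingCat.of ((B : Type u) ⊗[A] T) ≅ P := (AlgEquiv.ofBijective L hL').toRingEquiv.toCommRingCatIso
  refine (CommRingCat.isPushout_tensorProduct A B T).of_iso (Iso.refl _) (Iso.refl B) (Iso.refl T) e rfl rfl ?_ ?_
  · ext b
    show L (b ⊗ₜ 1) = φB b
    rw [hL, pairing_tmul, map_one, mul_one]
  · ext t
    show L (1 ⊗ₜ t) = φT t
    rw [hL, pairing_tmul, map_one, one_mul]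

end algebra

variable {S : Scheme.{u}} [QuasiSeparatedSpace ↥S] {X : Space S} {E₀ : EtOver X.obj}

/-- The map from the atlas to the spectrum of the global functions. -/
def toA (E₀ : EtOver X.obj) : E₀.obj.left.left ⟶ Spec (CommRingCat.of (GA E₀)) :=
  E₀.obj.left.left.toSpecΓ ≫ Spec.map (CommRingCat.ofHom (GA E₀).subtype)

theorem comp_toA_eq {T : Over S} (p q : T ⟶ E₀.obj.left)
    (h : (yon S).map p ≫ E₀.obj.hom = (yon S).map q ≫ E₀.obj.hom) :
    p.left ≫ toA E₀ = q.left ≫ toA E₀ := by
  have : CommRingCat.ofHom (GA E₀).subtype ≫ p.left.appTop = CommRingCat.ofHom (GA E₀).subtype ≫ q.left.appTop := by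
    ext a
    exact GA_eq p q h a.2
  rw [toA, ← Category.assoc, ← Category.assoc, Scheme.toSpecΓ_naturality, Scheme.toSpecΓ_naturality, Category.assoc,
    Category.assoc, ← Spec.map_comp, ← Spec.map_comp, this]

theorem repWith_surjective_of (hcov : ∀ p : Points X.obj, ∃ u, Points.ofPt E₀.obj.hom u = p) :
    RepWith @Surjective E₀.obj.hom :=
  (repWith_surjective_iff E₀.property.rep).2 fun x => by
    obtain ⟨u, hu⟩ := hcov x
    exact ⟨Points.ofScheme E₀.obj.left u, (Points.ofPt_eq_map_ofScheme _ u).symm.trans hu⟩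

variable (hqc : IsQuasiCompactSp X.obj)
  (hqs : IsQuasiSeparatedSp X.obj) (h1 : ∀ M : ModEt X.obj, M.IsQuasicoherent → Subsingleton (HModEt X.obj M 1))
  (hE₀ : Aff E₀) (hcov : ∀ p : Points X.obj, ∃ u, Points.ofPt E₀.obj.hom u = p)

include hqc hqs h1 hE₀ hcov

set_option maxHeartbeats 1600000 in
/-- The fibre square on spectra of global functions. -/
theorem isPullback_Γ {T : Over S} [IsAffine T.left] {f : (yon S).obj T ⟶ X.obj} (hrep : Representable f)
    (c : hrep.pullback E₀.obj.hom ⟶ T) (hc : (yon S).map c = hrep.fst E₀.obj.hom)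
    (y : T ⟶ E₀.obj.left) (hy : (yon S).map y ≫ E₀.obj.hom = f) [IsAffine E₀.obj.left.left] :
    IsPullback (Spec.map (hrep.snd E₀.obj.hom).left.appTop ≫ E₀.obj.left.left.isoSpec.inv)
      (Spec.map c.left.appTop ≫ T.left.isoSpec.inv) (toA E₀) (y.left ≫ toA E₀) := by
  letI := algT (E₀ := E₀) y
  have h := isPullback_SpecMap_of_isPushout _ _ _ _ (isPushout_of_bijective_pairing Γ(E₀.obj.left.left, ⊤)
    Γ(T.left, ⊤) Γ((hrep.pullback E₀.obj.hom).left, ⊤) (GA E₀) (hrep.snd E₀.obj.hom).left.appTop c.left.appTop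
    (fun a => compat_GA hrep c hc y hy a) (bijective_Ψ hqc hqs h1 hE₀ hcov hrep c hc y hy))
  refine h.of_iso (Iso.refl _) E₀.obj.left.left.isoSpec.symm T.left.isoSpec.symm (Iso.refl _)
    ((Category.id_comp _).symm) ((Category.id_comp _).symm) ?_ ?_
  · rw [Iso.refl_hom, Category.comp_id, toA, Iso.symm_hom, ← Scheme.isoSpec_hom, Iso.inv_hom_id_assoc]
  · rw [Iso.refl_hom, Category.comp_id, toA, Iso.symm_hom, ← Category.assoc y.left, Scheme.toSpecΓ_naturality,
      Category.assoc, ← Spec.map_comp, ← Scheme.isoSpec_hom, Iso.inv_hom_id_assoc]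
    rfl

/-- A pair of field valued points of the atlas with the same global functions lifts to the relation. -/
theorem exists_rel_point [IsAffine E₀.obj.left.left] (hE : RepWith @Surjective E₀.obj.hom)
    {K : Type u} [Field K] (y₁ y₂ : Spec (CommRingCat.of K) ⟶ E₀.obj.left.left) (h : y₂ ≫ toA E₀ = y₁ ≫ toA E₀) :
    ∃ r : Spec (CommRingCat.of K) ⟶ (E₀.property.rep.pullback E₀.obj.hom).left,
      r ≫ (E₀.property.rep.fst' E₀.obj.hom).left = y₁ ∧ r ≫ (E₀.property.rep.snd E₀.obj.hom).left = y₂ := by
  let T : Over S := Over.mk (y₁ ≫ E₀.obj.left.hom)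
  let y : T ⟶ E₀.obj.left := Over.homMk y₁ rfl
  have hT : IsAffine T.left := inferInstanceAs (IsAffine (Spec (CommRingCat.of K)))
  let f : (yon S).obj T ⟶ X.obj := (yon S).map y ≫ E₀.obj.hom
  have hrep : Representable f := X.property.representable_from_yon f
  obtain ⟨c, hc⟩ := (yon S).map_surjective (hrep.fst E₀.obj.hom)
  have sqF : IsPullback ((yon S).map c) ((yon S).map (hrep.snd E₀.obj.hom)) f E₀.obj.hom :=
    hc ▸ hrep.isPullback E₀.obj.hom
  have sqR := E₀.property.rep.isPullback' E₀.obj.hom
  let p := E₀.property.rep.fst' E₀.obj.hom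
  let q := E₀.property.rep.snd E₀.obj.hom
  obtain ⟨m₀, hm₁, hm₂⟩ := sqR.exists_lift ((yon S).map c ≫ (yon S).map y) ((yon S).map (hrep.snd E₀.obj.hom))
    (by rw [Category.assoc]; exact sqF.w)
  obtain ⟨m, rfl⟩ := (yon S).map_surjective m₀
  have hm₁' : m ≫ p = c ≫ y := (yon S).map_injective (by rw [Functor.map_comp, Functor.map_comp]; exact hm₁)
  have hm₂' : m ≫ q = hrep.snd E₀.obj.hom := (yon S).map_injective (by rw [Functor.map_comp]; exact hm₂)
  have sql : IsPullback ((yon S).map m) ((yon S).map c) ((yon S).map p) ((yon S).map y) := by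
    refine IsPullback.of_right ?_ ?_ sqR.flip
    · rw [← Functor.map_comp, hm₂']; exact sqF.flip
    · rw [← Functor.map_comp, ← Functor.map_comp, hm₁']
  have sqS : IsPullback m.left c.left p.left y.left :=
    (IsPullback.of_map (yon S) ((yon S).map_injective (by rw [Functor.map_comp, Functor.map_comp]; exact sql.w))
      sql).map (Over.forget S)
  haveI : Etale p.left := E₀.property.property _ _ _ sqR.flip
  haveI : QuasiCompact q.left := SymPower.quasiCompact_snd hqs E₀.property
  haveI : CompactSpace ↥(E₀.property.rep.pullback E₀.obj.hom).left := QuasiCompact.compactSpace_of_compactSpace q.left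
  haveI : QuasiCompact p.left := inferInstance
  haveI : Etale c.left := MorphismProperty.of_isPullback (P := @Etale) sqS inferInstance
  haveI : QuasiCompact c.left := quasiCompact_isStableUnderBaseChange.of_isPullback sqS inferInstance
  haveI : IsLocallyArtinian T.left := inferInstanceAs (IsLocallyArtinian (Spec (CommRingCat.of K)))
  haveI : LocallyQuasiFinite c.left := inferInstance
  haveI : IsFinite c.left := IsFinite.of_locallyQuasiFinite c.left
  haveI : IsAffine (hrep.pullback E₀.obj.hom).left := isAffine_of_isAffineHom c.left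
  have hΓ := isPullback_Γ hqc hqs h1 hE₀ hcov hrep c hc y rfl
  let v : Spec (CommRingCat.of K) ⟶ Spec Γ((hrep.pullback E₀.obj.hom).left, ⊤) :=
    hΓ.lift y₂ (𝟙 T.left) (by rw [h]; exact (Category.id_comp _).symm)
  let σ := v ≫ (hrep.pullback E₀.obj.hom).left.isoSpec.inv
  have hσ₁ : σ ≫ (hrep.snd E₀.obj.hom).left = y₂ := by
    rw [show σ = v ≫ _ from rfl, Category.assoc, ← Scheme.isoSpec_inv_naturality]
    exact hΓ.lift_fst _ _ _
  have hσ₂ : σ ≫ c.left = 𝟙 T.left := by
    rw [show σ = v ≫ _ from rfl, Category.assoc, ← Scheme.isoSpec_inv_naturality]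
    exact hΓ.lift_snd _ _ _
  refine ⟨σ ≫ m.left, ?_, ?_⟩
  · rw [Category.assoc, sqS.w, reassoc_of% hσ₂]
    rfl
  · rw [Category.assoc, ← Over.comp_left, hm₂']
    exact hσ₁

theorem isPullback_toA [IsAffine E₀.obj.left.left] :
    IsPullback (E₀.property.rep.fst' E₀.obj.hom).left (E₀.property.rep.snd E₀.obj.hom).left (toA E₀) (toA E₀) := by
  have sqR := E₀.property.rep.isPullback' E₀.obj.hom
  let R := E₀.property.rep.pullback E₀.obj.hom
  let p := E₀.property.rep.fst' E₀.obj.hom
  let q := E₀.property.rep.snd E₀.obj.hom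
  let U := E₀.obj.left.left
  haveI : Etale p.left := E₀.property.property _ _ _ sqR.flip
  haveI : QuasiCompact q.left := SymPower.quasiCompact_snd hqs E₀.property
  haveI : CompactSpace ↥R.left := QuasiCompact.compactSpace_of_compactSpace q.left
  have hpq : p.left ≫ toA E₀ = q.left ≫ toA E₀ := comp_toA_eq p q sqR.w
  let P := pullback (toA E₀) (toA E₀)
  let h : R.left ⟶ P := pullback.lift q.left p.left hpq.symm
  haveI : Mono h := ⟨fun {Z} r₁ r₂ hr => by
    have e₁ : r₁ ≫ p.left = r₂ ≫ p.left := by
      simpa [h] using congrArg (· ≫ pullback.snd (toA E₀) (toA E₀)) hr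
    have e₂ : r₁ ≫ q.left = r₂ ≫ q.left := by
      simpa [h] using congrArg (· ≫ pullback.fst (toA E₀) (toA E₀)) hr
    let Z' : Over S := Over.mk (r₁ ≫ R.hom)
    let s₁ : Z' ⟶ R := Over.homMk r₁ rfl
    let s₂ : Z' ⟶ R := Over.homMk r₂ (by
      show r₂ ≫ R.hom = r₁ ≫ R.hom
      rw [← Over.w p, ← Category.assoc, ← Category.assoc, e₁])
    have : s₁ = s₂ := (yon S).map_injective (sqR.hom_ext
      (by rw [← Functor.map_comp, ← Functor.map_comp]; exact congrArg (yon S).map (Over.OverMorphism.ext e₁))
      (by rw [← Functor.map_comp, ← Functor.map_comp]; exact congrArg (yon S).map (Over.OverMorphism.ext e₂)))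
    exact congrArg Over.Hom.left this⟩
  haveI : IsSeparated h := inferInstance
  haveI : LocallyOfFiniteType (h ≫ pullback.snd (toA E₀) (toA E₀)) := by
    rw [pullback.lift_snd]; infer_instance
  haveI : LocallyOfFiniteType h := locallyOfFiniteType_of_comp h (pullback.snd (toA E₀) (toA E₀))
  haveI : LocallyQuasiFinite (h ≫ pullback.snd (toA E₀) (toA E₀)) := by
    rw [pullback.lift_snd]; infer_instance
  haveI : LocallyQuasiFinite h := LocallyQuasiFinite.of_comp h (pullback.snd (toA E₀) (toA E₀))
  haveI : IsAffine P := inferInstance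
  haveI : QuasiCompact h := HasAffineProperty.iff_of_isAffine.2 ‹CompactSpace ↥R.left›
  haveI : IsAffine h.normalization := isAffine_of_isAffineHom h.fromNormalization
  haveI : R.left.IsQuasiAffine := Scheme.IsQuasiAffine.of_isImmersion h.toNormalization
  have hΓ := isPullback_Γ hqc hqs h1 hE₀ hcov E₀.property.rep p (E₀.property.rep.map_fst' _)
    (𝟙 E₀.obj.left) (by rw [CategoryTheory.Functor.map_id, Category.id_comp])
  rw [Over.id_left, Category.id_comp] at hΓ
  have hh : h = R.left.toSpecΓ ≫ hΓ.isoPullback.hom := by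
    apply pullback.hom_ext
    · rw [pullback.lift_fst, Category.assoc, hΓ.isoPullback_hom_fst, ← Category.assoc, ← Scheme.toSpecΓ_naturality,
        Category.assoc, ← Scheme.isoSpec_hom, Iso.hom_inv_id, Category.comp_id]
    · rw [pullback.lift_snd, Category.assoc, hΓ.isoPullback_hom_snd, ← Category.assoc, ← Scheme.toSpecΓ_naturality,
        Category.assoc, ← Scheme.isoSpec_hom, Iso.hom_inv_id, Category.comp_id]
  haveI : IsOpenImmersion h := by rw [hh]; infer_instance
  haveI : Surjective h := ⟨fun z => by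
    let g := P.fromSpecResidueField z
    obtain ⟨r, hr₁, hr₂⟩ := exists_rel_point hqc hqs h1 hE₀ hcov (repWith_surjective_of hcov)
      (g ≫ pullback.snd (toA E₀) (toA E₀)) (g ≫ pullback.fst (toA E₀) (toA E₀))
      (by rw [Category.assoc, Category.assoc, pullback.condition])
    have hrh : r ≫ h = g := by
      apply pullback.hom_ext
      · rw [Category.assoc, pullback.lift_fst]; exact hr₂
      · rw [Category.assoc, pullback.lift_snd]; exact hr₁
    refine ⟨r (IsLocalRing.closedPoint _), ?_⟩
    rw [← Scheme.Hom.comp_apply, hrh]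
    exact P.fromSpecResidueField_apply _ _⟩
  haveI : IsIso h := (isIso_iff_isOpenImmersion_and_epi_base h).2
    ⟨inferInstance, (TopCat.epi_iff_surjective _).2 h.surjective⟩
  exact (IsPullback.of_iso_pullback ⟨hpq.symm⟩ (asIso h) (pullback.lift_fst _ _ _) (pullback.lift_snd _ _ _)).flip

/-- Serre's criterion. -/
theorem exists_affine_iso [IsAffine E₀.obj.left.left] :
    ∃ T : Over S, IsAffine T.left ∧ Nonempty ((yon S).obj T ≅ X.obj) := by
  have hff := faithfullyFlat_GA hqc hqs h1 hE₀ hcov
  let a := toA E₀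
  have hflat : Flat a := by
    have : Flat (Spec.map (CommRingCat.ofHom (GA E₀).subtype)) :=
      (HasRingHomProperty.Spec_iff (P := @Flat)).2 (show Module.Flat (GA E₀) (Fn E₀) from inferInstance)
    exact inferInstanceAs (Flat (_ ≫ _))
  haveI hsurj : Surjective a := by
    have : Surjective (Spec.map (CommRingCat.ofHom (GA E₀).subtype)) :=
      ⟨PrimeSpectrum.comap_surjective_of_faithfullyFlat (A := GA E₀) (B := Fn E₀)⟩
    exact inferInstanceAs (Surjective (_ ≫ _))
  haveI hqca : QuasiCompact a := inferInstanceAs (QuasiCompact (_ ≫ _))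
  have sq := isPullback_toA hqc hqs h1 hE₀ hcov
  have sqR := E₀.property.rep.isPullback' E₀.obj.hom
  let p := E₀.property.rep.fst' E₀.obj.hom
  let q := E₀.property.rep.snd E₀.obj.hom
  haveI : Etale q.left := E₀.property.property_snd _
  haveI : LocallyOfFinitePresentation a :=
    MorphismProperty.of_isPullback_of_descendsAlong (P := @LocallyOfFinitePresentation)
      (Q := @Surjective ⊓ @Flat ⊓ @QuasiCompact) sq.flip ⟨⟨hsurj, hflat⟩, hqca⟩
      (inferInstanceAs (LocallyOfFinitePresentation q.left))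
  have hd : ∀ {W : Scheme.{u}} (g₁ g₂ : W ⟶ E₀.obj.left.left), g₁ ≫ a = g₂ ≫ a →
      g₁ ≫ E₀.obj.left.hom = g₂ ≫ E₀.obj.left.hom := fun {_} g₁ g₂ hg => by
    obtain ⟨l, rfl, rfl⟩ := sq.exists_lift g₁ g₂ hg
    exact (Category.assoc _ _ _).trans ((congrArg (l ≫ ·) ((Over.w p).trans (Over.w q).symm)).trans
      (Category.assoc _ _ _).symm)
  let d : Spec (CommRingCat.of (GA E₀)) ⟶ S := EffectiveEpi.desc a E₀.obj.left.hom @hd
  let V : Over S := Over.mk d
  let a' : E₀.obj.left ⟶ V := Over.homMk a (EffectiveEpi.fac a E₀.obj.left.hom @hd)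
  have sqV : IsPullback ((yon S).map p) ((yon S).map q) ((yon S).map a') ((yon S).map a') :=
    (IsPullback.of_map (Over.forget S) (f := p) (g := q) (h := a') (i := a') (Over.OverMorphism.ext sq.w) sq).map
      (yon S)
  haveI : Flat a'.left := hflat
  haveI : Surjective a'.left := hsurj
  haveI : LocallyOfFinitePresentation a'.left := inferInstanceAs (LocallyOfFinitePresentation a)
  haveI : Sheaf.IsLocallySurjective ((yon S).map a') :=
    isLocallySurjective_of_repWith ((repWith_yon_map_iff fppf a').2 (fppf_of a'.left))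
  haveI : Epi ((yon S).map a') := Sheaf.epi_of_isLocallySurjective _
  haveI : Epi E₀.obj.hom := epi_of_etale_surjective E₀.property (repWith_surjective_of hcov)
  exact ⟨V, inferInstanceAs (IsAffine (Spec _)), nonempty_iso_of_same_kernelPair _ _ _ _ sqV sqR⟩

end Groth.Agent.AlgSpWA.SerreAffine
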