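import Groth.Agent.AlgSpWA.SerreSub
import Groth.Agent.AlgSpWA.MVBound

/-!
# Global sections through an atlas, and their exactness when first cohomology vanishes
-/

set_option autoImplicit false
set_option linter.style.haveILetI false
set_option backward.isDefEq.respectTransparency false
set_option backward.isDefEq.respectTransparency.types false

noncomputable section

universe u

open CategoryTheory CategoryTheory.Limits AlgebraicGeometry Opposite AlgSp Abelian
open Groth.Agent.QCart13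

namespace Groth.Agent.AlgSpWA.SerreGlobal

open MVSheaf Groth.Agent.AlgSpDec

variable {S : Scheme.{u}} {X : Sp S} (E₀ : EtOver X) (M : ModEt X)

/-- The sections on the atlas agreeing on overlaps. -/
def Inv : AddSubgroup (sectModEt M E₀) where
  carrier := {x | ∀ (Z : EtOver X) (a b : Z ⟶ E₀), res M a x = res M b x}
  zero_mem' Z a b := by rw [map_zero, map_zero]
  add_mem' {x y} hx hy Z a b := by rw [map_add, map_add, hx Z a b, hy Z a b]
  neg_mem' {x} hx Z a b := by rw [map_neg, map_neg, hx Z a b]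

/-- The global functions. -/
def GA : Subring (Fn E₀) where
  carrier := {a | ∀ (Z : EtOver X) (p q : Z ⟶ E₀), rmap p a = rmap q a}
  zero_mem' Z p q := by rw [map_zero, map_zero]
  one_mem' Z p q := by rw [map_one, map_one]
  add_mem' {x y} hx hy Z p q := by rw [map_add, map_add, hx Z p q, hy Z p q]
  mul_mem' {x y} hx hy Z p q := by rw [map_mul, map_mul, hx Z p q, hy Z p q]
  neg_mem' {x} hx Z p q := by rw [map_neg, map_neg, hx Z p q]

variable {E₀ M}

theorem mem_Inv {x : sectModEt M E₀} : x ∈ Inv E₀ M ↔ ∀ (Z : EtOver X) (a b : Z ⟶ E₀), res M a x = res M b x :=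
  Iff.rfl

theorem smul_mem_Inv (r : GA E₀) {x : sectModEt M E₀} (hx : x ∈ Inv E₀ M) : (r : Fn E₀) • x ∈ Inv E₀ M :=
  fun Z a b => by rw [res_smul, res_smul, r.2 Z a b, hx Z a b]

theorem appL_mem_Inv {N : ModEt X} (φ : M ⟶ N) {x : sectModEt M E₀} (hx : x ∈ Inv E₀ M) :
    appL φ E₀ x ∈ Inv E₀ N :=
  fun Z a b => by rw [res_appL, res_appL, hx Z a b]

variable (hcov : ∀ p : Points X, ∃ u, Points.ofPt E₀.obj.hom u = p)

/-- The objects mapping to the atlas. -/
def liftSieve (E : EtOver X) : Sieve E where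
  arrows V _ := Nonempty (V ⟶ E₀)
  downward_closed := fun ⟨g⟩ k => ⟨k ≫ g⟩

include hcov in
theorem liftSieve_mem (E : EtOver X) : liftSieve (E₀ := E₀) E ∈ etTop X E := by
  refine QCart13.mem_etTop_of_exists _ fun w => ?_
  obtain ⟨v, hv⟩ := hcov (Points.ofPt E.obj.hom w)
  obtain ⟨W, -, g, g', z, hz, -⟩ := exists_common E E₀ hv.symm
  exact ⟨W, g, ⟨g'⟩, z, hz⟩

include hcov in
/-- An invariant section extends to every object. -/
theorem exists_ext {x : sectModEt M E₀} (hx : x ∈ Inv E₀ M) :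
    ∃ s : ∀ E : EtOver X, sectModEt M E,
      (∀ (E V : EtOver X) (a : V ⟶ E) (b : V ⟶ E₀), res M a (s E) = res M b x) ∧
        (∀ (E E' : EtOver X) (g : E' ⟶ E), res M g (s E) = s E') ∧ s E₀ = x := by
  have hsh : Presieve.IsSheaf (etTop X) (((toAbEt X).obj M).obj ⋙ forget AddCommGrpCat.{u + 1}) :=
    (isSheaf_iff_isSheaf_of_type _ _).1
      ((sheafCompose (etTop X) (CategoryTheory.forget AddCommGrpCat.{u + 1})).obj ((toAbEt X).obj M)).property
  have key : ∀ E : EtOver X, ∃ s : sectModEt M E, ∀ (V : EtOver X) (a : V ⟶ E) (b : V ⟶ E₀), res M a s = res M b x := by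
    intro E
    let fam : Presieve.FamilyOfElements (((toAbEt X).obj M).obj ⋙ forget AddCommGrpCat.{u + 1})
        (liftSieve (E₀ := E₀) E).arrows := fun V a ha => res M ha.some x
    have hfam : fam.Compatible := fun V₁ V₂ Z g₁ g₂ a₁ a₂ h₁ h₂ _ => by
      show res M g₁ (res M h₁.some x) = res M g₂ (res M h₂.some x)
      rw [← res_comp, ← res_comp]
      exact hx Z _ _
    refine ⟨(hsh _ (liftSieve_mem hcov E)).amalgamate fam hfam, fun V a b => ?_⟩
    have ha : liftSieve (E₀ := E₀) E a := ⟨b⟩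
    exact ((hsh _ (liftSieve_mem hcov E)).valid_glue hfam a ha).trans (hx V _ _)
  choose s hs using key
  refine ⟨s, hs, fun E E' g => ?_, ?_⟩
  · refine (hsh.isSeparated _ (liftSieve_mem hcov E')).ext fun V a ha => ?_
    show res M a (res M g (s E)) = res M a (s E')
    obtain ⟨b⟩ := ha
    rw [← res_comp, hs E V _ b, hs E' V a b]
  · have h := hs E₀ E₀ (𝟙 _) (𝟙 _)
    rwa [res_id, res_id] at h

include hcov in
theorem eq_of_res_eq {E : EtOver X} {s t : sectModEt M E}
    (h : ∀ (V : EtOver X) (a : V ⟶ E) (b : V ⟶ E₀), res M a s = res M a t) : s = t := by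
  have hsh : Presieve.IsSheaf (etTop X) (((toAbEt X).obj M).obj ⋙ forget AddCommGrpCat.{u + 1}) :=
    (isSheaf_iff_isSheaf_of_type _ _).1
      ((sheafCompose (etTop X) (CategoryTheory.forget AddCommGrpCat.{u + 1})).obj ((toAbEt X).obj M)).property
  exact (hsh.isSeparated _ (liftSieve_mem hcov E)).ext fun V a ⟨b⟩ => h V a b

/-- The atlas as a section of the representing presheaf of the whole space. -/
abbrev y₁ : (pre (𝟙 X)).obj (op E₀) := ⟨E₀.obj.hom, Category.comp_id _⟩

include hcov in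
theorem exists_hom {x : sectModEt M E₀} (hx : x ∈ Inv E₀ M) :
    ∃ φ : A (𝟙 X) ⟶ (toAbEt X).obj M, (homEq (𝟙 X) _ φ).app (op E₀) y₁ = x := by
  obtain ⟨s, -, hnat, hs₀⟩ := exists_ext hcov hx
  let ψ : pre (𝟙 X) ⟶ ((toAbEt X).obj M).obj ⋙ forget AddCommGrpCat.{u + 1} :=
    { app := fun W => TypeCat.ofHom fun _ => s W.unop
      naturality := fun W W' g => by
        ext y
        exact (hnat W.unop W'.unop g.unop).symm }
  refine ⟨(homEq (𝟙 X) _).symm ψ, ?_⟩
  rw [Equiv.apply_symm_apply]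
  exact hs₀

theorem hom_mem_Inv (φ : A (𝟙 X) ⟶ (toAbEt X).obj M) :
    ((homEq (𝟙 X) _ φ).app (op E₀) y₁ : sectModEt M E₀) ∈ Inv E₀ M := by
  intro Z a b
  have hu : (pre (𝟙 X)).map a.op y₁ = (pre (𝟙 X)).map b.op (y₁ (E₀ := E₀)) :=
    Subtype.ext ((EtOver.w a).trans (EtOver.w b).symm)
  exact (NatTrans.naturality_apply (homEq (𝟙 X) _ φ) a.op y₁).symm.trans
    ((congrArg _ hu).trans (NatTrans.naturality_apply (homEq (𝟙 X) _ φ) b.op y₁))

include hcov in
/-- Invariant sections lift along epimorphisms with quasi-coherent kernel when `H¹` vanishes. -/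
theorem exists_lift {C : ModEt X} (π : M ⟶ C) [Epi π]
    (h1 : Subsingleton (HModEt X (kernel π) 1)) {x : sectModEt C E₀} (hx : x ∈ Inv E₀ C) :
    ∃ m ∈ Inv E₀ M, appL π E₀ m = x := by
  obtain ⟨φ, hφ⟩ := exists_hom hcov hx
  let Sc : ShortComplex (AbEt X) := (ShortComplex.mk (kernel.ι π) π (kernel.condition π)).map (toAbEt X)
  have hS : Sc.ShortExact :=
    ShortComplex.ShortExact.map_of_exact
      { exact := ShortComplex.exact_of_f_is_kernel _ (kernelIsKernel π) } (toAbEt X)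
  obtain ⟨i⟩ := MVBound.nonempty_iso_top (X := X)
  haveI : Subsingleton (Ext (A (𝟙 X)) Sc.X₁ 1) :=
    @Equiv.subsingleton _ _
      (((extFunctor.{u + 1} 1).mapIso i.op).app Sc.X₁).addCommGroupIsoToAddEquiv.toEquiv.symm h1
  obtain ⟨ψ, hψ⟩ := (SiteBase.conn_eq_zero_iff (A (𝟙 X)) hS φ).1 (Subsingleton.elim _ _)
  refine ⟨(homEq (𝟙 X) _ ψ).app (op E₀) y₁, hom_mem_Inv ψ, ?_⟩
  rw [← hφ, ← hψ, homEq_comp]
  rfl

end Groth.Agent.AlgSpWA.SerreGlobal
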