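import Groth.Agent.AlgSpWA.SerreTheta
import Groth.Agent.AlgSpPts.OpenSub
import Groth.Agent.QCPull13.Space
import Groth.Agent.AlgSpDec.InductionPrinciple

/-!
# The functions on the fibres of the atlas
-/

set_option autoImplicit false
set_option linter.style.haveILetI false
set_option backward.isDefEq.respectTransparency false
set_option backward.isDefEq.respectTransparency.types false

noncomputable section

universe u

open CategoryTheory CategoryTheory.Limits AlgebraicGeometry Opposite AlgSp TensorProduct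
open Groth.Agent.QCart13

namespace Groth.Agent.AlgSpWA.SerrePush

open MVSheaf SerreGlobal SerreTheta Groth.Agent.AlgSpDec Groth.Agent.AlgSpLib Groth.Agent.AlgSpPts

section pairing

variable {B T P : Type*} [CommRing B] [CommRing T] [CommRing P] (A : Subring B) [Algebra A T]

/-- The product of two ring maps agreeing on a subring. -/
def pairing (φB : B →+* P) (φT : T →+* P) (h : ∀ a : A, φB a = φT (algebraMap A T a)) : B ⊗[A] T →+ P :=
  TensorProduct.liftAddHom
    (AddMonoidHom.mk' (fun b => AddMonoidHom.mk' (fun t => φB b * φT t) fun t t' => by rw [map_add, mul_add])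
      fun b b' => AddMonoidHom.ext fun t => by simp [map_add, add_mul])
    fun a b t => by
      simp only [AddMonoidHom.mk'_apply, Algebra.smul_def, map_mul]
      rw [show algebraMap A B a = (a : B) from rfl, h a]
      ring

theorem pairing_tmul (φB : B →+* P) (φT : T →+* P) (h : ∀ a : A, φB a = φT (algebraMap A T a)) (b : B) (t : T) :
    pairing A φB φT h (b ⊗ₜ t) = φB b * φT t := rfl

theorem bijective_of_comp {α β γ δ : Type*} (F : α → β) (g : γ → δ) (u : δ → β) (e : α ≃ γ)
    (h : ∀ z, F z = u (g (e z))) (hg : Function.Bijective g) (hu : Function.Bijective u) : Function.Bijective F := by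
  rw [show F = (u ∘ g) ∘ e from funext h]
  exact (hu.comp hg).comp e.bijective

end pairing

section general

variable {S : Scheme.{u}} {X : Sp S} {E₀ : EtOver X} {T : Over S}

/-- Global functions agree along two lifts. -/
theorem GA_eq (p q : T ⟶ E₀.obj.left) (h : (yon S).map p ≫ E₀.obj.hom = (yon S).map q ≫ E₀.obj.hom)
    {a : Fn E₀} (ha : a ∈ GA E₀) : p.left.appTop a = q.left.appTop a := by
  have sq := E₀.property.rep.isPullback' E₀.obj.hom
  obtain ⟨c₀, hc₁, hc₂⟩ := sq.exists_lift ((yon S).map p) ((yon S).map q) h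
  obtain ⟨c, rfl⟩ := (yon S).map_surjective c₀
  let P₀ : EtOver X := MVSheaf.sub E₀ (E₀.property.rep.snd E₀.obj.hom) (E₀.property.property_snd _)
  let pb : P₀ ⟶ E₀ := EtOver.homMk (E₀.property.rep.fst' E₀.obj.hom) sq.w
  let pa : P₀ ⟶ E₀ := MVSheaf.subι E₀ _ _
  have e1 : c ≫ pb.hom.left = p := (yon S).map_injective (by rw [Functor.map_comp]; exact hc₁)
  have e2 : c ≫ pa.hom.left = q := (yon S).map_injective (by rw [Functor.map_comp]; exact hc₂)
  rw [← e1, ← e2]
  show (c.left ≫ pb.hom.left.left).appTop a = (c.left ≫ pa.hom.left.left).appTop a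
  rw [Scheme.Hom.comp_appTop, Scheme.Hom.comp_appTop]
  exact congrArg c.left.appTop (ha P₀ pb pa)

end general

variable {S : Scheme.{u}} [QuasiSeparatedSpace ↥S] {X : Space S} (hqc : IsQuasiCompactSp X.obj)
  (hqs : IsQuasiSeparatedSp X.obj) (h1 : ∀ M : ModEt X.obj, M.IsQuasicoherent → Subsingleton (HModEt X.obj M 1))
  {E₀ : EtOver X.obj} (hE₀ : Aff E₀) (hcov : ∀ p : Points X.obj, ∃ u, Points.ofPt E₀.obj.hom u = p)
  {T : Over S} [IsAffine T.left] {f : (yon S).obj T ⟶ X.obj} (hrep : Representable f)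
  (c : hrep.pullback E₀.obj.hom ⟶ T) (hc : (yon S).map c = hrep.fst E₀.obj.hom)

include hqs in
theorem isQuasicoherent_push :
    ((pushModEt hrep).obj (unitModEt ((yon S).obj T))).IsQuasicoherent := by
  haveI := isQuasicoherent_unit (X := (yon S).obj T)
  have hq := InductionPrinciple.qcqs_of_iso_affine (IsAlgSpace.yon_obj T) ‹IsAffine T.left› (Iso.refl _)
  let f' : (⟨(yon S).obj T, IsAlgSpace.yon_obj T⟩ : Space S) ⟶ X := ObjectProperty.homMk f
  exact S10002.result f' hrep (isQuasiCompactMor_of_qc_qs (IsAlgSpace.yon_obj T) X.property hq.1 hqs f)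
    (isQuasiSeparatedMor_of_sp f hq.2 hqs) (unitModEt ((yon S).obj T))

include hcov in
omit [QuasiSeparatedSpace ↥S] [IsAffine T.left] in
/-- Invariant functions on the fibre come from the source. -/
theorem exists_of_invariant (z : Fn (EtOver.bcObj hrep E₀))
    (hz : ∀ (Z : EtOver X.obj) (a b : Z ⟶ E₀), rmap ((EtOver.bc hrep).map a) z = rmap ((EtOver.bc hrep).map b) z)
    (hc' : (yon S).map c = (EtOver.bcObj hrep E₀).obj.hom) : ∃ t : Γ(T.left, ⊤), c.left.appTop t = z := by
  let ET : EtOver ((yon S).obj T) := EtOver.mk (𝟙 _) (repWith_id _ _)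
  let P := EtOver.bcObj hrep E₀
  let w₀ : P ⟶ ET := EtOver.homMk c (by show (yon S).map c ≫ 𝟙 _ = _; rw [Category.comp_id, hc'])
  let R : Sieve ET := Sieve.generate (Presieve.singleton w₀)
  have hR : R ∈ etTop ((yon S).obj T) ET := by
    refine QCart13.mem_etTop_of_exists _ fun t => ?_
    obtain ⟨u, hu⟩ := hcov (Points.ofPt f t)
    have sqz := EtOver.isPullback_bcObj hrep E₀
    rw [← hc'] at sqz
    obtain ⟨x, hx, -⟩ := exists_ofPt_of_eq sqz hu.symm
    exact ⟨P, w₀, ⟨P, 𝟙 _, w₀, ⟨⟩, Category.id_comp _⟩, x, hx⟩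
  let G := (toAbEt ((yon S).obj T)).obj (unitModEt ((yon S).obj T))
  have hsh : Presieve.IsSheaf (etTop ((yon S).obj T)) (G.obj ⋙ forget AddCommGrpCat.{u + 1}) :=
    (isSheaf_iff_isSheaf_of_type _ _).1
      ((sheafCompose (etTop ((yon S).obj T)) (CategoryTheory.forget AddCommGrpCat.{u + 1})).obj G).property
  have hpair : ∀ (Z : EtOver ((yon S).obj T)) (g₁ g₂ : Z ⟶ P), rmap g₁ z = rmap g₂ z := by
    intro Z g₁ g₂
    obtain ⟨d, hd₁, hd₂⟩ := BinaryFan.IsLimit.lift' (QCPull13.bcProdIsLimit hrep E₀ E₀) g₁ g₂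
    rw [← hd₁, ← hd₂]
    exact ((rmap_comp d _ z).trans (congrArg (rmap d) (hz _ (EtOver.prodFst E₀ E₀) (EtOver.prodSnd E₀ E₀)))).trans
      (rmap_comp d _ z).symm
  let fam : Presieve.FamilyOfElements (G.obj ⋙ forget AddCommGrpCat.{u + 1}) (Presieve.singleton w₀) :=
    fun Y g hg => match hg with | .mk => toU P z
  have hfam : fam.Compatible := by
    rintro Y₁ Y₂ Z g₁ g₂ a₁ a₂ ⟨⟩ ⟨⟩ -
    exact ULift.ext _ _ (hpair Z g₁ g₂)
  have hsh' : Presieve.IsSheafFor (G.obj ⋙ forget AddCommGrpCat.{u + 1}) (Presieve.singleton w₀) :=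
    (Presieve.isSheafFor_iff_generate _).2 (hsh R hR)
  refine ⟨ofU ET (hsh'.amalgamate fam hfam), ?_⟩
  exact congrArg (ofU P) (hsh'.valid_glue hfam w₀ ⟨⟩)

include hcov hc in
omit [QuasiSeparatedSpace ↥S] [IsAffine T.left] in
theorem injective_fibre : Function.Injective c.left.appTop := by
  intro t t' h
  let ET : EtOver ((yon S).obj T) := EtOver.mk (𝟙 _) (repWith_id _ _)
  let P := EtOver.bcObj hrep E₀
  let w₀ : P ⟶ ET := EtOver.homMk c (by show (yon S).map c ≫ 𝟙 _ = _; rw [Category.comp_id, hc]; rfl)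
  have hR : Sieve.generate (Presieve.singleton w₀) ∈ etTop ((yon S).obj T) ET := by
    refine QCart13.mem_etTop_of_exists _ fun v => ?_
    obtain ⟨u, hu⟩ := hcov (Points.ofPt f v)
    have sqz := EtOver.isPullback_bcObj hrep E₀
    rw [show (EtOver.bcObj hrep E₀).obj.hom = (yon S).map c from hc.symm] at sqz
    obtain ⟨x, hx, -⟩ := exists_ofPt_of_eq sqz hu.symm
    exact ⟨P, w₀, ⟨P, 𝟙 _, w₀, ⟨⟩, Category.id_comp _⟩, x, hx⟩
  refine congrArg (ofU ET) (MVSheaf.isSeparated_sections (G := (toAbEt ((yon S).obj T)).obj (unitModEt ((yon S).obj T)))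
    ET hR (x := toU ET t) (x' := toU ET t') fun W k hk => ?_)
  obtain ⟨_, g, _, ⟨⟩, rfl⟩ := hk
  exact ULift.ext _ _ (congrArg (rmap g) h)

variable (y : T ⟶ E₀.obj.left) (hy : (yon S).map y ≫ E₀.obj.hom = f)

/-- Functions pulled back to the fibre. -/
abbrev rmapπ : Fn E₀ →+* Fn (EtOver.bcObj hrep E₀) := (hrep.snd E₀.obj.hom).left.appTop.hom

include hy hc in
omit [QuasiSeparatedSpace ↥S] [IsAffine T.left] in
theorem compat_GA (a : GA E₀) :
    (hrep.snd E₀.obj.hom).left.appTop (a : Fn E₀) = c.left.appTop (y.left.appTop (a : Fn E₀)) := by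
  rw [GA_eq (hrep.snd E₀.obj.hom) (c ≫ y) ?_ a.2]
  · show (c.left ≫ y.left).appTop _ = _
    rw [Scheme.Hom.comp_appTop]
    rfl
  · rw [Functor.map_comp, Category.assoc, hy, hc, hrep.w]

/-- The global functions act on the functions of the source through a lift. -/
abbrev algT : Algebra (GA E₀) Γ(T.left, ⊤) := (y.left.appTop.hom.comp (GA E₀).subtype).toAlgebra

/-- The comparison map. -/
def Ψ :
    letI := algT (E₀ := E₀) y
    Fn E₀ ⊗[GA E₀] Γ(T.left, ⊤) →+ Γ((hrep.pullback E₀.obj.hom).left, ⊤) :=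
  letI := algT (E₀ := E₀) y
  pairing (GA E₀) (hrep.snd E₀.obj.hom).left.appTop.hom c.left.appTop.hom
    (fun a => compat_GA hrep c hc y hy a)

theorem Ψ_tmul (b : Fn E₀) (t : Γ(T.left, ⊤)) :
    letI := algT (E₀ := E₀) y
    Ψ hrep c hc y hy (b ⊗ₜ t) = (hrep.snd E₀.obj.hom).left.appTop b * c.left.appTop t := rfl

include hqc hqs h1 hE₀ hcov hc hy in
set_option maxHeartbeats 6400000 in
theorem bijective_Ψ :
    letI := algT (E₀ := E₀) y
    Function.Bijective (Ψ hrep c hc y hy) := by
  letI := algT (E₀ := E₀) y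
  haveI := isQuasicoherent_push hqs hrep
  let M : ModEt X.obj := (pushModEt hrep).obj (unitModEt ((yon S).obj T))
  let P := EtOver.bcObj hrep E₀
  let γ : Γ(T.left, ⊤) → sectModEt M E₀ := fun t => toU P (c.left.appTop t)
  have hγ : ∀ t, γ t ∈ Inv E₀ M := fun t Z a b => by
    have h : ∀ g : Z ⟶ E₀, ((EtOver.bc hrep).map g).hom.left ≫ c = ((EtOver.bc hrep).map a).hom.left ≫ c := fun g =>
      (yon S).map_injective (by
        rw [Functor.map_comp, Functor.map_comp, hc]
        exact (EtOver.map_bcMap_fst hrep g).trans (EtOver.map_bcMap_fst hrep a).symm)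
    refine ULift.ext _ _ ?_
    have h' := congrArg (fun k : (EtOver.bcObj hrep Z).obj.left ⟶ T => k.left.appTop t) (h b).symm
    simp only [Over.comp_left, Scheme.Hom.comp_appTop] at h'
    exact h'
  have hsmul : ∀ (r : Fn E₀) (z : sectModEt M E₀), ofU P (show sectModEt (unitModEt _) P from r • z) =
      rmapπ hrep r * ofU P (show sectModEt (unitModEt _) P from z) := fun r z => rfl
  let γL : Γ(T.left, ⊤) →ₗ[GA E₀] InvS (E₀ := E₀) M :=
    { toFun := fun t => ⟨γ t, hγ t⟩
      map_add' := fun t t' => Subtype.ext (ULift.ext _ _ (map_add c.left.appTop.hom t t'))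
      map_smul' := fun a t => Subtype.ext (ULift.ext _ _ (by
        show c.left.appTop (y.left.appTop (a : Fn E₀) * t) = (hrep.snd E₀.obj.hom).left.appTop (a : Fn E₀) * c.left.appTop t
        rw [map_mul, compat_GA hrep c hc y hy a])) }
  have hbij : Function.Bijective γL := by
    refine ⟨fun t t' h => injective_fibre hcov hrep c hc (congrArg (ofU P) (congrArg Subtype.val h)), fun m => ?_⟩
    obtain ⟨t, ht⟩ := exists_of_invariant hcov hrep c (ofU P m.1) (fun Z a b => congrArg (ofU _) (m.2 Z a b)) hc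
    exact ⟨t, Subtype.ext ((congrArg (toU P) ht).trans (toU_ofU P _))⟩
  let e := TensorProduct.congr (LinearEquiv.refl (GA E₀) (Fn E₀)) (LinearEquiv.ofBijective γL hbij)
  have h2 : ∀ z, Ψ hrep c hc y hy z = ofU P (μ (E₀ := E₀) M (e z)) := fun z => by
    induction z using TensorProduct.induction_on with
    | zero => simp
    | add a b ha hb => rw [map_add, ha, hb, map_add, map_add]; exact (map_add (ofU P) _ _).symm
    | tmul b t =>
      rw [TensorProduct.congr_tmul, μ_tmul]
      exact (hsmul b _).symm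
  have hU : Function.Bijective (fun z : sectModEt M E₀ => ofU P (show sectModEt (unitModEt _) P from z)) :=
    ⟨fun a b h => ULift.ext _ _ h, fun a => ⟨toU P a, rfl⟩⟩
  exact bijective_of_comp (Ψ hrep c hc y hy) (μ (E₀ := E₀) M) _ e.toEquiv h2
    (bijective_μ hqc hqs h1 hE₀ hcov M) hU

end Groth.Agent.AlgSpWA.SerrePush
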