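import Groth.Agent.AlgSpWA.SerreGen
import Groth.Agent.S10002
import Groth.Agent.S9920
import Groth.Agent.AlgSpDec.LimDescentDiag

/-!
# Sections over the atlas are the base change of the global sections
-/

set_option autoImplicit false
set_option linter.style.haveILetI false
set_option backward.isDefEq.respectTransparency false
set_option backward.isDefEq.respectTransparency.types false

noncomputable section

universe u

open CategoryTheory CategoryTheory.Limits AlgebraicGeometry Opposite AlgSp TensorProduct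
open Groth.Agent.QCart13

namespace Groth.Agent.AlgSpWA.SerreTheta

open MVSheaf SerreGlobal SerreGen Groth.Agent.AlgSpDec Groth.Agent.AlgSpLib

section algebra

variable {B : Type*} [CommRing B] {M : Type*} [AddCommGroup M] [Module B M] (A : Subring B)

theorem injective_of_relations (N : Submodule A M)
    (rel : ∀ (n : ℕ) (x : Fin n → M), (∀ k, x k ∈ N) → ∀ b : Fin n → B, ∑ k, b k • x k = 0 →
      ∃ (m : ℕ) (c : Fin m → B) (κ : Fin m → Fin n → A),
        (∀ l, ∑ k, (κ l k : B) • x k = 0) ∧ ∀ k, b k = ∑ l, c l * (κ l k : B)) :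
    Function.Injective (N.subtype.liftBaseChange B) := by
  rw [injective_iff_map_eq_zero]
  intro z hz
  obtain ⟨s, rfl⟩ := TensorProduct.exists_finset z
  let x : Fin s.card → N := fun k => (s.equivFin.symm k).1.2
  let b : Fin s.card → B := fun k => (s.equivFin.symm k).1.1
  have hs : ∑ p ∈ s, p.1 ⊗ₜ[A] p.2 = ∑ k, b k ⊗ₜ[A] x k := by
    rw [← Finset.sum_coe_sort]
    exact Fintype.sum_equiv s.equivFin _ _ fun i => by simp [b, x]
  rw [hs] at hz ⊢
  simp only [map_sum, LinearMap.liftBaseChange_tmul, Submodule.coe_subtype] at hz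
  obtain ⟨m, c, κ, hκ, hb⟩ := rel s.card (fun k => (x k).1) (fun k => (x k).2) b hz
  calc ∑ k, b k ⊗ₜ[A] x k = ∑ k, ∑ l, c l ⊗ₜ[A] (κ l k • x k) := by
        refine Finset.sum_congr rfl fun k _ => ?_
        rw [hb k, TensorProduct.sum_tmul]
        refine Finset.sum_congr rfl fun l _ => ?_
        rw [← TensorProduct.smul_tmul]
        exact congrArg (· ⊗ₜ[A] x k) (mul_comm _ _)
    _ = 0 := by
        rw [Finset.sum_comm]
        refine Finset.sum_eq_zero fun l _ => ?_
        rw [← TensorProduct.tmul_sum, show (∑ k, κ l k • x k) = 0 from Subtype.ext ?_, TensorProduct.tmul_zero]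
        rw [Submodule.coe_sum]
        exact hκ l

theorem flat_of_relations
    (rel : ∀ (n : ℕ) (a : Fin n → A) (b : Fin n → B), ∑ k, (a k : B) * b k = 0 →
      ∃ (m : ℕ) (c : Fin m → B) (κ : Fin m → Fin n → A),
        (∀ l, ∑ k, κ l k * a k = 0) ∧ ∀ k, b k = ∑ l, c l * (κ l k : B)) :
    Module.Flat A B := by
  rw [Module.Flat.iff_forall_isTrivialRelation]
  intro n a b hab
  obtain ⟨m, c, κ, hκ, hb⟩ := rel n a b hab
  refine ⟨m, fun k j => κ j k, c, fun k => ?_, fun j => ?_⟩
  · rw [hb k]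
    exact Finset.sum_congr rfl fun l _ => mul_comm _ _
  · rw [← hκ j]
    exact Finset.sum_congr rfl fun k _ => mul_comm _ _

theorem exists_fin_of_smul_eq_top {m : Ideal A} (h : m • (⊤ : Submodule A B) = ⊤) :
    ∃ (n : ℕ) (a : Fin n → A) (b : Fin n → B), (∀ k, a k ∈ m) ∧ ∑ k, (a k : B) * b k = 1 := by
  have h1 : (1 : B) ∈ m • (⊤ : Submodule A B) := by rw [h]; trivial
  refine Submodule.smul_induction_on h1
    (fun r hr t _ => ⟨1, fun _ => r, fun _ => t, fun _ => hr, by rw [Fin.sum_univ_one]; rfl⟩) ?_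
  rintro x y ⟨n, a, b, ha, rfl⟩ ⟨n', a', b', ha', rfl⟩
  refine ⟨n + n', Fin.append a a', Fin.append b b', fun k => ?_, ?_⟩
  · induction k using Fin.addCases with
    | left i => rw [Fin.append_left]; exact ha i
    | right i => rw [Fin.append_right]; exact ha' i
  · rw [Fin.sum_univ_add]
    simp only [Fin.append_left, Fin.append_right]

end algebra

section unit

variable {S : Scheme.{u}} {X : Sp S}

/-- A function as a section of the structure module. -/
def toU (E : EtOver X) : Fn E →+ sectModEt (unitModEt X) E where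
  toFun a := upΓ E a
  map_zero' := map_zero _
  map_add' := map_add _

/-- A section of the structure module as a function. -/
def ofU (E : EtOver X) : sectModEt (unitModEt X) E →+ Fn E where
  toFun a := ULift.down a
  map_zero' := rfl
  map_add' _ _ := rfl

theorem ofU_toU (E : EtOver X) (a : Fn E) : ofU E (toU E a) = a := rfl

theorem toU_ofU (E : EtOver X) (a : sectModEt (unitModEt X) E) : toU E (ofU E a) = a := rfl

theorem ofU_res {E E' : EtOver X} (g : E' ⟶ E) (a : sectModEt (unitModEt X) E) :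
    ofU E' (res (unitModEt _) g a) = rmap g (ofU E a) := rfl

theorem ofU_smul (E : EtOver X) (c : Fn E) (a : sectModEt (unitModEt X) E) :
    ofU E (c • a) = c * ofU E a := rfl

set_option maxHeartbeats 1600000 in
theorem isQuasicoherent_unit : (unitModEt X).IsQuasicoherent := by
  refine isQuasicoherent_of_cart _ fun E hE E' g hE' => ?_
  refine (isBC_iff (unitModEt X) (Over.mk g)).2 ((isBaseChange_iff_bijective _).2
    (show Function.Bijective (bcMor (unitModEt X) (Over.mk g)) from ?_))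
  have hone : ∀ c : Fn E', bcMor (unitModEt X) (Over.mk g) (c ⊗ₜ toU E 1) = toU E' c := fun c => by
    refine ULift.ext _ _ ?_
    show c * rmap g 1 = c
    rw [map_one, mul_one]
  have hnorm : ∀ z : Fn (Over.mk g).left ⊗[Fn E] sectModEt (unitModEt X) E,
      ∃ c : Fn (Over.mk g).left, z = c ⊗ₜ toU E 1 := by
    intro z
    induction z using TensorProduct.induction_on with
    | zero => exact ⟨0, (TensorProduct.zero_tmul _ _).symm⟩
    | add a b ha hb =>
      obtain ⟨c, rfl⟩ := ha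
      obtain ⟨d, rfl⟩ := hb
      exact ⟨c + d, (TensorProduct.add_tmul c d _).symm⟩
    | tmul r m =>
      refine ⟨ofU E m • r, ?_⟩
      rw [TensorProduct.smul_tmul]
      refine congrArg (r ⊗ₜ ·) (ULift.ext _ _ ?_)
      show ofU E m = ofU E m * 1
      rw [mul_one]
  refine ⟨fun a b hab => ?_, fun y => ⟨ofU E' y ⊗ₜ toU E 1, (hone _).trans (toU_ofU E' y)⟩⟩
  obtain ⟨c, rfl⟩ := hnorm a
  obtain ⟨d, rfl⟩ := hnorm b
  exact congrArg (· ⊗ₜ toU E 1) (((hone c).symm.trans (hab.trans (hone d))) |> congrArg (ofU E'))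

end unit

variable {S : Scheme.{u}} [QuasiSeparatedSpace ↥S] {X : Space S} (hqc : IsQuasiCompactSp X.obj)
  (hqs : IsQuasiSeparatedSp X.obj) (h1 : ∀ M : ModEt X.obj, M.IsQuasicoherent → Subsingleton (HModEt X.obj M 1))
  {E₀ : EtOver X.obj} (hE₀ : Aff E₀) (hcov : ∀ p : Points X.obj, ∃ u, Points.ofPt E₀.obj.hom u = p)

include hcov in
theorem exists_unitHom {M : ModEt X.obj} {x : sectModEt M E₀} (hx : x ∈ Inv E₀ M) :
    ∃ φ : unitModEt X.obj ⟶ M, ∀ a, appL φ E₀ a = ofU E₀ a • x := by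
  obtain ⟨s, -, hnat, hs₀⟩ := exists_ext hcov hx
  let σ : M.sections := ⟨fun W => s W.unop, fun {W W'} g => hnat W.unop W'.unop g.unop⟩
  refine ⟨(SheafOfModules.unitHomEquiv M).symm σ, fun a => ?_⟩
  have h : appL ((SheafOfModules.unitHomEquiv M).symm σ) E₀ (toU E₀ 1) = x := by
    have h' := SheafOfModules.unitHomEquiv_apply_coe M ((SheafOfModules.unitHomEquiv M).symm σ) (op E₀)
    rw [Equiv.apply_symm_apply] at h'
    exact h'.symm.trans hs₀
  conv_lhs => rw [show a = ofU E₀ a • toU E₀ 1 from ULift.ext _ _ (mul_one (ofU E₀ a)).symm]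
  rw [map_smul, h]

/-- Copies of the structure module. -/
abbrev DO (X : Space S) (n : ℕ) : ULift.{u} (Fin n) → ModEt X.obj := fun _ => unitModEt X.obj

/-- A finite free module. -/
def Fr (X : Space S) (n : ℕ) : ModEt X.obj :=
  haveI : HasFiniteBiproducts (ModEt X.obj) := HasFiniteBiproducts.of_hasFiniteProducts
  ⨁ DO X n

omit [QuasiSeparatedSpace ↥S] in
theorem isQuasicoherent_Fr (n : ℕ) : (Fr X n).IsQuasicoherent := by
  haveI : HasFiniteBiproducts (ModEt X.obj) := HasFiniteBiproducts.of_hasFiniteProducts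
  haveI := isQuasicoherent_unit (X := X.obj)
  haveI : (∐ DO X n).IsQuasicoherent := isQuasicoherent_of_cart _ fun E hE =>
    cart_sigma (DO X n) hE fun j => cart_of_isQuasicoherent _ hE
  exact (SheafOfModules.isQuasicoherent (OEtRing X.obj)).prop_of_iso (biproduct.isoCoproduct (DO X n)).symm ‹_›

/-- The coordinates of a section of a finite free module. -/
def coord (n : ℕ) (k : Fin n) (E : EtOver X.obj) : sectModEt (Fr X n) E →+ Fn E :=
  haveI : HasFiniteBiproducts (ModEt X.obj) := HasFiniteBiproducts.of_hasFiniteProducts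
  (ofU E).comp (appL (biproduct.π (DO X n) (ULift.up k)) E).toAddMonoidHom

omit [QuasiSeparatedSpace ↥S] in
theorem coord_smul {n : ℕ} (k : Fin n) (E : EtOver X.obj) (r : Fn E) (y : sectModEt (Fr X n) E) :
    coord n k E (r • y) = r * coord n k E y := by
  haveI : HasFiniteBiproducts (ModEt X.obj) := HasFiniteBiproducts.of_hasFiniteProducts
  exact (congrArg (ofU E) ((appL (biproduct.π (DO X n) (ULift.up k)) E).map_smul r y)).trans (ofU_smul E r _)

omit [QuasiSeparatedSpace ↥S] in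
theorem coord_mem_GA {n : ℕ} (k : Fin n) {y : sectModEt (Fr X n) E₀} (hy : y ∈ Inv E₀ (Fr X n)) :
    coord n k E₀ y ∈ GA E₀ := fun Z p q =>
  haveI : HasFiniteBiproducts (ModEt X.obj) := HasFiniteBiproducts.of_hasFiniteProducts
  (ofU_res p _).symm.trans ((congrArg (ofU Z) (appL_mem_Inv (biproduct.π (DO X n) (ULift.up k)) hy Z p q)).trans
    (ofU_res q _))

omit [QuasiSeparatedSpace ↥S] in
theorem exists_coords {n : ℕ} (E : EtOver X.obj) (b : Fin n → Fn E) :
    ∃ y : sectModEt (Fr X n) E, ∀ k, coord n k E y = b k := by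
  haveI : HasFiniteBiproducts (ModEt X.obj) := HasFiniteBiproducts.of_hasFiniteProducts
  refine ⟨(∑ k, appL (biproduct.ι (DO X n) (ULift.up k)) E (toU E (b k)) : sectModEt (⨁ DO X n) E), fun k => ?_⟩
  refine (map_sum (coord n k E) _ _).trans ?_
  rw [Finset.sum_eq_single k (fun k' _ hk' => ?_) (fun h => absurd (Finset.mem_univ _) h)]
  · show ofU E (appL _ E (appL _ E _)) = _
    rw [appL_appL, biproduct.ι_π_self]
    rfl
  · show ofU E (appL _ E (appL _ E _)) = _
    rw [appL_appL, biproduct.ι_π_ne (DO X n) (fun h => hk' (congrArg ULift.down h))]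
    rfl

include hcov in
theorem exists_row {M : ModEt X.obj} {n : ℕ} (x : Fin n → sectModEt M E₀) (hx : ∀ k, x k ∈ Inv E₀ M) :
    ∃ f : Fr X n ⟶ M, ∀ y, appL f E₀ y = ∑ k, coord n k E₀ y • x k := by
  haveI : HasFiniteBiproducts (ModEt X.obj) := HasFiniteBiproducts.of_hasFiniteProducts
  choose φ hφ using fun k => exists_unitHom hcov (hx k)
  refine ⟨(biproduct.desc fun j => φ j.down : ⨁ DO X n ⟶ M), fun y => ?_⟩
  have e1 : (biproduct.desc fun j => φ j.down : ⨁ DO X n ⟶ M) = ∑ j, biproduct.π (DO X n) j ≫ φ j.down := by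
    refine biproduct.hom_ext' _ _ fun j => ?_
    rw [biproduct.ι_desc, Preadditive.comp_sum, Finset.sum_eq_single j (fun j' _ hj' => ?_)
      (fun h => absurd (Finset.mem_univ _) h)]
    · rw [biproduct.ι_π_self_assoc]
    · rw [biproduct.ι_π_ne_assoc (DO X n) (Ne.symm hj'), zero_comp]
  let ev : (⨁ DO X n ⟶ M) →+ sectModEt M E₀ := AddMonoidHom.mk' (fun g => appL g E₀ y) fun g g' => rfl
  show ev _ = _
  rw [e1, map_sum]
  refine Fintype.sum_equiv Equiv.ulift _ (fun k => coord n k E₀ y • x k) fun j => ?_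
  exact (appL_appL (biproduct.π (DO X n) j) (φ j.down) E₀ y).symm.trans (hφ _ _)

omit [QuasiSeparatedSpace ↥S] in
theorem relations_of_span {M K : ModEt X.obj} {n m : ℕ} (ι : K ⟶ Fr X n) (f : Fr X n ⟶ M) (hιf : ι ≫ f = 0)
    (x : Fin n → sectModEt M E₀) (hf : ∀ y, appL f E₀ y = ∑ k, coord n k E₀ y • x k)
    (c : Fin m → Fn E₀) (z : Fin m → sectModEt K E₀) (hz : ∀ l, z l ∈ Inv E₀ K) (κ₀ : sectModEt K E₀)
    (hsum : ∑ l, c l • z l = κ₀) :
    ∃ κ : Fin m → Fin n → GA E₀, (∀ l, ∑ k, (κ l k : Fn E₀) • x k = 0) ∧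
      ∀ k, coord n k E₀ (appL ι E₀ κ₀) = ∑ l, c l * (κ l k : Fn E₀) := by
  refine ⟨fun l k => ⟨coord n k E₀ (appL ι E₀ (z l)), coord_mem_GA k (appL_mem_Inv ι (hz l))⟩, fun l => ?_, fun k => ?_⟩
  · show ∑ k, coord n k E₀ (appL ι E₀ (z l)) • x k = 0
    rw [← hf, appL_appL, hιf]
    rfl
  · rw [← hsum, map_sum, map_sum]
    refine Finset.sum_congr rfl fun l _ => ?_
    rw [map_smul, coord_smul]

include hqc hqs h1 hE₀ hcov in
set_option maxHeartbeats 1600000 in
/-- Relations between global sections are generated by global relations. -/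
theorem exists_relations (M : ModEt X.obj) [M.IsQuasicoherent] {n : ℕ} (x : Fin n → sectModEt M E₀)
    (hx : ∀ k, x k ∈ Inv E₀ M) (b : Fin n → Fn E₀) (hb : ∑ k, b k • x k = 0) :
    ∃ (m : ℕ) (c : Fin m → Fn E₀) (κ : Fin m → Fin n → GA E₀),
      (∀ l, ∑ k, (κ l k : Fn E₀) • x k = 0) ∧ ∀ k, b k = ∑ l, c l * (κ l k : Fn E₀) := by
  classical
  haveI := isQuasicoherent_Fr (X := X) n
  obtain ⟨f, hf⟩ := exists_row hcov x hx
  haveI : (kernel f).IsQuasicoherent := ((S10240.result X).2.1 _ _ f ‹_› ‹_›).1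
  obtain ⟨β, hβ⟩ := exists_coords E₀ b
  obtain ⟨κ₀, hκ₀⟩ := exists_kernel_preimage f E₀ β (by
    rw [hf]
    simp only [hβ]
    exact hb)
  have hspan : κ₀ ∈ Submodule.span (Fn E₀) (Inv E₀ (kernel f) : Set (sectModEt (kernel f) E₀)) := by
    rw [span_Inv_eq_top hqc hqs h1 hE₀ hcov]; trivial
  obtain ⟨m, c, z, hz⟩ := Submodule.mem_span_set'.1 hspan
  obtain ⟨κ, hκ, hκb⟩ := relations_of_span (kernel.ι f) f (kernel.condition f) x hf c (fun l => (z l : sectModEt (kernel f) E₀))
    (fun l => Subtype.prop (z l)) κ₀ hz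
  refine ⟨m, c, κ, hκ, fun k => ?_⟩
  rw [← hβ k, ← hκ₀]
  exact hκb k

/-- The global sections as a module over the global functions. -/
def InvS (M : ModEt X.obj) : Submodule (GA E₀) (sectModEt M E₀) where
  carrier := Inv E₀ M
  zero_mem' := (Inv E₀ M).zero_mem
  add_mem' := (Inv E₀ M).add_mem
  smul_mem' r _ hx := smul_mem_Inv r hx

/-- The comparison map. -/
def μ (M : ModEt X.obj) : Fn E₀ ⊗[GA E₀] InvS (E₀ := E₀) M →ₗ[Fn E₀] sectModEt M E₀ :=
  (InvS (E₀ := E₀) M).subtype.liftBaseChange (Fn E₀)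

theorem μ_tmul (M : ModEt X.obj) (b : Fn E₀) (x : InvS (E₀ := E₀) M) : μ M (b ⊗ₜ x) = b • x.1 :=
  LinearMap.liftBaseChange_tmul (l := (InvS (E₀ := E₀) M).subtype) (A := Fn E₀) _ _

set_option maxHeartbeats 1600000 in
include hqc hqs h1 hE₀ hcov in
theorem bijective_μ (M : ModEt X.obj) [M.IsQuasicoherent] : Function.Bijective (μ (E₀ := E₀) M) := by
  constructor
  · exact injective_of_relations (GA E₀) (InvS M) fun n x hx b hb =>
      exists_relations hqc hqs h1 hE₀ hcov M x hx b hb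
  · intro y
    have hy : y ∈ Submodule.span (Fn E₀) (Inv E₀ M : Set (sectModEt M E₀)) := by
      rw [span_Inv_eq_top hqc hqs h1 hE₀ hcov]; trivial
    induction hy using Submodule.span_induction with
    | mem y hy => exact ⟨1 ⊗ₜ ⟨y, hy⟩, by rw [μ_tmul, one_smul]⟩
    | zero => exact ⟨0, map_zero _⟩
    | add a b _ _ ha hb =>
      obtain ⟨p, rfl⟩ := ha
      obtain ⟨q, rfl⟩ := hb
      exact ⟨p + q, map_add _ _ _⟩
    | smul r a _ ha =>
      obtain ⟨p, rfl⟩ := ha
      exact ⟨r • p, map_smul _ _ _⟩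

set_option maxHeartbeats 1600000 in
include hqc hqs h1 hE₀ hcov in
theorem flat_GA : Module.Flat (GA E₀) (Fn E₀) := by
  haveI := isQuasicoherent_unit (X := X.obj)
  refine flat_of_relations (GA E₀) fun n a b hab => ?_
  obtain ⟨m, c, κ, hκ, hb⟩ := exists_relations hqc hqs h1 hE₀ hcov (unitModEt X.obj)
    (fun k => toU E₀ (a k : Fn E₀)) (fun k Z p q => ULift.ext _ _ ((a k).2 Z p q)) b (by
      refine ULift.ext _ _ ?_
      show ofU E₀ _ = (0 : Fn E₀)
      rw [map_sum]
      refine (Finset.sum_congr rfl fun k _ => ?_).trans hab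
      rw [ofU_smul, ofU_toU, mul_comm])
  refine ⟨m, c, κ, fun l => Subtype.ext ?_, hb⟩
  have h := congrArg (ofU E₀) (hκ l)
  rw [map_sum, map_zero] at h
  simp only [AddSubmonoidClass.coe_finset_sum, MulMemClass.coe_mul, ZeroMemClass.coe_zero]
  refine (Finset.sum_congr rfl fun k _ => ?_).trans h
  rw [ofU_smul, ofU_toU]

set_option maxHeartbeats 1600000 in
include hqc hqs h1 hE₀ hcov in
theorem faithfullyFlat_GA : Module.FaithfullyFlat (GA E₀) (Fn E₀) := by
  classical
  haveI := isQuasicoherent_unit (X := X.obj)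
  haveI := flat_GA hqc hqs h1 hE₀ hcov
  refine ⟨fun {m} hm htop => ?_⟩
  obtain ⟨n, a, b, ha, hab⟩ := exists_fin_of_smul_eq_top (GA E₀) htop
  haveI := isQuasicoherent_Fr (X := X) n
  obtain ⟨f, hf⟩ := exists_row hcov (M := unitModEt X.obj) (fun k => toU E₀ (a k : Fn E₀))
    fun k Z p q => ULift.ext _ _ ((a k).2 Z p q)
  let C := cokernel f
  haveI : C.IsQuasicoherent := ((S10240.result X).2.1 _ _ f ‹_› ‹_›).2
  have hone : appL (cokernel.π f) E₀ (toU E₀ 1) = 0 := by
    obtain ⟨β, hβ⟩ := exists_coords E₀ b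
    have hβ' : appL f E₀ β = toU E₀ 1 := by
      rw [hf]
      refine ULift.ext _ _ ?_
      show ofU E₀ _ = 1
      rw [map_sum, ← hab]
      refine Finset.sum_congr rfl fun k _ => ?_
      rw [ofU_smul, ofU_toU, mul_comm, hβ]
    rw [← hβ', appL_appL, cokernel.condition]
    rfl
  haveI : Epi f := by
    refine Preadditive.epi_of_isZero_cokernel f ((IsZero.iff_id_eq_zero _).2 ?_)
    rw [← cancel_epi (cokernel.π f), Category.comp_id, comp_zero]
    refine SheafOfModules.hom_ext (PresheafOfModules.hom_ext fun W => ModuleCat.hom_ext (LinearMap.ext fun y => ?_))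
    refine eq_of_res_eq (M := C) hcov fun V g h => ?_
    have h2 : res (unitModEt X.obj) g y = ofU V (res (unitModEt X.obj) g y) • res (unitModEt X.obj) h (toU E₀ 1) :=
      ULift.ext _ _ (by
        show ofU V (res (unitModEt X.obj) g y) = ofU V (res (unitModEt X.obj) g y) * rmap h 1
        rw [map_one, mul_one])
    show res C g (appL (cokernel.π f) W.unop y) = res C g 0
    rw [res_appL, h2, map_smul, ← res_appL, hone, map_zero, smul_zero, map_zero]
  obtain ⟨γ, hγ, hγ1⟩ := exists_lift hcov f (h1 _ ((S10240.result X).2.1 _ _ f ‹_› ‹_›).1)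
    (x := toU E₀ 1) fun Z p q => ULift.ext _ _ (by show rmap p 1 = rmap q 1; rw [map_one, map_one])
  refine hm.ne_top ((Ideal.eq_top_iff_one m).2 ?_)
  have hg : ∀ k, coord n k E₀ γ ∈ GA E₀ := fun k => coord_mem_GA k hγ
  have h2 : (1 : GA E₀) = ∑ k, (⟨_, hg k⟩ : GA E₀) * a k := by
    refine Subtype.ext ?_
    simp only [AddSubmonoidClass.coe_finset_sum, MulMemClass.coe_mul, OneMemClass.coe_one]
    rw [hf] at hγ1
    have h := congrArg (ofU E₀) hγ1
    rw [map_sum] at h
    refine h.symm.trans (Finset.sum_congr rfl fun k _ => ?_)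
    rw [ofU_smul]; rfl
  rw [h2]
  exact sum_mem fun k _ => m.mul_mem_left _ (ha k)

end Groth.Agent.AlgSpWA.SerreTheta
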