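import Groth.Agent.AlgSpWA.FP
import Groth.Agent.AlgSpDec.EtStalkAb
import Groth.Agent.AlgSpPts.OpenSub

/-!
# Stalks of quasi-coherent modules at geometric points through annihilators on affine charts
-/

set_option autoImplicit false
set_option linter.style.haveILetI false
set_option backward.isDefEq.respectTransparency false
set_option backward.isDefEq.respectTransparency.types false

noncomputable section

universe u

open CategoryTheory CategoryTheory.Limits AlgebraicGeometry Opposite AlgSp TensorProduct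
open Groth.Agent.QCart13 Groth.Agent.WeakAss Groth.Agent.AlgSpDec
open Groth.Agent.AlgSpDec.EtStalkElts

namespace Groth.Agent.AlgSpWA

variable {S : Scheme.{u}} {X : Sp S} (M : ModEt X) {p : FieldPt X}

/-- The germ of a section at a neighbourhood. -/
def germAt (N : EtNbhd p) (σ : sectModEt M N.1) : ↥(stalkEt p ((toAbEt X).obj M)) :=
  (stalkEtι p ((toAbEt X).obj M) N).hom σ

theorem germAt_res {N N' : EtNbhd p} (g : N' ⟶ N) (σ : sectModEt M N.1) :
    germAt M N' (res M g.val σ) = germAt M N σ :=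
  ConcreteCategory.congr_hom (colimit.w (stalkEtDiagram p ((toAbEt X).obj M)) g.op) σ

theorem germAt_add (N : EtNbhd p) (σ τ : sectModEt M N.1) :
    germAt M N (σ + τ) = germAt M N σ + germAt M N τ := map_add _ σ τ

theorem germAt_zero (N : EtNbhd p) : germAt M N 0 = 0 := map_zero _

variable {M}

theorem germAt_eq_zero_iff_exists (hX : IsAlgSpace X) (hp : p.IsGeometric) (N : EtNbhd p) (σ : sectModEt M N.1) :
    germAt M N σ = 0 ↔ ∃ (N' : EtNbhd p) (g : N' ⟶ N), res M g.val σ = 0 :=
  EtStalkAb.stalkι_eq_zero_iff ((toAbEt X).obj M) hX hp N σ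

theorem exists_germAt (hX : IsAlgSpace X) (hp : p.IsGeometric) (z : ↥(stalkEt p ((toAbEt X).obj M))) :
    ∃ (N : EtNbhd p) (σ : sectModEt M N.1), germAt M N σ = z :=
  EtStalkAb.exists_rep ((toAbEt X).obj M) hX hp z

/-- Two neighbourhoods are refined by an affine one. -/
theorem exists_affine_refine (hX : IsAlgSpace X) (hp : p.IsGeometric) (N N' : EtNbhd p) :
    ∃ (W : EtNbhd p) (_ : W ⟶ N) (_ : W ⟶ N'), Aff W.1 := by
  obtain ⟨P, a, b, -⟩ := exists_cone_obj p N N'
  obtain ⟨W, g, hW, -⟩ := EtStalkHenz.exists_affine P ⊤ trivial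
  exact ⟨W, g ≫ a, g ≫ b, hW⟩

theorem germAt_eq_iff (hX : IsAlgSpace X) (hp : p.IsGeometric) {N N' : EtNbhd p} (σ : sectModEt M N.1)
    (τ : sectModEt M N'.1) : germAt M N σ = germAt M N' τ ↔
      ∃ (W : EtNbhd p) (a : W ⟶ N) (b : W ⟶ N'), Aff W.1 ∧ res M a.val σ = res M b.val τ := by
  constructor
  · intro h
    obtain ⟨P, a, b, hP⟩ := exists_affine_refine hX hp N N'
    have h0 : germAt M P (res M a.val σ - res M b.val τ) = 0 := by
      have e : germAt M P (res M a.val σ - res M b.val τ) = germAt M P (res M a.val σ) - germAt M P (res M b.val τ) :=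
        map_sub _ _ _
      rw [e, germAt_res, germAt_res, h, sub_self]
    obtain ⟨P', g, hg⟩ := (germAt_eq_zero_iff_exists hX hp P _).1 h0
    obtain ⟨W, w, hW, -⟩ := EtStalkHenz.exists_affine P' ⊤ trivial
    refine ⟨W, (w ≫ g) ≫ a, (w ≫ g) ≫ b, hW, sub_eq_zero.1 ?_⟩
    change res M ((w.val ≫ g.val) ≫ a.val) σ - res M ((w.val ≫ g.val) ≫ b.val) τ = 0
    rw [res_comp, res_comp, res_comp M (w.val ≫ g.val) b.val, res_comp, ← map_sub, ← map_sub, hg, map_zero]
  · rintro ⟨W, a, b, -, h⟩
    rw [← germAt_res M a σ, h, germAt_res]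

theorem exists_notMem_of_germAt_eq_zero [M.IsQuasicoherent] (hX : IsAlgSpace X) (hp : p.IsGeometric)
    (N : EtNbhd p) (hN : Aff N.1) (σ : sectModEt M N.1) (h : germAt M N σ = 0) :
    ∃ s ∉ primeAtPt N.1.obj.left.left (base p N), s • σ = 0 := by
  obtain ⟨N', g, hg⟩ := (germAt_eq_zero_iff_exists hX hp N σ).1 h
  obtain ⟨W, w, hW, -⟩ := EtStalkHenz.exists_affine N' ⊤ trivial
  let g' : W.1 ⟶ N.1 := w.val ≫ g.val
  haveI : IsAffine N.1.obj.left.left := hN
  haveI : IsAffine W.1.obj.left.left := hW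
  letI := algOf g'
  letI := modOf M g'
  haveI := towerOf M g'
  have hbc : IsBC M g' := cart_of_isQuasicoherent M hN W.1 g' hW
  haveI : Algebra.Etale (Fn N.1) (Fn W.1) := etale_rmap g' hN hW
  have h0 : (1 : Fn W.1) ⊗ₜ[Fn N.1] σ = 0 := (IsBaseChange.equiv hbc).injective
    ((IsBaseChange.equiv_tmul hbc 1 σ).trans (by
      rw [one_smul, map_zero]
      exact (res_comp M w.val g.val σ).trans ((congrArg (res M w.val) hg).trans (map_zero _))))
  by_contra hne
  push Not at hne
  have hann : (annEl (Fn N.1) σ).map (algebraMap (Fn N.1) (Fn W.1)) = ⊤ := by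
    rw [← annEl_one_tmul, h0, eq_top_iff]
    exact fun r _ => mem_annEl.2 (smul_zero r)
  refine (inferInstance : (primeAtPt W.1.obj.left.left (base p W)).IsPrime).ne_top
    (top_le_iff.1 (hann.ge.trans (Ideal.map_le_iff_le_comap.2 fun r hr => ?_)))
  have hr' : r ∈ primeAtPt N.1.obj.left.left (base p N) := by
    by_contra hr'
    exact hne r hr' (mem_annEl.1 hr)
  rw [← EtStalkHenz.base_map (w ≫ g), ← primeAtPt_comap] at hr'
  exact hr'

theorem not_mem_primeAtPt_iff {U : Scheme.{u}} (x : ↥U) (s : Γ(U, ⊤)) :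
    s ∉ primeAtPt U x ↔ x ∈ U.basicOpen s := by
  rw [primeAtPt, Ideal.mem_comap, IsLocalRing.notMem_maximalIdeal]
  exact (U.mem_basicOpen s x trivial).symm

/-- The basic open subobject of an affine object. -/
def basicSub (E : EtOver X) (s : Fn E) : EtOver X := etOpen E (E.obj.left.left.basicOpen s)

/-- Its inclusion. -/
def basicSubι (E : EtOver X) (s : Fn E) : basicSub E s ⟶ E := etOpenι E _

theorem aff_basicSub (E : EtOver X) (hE : Aff E) (s : Fn E) : Aff (basicSub E s) :=
  haveI : IsAffine E.obj.left.left := hE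
  (isAffineOpen_top E.obj.left.left).basicOpen s

theorem res_basicSub_eq_zero {E : EtOver X} {s : Fn E} {σ : sectModEt M E} (h : s • σ = 0) :
    res M (basicSubι E s) σ = 0 := by
  have hu : IsUnit (rmap (basicSubι E s) s) := isUnit_appTop_of_le_basicOpen _ s le_rfl
  have h0 : rmap (basicSubι E s) s • res M (basicSubι E s) σ = 0 := by
    rw [← res_smul, h, map_zero]
  exact (hu.smul_eq_zero).1 h0

theorem germAt_eq_zero_of_smul (hX : IsAlgSpace X) (hp : p.IsGeometric) (N : EtNbhd p) (σ : sectModEt M N.1)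
    {s : Fn N.1} (hs : s ∉ primeAtPt N.1.obj.left.left (base p N)) (h : s • σ = 0) : germAt M N σ = 0 := by
  obtain ⟨y, hy⟩ := EtStalkAb.exists_lift_of_mem_range hp (basicSubι N.1 s) N.2
    ((range_etOpenι N.1 _).ge ((not_mem_primeAtPt_iff _ s).1 hs))
  let N₂ : EtNbhd p := ⟨basicSub N.1 s, y⟩
  let g : N₂ ⟶ N := CategoryOfElements.homMk _ _ (basicSubι N.1 s) hy
  rw [← germAt_res M g σ]
  exact (congrArg (germAt M _) (res_basicSub_eq_zero h)).trans (germAt_zero M _)

theorem germAt_eq_zero_iff [M.IsQuasicoherent] (hX : IsAlgSpace X) (hp : p.IsGeometric) (N : EtNbhd p)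
    (hN : Aff N.1) (σ : sectModEt M N.1) :
    germAt M N σ = 0 ↔ ∃ s ∉ primeAtPt N.1.obj.left.left (base p N), s • σ = 0 :=
  ⟨exists_notMem_of_germAt_eq_zero hX hp N hN σ, fun ⟨_, hs, h⟩ => germAt_eq_zero_of_smul hX hp N σ hs h⟩

/-- The stalk vanishes as soon as the germs of the sections over one affine neighbourhood do. -/
theorem isZero_stalk_iff [M.IsQuasicoherent] (hX : IsAlgSpace X) (hp : p.IsGeometric) (N : EtNbhd p)
    (hN : Aff N.1) :
    IsZero (stalkEt p ((toAbEt X).obj M)) ↔
      ∀ σ : sectModEt M N.1, ∃ s ∉ primeAtPt N.1.obj.left.left (base p N), s • σ = 0 := by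
  rw [AddCommGrpCat.isZero_iff_subsingleton]
  constructor
  · exact fun h σ => exists_notMem_of_germAt_eq_zero hX hp N hN σ (@Subsingleton.elim _ h _ _)
  · intro h
    refine subsingleton_of_forall_eq 0 fun z => ?_
    obtain ⟨N', τ, rfl⟩ := exists_germAt hX hp z
    obtain ⟨W, a, b, hW⟩ := exists_affine_refine hX hp N N'
    rw [← germAt_res M b τ]
    generalize res M b.val τ = τ'
    obtain ⟨z, rfl⟩ := ((isBaseChange_iff_bijective _).1 ((isBC_iff M (Over.mk a.val)).1
      (cart_of_isQuasicoherent M hN _ a.val hW))).2 τ'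
    induction z using TensorProduct.induction_on with
    | zero => rw [map_zero]; exact germAt_zero M W
    | tmul r m =>
      rw [LinearMap.liftBaseChange_tmul]
      obtain ⟨N'', g, hg⟩ := (germAt_eq_zero_iff_exists hX hp W (res M a.val m)).1 (by
        rw [germAt_res]
        exact (germAt_eq_zero_iff hX hp N hN m).2 (h m))
      refine (germAt_eq_zero_iff_exists hX hp W _).2 ⟨N'', g, ?_⟩
      exact (res_smul M g.val r (res M a.val m)).trans ((congrArg (rmap g.val r • ·) hg).trans (smul_zero _))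
    | add x y hx hy =>
      rw [map_add]
      exact (germAt_add M W _ _).trans (by rw [hx, hy, add_zero])

/-- One function avoiding the point kills finitely generated sections with vanishing germs. -/
theorem exists_killing [M.IsQuasicoherent] (hX : IsAlgSpace X) (hp : p.IsGeometric) (N : EtNbhd p)
    (hN : Aff N.1) [Module.Finite (Fn N.1) (sectModEt M N.1)] (h : ∀ σ, germAt M N σ = 0) :
    ∃ s ∉ primeAtPt N.1.obj.left.left (base p N), ∀ σ : sectModEt M N.1, s • σ = 0 := by
  obtain ⟨n, m, hm⟩ := Module.Finite.exists_fin (R := Fn N.1) (M := sectModEt M N.1)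
  choose s hs hsm using fun i => (germAt_eq_zero_iff hX hp N hN (m i)).1 (h (m i))
  refine ⟨∏ i, s i, fun hmem => ?_, fun σ => ?_⟩
  · obtain ⟨i, -, hi⟩ := (inferInstance : (primeAtPt N.1.obj.left.left (base p N)).IsPrime).prod_mem_iff.1 hmem
    exact hs i hi
  · have hσ : σ ∈ Submodule.span (Fn N.1) (Set.range m) := hm ▸ Submodule.mem_top
    induction hσ using Submodule.span_induction with
    | mem x hx =>
      obtain ⟨i, rfl⟩ := hx
      rw [← Finset.prod_erase_mul _ _ (Finset.mem_univ i), mul_smul, hsm, smul_zero]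
    | zero => exact smul_zero _
    | add x y _ _ hx hy => rw [smul_add, hx, hy, add_zero]
    | smul r x _ hx => rw [smul_comm, hx, smul_zero]

/-- A quasi-coherent module killed by a function on a chart vanishes over the image of its basic open. -/
theorem subsingleton_of_killed [M.IsQuasicoherent] (E : EtOver X) (hE : Aff E) (s : Fn E)
    (h : ∀ σ : sectModEt M E, s • σ = 0) (V : EtOver X)
    (hV : Set.range (Points.ofPt V.obj.hom) ⊆ Points.ofPt E.obj.hom '' (E.obj.left.left.basicOpen s : Set _)) :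
    Subsingleton (sectModEt M V) := by
  refine subsingleton_of_forall_eq 0 fun x => eq_zero_of_affine M x fun W j hW => ?_
  generalize res M j x = y
  let R : Sieve W := { arrows := fun T g => Nonempty (T ⟶ basicSub E s)
                       downward_closed := fun {_ _ _} ⟨h⟩ k => ⟨k ≫ h⟩ }
  have hR : R ∈ etTop X W := mem_etTop_of_exists R fun w => by
    obtain ⟨e, he, hew⟩ := hV ⟨j.hom.left.left w, rfl⟩
    obtain ⟨e', he'⟩ := (range_etOpenι E (E.obj.left.left.basicOpen s)).ge he
    obtain ⟨Z, hZ, g, g', z, hz, -⟩ := exists_common W (basicSub E s) (u₁ := w) (u₂ := e') (by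
      have h1 : Points.ofPt W.obj.hom w = Points.ofPt V.obj.hom (j.hom.left.left w) := by
        rw [← EtOver.w j, AlgSpLib.ofPt_comp]
      have h2 : Points.ofPt (basicSub E s).obj.hom e' = Points.ofPt E.obj.hom e := by
        rw [← EtOver.w (basicSubι E s), AlgSpLib.ofPt_comp]
        exact congrArg _ he'
      rw [h1, h2, hew])
    exact ⟨Z, g, ⟨g'⟩, z, hz⟩
  obtain ⟨c, hc⟩ := QCart13.exists_cov hW hR
  refine c.ext M fun k => ?_
  generalize res M (c.T k).hom y = t
  obtain ⟨g⟩ := hc k
  obtain ⟨z, rfl⟩ := ((isBaseChange_iff_bijective _).1 ((isBC_iff M (Over.mk (g ≫ basicSubι E s))).1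
    (cart_of_isQuasicoherent M hE _ (g ≫ basicSubι E s) (c.aff k)))).2 t
  induction z using TensorProduct.induction_on with
  | zero => exact map_zero _
  | tmul r m =>
    rw [LinearMap.liftBaseChange_tmul]
    rw [show res₀ M (Over.mk (g ≫ basicSubι E s)) m = 0 from ?_, smul_zero]
    exact (res_comp M g (basicSubι E s) m).trans ((congrArg _ (res_basicSub_eq_zero (h m))).trans (map_zero _))
  | add a b ha hb => rw [map_add, ha, hb, add_zero]

/-- A neighbourhood over which a quasi-coherent module with finite affine values and vanishing germs vanishes. -/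
theorem exists_open_subsingleton [M.IsQuasicoherent] (hX : IsAlgSpace X) (hp : p.IsGeometric) (N : EtNbhd p)
    (hN : Aff N.1) [Module.Finite (Fn N.1) (sectModEt M N.1)] (h : ∀ σ, germAt M N σ = 0) :
    ∃ U : Set (Points X), IsOpen U ∧ Points.mk p ∈ U ∧
      ∀ V : EtOver X, Set.range (Points.ofPt V.obj.hom) ⊆ U → Subsingleton (sectModEt M V) := by
  obtain ⟨s, hs, hk⟩ := exists_killing hX hp N hN h
  exact ⟨_, AlgSpLib.isOpenMap_ofPt N.1.property _ (N.1.obj.left.left.basicOpen s).isOpen,
    ⟨base p N, (not_mem_primeAtPt_iff _ s).1 hs, ofPt_base p N⟩, subsingleton_of_killed N.1 hN s hk⟩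

/-- An affine neighbourhood. -/
theorem exists_aff_nbhd (hX : IsAlgSpace X) (hp : p.IsGeometric) : ∃ N : EtNbhd p, Aff N.1 := by
  obtain ⟨E, hE, u, hu⟩ := exists_aff_over hX (Points.mk p)
  obtain ⟨l, -⟩ := EtStalkStrict.exists_nbhd hX hp E.property hu
  exact ⟨⟨_, l⟩, hE⟩

end Groth.Agent.AlgSpWA

end
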