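import Groth.Agent.AlgSpWA.Stalk

/-!
# Injectivity, surjectivity and bijectivity of maps of coherent modules near a geometric point
-/

set_option autoImplicit false
set_option linter.style.haveILetI false
set_option backward.isDefEq.respectTransparency false
set_option backward.isDefEq.respectTransparency.types false

noncomputable section

universe u

open CategoryTheory CategoryTheory.Limits AlgebraicGeometry Opposite AlgSp TensorProduct
open Groth.Agent.QCart13 Groth.Agent.AlgSpDec
open Groth.Agent.AlgSpDec.EtStalkElts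

namespace Groth.Agent.AlgSpWA

variable {S : Scheme.{u}} {X : Sp S} {G F : ModEt X} (φ : G ⟶ F)

/-- The map induced on stalks. -/
abbrev stalkMapOf (p : FieldPt X) := (stalkEtFunctor AddCommGrpCat.{u + 1} p).map ((toAbEt X).map φ)

theorem stalkMapOf_germAt {p : FieldPt X} (N : EtNbhd p) (σ : sectModEt G N.1) :
    (stalkMapOf φ p).hom (germAt G N σ) = germAt F N (appL φ N.1 σ) :=
  ConcreteCategory.congr_hom (ι_colimMap (Functor.whiskerLeft (EtNbhd.toEtOver p).op ((toAbEt X).map φ).hom) (op N)) σ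

variable [G.IsFinitePresentation] [F.IsFinitePresentation]

set_option maxHeartbeats 800000 in
/-- Near a point where the stalk map is injective the kernel vanishes. -/
theorem exists_open_ker (hX : IsAlgSpace X) (hN : IsLocNoethSp X) {p : FieldPt X} (hp : p.IsGeometric)
    (h : Mono (stalkMapOf φ p)) :
    ∃ U : Set (Points X), IsOpen U ∧ Points.mk p ∈ U ∧
      ∀ V : EtOver X, Set.range (Points.ofPt V.obj.hom) ⊆ U → Function.Injective (appL φ V) := by
  obtain ⟨N, hA⟩ := exists_aff_nbhd hX hp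
  haveI := isQuasicoherent_kernel φ
  haveI := isNoetherianRing_fn hN hA
  haveI := finite_sect G hA
  haveI : Module.Finite (Fn N.1) (sectModEt (kernel φ) N.1) :=
    Module.Finite.of_injective (appL (kernel.ι φ) N.1) (injective_appL _ _)
  have hgerm : ∀ σ : sectModEt (kernel φ) N.1, germAt (kernel φ) N σ = 0 := fun σ => by
    have h0 : germAt G N (appL (kernel.ι φ) N.1 σ) = 0 := by
      refine (AddCommGrpCat.mono_iff_injective _).1 h ?_
      rw [stalkMapOf_germAt, map_zero, appL_appL, kernel.condition]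
      exact germAt_zero F N
    obtain ⟨s, hs, hs0⟩ := exists_notMem_of_germAt_eq_zero (M := G) hX hp N hA (appL (kernel.ι φ) N.1 σ) h0
    refine germAt_eq_zero_of_smul hX hp N σ hs (injective_appL (kernel.ι φ) N.1 ?_)
    exact ((appL (kernel.ι φ) N.1).map_smul s σ).trans (hs0.trans (map_zero _).symm)
  obtain ⟨U, hU, hpU, hsub⟩ := exists_open_subsingleton hX hp N hA hgerm
  refine ⟨U, hU, hpU, fun V hV => (injective_iff_map_eq_zero _).2 fun x hx => ?_⟩
  obtain ⟨k, rfl⟩ := exists_kernel_preimage φ V x hx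
  rw [@Subsingleton.elim _ (hsub V hV) k 0, map_zero]

/-- Near a point where the stalk map is surjective the cokernel vanishes. -/
theorem exists_open_coker (hX : IsAlgSpace X) {p : FieldPt X} (hp : p.IsGeometric)
    (h : Epi (stalkMapOf φ p)) :
    ∃ U : Set (Points X), IsOpen U ∧ Points.mk p ∈ U ∧
      ∀ V : EtOver X, Set.range (Points.ofPt V.obj.hom) ⊆ U → Subsingleton (sectModEt (cokernel φ) V) := by
  obtain ⟨N, hA⟩ := exists_aff_nbhd hX hp
  haveI := isQuasicoherent_cokernel φ
  haveI := finite_sect F hA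
  haveI := isQuasicoherent_kernel (cokernel.π φ)
  haveI : Module.Finite (Fn N.1) (sectModEt (cokernel φ) N.1) :=
    Module.Finite.of_surjective (appL (cokernel.π φ) N.1) fun s =>
      surjective_of_cart_kernel (kernel.ι (cokernel.π φ)) (cokernel.π φ) (kernel.condition _)
        (exists_kernel_preimage _) hA (cart_of_isQuasicoherent _ hA) s
  have hgerm : ∀ σ : sectModEt (cokernel φ) N.1, germAt (cokernel φ) N σ = 0 := fun σ => by
    obtain ⟨τ, rfl⟩ := surjective_of_cart_kernel (kernel.ι (cokernel.π φ)) (cokernel.π φ) (kernel.condition _)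
      (exists_kernel_preimage _) hA (cart_of_isQuasicoherent _ hA) σ
    obtain ⟨z, hz⟩ := (AddCommGrpCat.epi_iff_surjective _).1 h (germAt F N τ)
    obtain ⟨N', x, rfl⟩ := exists_germAt hX hp z
    rw [stalkMapOf_germAt] at hz
    obtain ⟨W, a, b, -, he⟩ := (germAt_eq_iff hX hp _ τ).1 hz
    rw [← germAt_res (cokernel φ) b, res_appL, ← he, res_appL, appL_appL, cokernel.condition]
    exact germAt_zero _ W
  exact exists_open_subsingleton hX hp N hA hgerm

omit [G.IsFinitePresentation] [F.IsFinitePresentation] in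
/-- Where the cokernel vanishes sections lift locally. -/
theorem exists_local_lift {V : EtOver X} (h : Subsingleton (sectModEt (cokernel φ) V)) (x : sectModEt F V) :
    ∃ R ∈ etTop X V, ∀ (W : EtOver X) (g : W ⟶ V), R g → ∃ y, appL φ W y = res F g x :=
  exists_local_of_cokernel φ V x (@Subsingleton.elim _ h _ _)

omit [G.IsFinitePresentation] [F.IsFinitePresentation] in
/-- A locally surjective map injective on all objects over `V` is bijective on `V`. -/
theorem surjective_of_local {V : EtOver X} (hinj : ∀ (W : EtOver X) (_ : W ⟶ V), Function.Injective (appL φ W))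
    (h : Subsingleton (sectModEt (cokernel φ) V)) : Function.Surjective (appL φ V) := by
  intro x
  obtain ⟨R, hR, hl⟩ := exists_local_lift φ h x
  choose y hy using hl
  have hs := (isSheaf_iff_isSheaf_of_type _ _).1
    ((Presheaf.isSheaf_iff_isSheaf_forget (etTop X) G.val.presheaf (CategoryTheory.forget AddCommGrpCat.{u + 1})).1
      G.isSheaf) R hR
  have hc : Presieve.FamilyOfElements.Compatible (P := G.val.presheaf ⋙ CategoryTheory.forget AddCommGrpCat.{u + 1})
      (R := R.arrows) (fun W g hg => y W g hg) := by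
    intro W₁ W₂ Z g₁ g₂ f₁ f₂ hf₁ hf₂ hcomm
    change res G g₁ (y W₁ f₁ hf₁) = res G g₂ (y W₂ f₂ hf₂)
    refine hinj Z (g₁ ≫ f₁) ?_
    rw [← res_appL, ← res_appL, hy, hy, ← res_comp, ← res_comp, hcomm]
  obtain ⟨t, ht, -⟩ := hs _ hc
  refine ⟨t, sub_eq_zero.1 (Gen.eq_zero_of_local F _ hR fun W g hg => ?_)⟩
  change res F g (appL φ V t - x) = 0
  rw [map_sub, res_appL, show res G g t = y W g hg from ht g hg, hy, sub_self]

theorem exists_open_mono (hX : IsAlgSpace X) (hN : IsLocNoethSp X) {p : FieldPt X} (hp : p.IsGeometric)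
    (h : Mono (stalkMapOf φ p)) :
    ∃ U : Set (Points X), IsOpen U ∧ Points.mk p ∈ U ∧
      ∀ V : EtOver X, Set.range (Points.ofPt V.obj.hom) ⊆ U → Mono (φ.val.app (op V)) := by
  obtain ⟨U, hU, hpU, hinj⟩ := exists_open_ker φ hX hN hp h
  exact ⟨U, hU, hpU, fun V hV => (ModuleCat.mono_iff_injective _).2 (hinj V hV)⟩

theorem exists_open_iso (hX : IsAlgSpace X) (hN : IsLocNoethSp X) {p : FieldPt X} (hp : p.IsGeometric)
    (h : IsIso (stalkMapOf φ p)) :
    ∃ U : Set (Points X), IsOpen U ∧ Points.mk p ∈ U ∧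
      ∀ V : EtOver X, Set.range (Points.ofPt V.obj.hom) ⊆ U → IsIso (φ.val.app (op V)) := by
  obtain ⟨U₁, hU₁, hp₁, hinj⟩ := exists_open_ker φ hX hN hp inferInstance
  obtain ⟨U₂, hU₂, hp₂, hcok⟩ := exists_open_coker φ hX hp inferInstance
  refine ⟨U₁ ∩ U₂, hU₁.inter hU₂, ⟨hp₁, hp₂⟩, fun V hV => ?_⟩
  haveI := (ModuleCat.mono_iff_injective (φ.val.app (op V))).2 (hinj V (hV.trans Set.inter_subset_left))
  haveI := (ModuleCat.epi_iff_surjective (φ.val.app (op V))).2 (surjective_of_local φ (fun W g => hinj W (by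
    rintro _ ⟨w, rfl⟩
    rw [← EtOver.w g, AlgSpLib.ofPt_comp]
    exact (hV ⟨_, rfl⟩).1)) (hcok V (hV.trans Set.inter_subset_right)))
  exact isIso_of_mono_of_epi _

theorem exists_open_epi (hX : IsAlgSpace X) {p : FieldPt X} (hp : p.IsGeometric)
    (h : Epi (stalkMapOf φ p)) :
    ∃ U : Set (Points X), IsOpen U ∧ Points.mk p ∈ U ∧
      ∀ q : FieldPt X, q.IsGeometric → Points.mk q ∈ U → Epi (stalkMapOf φ q) := by
  obtain ⟨U, hU, hpU, hcok⟩ := exists_open_coker φ hX hp h
  refine ⟨U, hU, hpU, fun q hq hqU => (AddCommGrpCat.epi_iff_surjective _).2 fun z => ?_⟩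
  obtain ⟨N, y, rfl⟩ := exists_germAt hX hq z
  obtain ⟨M, g, -, hM⟩ := EtStalkHenz.exists_affine N
    ⟨Points.ofPt N.1.obj.hom ⁻¹' U, hU.preimage (Points.continuous_ofPt N.1.obj.hom)⟩
    (show Points.ofPt N.1.obj.hom (base q N) ∈ U by rwa [ofPt_base])
  have hMU : Set.range (Points.ofPt M.1.obj.hom) ⊆ U := by
    rintro _ ⟨m, rfl⟩
    rw [← EtOver.w g.val, AlgSpLib.ofPt_comp]
    exact hM ⟨m, rfl⟩
  obtain ⟨R, hR, hl⟩ := exists_local_lift φ (hcok M.1 hMU) (res F g.val y)
  obtain ⟨W, k, hk, hb⟩ := exists_mem_range hR (base q M)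
  obtain ⟨l, hl'⟩ := EtStalkAb.exists_lift_of_mem_range hq k M.2 hb
  obtain ⟨x, hx⟩ := hl W k hk
  let N₂ : EtNbhd q := ⟨W, l⟩
  let k' : N₂ ⟶ M := CategoryOfElements.homMk _ _ k hl'
  refine ⟨germAt G N₂ x, ?_⟩
  rw [stalkMapOf_germAt, hx]
  exact (germAt_res F k' _).trans (germAt_res F g y)

omit [G.IsFinitePresentation] [F.IsFinitePresentation] in
/-- Open sets of points as open subspaces. -/
theorem exists_space_of_open (X : Space S) {P : Set (Points X.obj)} (hP : IsOpen P) :
    ∃ (X' : Space S) (j : X' ⟶ X), RepWith @IsOpenImmersion j.hom ∧ Set.range (Points.map j.hom) = P := by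
  obtain ⟨X', j, hA, hj, hr⟩ := AlgSpPts.exists_open_subspace X.property hP
  exact ⟨⟨X', hA⟩, ObjectProperty.homMk j, hj, hr⟩

end Groth.Agent.AlgSpWA

end
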