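import Groth.Agent.AlgSpWA.Stalk
import Groth.Agent.PushImage13.Base
import Mathlib.RingTheory.Ideal.Quotient.Operations

/-!
# Support of a coherent module inside a closed subspace
-/

set_option autoImplicit false
set_option linter.style.haveILetI false
set_option backward.isDefEq.respectTransparency false
set_option backward.isDefEq.respectTransparency.types false

noncomputable section

universe u

open CategoryTheory CategoryTheory.Limits AlgebraicGeometry Opposite AlgSp TensorProduct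
open Groth.Agent.QCart13 Groth.Agent.AlgSpDec
open Groth.Agent.AlgSpDec.EtStalkElts

namespace Groth.Agent.AlgSpWA

variable {S : Scheme.{u}} {X Z : Sp S} {i : Z ⟶ X}

theorem mem_range_iff (hi : RepWith @IsClosedImmersion i) (E : EtOver X) (hE : Aff E) (u : ↥E.obj.left.left) :
    Points.ofPt E.obj.hom u ∈ Set.range (Points.map i) ↔
      (idealOfRep hi.1).ideal E hE ≤ primeAtPt E.obj.left.left u := by
  haveI : IsAffine E.obj.left.left := hE
  haveI : IsClosedImmersion (EtOver.bcπ hi.1 E).left := hi.property_snd _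
  haveI : IsAffine (EtOver.bcObj hi.1 E).obj.left.left := isAffine_of_isAffineHom (EtOver.bcπ hi.1 E).left
  constructor
  · rintro ⟨z, hz⟩
    obtain ⟨w, -, rfl⟩ := exists_bc_point hi.1 E u z hz
    intro a ha
    rw [← primeAtPt_comap (EtOver.bcπ hi.1 E).left w, Ideal.mem_comap,
      show (EtOver.bcπ hi.1 E).left.appTop.hom a = 0 from (mem_idealOfRep_iff hi.1 E hE a).1 ha]
    exact Ideal.zero_mem _
  · intro h
    let φ := (EtOver.bcπ hi.1 E).left.appTop.hom
    have hφ : Function.Surjective φ := PushImage13.π_surjective hi.1 hi hE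
    have hker : RingHom.ker φ ≤ primeAtPt E.obj.left.left u := fun a ha => h ((mem_idealOfRep_iff hi.1 E hE a).2 ha)
    haveI := Ideal.map_isPrime_of_surjective hφ hker
    obtain ⟨w, hw⟩ := AlgSpLib.Cartier.exists_primeAtPt_eq (U := (EtOver.bcObj hi.1 E).obj.left.left)
      ((primeAtPt E.obj.left.left u).map φ)
    have hwu : (EtOver.bcπ hi.1 E).left w = u := primeAtPt_injective (by
      rw [← primeAtPt_comap (EtOver.bcπ hi.1 E).left w, hw, Ideal.comap_map_of_surjective φ hφ]
      exact sup_eq_left.2 hker)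
    refine ⟨Points.ofPt (EtOver.bcObj hi.1 E).obj.hom w, ?_⟩
    rw [Points.map_ofPt, (EtOver.isPullback_bcObj hi.1 E).w, AlgSpLib.ofPt_comp, hwu]

variable (hX : IsAlgSpace X) (M : ModEt X) [M.IsFinitePresentation] (hi : RepWith @IsClosedImmersion i)

include hX in
theorem isZero_stalk_of_pow_le {n : ℕ}
    (h : ∀ (E : EtOver X) (hE : IsAffine E.obj.left.left) (s : sectModEt M E),
      (idealOfRep hi.1).ideal E hE ^ n ≤ annSect s)
    {p : FieldPt X} (hp : p.IsGeometric) (hpZ : Points.mk p ∉ Set.range (Points.map i)) :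
    IsZero (stalkEt p ((toAbEt X).obj M)) := by
  obtain ⟨N, hN⟩ := exists_aff_nbhd hX hp
  rw [← ofPt_base p N, mem_range_iff hi N.1 hN] at hpZ
  obtain ⟨a, ha, ha'⟩ := Set.not_subset.1 hpZ
  refine (isZero_stalk_iff hX hp N hN).2 fun σ => ⟨a ^ n, fun hm => ha' ?_,
    (mem_annSect_iff σ (a ^ n)).1 (h N.1 hN σ (Ideal.pow_mem_pow ha n))⟩
  exact (inferInstance : (primeAtPt N.1.obj.left.left (base p N)).IsPrime).mem_of_pow_mem n hm

include hX in
theorem exists_pow_le_annihilator (hN : IsLocNoethSp X) (W : EtOver X) (hW : Aff W)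
    (h : ∀ p : FieldPt X, p.IsGeometric → Points.mk p ∉ Set.range (Points.map i) →
      IsZero (stalkEt p ((toAbEt X).obj M))) :
    ∃ n : ℕ, (idealOfRep hi.1).ideal W hW ^ n ≤ Module.annihilator (Fn W) (sectModEt M W) := by
  haveI : IsAffine W.obj.left.left := hW
  haveI := isNoetherianRing_fn hN hW
  haveI := finite_sect M hW
  refine Ideal.exists_pow_le_of_le_radical_of_fg ?_ (IsNoetherian.noetherian _)
  rw [Ideal.radical_eq_sInf]
  refine le_sInf fun P ⟨hAP, hP⟩ => ?_
  haveI := hP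
  obtain ⟨u, rfl⟩ := AlgSpLib.Cartier.exists_primeAtPt_eq (U := W.obj.left.left) P
  by_contra hIP
  obtain ⟨p, hp, hpu⟩ := EtStalkProps.exists_geometric (Points.ofPt W.obj.hom u)
  obtain ⟨l, hl⟩ := EtStalkStrict.exists_nbhd hX hp W.property hpu.symm
  let N : EtNbhd p := ⟨W, l⟩
  have hNu : base p N = u := hl
  have hz := h p hp (by rw [hpu, mem_range_iff hi W hW]; exact hIP)
  haveI : Module.Finite (Fn N.1) (sectModEt M N.1) := finite_sect M hW
  obtain ⟨s, hs, hk⟩ := exists_killing (M := M) hX hp N hW fun σ =>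
    @Subsingleton.elim _ (AddCommGrpCat.isZero_iff_subsingleton.1 hz) _ _
  rw [hNu] at hs
  exact hs (hAP (Module.mem_annihilator.2 hk))

omit [M.IsFinitePresentation] in
theorem smul_eq_zero_of_mem_map [M.IsQuasicoherent] {W : EtOver X} (hW : Aff W) (T : Over W) (hT : Aff T.left)
    {J : Ideal (Fn W)} (hJ : ∀ b ∈ J, ∀ m : sectModEt M W, b • m = 0) {a : Fn T.left}
    (ha : a ∈ J.map (rmap T.hom)) (τ : sectModEt M T.left) : a • τ = 0 := by
  obtain ⟨z, rfl⟩ := ((isBaseChange_iff_bijective _).1 ((isBC_iff M T).1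
    (cart_of_isQuasicoherent M hW _ T.hom hT))).2 τ
  induction z using TensorProduct.induction_on with
  | zero => rw [map_zero, smul_zero]
  | tmul r m =>
    rw [LinearMap.liftBaseChange_tmul, smul_comm]
    refine Eq.trans ?_ (smul_zero r)
    congr 1
    refine Submodule.span_induction (p := fun x _ => x • res₀ M T m = 0) ?_ (zero_smul _ _) ?_ ?_ ha
    · rintro _ ⟨b, hb, rfl⟩
      rw [res₀_apply, ← res_smul, hJ b hb m, map_zero]
    · intro x y _ _ hx hy
      rw [add_smul, hx, hy, add_zero]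
    · intro x y _ hy
      rw [smul_assoc, hy, smul_zero]
  | add x y hx hy => rw [map_add, smul_add, hx, hy, add_zero]

include hX in
theorem exists_pow_le (hqc : IsQuasiCompactSp X) (hN : IsLocNoethSp X) {I : IdealEt X}
    (hI : idealOfRep hi.1 = I) (hIq : I.IsQCoh)
    (h : ∀ p : FieldPt X, p.IsGeometric → Points.mk p ∉ Set.range (Points.map i) →
      IsZero (stalkEt p ((toAbEt X).obj M))) :
    ∃ n : ℕ, ∀ (E : EtOver X) (hE : IsAffine E.obj.left.left) (s : sectModEt M E),
      (I ^ n).ideal E hE ≤ annSect s := by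
  subst hI
  obtain ⟨U, p, hp, hps, hU⟩ := hqc
  let E₀ : EtOver X := EtOver.mk p hp
  haveI : CompactSpace ↥E₀.obj.left.left := hU
  choose W j hW hj using fun y : ↥E₀.obj.left.left => exists_aff_open E₀ y
  obtain ⟨t, ht⟩ := IsCompact.elim_finite_subcover (CompactSpace.isCompact_univ (X := ↥E₀.obj.left.left))
    (fun y => Set.range (j y).hom.left.left) (fun y => (isOpenMap_left (j y)).isOpen_range)
    (fun y _ => Set.mem_iUnion.2 ⟨y, hj y⟩)
  choose n hn using fun y => exists_pow_le_annihilator hX M hi hN (W y) (hW y) h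
  refine ⟨t.sup n, fun E hE σ a ha => ?_⟩
  rw [mem_annSect_iff]
  change a • σ = 0
  let R : Sieve E := { arrows := fun T g => ∃ y ∈ t, Nonempty (T ⟶ W y)
                       downward_closed := fun {_ _ _} ⟨y, hy, ⟨h⟩⟩ k => ⟨y, hy, ⟨k ≫ h⟩⟩ }
  have hR : R ∈ etTop X E := mem_etTop_of_exists R fun v => by
    obtain ⟨e, he⟩ := AlgSpLib.surjective_ofPt hps (Points.ofPt E.obj.hom v)
    obtain ⟨y, hy, w, hw⟩ := Set.mem_iUnion₂.1 (ht (Set.mem_univ e))
    obtain ⟨T, hT, g, g', z, hz, -⟩ := exists_common E (W y) (u₁ := v) (u₂ := w) (by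
      rw [← EtOver.w (j y), AlgSpLib.ofPt_comp, hw]
      exact he.symm)
    exact ⟨T, g, ⟨y, hy, ⟨g'⟩⟩, z, hz⟩
  obtain ⟨c, hc⟩ := QCart13.exists_cov hE hR
  refine c.ext M fun k => ?_
  obtain ⟨y, hy, ⟨g⟩⟩ := hc k
  rw [res_smul]
  have h1 : rmap (c.T k).hom a ∈ ((idealOfRep hi.1).ideal (W y) (hW y) ^ t.sup n).map (rmap g) := by
    rw [Ideal.map_pow]
    refine Ideal.pow_right_mono (hIq g (hW y) (c.aff k)) _ ?_
    exact ((idealOfRep hi.1) ^ t.sup n).map_le (c.T k).hom hE (c.aff k) (Ideal.mem_map_of_mem _ ha)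
  exact smul_eq_zero_of_mem_map M (hW y) (Over.mk g) (c.aff k) (J := (idealOfRep hi.1).ideal (W y) (hW y) ^ t.sup n)
    (fun b hb m => Module.mem_annihilator.1 (((Ideal.pow_le_pow_right (Finset.le_sup hy)).trans (hn y)) hb) m)
    h1 (res M (c.T k).hom σ)

end Groth.Agent.AlgSpWA

end
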