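import Groth.Agent.AlgSpWA.Stalk
import Groth.Agent.AlgSpWA.Coherent
import Groth.Agent.QCart13.Sub

/-!
# The sections supported in a closed set of points
-/

set_option autoImplicit false
set_option linter.style.haveILetI false
set_option backward.isDefEq.respectTransparency false
set_option backward.isDefEq.respectTransparency.types false

noncomputable section

universe u v

open CategoryTheory CategoryTheory.Limits AlgebraicGeometry Opposite AlgSp TensorProduct
open Groth.Agent.QCart13 Groth.Agent.AlgSpDec Groth.Agent.WeakAss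
open Groth.Agent.AlgSpDec.EtStalkElts

namespace Groth.Agent.AlgSpWA

section algebra

variable {A B : Type u} [CommRing A] [CommRing B] [Algebra A B] [Module.Flat A B]
  {M : Type v} [AddCommGroup M] [Module A M]

/-- Elements killed by a finitely generated ideal after flat base change come from below. -/
theorem mem_span_of_killed {J : Ideal A} (hJ : J.FG) (z : B ⊗[A] M)
    (h : ∀ a ∈ J, algebraMap A B a • z = 0) :
    z ∈ Submodule.span B ((fun m => (1 : B) ⊗ₜ[A] m) '' {m | ∀ a ∈ J, a • m = 0}) := by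
  classical
  obtain ⟨n, g, hg⟩ := Submodule.fg_iff_exists_fin_generating_family.1 hJ
  let μ : M →ₗ[A] (Fin n → M) := LinearMap.pi fun i => LinearMap.lsmul A M (g i)
  have hz : μ.lTensor B z = 0 := by
    refine (piRight A A B fun _ : Fin n => M).injective (funext fun i => ?_)
    rw [map_zero, Pi.zero_apply, ← h (g i) (hg ▸ Submodule.subset_span ⟨i, rfl⟩)]
    clear h
    induction z using TensorProduct.induction_on with
    | zero => simp
    | add x y hx hy => simp only [map_add, Pi.add_apply, smul_add, hx, hy]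
    | tmul b m =>
      simp only [LinearMap.lTensor_tmul, piRight_apply, piRightHom_tmul, TensorProduct.smul_tmul', algebraMap_smul]
      exact TensorProduct.tmul_smul _ _ _
  have hex : Function.Exact (LinearMap.ker μ).subtype μ := LinearMap.exact_subtype_ker_map μ
  obtain ⟨w, rfl⟩ := ((Module.Flat.lTensor_exact B hex) z).1 hz
  clear hz h
  induction w using TensorProduct.induction_on with
  | zero => rw [map_zero]; exact Submodule.zero_mem _
  | add x y hx hy => rw [map_add]; exact add_mem hx hy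
  | tmul b m =>
    rw [LinearMap.lTensor_tmul,
      show b ⊗ₜ[A] ((LinearMap.ker μ).subtype m) = b • ((1 : B) ⊗ₜ[A] (m : M)) by
        rw [TensorProduct.smul_tmul', smul_eq_mul, mul_one]; rfl]
    refine Submodule.smul_mem _ b (Submodule.subset_span ⟨(m : M), fun a ha => ?_, rfl⟩)
    rw [← hg] at ha
    induction ha using Submodule.span_induction with
    | mem y hy => obtain ⟨i, rfl⟩ := hy; exact congrFun (LinearMap.mem_ker.1 m.2) i
    | zero => exact zero_smul _ _
    | add y z _ _ hy hz => rw [add_smul, hy, hz, add_zero]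
    | smul r y _ hy => rw [smul_eq_mul, mul_smul, hy, smul_zero]

end algebra

variable {S : Scheme.{u}} {X : Sp S} (F : ModEt X) (Z : Set (Points X))

/-- Locally zero outside the set. -/
def SuppIn {V : EtOver X} (σ : sectModEt F V) : Prop :=
  ∀ v : ↥V.obj.left.left, Points.ofPt V.obj.hom v ∉ Z →
    ∃ (W : EtOver X) (g : W ⟶ V), res F g σ = 0 ∧ v ∈ Set.range g.hom.left.left

theorem suppIn_res {V W : EtOver X} (j : W ⟶ V) {σ : sectModEt F V} (h : SuppIn F Z σ) : SuppIn F Z (res F j σ) := by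
  intro w hw
  obtain ⟨W₁, g, hg, w₁, hw₁⟩ := h (j.hom.left.left w) (by rwa [← AlgSpLib.ofPt_comp, EtOver.w j])
  have sq := (EtOver.isPullback j g).map (EtOver.toScheme X)
  obtain ⟨z, hz₁, hz₂⟩ := Scheme.Pullback.exists_preimage_pullback (f := j.hom.left.left) (g := g.hom.left.left) w w₁ hw₁.symm
  refine ⟨_, EtOver.pullbackFst j g, ?_, sq.isoPullback.inv z, ?_⟩
  · rw [← res_comp, EtOver.pullback_condition, res_comp, hg, map_zero]
  · refine Eq.trans ?_ hz₁
    exact (Scheme.Hom.comp_apply _ _ _).symm.trans (congrArg (fun k => k z) sq.isoPullback_inv_fst)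

theorem suppIn_zero {V : EtOver X} : SuppIn F Z (0 : sectModEt F V) :=
  fun v _ => ⟨V, 𝟙 V, map_zero _, v, rfl⟩

theorem suppIn_add {V : EtOver X} {σ τ : sectModEt F V} (hσ : SuppIn F Z σ) (hτ : SuppIn F Z τ) :
    SuppIn F Z (σ + τ) := by
  intro v hv
  obtain ⟨W, g, hg, w, hw⟩ := hσ v hv
  obtain ⟨W', g', hg', w', hw'⟩ := suppIn_res F Z g hτ w (by rwa [← EtOver.w g, AlgSpLib.ofPt_comp, hw])
  refine ⟨W', g' ≫ g, ?_, w', (Scheme.Hom.comp_apply g'.hom.left.left g.hom.left.left w').trans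
    ((congrArg _ hw').trans hw)⟩
  rw [map_add, res_comp, res_comp, hg, map_zero, hg', add_zero]

theorem suppIn_smul {V : EtOver X} (a : Fn V) {σ : sectModEt F V} (hσ : SuppIn F Z σ) : SuppIn F Z (a • σ) :=
  fun v hv => by
    obtain ⟨W, g, hg, hv'⟩ := hσ v hv
    exact ⟨W, g, by rw [res_smul, hg, smul_zero], hv'⟩

/-- The presheaf of sections supported in the set. -/
def suppSub : F.val.Submodule where
  obj W :=
    { carrier := {x | SuppIn F Z (show sectModEt F W.unop from x)}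
      zero_mem' := suppIn_zero F Z
      add_mem' := fun hx hy => suppIn_add F Z hx hy
      smul_mem' := fun r x hx => suppIn_smul F Z (V := W.unop) r.down hx }
  map {W V} f x hx := suppIn_res F Z f.unop hx

theorem suppIn_of_local {V : EtOver X} {σ : sectModEt F V} {R : Sieve V} (hR : R ∈ etTop X V)
    (h : ∀ (W : EtOver X) (g : W ⟶ V), R g → SuppIn F Z (res F g σ)) : SuppIn F Z σ := by
  intro v hv
  obtain ⟨W, g, hg, w, rfl⟩ := exists_mem_range hR v
  obtain ⟨W', g', hg', w', rfl⟩ := h W g hg w (by rwa [← EtOver.w g, AlgSpLib.ofPt_comp])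
  exact ⟨W', g' ≫ g, by rw [res_comp, hg'], w', Scheme.Hom.comp_apply g'.hom.left.left g.hom.left.left w'⟩

theorem mem_sat_suppSub_iff {V : EtOver X} (σ : sectModEt F V) :
    σ ∈ (Gen.sat (suppSub F Z)).obj (op V) ↔ SuppIn F Z σ :=
  ⟨fun h => suppIn_of_local F Z h fun _ _ hg => hg, fun h => Gen.le_sat (suppSub F Z) h⟩

variable (hZ : IsClosed Z) (hX : IsAlgSpace X)

/-- The functions vanishing on the preimage of the set. -/
def vanishIdeal (E : EtOver X) : Ideal (Fn E) where
  carrier := {a | ∀ u : ↥E.obj.left.left, Points.ofPt E.obj.hom u ∈ Z → a ∈ primeAtPt E.obj.left.left u}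
  zero_mem' := fun u _ => Ideal.zero_mem _
  add_mem' := fun ha hb u hu => add_mem (ha u hu) (hb u hu)
  smul_mem' := fun r a ha u hu => Ideal.mul_mem_left _ r (ha u hu)

include hZ in
theorem exists_mem_vanishIdeal (E : EtOver X) (hE : Aff E) (u : ↥E.obj.left.left)
    (hu : Points.ofPt E.obj.hom u ∉ Z) : ∃ a ∈ vanishIdeal Z E, a ∉ primeAtPt E.obj.left.left u := by
  haveI : IsAffine E.obj.left.left := hE
  obtain ⟨a, ha, hua⟩ := (isAffineOpen_top E.obj.left.left).exists_basicOpen_le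
    (V := ⟨Points.ofPt E.obj.hom ⁻¹' Zᶜ, hZ.isOpen_compl.preimage (Points.continuous_ofPt E.obj.hom)⟩)
    ⟨u, hu⟩ trivial
  exact ⟨a, fun w hw => by_contra fun hwa => ha ((not_mem_primeAtPt_iff w a).1 hwa) hw,
    (not_mem_primeAtPt_iff u a).2 hua⟩

include hX in
theorem exists_smul_of_suppIn [F.IsQuasicoherent] {E : EtOver X} (hE : Aff E) {σ : sectModEt F E}
    (h : SuppIn F Z σ) (u : ↥E.obj.left.left) (hu : Points.ofPt E.obj.hom u ∉ Z) :
    ∃ s ∉ primeAtPt E.obj.left.left u, s • σ = 0 := by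
  obtain ⟨W, g, hg, w, hw⟩ := h u hu
  obtain ⟨p, hp, hpw⟩ := EtStalkProps.exists_geometric (Points.ofPt E.obj.hom u)
  obtain ⟨l, hl⟩ := EtStalkStrict.exists_nbhd hX hp E.property hpw.symm
  let N : EtNbhd p := ⟨E, l⟩
  have hN : base p N = u := hl
  obtain ⟨y, hy⟩ := EtStalkAb.exists_lift_of_mem_range hp g N.2 ⟨w, hw.trans hN.symm⟩
  let N₂ : EtNbhd p := ⟨W, y⟩
  let g' : N₂ ⟶ N := CategoryOfElements.homMk _ _ g hy
  obtain ⟨s, hs, hs'⟩ := exists_notMem_of_germAt_eq_zero (M := F) hX hp N hE σ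
    ((germAt_eq_zero_iff_exists hX hp N σ).2 ⟨N₂, g', hg⟩)
  rw [hN] at hs
  exact ⟨s, hs, hs'⟩

include hX in
theorem exists_pow_of_suppIn [F.IsQuasicoherent] {E : EtOver X} (hE : Aff E) [IsNoetherianRing (Fn E)]
    {σ : sectModEt F E} (h : SuppIn F Z σ) :
    ∃ k : ℕ, vanishIdeal Z E ^ k ≤ annEl (Fn E) σ := by
  haveI : IsAffine E.obj.left.left := hE
  refine Ideal.exists_pow_le_of_le_radical_of_fg ?_ (IsNoetherian.noetherian _)
  rw [Ideal.radical_eq_sInf]
  refine le_sInf fun P ⟨hAP, hP⟩ => ?_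
  haveI := hP
  obtain ⟨u, rfl⟩ := AlgSpLib.Cartier.exists_primeAtPt_eq (U := E.obj.left.left) P
  by_contra hne
  obtain ⟨s, hs, hs'⟩ := exists_smul_of_suppIn F Z hX hE h u fun hu => hne fun a ha => ha u hu
  exact hs (hAP (mem_annEl.2 hs'))

include hZ in
theorem suppIn_of_pow {E : EtOver X} (hE : Aff E) {σ : sectModEt F E} {k : ℕ}
    (h : ∀ a ∈ vanishIdeal Z E ^ k, a • σ = 0) : SuppIn F Z σ := by
  intro u hu
  obtain ⟨a, ha, hau⟩ := exists_mem_vanishIdeal Z hZ E hE u hu
  refine ⟨basicSub E (a ^ k), basicSubι E (a ^ k), res_basicSub_eq_zero (h _ (Ideal.pow_mem_pow ha k)), ?_⟩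
  exact (range_etOpenι E _).ge ((not_mem_primeAtPt_iff u _).1
    fun hm => hau ((inferInstance : (primeAtPt E.obj.left.left u).IsPrime).mem_of_pow_mem k hm))

theorem map_vanishIdeal_le {E T : EtOver X} (g : T ⟶ E) :
    (vanishIdeal Z E).map (rmap g) ≤ vanishIdeal Z T := by
  rw [Ideal.map_le_iff_le_comap]
  intro a ha u hu
  have := ha (g.hom.left.left u) (by rwa [← AlgSpLib.ofPt_comp, EtOver.w g])
  rwa [← primeAtPt_comap] at this

include hZ hX in
/-- The sections supported in a closed set form a quasi-coherent submodule. -/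
theorem isQuasicoherent_suppSub (hN : IsLocNoethSp X) [F.IsQuasicoherent] :
    (Gen.satSheaf (suppSub F Z)).IsQuasicoherent := by
  haveI := Gen.mono_satι (suppSub F Z)
  refine isQuasicoherent_of_cart _ fun E hE => cart_of_mono (Gen.satι (suppSub F Z)) hE
    (cart_of_isQuasicoherent F hE) fun T hT s => ⟨⊤, (etTop X).top_mem _, fun T' f hT' _ => ?_⟩
  let K := Gen.satSheaf (suppSub F Z)
  let κ : K ⟶ F := Gen.satι (suppSub F Z)
  haveI : Module.Flat (Fn E) (Fn T'.left) := flat_over hE hT'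
  haveI := isNoetherianRing_fn hN hE
  haveI := isNoetherianRing_fn hN hT'
  let σ : sectModEt F T'.left := appL κ T'.left (res K f.left s)
  have hσ : SuppIn F Z σ := (mem_sat_suppSub_iff F Z _).1 (res K f.left s).2
  obtain ⟨k, hk⟩ := exists_pow_of_suppIn F Z hX hT' hσ
  have hb := bijective_bcMor (cart_of_isQuasicoherent F hE) T' hT'
  obtain ⟨z, hz⟩ := hb.2 σ
  have hz0 : ∀ a ∈ vanishIdeal Z E ^ k, algebraMap (Fn E) (Fn T'.left) a • z = 0 := fun a ha => by
    refine hb.1 ?_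
    rw [map_zero, map_smul, hz]
    refine mem_annEl.1 (hk ?_)
    refine Ideal.pow_right_mono (map_vanishIdeal_le Z T'.hom) k ?_
    rw [← Ideal.map_pow]
    exact Ideal.mem_map_of_mem _ ha
  have hmem := mem_span_of_killed (IsNoetherian.noetherian (vanishIdeal Z E ^ k)) z hz0
  suffices H : ∀ y ∈ Submodule.span (Fn T'.left) ((fun m => (1 : Fn T'.left) ⊗ₜ[Fn E] m) ''
      {m : sectModEt F E | ∀ a ∈ vanishIdeal Z E ^ k, a • m = 0}),
      ∃ w, appL κ T'.left (bcMor K T' w) = bcMor F T' y by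
    obtain ⟨w, hw⟩ := H z hmem
    exact ⟨w, injective_appL κ _ (hw.trans hz)⟩
  intro y hy
  induction hy using Submodule.span_induction with
  | mem y hy =>
    obtain ⟨m, hm, rfl⟩ := hy
    refine ⟨(1 : Fn T'.left) ⊗ₜ ⟨m, (mem_sat_suppSub_iff F Z m).2 (suppIn_of_pow F Z hZ hE hm)⟩, ?_⟩
    rw [appL_bcMor]
    rfl
  | zero => exact ⟨0, by simp⟩
  | add x y _ _ hx hy =>
    obtain ⟨a, ha⟩ := hx
    obtain ⟨b, hb⟩ := hy
    exact ⟨a + b, by rw [map_add, map_add, map_add, ha, hb]⟩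
  | smul r x _ hx =>
    obtain ⟨a, ha⟩ := hx
    refine ⟨r • a, ?_⟩
    exact ((congrArg (appL κ T'.left) ((bcMor K T').map_smul r a)).trans ((appL κ T'.left).map_smul r _)).trans
      ((congrArg (r • ·) ha).trans ((bcMor F T').map_smul r x).symm)

include hX in
theorem exists_aff_nbhd_in {p : FieldPt X} (hp : p.IsGeometric) {P : Set (Points X)} (hP : IsOpen P)
    (hx : Points.mk p ∈ P) :
    ∃ N : EtNbhd p, Aff N.1 ∧ Set.range (Points.ofPt N.1.obj.hom) ⊆ P := by
  obtain ⟨N₀, -⟩ := exists_aff_nbhd hX hp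
  obtain ⟨M, g, hMa, hM⟩ := EtStalkHenz.exists_affine N₀
    ⟨Points.ofPt N₀.1.obj.hom ⁻¹' P, hP.preimage (Points.continuous_ofPt N₀.1.obj.hom)⟩
    (show Points.ofPt N₀.1.obj.hom (base p N₀) ∈ P by rwa [ofPt_base])
  refine ⟨M, hMa, ?_⟩
  rintro _ ⟨m, rfl⟩
  rw [← EtOver.w g.val, AlgSpLib.ofPt_comp]
  exact hM ⟨m, rfl⟩

include hX in
theorem suppIn_of_stalks {V : EtOver X} (σ : sectModEt F V)
    (h : ∀ p : FieldPt X, p.IsGeometric → Points.mk p ∈ Set.range (Points.ofPt V.obj.hom) → Points.mk p ∉ Z →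
      IsZero (stalkEt p ((toAbEt X).obj F))) : SuppIn F Z σ := by
  intro v hv
  obtain ⟨p, hp, hpv⟩ := EtStalkProps.exists_geometric (Points.ofPt V.obj.hom v)
  obtain ⟨l, hl⟩ := EtStalkStrict.exists_nbhd hX hp V.property hpv.symm
  let N : EtNbhd p := ⟨V, l⟩
  have hz := h p hp ⟨v, hpv.symm⟩ (hpv ▸ hv)
  obtain ⟨M, g, hg⟩ := (germAt_eq_zero_iff_exists hX hp N σ).1
    (@Subsingleton.elim _ (AddCommGrpCat.isZero_iff_subsingleton.1 hz) _ _)
  exact ⟨M.1, g.val, hg, base p M, (EtStalkHenz.base_map g).trans hl⟩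

include hZ hX in
theorem isZero_stalk_suppSub (hN : IsLocNoethSp X) [F.IsQuasicoherent] {p : FieldPt X} (hp : p.IsGeometric)
    (hx : Points.mk p ∉ Z) : IsZero (stalkEt p ((toAbEt X).obj (Gen.satSheaf (suppSub F Z)))) := by
  haveI := isQuasicoherent_suppSub F Z hZ hX hN
  haveI := Gen.mono_satι (suppSub F Z)
  obtain ⟨N, hA, hsub⟩ := exists_aff_nbhd_in hX hp hZ.isOpen_compl hx
  refine (isZero_stalk_iff hX hp N hA).2 fun σ => ?_
  obtain ⟨s, hs, hs'⟩ := exists_smul_of_suppIn F Z hX hA ((mem_sat_suppSub_iff F Z _).1 σ.2) (base p N)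
    (hsub ⟨base p N, rfl⟩)
  exact ⟨s, hs, injective_appL (Gen.satι (suppSub F Z)) N.1
    (((appL (Gen.satι (suppSub F Z)) N.1).map_smul s σ).trans (hs'.trans (map_zero _).symm))⟩

include hZ hX in
/-- The support of a coherent module decomposed along two closed sets. -/
theorem exists_support_split (hN : IsLocNoethSp X) [F.IsFinitePresentation] (Z₁ : Set (Points X))
    (hZ₁ : IsClosed Z₁)
    (hsupp : ∀ x : FieldPt X, x.IsGeometric →
      (Points.mk x ∈ Z₁ ∪ Z ↔ ¬ IsZero (stalkEt x ((toAbEt X).obj F)))) :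
    ∃ (G : ModEt X) (a : G ⟶ F), Mono a ∧ G.IsFinitePresentation ∧
      (cokernel a).IsFinitePresentation ∧
        (∀ x : FieldPt X, x.IsGeometric → Points.mk x ∉ Z → IsZero (stalkEt x ((toAbEt X).obj G))) ∧
        (∀ x : FieldPt X, x.IsGeometric → Points.mk x ∉ Z₁ →
          IsZero (stalkEt x ((toAbEt X).obj (cokernel a)))) := by
  haveI := Gen.mono_satι (suppSub F Z)
  haveI := isQuasicoherent_suppSub F Z hZ hX hN
  let a := Gen.satι (suppSub F Z)
  haveI := isQuasicoherent_cokernel a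
  haveI := isQuasicoherent_kernel (cokernel.π a)
  refine ⟨_, a, inferInstance, isFinitePresentation_sub hN a, isFinitePresentation_quot hN (cokernel.π a),
    fun x hx hxZ => isZero_stalk_suppSub F Z hZ hX hN hx hxZ, fun x hx hxZ => ?_⟩
  obtain ⟨N, hA, hsub⟩ := exists_aff_nbhd_in hX hx hZ₁.isOpen_compl hxZ
  refine (isZero_stalk_iff hX hx N hA).2 fun c => ⟨1, fun h1 => ?_, ?_⟩
  · exact (inferInstance : (primeAtPt N.1.obj.left.left (base x N)).IsPrime).ne_top ((Ideal.eq_top_iff_one _).2 h1)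
  obtain ⟨y, rfl⟩ := surjective_of_cart_kernel (kernel.ι (cokernel.π a)) (cokernel.π a) (kernel.condition _)
    (exists_kernel_preimage _) hA (cart_of_isQuasicoherent _ hA) c
  have hy : SuppIn F Z y := suppIn_of_stalks F Z hX y fun q hq hqN hqZ => by
    by_contra h0
    exact ((hsupp q hq).2 h0).elim (hsub hqN) hqZ
  obtain ⟨t, ht⟩ : ∃ t, appL a N.1 t = y := ⟨⟨y, (mem_sat_suppSub_iff F Z y).2 hy⟩, rfl⟩
  rw [one_smul, ← ht, appL_appL, cokernel.condition]
  rfl

end Groth.Agent.AlgSpWA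

end
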