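import Groth.Agent.AlgSpWA.FinSys
import Groth.Agent.AlgSpWA.DimTop

/-!
# Basic opens of affine objects and pairs of charts
-/

set_option autoImplicit false
set_option linter.style.haveILetI false
set_option backward.isDefEq.respectTransparency false
set_option backward.isDefEq.respectTransparency.types false

noncomputable section

universe u

open CategoryTheory CategoryTheory.Limits AlgebraicGeometry Opposite AlgSp TensorProduct
open Groth.Agent.QCart13

namespace Groth.Agent.AlgSpWA.FinSys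

open CohUnion MVSheaf Groth.Agent.AlgSpDec Groth.Agent.AlgSpPts Groth.Agent.AlgSpLib

variable {S : Scheme.{u}} {X : Sp S} {M : ModEt X}

/-- A basic open of an object. -/
abbrev basic (E : EtOver X) (g : Fn E) : EtOver X := etOpen E (E.obj.left.left.basicOpen g)

/-- Its inclusion. -/
abbrev basicι (E : EtOver X) (g : Fn E) : basic E g ⟶ E := etOpenι E (E.obj.left.left.basicOpen g)

theorem aff_basic {E : EtOver X} (hE : Aff E) (g : Fn E) : Aff (basic E g) := by
  haveI : IsAffine E.obj.left.left := hE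
  exact (isAffineOpen_top E.obj.left.left).basicOpen g

theorem isUnit_rmap_basicι (E : EtOver X) (g : Fn E) : IsUnit (rmap (basicι E g) g) :=
  DimTop.isUnit_φ (T := E.obj.left) g

theorem isLocalization_basic {E : EtOver X} (hE : Aff E) (g : Fn E) :
    letI := algOf (basicι E g)
    IsLocalization.Away g (Fn (basic E g)) := by
  haveI : IsAffine E.obj.left.left := hE
  letI := algOf (basicι E g)
  let D := E.obj.left.left.basicOpen g
  let ψ : Γ(E.obj.left.left, D) ≃ₐ[Fn E] Fn (basic E g) :=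
    AlgEquiv.ofRingEquiv (f := D.topIso.symm.commRingCatIsoToRingEquiv) fun a => by
      exact (DimTop.φ_eq (T := E.obj.left) D a).symm
  exact IsLocalization.isLocalization_of_algEquiv (Submonoid.powers g) ψ

theorem isLocalizedModule_basic [M.IsQuasicoherent] {E : EtOver X} (hE : Aff E) (g : Fn E) :
    letI := modOf M (basicι E g)
    IsLocalizedModule (Submonoid.powers g) (resL M (basicι E g)) := by
  letI := algOf (basicι E g)
  letI := modOf M (basicι E g)
  haveI := towerOf M (basicι E g)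
  haveI := isLocalization_basic hE g
  exact (isLocalizedModule_iff_isBaseChange (Submonoid.powers g) (Fn (basic E g)) _).2
    (cart_of_isQuasicoherent M hE _ (basicι E g) (aff_basic hE g))

theorem exists_res_basic [M.IsQuasicoherent] {E : EtOver X} (hE : Aff E) (g : Fn E) (x : sectModEt M (basic E g)) :
    ∃ (k : ℕ) (m : sectModEt M E), rmap (basicι E g) g ^ k • x = res M (basicι E g) m := by
  letI := modOf M (basicι E g)
  haveI := isLocalizedModule_basic (M := M) hE g
  obtain ⟨⟨m, ⟨_, k, rfl⟩⟩, hm⟩ := IsLocalizedModule.surj (Submonoid.powers g) (resL M (basicι E g)) x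
  refine ⟨k, m, ?_⟩
  rw [← map_pow]
  exact hm

theorem exists_pow_smul_eq_zero [M.IsQuasicoherent] {E : EtOver X} (hE : Aff E) (g : Fn E) (x : sectModEt M E)
    (hx : res M (basicι E g) x = 0) : ∃ k : ℕ, g ^ k • x = 0 := by
  letI := modOf M (basicι E g)
  haveI := isLocalizedModule_basic (M := M) hE g
  have h : resL M (basicι E g) x = resL M (basicι E g) 0 := hx.trans (map_zero _).symm
  obtain ⟨⟨_, k, rfl⟩, hc⟩ := IsLocalizedModule.exists_of_eq (S := Submonoid.powers g) h
  exact ⟨k, hc.trans (smul_zero _)⟩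

theorem exists_pow_mem [M.IsQuasicoherent] {E : EtOver X} (hE : Aff E) (g : Fn E) (Q : Set (sectModEt M E))
    (x : sectModEt M E) (hx : res M (basicι E g) x ∈ spanAt M Q (basicι E g)) :
    ∃ k : ℕ, g ^ k • x ∈ Submodule.span (Fn E) Q := by
  have key : ∀ y ∈ spanAt M Q (basicι E g), ∃ (k : ℕ) (q : sectModEt M E), q ∈ Submodule.span (Fn E) Q ∧
      rmap (basicι E g) g ^ k • y = res M (basicι E g) q := by
    intro y hy
    induction hy using Submodule.span_induction with
    | mem y hy =>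
      obtain ⟨q, hq, rfl⟩ := hy
      exact ⟨0, q, Submodule.subset_span hq, by rw [pow_zero, one_smul]⟩
    | zero => exact ⟨0, 0, zero_mem _, by rw [smul_zero, map_zero]⟩
    | add a b _ _ ha hb =>
      obtain ⟨i, q, hq, hqe⟩ := ha
      obtain ⟨j, r, hr, hre⟩ := hb
      refine ⟨i + j, g ^ j • q + g ^ i • r, add_mem (Submodule.smul_mem _ _ hq) (Submodule.smul_mem _ _ hr), ?_⟩
      rw [map_add, res_smul, res_smul, ← hqe, ← hre, map_pow, map_pow, smul_add, smul_smul, smul_smul, ← pow_add,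
        ← pow_add, add_comm j i]
    | smul r y _ hy =>
      obtain ⟨i, q, hq, hqe⟩ := hy
      letI := algOf (basicι E g)
      haveI := isLocalization_basic hE g
      obtain ⟨⟨c, ⟨_, j, rfl⟩⟩, hc⟩ := IsLocalization.surj (Submonoid.powers g) r
      refine ⟨i + j, c • q, Submodule.smul_mem _ _ hq, ?_⟩
      have hc' : r * rmap (basicι E g) g ^ j = rmap (basicι E g) c := by
        rw [← map_pow]; exact hc
      rw [res_smul, ← hqe, ← hc', smul_smul, smul_smul, pow_add]
      congr 1; ring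
  obtain ⟨i, q, hq, hqe⟩ := key _ hx
  obtain ⟨k, hk⟩ := exists_pow_smul_eq_zero hE g (g ^ i • x - q) (by
    rw [map_sub, res_smul, map_pow, hqe, sub_self])
  refine ⟨k + i, ?_⟩
  rw [smul_sub, sub_eq_zero, smul_smul, ← pow_add] at hk
  rw [hk]
  exact Submodule.smul_mem _ _ hq

/-- A compact open of an affine object is a finite union of basic opens. -/
theorem exists_basics {E : EtOver X} (hE : Aff E) (O : E.obj.left.left.Opens) (hO : IsCompact (O : Set ↥E.obj.left.left)) :
    ∃ (r : ℕ) (g : Fin r → Fn E), ∀ x, x ∈ O ↔ ∃ l, x ∈ E.obj.left.left.basicOpen (g l) := by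
  haveI : IsAffine E.obj.left.left := hE
  choose g hg hgx using fun v : O => (isAffineOpen_top E.obj.left.left).exists_basicOpen_le (V := O) ⟨v.1, v.2⟩ trivial
  obtain ⟨t, ht⟩ := hO.elim_finite_subcover (fun v => (E.obj.left.left.basicOpen (g v) : Set ↥E.obj.left.left))
    (fun v => (E.obj.left.left.basicOpen _).2) fun y hy => Set.mem_iUnion.2 ⟨⟨y, hy⟩, hgx ⟨y, hy⟩⟩
  refine ⟨t.card, fun l => g (t.equivFin.symm l).1, fun x => ⟨fun hx => ?_, fun ⟨l, hl⟩ => hg _ hl⟩⟩
  obtain ⟨v, hv, hxv⟩ := Set.mem_iUnion₂.1 (ht hx)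
  refine ⟨t.equivFin ⟨v, hv⟩, ?_⟩
  simp only [Equiv.symm_apply_apply]
  exact hxv

/-- Maps into a union of opens locally factor through one of them. -/
theorem mem_etTop_factor {E V : EtOver X} {r : ℕ} (O : Fin r → E.obj.left.left.Opens) (a : V ⟶ E)
    (h : ∀ v, ∃ l, a.hom.left.left v ∈ O l) (R : Sieve V)
    (hR : ∀ (W : EtOver X) (g : W ⟶ V) (l : Fin r) (k : W ⟶ etOpen E (O l)), k ≫ etOpenι E (O l) = g ≫ a → R g) :
    R ∈ etTop X V := by
  refine QCart13.mem_etTop_of_exists _ fun v => ?_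
  obtain ⟨l, hl⟩ := h v
  let N : V.obj.left.left.Opens := a.hom.left.left ⁻¹ᵁ O l
  have hr : Set.range ((etOpenι V N ≫ a).hom.left.left) ⊆ Set.range (etOpenι E (O l)).hom.left.left := by
    rintro _ ⟨w, rfl⟩
    rw [range_etOpenι]
    exact w.2
  haveI : IsOpenImmersion (etOpenι E (O l)).hom.left.left := inferInstanceAs (IsOpenImmersion (O l).ι)
  refine ⟨etOpen V N, etOpenι V N, hR _ _ l (EtOver.homMk (Over.homMk
    (IsOpenImmersion.lift (etOpenι E (O l)).hom.left.left (etOpenι V N ≫ a).hom.left.left hr) ?_) ?_) ?_,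
    ⟨v, hl⟩, rfl⟩
  · show IsOpenImmersion.lift _ _ hr ≫ (O l).ι ≫ E.obj.left.hom = _
    rw [← Category.assoc]
    exact (congrArg (· ≫ E.obj.left.hom) (IsOpenImmersion.lift_fac _ _ hr)).trans (Over.w (etOpenι V N ≫ a).hom.left)
  · refine Eq.trans ?_ (EtOver.w (etOpenι V N ≫ a))
    show (yon S).map _ ≫ (yon S).map _ ≫ E.obj.hom = (yon S).map _ ≫ E.obj.hom
    rw [← Category.assoc, ← Functor.map_comp]
    congr 2
    exact Over.OverMorphism.ext (IsOpenImmersion.lift_fac _ _ hr)
  · exact EtOver.hom_ext _ _ (Over.OverMorphism.ext (IsOpenImmersion.lift_fac _ _ hr))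

section pairs

variable {F : Sp S} {e : F ⟶ X} [QuasiSeparatedSpace ↥S] (hF : IsAlgSpace F) (hqs : IsQuasiSeparatedSp F)

include hF hqs in
theorem exists_pairs_to (Z U : EtOver X) (hZ : Aff Z) (hU : Aff U) (z : (pre e).obj (op Z)) (y : (pre e).obj (op U))
    (hy : RepWith @Etale y.1) :
    ∃ (n : ℕ) (W : Fin n → EtOver X) (a : ∀ l, W l ⟶ Z) (b : ∀ l, W l ⟶ U), (∀ l, Aff (W l)) ∧
      (∀ l, (pre e).map (b l).op y = (pre e).map (a l).op z) ∧
      ∀ (V : EtOver X) (a' : V ⟶ Z) (b' : V ⟶ U), (pre e).map b'.op y = (pre e).map a'.op z →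
        ∃ R ∈ etTop X V, ∀ (V' : EtOver X) (h : V' ⟶ V), R h → ∃ l, ∃ k : V' ⟶ W l,
          k ≫ a l = h ≫ a' ∧ k ≫ b l = h ≫ b' := by
  haveI : IsAffine U.obj.left.left := hU
  haveI : IsAffine Z.obj.left.left := hZ
  have sq := hy.rep.isPullback' z.1
  let P₀ : EtOver X := MVSheaf.sub Z (hy.rep.snd z.1) (hy.property_snd _)
  let pa : P₀ ⟶ Z := MVSheaf.subι Z _ _
  have hpb : (yon S).map (hy.rep.fst' z.1) ≫ U.obj.hom = P₀.obj.hom := by
    show _ = (yon S).map (hy.rep.snd z.1) ≫ Z.obj.hom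
    refine ((congrArg ((yon S).map (hy.rep.fst' z.1) ≫ ·) y.2).symm.trans ?_).trans
      (congrArg ((yon S).map (hy.rep.snd z.1) ≫ ·) z.2)
    exact (Category.assoc _ _ _).symm.trans ((congrArg (· ≫ e) sq.w).trans (Category.assoc _ _ _))
  let pb : P₀ ⟶ U := EtOver.homMk (hy.rep.fst' z.1) hpb
  haveI : CompactSpace ↥P₀.obj.left.left :=
    S10185.result ⟨F, hF⟩ hqs U.obj.left Z.obj.left P₀.obj.left y.1 z.1 (hy.rep.fst' z.1) (hy.rep.snd z.1) sq
  obtain ⟨n, T, hT, hcov⟩ := QCPush13.exists_affine_cover P₀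
  have hc : (pre e).map pb.op y = (pre e).map pa.op z := Subtype.ext sq.w
  refine ⟨n, fun l => (T l).left, fun l => (T l).hom ≫ pa, fun l => (T l).hom ≫ pb, hT, fun l => ?_,
    fun V a' b' hab => ?_⟩
  · rw [← pre_map_map, hc, pre_map_map]
  · obtain ⟨c, hc1, hc2⟩ : ∃ c : V ⟶ P₀, c ≫ pa = a' ∧ c ≫ pb = b' := by
      obtain ⟨c₀, h1, h2⟩ := sq.exists_lift ((yon S).map b'.hom.left) ((yon S).map a'.hom.left) (congrArg Subtype.val hab)
      obtain ⟨c, rfl⟩ := (yon S).map_surjective c₀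
      refine ⟨EtOver.homMk c ?_, EtOver.hom_ext _ _ ((yon S).map_injective ?_),
        EtOver.hom_ext _ _ ((yon S).map_injective ?_)⟩
      · show (yon S).map c ≫ (yon S).map (hy.rep.snd z.1) ≫ Z.obj.hom = V.obj.hom
        rw [reassoc_of% h2]; exact EtOver.w a'
      · show (yon S).map (c ≫ hy.rep.snd z.1) = _
        rw [Functor.map_comp]; exact h2
      · show (yon S).map (c ≫ hy.rep.fst' z.1) = _
        rw [Functor.map_comp]; exact h1
    refine ⟨_, (etTop X).pullback_stable c (AlgSpDec.ofArrows_mem_etTop (fun l => (T l).left) (fun l => (T l).hom) hcov),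
      fun V' h hh => ?_⟩
    obtain ⟨l, k, hk⟩ := (Sieve.mem_ofArrows_iff _ _ _).1 hh
    exact ⟨l, k, by rw [← Category.assoc, ← hk, Category.assoc, hc1], by rw [← Category.assoc, ← hk, Category.assoc, hc2]⟩

variable {U : Sp S} {j : U ⟶ F} (hj : RepWith @IsOpenImmersion j) (hU : IsQuasiCompactSp U)

include hF hqs hj hU in
theorem isCompact_preimage (Z : EtOver X) (hZ : Aff Z) (z : (pre e).obj (op Z)) :
    IsCompact (Points.ofPt z.1 ⁻¹' Set.range (Points.map j)) := by
  obtain ⟨U₀, p, hp, hps, hU₀⟩ := hU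
  haveI : CompactSpace ↥U₀.left := hU₀
  haveI : IsAffine Z.obj.left.left := hZ
  have hpj : RepWith @Etale (p ≫ j) := repWith_comp hp
    (repWith_mono (fun _ _ m (_ : IsOpenImmersion m) => inferInstanceAs (Etale m)) _ hj)
  have sq := hpj.rep.isPullback' z.1
  haveI : CompactSpace ↥(hpj.rep.pullback z.1).left :=
    S10185.result ⟨F, hF⟩ hqs U₀ Z.obj.left _ (p ≫ j) z.1 (hpj.rep.fst' z.1) (hpj.rep.snd z.1) sq
  have e1 : Points.ofPt z.1 ⁻¹' Set.range (Points.map j) = Set.range (hpj.rep.snd z.1).left := by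
    ext v
    constructor
    · rintro ⟨x, hx⟩
      obtain ⟨w, rfl⟩ := surjective_ofPt hps x
      rw [Points.map_ofPt] at hx
      obtain ⟨q, -, hq⟩ := AlgSpLib.exists_ofPt_of_eq sq hx
      exact ⟨q, hq⟩
    · rintro ⟨q, rfl⟩
      refine ⟨Points.ofPt p ((hpj.rep.fst' z.1).left q), ?_⟩
      rw [Points.map_ofPt, ← AlgSpLib.ofPt_comp, sq.w, AlgSpLib.ofPt_comp]
  rw [e1]
  exact isCompact_range (hpj.rep.snd z.1).left.continuous

end pairs

end Groth.Agent.AlgSpWA.FinSys
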