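import Groth.Agent.AlgSpWA.SysGlue
import Groth.Agent.AlgSpWA.MVBound

/-!
# Finitely many sections of a quasi-coherent module on a qcqs space lie in a finite type submodule
-/

set_option autoImplicit false
set_option linter.style.haveILetI false
set_option backward.isDefEq.respectTransparency false
set_option backward.isDefEq.respectTransparency.types false

noncomputable section

universe u

open CategoryTheory CategoryTheory.Limits AlgebraicGeometry Opposite AlgSp TensorProduct
open Groth.Agent.QCart13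

namespace Groth.Agent.AlgSpWA.FinSys

open CohUnion MVSheaf Groth.Agent.AlgSpDec Groth.Agent.AlgSpLib

variable {S : Scheme.{u}}

/-- A space isomorphic to an affine scheme. -/
theorem hasSys_affine {X : Sp S} {M : ModEt X} [M.IsQuasicoherent] {F : Sp S} (e : F ⟶ X) {T : Over S}
    (θ : (yon S).obj T ≅ F) (hT : IsAffine T.left) (he : RepWith @Etale (θ.hom ≫ e)) : HasSys M e := by
  classical
  intro α hα E hE z m
  let EV : EtOver X := EtOver.mk (θ.hom ≫ e) he
  have hEV : Aff EV := hT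
  let yV : (pre e).obj (op EV) := ⟨θ.hom, rfl⟩
  have hb : ∀ (Z : EtOver X) (w : (pre e).obj (op Z)), ∃ b : Z ⟶ EV, (pre e).map b.op yV = w := fun Z w => by
    obtain ⟨k, hk⟩ := (yon S).map_surjective (w.1 ≫ θ.inv)
    have hk' : (yon S).map k ≫ θ.hom = w.1 := by
      exact (congrArg (· ≫ θ.hom) hk).trans ((Category.assoc _ _ _).trans
        ((congrArg (w.1 ≫ ·) θ.inv_hom_id).trans (Category.comp_id _)))
    refine ⟨EtOver.homMk k ?_, Subtype.ext hk'⟩
    show (yon S).map k ≫ θ.hom ≫ e = _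
    rw [← Category.assoc, hk']
    exact w.2
  have huniq : ∀ (Z : EtOver X) (a b : Z ⟶ EV), (pre e).map a.op yV = (pre e).map b.op yV → a = b := fun Z a b h =>
    EtOver.hom_ext _ _ ((yon S).map_injective ((cancel_mono θ.hom).1 (congrArg Subtype.val h)))
  choose b hb using hb
  have hμ := fun k => exists_finset_res hEV (hE k) (b (E k) (z k)) (m k)
  choose μ hμ using hμ
  haveI := hα
  haveI := Fintype.ofFinite α
  let Sg : Sys M e :=
    { ι := Unit
      E := fun _ => EV
      aff := fun _ => hEV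
      y := fun _ => yV
      P := fun _ => Finset.univ.biUnion μ
      cover := fun Z w => ⟨⊤, (etTop _).top_mem _, fun Z' g _ => ⟨(), b Z' _, hb Z' _⟩⟩
      good := fun _ _ Z _ a c hac p hp => by
        rw [huniq Z a c hac]
        exact Submodule.subset_span ⟨p, hp, rfl⟩ }
  refine ⟨Sg, fun k V hV a _ c hc => ?_⟩
  have h : a ≫ b (E k) (z k) = c := huniq V _ _ (by rw [← pre_map_map, hb, hc])
  rw [← h]
  refine res_mem_spanAt M _ a _ (spanAt_mono ?_ _ (hμ k))
  intro x hx
  exact Finset.mem_biUnion.2 ⟨k, Finset.mem_univ _, hx⟩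

/-- Finitely many sections lie in a finitely generated system on the whole space. -/
theorem hasSys [QuasiSeparatedSpace ↥S] (X : Space S) (hqc : IsQuasiCompactSp X.obj)
    (hqs : IsQuasiSeparatedSp X.obj) (M : ModEt X.obj) [M.IsQuasicoherent] : HasSys M (𝟙 X.obj) := by
  let W₀ : EtSpOver X := ⟨Over.mk (𝟙 X), fun _ φ hφ => by
    show RepWith @Etale (φ ≫ 𝟙 X.obj)
    exact (Category.comp_id φ).symm ▸ hφ⟩
  refine InductionPrinciple.induction_principle (fun W => HasSys M W.obj.hom.hom)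
    (fun W => IsQuasiCompactSp W.obj.left.obj ∧ IsQuasiSeparatedSp W.obj.left.obj)
    (fun W U j hW hj hU => ⟨hU, ?_⟩) (fun V T hT he => ⟨?_, ?_⟩)
    (fun W U V UV j f p q hW hU hV hsq hpb hPU hPV hPUV => ?_) (fun W hW => hW) W₀ ⟨hqc, hqs⟩
  · haveI := mono_of_openImm hj
    exact isQuasiSeparatedSp_of_mono j.hom.left.hom hW.2
  · exact InductionPrinciple.qcqs_of_iso_affine V.obj.left.property hT he.some
  · exact hasSys_affine _ he.some hT (V.property he.some.hom (repWith_of_isIso _ _))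
  · obtain ⟨T, hT, ⟨θ⟩⟩ := hV
    have hju : j.hom.left.hom ≫ W.obj.hom.hom = U.obj.hom.hom := congrArg (fun m => m.hom) (Over.w j.hom)
    have hfv : f.hom.left.hom ≫ W.obj.hom.hom = V.obj.hom.hom := congrArg (fun m => m.hom) (Over.w f.hom)
    refine hasSys_glue W.obj.left.property hW.2 hsq.1 hU hsq θ hT ?_ (hju.symm ▸ hPU)
    rw [Category.assoc, hfv]
    exact V.property θ.hom (repWith_of_isIso _ _)

/-- The finitely generated systems of a space are directed. -/
theorem exists_sys_le [QuasiSeparatedSpace ↥S] (X : Space S) (hqc : IsQuasiCompactSp X.obj)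
    (hqs : IsQuasiSeparatedSp X.obj) {M : ModEt X.obj} [M.IsQuasicoherent] (s t : Sys M (𝟙 X.obj)) :
    ∃ r : Sys M (𝟙 X.obj), (∀ i, ∀ p ∈ s.P i, Mem r (s.E i) (s.y i) p) ∧ ∀ i, ∀ p ∈ t.P i, Mem r (t.E i) (t.y i) p := by
  haveI := s.fin
  haveI := t.fin
  let α := ULift.{u + 1} ((Σ i : s.ι, Fin (s.P i).card) ⊕ (Σ i : t.ι, Fin (t.P i).card))
  obtain ⟨r, hr⟩ := hasSys X hqc hqs M α inferInstance
    (fun a => match a.down with | Sum.inl p => s.E p.1 | Sum.inr p => t.E p.1)
    (fun a => by rcases a with ⟨p | p⟩; exacts [s.aff p.1, t.aff p.1])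
    (fun a => match a with | ⟨Sum.inl p⟩ => s.y p.1 | ⟨Sum.inr p⟩ => t.y p.1)
    (fun a => match a with | ⟨Sum.inl p⟩ => ((s.P p.1).equivFin.symm p.2).1 | ⟨Sum.inr p⟩ => ((t.P p.1).equivFin.symm p.2).1)
  refine ⟨r, fun i p hp => ?_, fun i p hp => ?_⟩
  · have h := hr ⟨Sum.inl ⟨i, (s.P i).equivFin ⟨p, hp⟩⟩⟩
    simpa using h
  · have h := hr ⟨Sum.inr ⟨i, (t.P i).equivFin ⟨p, hp⟩⟩⟩
    simpa using h

end Groth.Agent.AlgSpWA.FinSys
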