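import Groth.Agent.AlgSpWA.SysBasic

/-!
# Finite type submodules glue along elementary distinguished squares
-/

set_option autoImplicit false
set_option linter.style.haveILetI false
set_option backward.isDefEq.respectTransparency false
set_option backward.isDefEq.respectTransparency.types false

noncomputable section

universe u

open CategoryTheory CategoryTheory.Limits AlgebraicGeometry Opposite AlgSp TensorProduct
open Groth.Agent.QCart13

namespace Groth.Agent.AlgSpWA.FinSys

open CohUnion MVSheaf Groth.Agent.AlgSpDec Groth.Agent.AlgSpDec.SymPower Groth.Agent.AlgSpPts Groth.Agent.AlgSpLib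

variable {S : Scheme.{u}} {X : Sp S} {M : ModEt X}

/-- Every finite set of sections over a space lies in a finitely generated system. -/
def HasSys (M : ModEt X) {F : Sp S} (e : F ⟶ X) : Prop :=
  ∀ (α : Type (u + 1)) (_ : Finite α) (E : α → EtOver X), (∀ k, Aff (E k)) → ∀ (z : ∀ k, (pre e).obj (op (E k)))
    (m : ∀ k, sectModEt M (E k)), ∃ Sg : Sys M e, ∀ k, Mem Sg (E k) (z k) (m k)

theorem Mem.add {F : Sp S} {e : F ⟶ X} {Sg : Sys M e} {Z : EtOver X} {z : (pre e).obj (op Z)} {s t : sectModEt M Z}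
    (hs : Mem Sg Z z s) (ht : Mem Sg Z z t) : Mem Sg Z z (s + t) := fun V hV a i b hb => by
  rw [map_add]; exact add_mem (hs V hV a i b hb) (ht V hV a i b hb)

theorem Mem.smul {F : Sp S} {e : F ⟶ X} {Sg : Sys M e} {Z : EtOver X} {z : (pre e).obj (op Z)} {s : sectModEt M Z}
    (hs : Mem Sg Z z s) (r : Fn Z) : Mem Sg Z z (r • s) := fun V hV a i b hb => by
  rw [res_smul]; exact Submodule.smul_mem _ _ (hs V hV a i b hb)

theorem mem_of_mem_span {F : Sp S} {e : F ⟶ X} {Sg : Sys M e} {Z : EtOver X} {z : (pre e).obj (op Z)}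
    {Q : Set (sectModEt M Z)} (hQ : ∀ q ∈ Q, Mem Sg Z z q) {s : sectModEt M Z} (hs : s ∈ Submodule.span (Fn Z) Q) :
    Mem Sg Z z s := by
  induction hs using Submodule.span_induction with
  | mem x hx => exact hQ x hx
  | zero => intro V hV a i b hb; rw [map_zero]; exact zero_mem _
  | add x y _ _ hx hy => exact hx.add hy
  | smul r x _ hx => exact hx.smul r

theorem exists_finset_res [M.IsQuasicoherent] {E E' : EtOver X} (hE : Aff E) (hE' : Aff E') (g : E' ⟶ E)
    (x : sectModEt M E') : ∃ μ : Finset (sectModEt M E), x ∈ spanAt M (↑μ) g := by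
  classical
  obtain ⟨v, rfl⟩ := (bijective_bcMor (cart_of_isQuasicoherent M hE) (Over.mk g) hE').2 x
  induction v using TensorProduct.induction_on with
  | zero => exact ⟨∅, by rw [map_zero]; exact zero_mem _⟩
  | add p q hp hq =>
    obtain ⟨a, ha⟩ := hp
    obtain ⟨b, hb⟩ := hq
    refine ⟨a ∪ b, ?_⟩
    rw [map_add]
    exact add_mem (Submodule.span_mono (Set.image_mono (Finset.coe_subset.2 Finset.subset_union_left)) ha)
      (Submodule.span_mono (Set.image_mono (Finset.coe_subset.2 Finset.subset_union_right)) hb)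
  | tmul r m =>
    refine ⟨{m}, ?_⟩
    exact Submodule.smul_mem _ r (Submodule.subset_span ⟨m, by simp, rfl⟩)

theorem spanAt_mono {U V : EtOver X} {P Q : Set (sectModEt M U)} (h : P ⊆ Q) (b : V ⟶ U) {x : sectModEt M V}
    (hx : x ∈ spanAt M P b) : x ∈ spanAt M Q b :=
  Submodule.span_mono (Set.image_mono h) hx

theorem spanAt_eq_span {U : EtOver X} (P : Set (sectModEt M U)) : spanAt M P (𝟙 U) = Submodule.span (Fn U) P := by
  show Submodule.span _ (res M (𝟙 U) '' P) = _
  congr 1
  ext x
  constructor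
  · rintro ⟨p, hp, rfl⟩; rwa [res_id]
  · exact fun hx => ⟨x, hx, res_id M U x⟩

variable {F U V UV : Sp S} {j : U ⟶ F} {f : V ⟶ F} {e : F ⟶ X}

theorem pre_congr {Z : EtOver X} {z z' : (pre (j ≫ e)).obj (op Z)} [Mono j] (h : z.1 ≫ j = z'.1 ≫ j) : z = z' :=
  Subtype.ext ((cancel_mono j).1 h)

set_option maxHeartbeats 1600000 in
/-- The gluing step. -/
theorem hasSys_glue [QuasiSeparatedSpace ↥S] [M.IsQuasicoherent] (hF : IsAlgSpace F) (hqs : IsQuasiSeparatedSp F)
    (hj : RepWith @IsOpenImmersion j) (hU : IsQuasiCompactSp U) (hsq : IsElemDistSq j f) {T : Over S}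
    (θ : (yon S).obj T ≅ V) (hT : IsAffine T.left) (he : RepWith @Etale ((θ.hom ≫ f) ≫ e))
    (IH : HasSys M (j ≫ e)) : HasSys M e := by
  classical
  intro α hα E hE z m
  haveI := mono_of_openImm hj
  haveI := hα
  have hg : RepWith @Etale (θ.hom ≫ f) := hsq.2.1 θ.hom (repWith_of_isIso _ _)
  haveI := hT
  haveI := isSeparated_snd hg (inferInstance : T.left.IsSeparated)
  -- the chart of `V`
  let EV : EtOver X := EtOver.mk ((θ.hom ≫ f) ≫ e) he
  have hEV : Aff EV := hT
  let yV : (pre e).obj (op EV) := ⟨θ.hom ≫ f, rfl⟩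
  -- the open part on an object
  have hOpen : ∀ (Z : EtOver X) (w : (pre e).obj (op Z)), IsOpen (Points.ofPt w.1 ⁻¹' Set.range (Points.map j)) :=
    fun Z w => (isOpen_range_openImm hF hj).preimage (Points.continuous_ofPt _)
  let C : ∀ (Z : EtOver X), (pre e).obj (op Z) → Z.obj.left.left.Opens := fun Z w => ⟨_, hOpen Z w⟩
  have hfac : ∀ (Z : EtOver X) (w : (pre e).obj (op Z)), (∀ v, v ∈ C Z w) →
      ∃ u : (pre (j ≫ e)).obj (op Z), u.1 ≫ j = w.1 := fun Z w hw => by
    obtain ⟨u, hu⟩ := exists_factor_open hj w.1 hw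
    exact ⟨⟨u, by rw [reassoc_of% hu]; exact w.2⟩, hu⟩
  have hC : ∀ (Z Z' : EtOver X) (g : Z' ⟶ Z) (w : (pre e).obj (op Z)) (v : ↥Z'.obj.left.left),
      v ∈ C Z' ((pre e).map g.op w) ↔ g.hom.left.left v ∈ C Z w := fun Z Z' g w v => by
    show Points.ofPt ((yon S).map g.hom.left ≫ w.1) v ∈ Set.range (Points.map j) ↔
      Points.ofPt w.1 (g.hom.left.left v) ∈ Set.range (Points.map j)
    rw [AlgSpLib.ofPt_comp]
  have hCu : ∀ (Z : EtOver X) (u : (pre (j ≫ e)).obj (op Z)) (w : (pre e).obj (op Z)), u.1 ≫ j = w.1 → ∀ v, v ∈ C Z w :=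
    fun Z u w h v => by
      show Points.ofPt w.1 v ∈ Set.range (Points.map j)
      rw [← h, ← Points.map_ofPt]
      exact Set.mem_range_self _
  -- basic opens of the open part of the chart
  obtain ⟨r, g, hgC⟩ := exists_basics hEV (C EV yV) (isCompact_preimage hF hqs hj hU EV hEV yV)
  have hD : ∀ l, ∃ u : (pre (j ≫ e)).obj (op (basic EV (g l))), u.1 ≫ j = ((pre e).map (basicι EV (g l)).op yV).1 :=
    fun l => hfac _ _ fun v => (hC _ _ _ _ v).2 ((hgC _).2 ⟨l, v.2⟩)
  choose uD huD using hD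
  -- pairs with the tested objects
  have hpairs := fun k => exists_pairs_to hF hqs (E k) EV (hE k) hEV (z k) yV hg
  choose np W pa pb hW hWc hWf using hpairs
  have hμ := fun k l => exists_finset_res hEV (hW k l) (pb k l) (res M (pa k l) (m k))
  choose μ hμ using hμ
  haveI := Fintype.ofFinite α
  let μV : Finset (sectModEt M EV) := Finset.univ.biUnion fun k => Finset.univ.biUnion fun l => μ k l
  -- the open parts of the tested objects
  have hbas := fun k => exists_basics (hE k) (C (E k) (z k)) (isCompact_preimage hF hqs hj hU (E k) (hE k) (z k))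
  choose rE gE hgE using hbas
  have hDE : ∀ k l, ∃ u : (pre (j ≫ e)).obj (op (basic (E k) (gE k l))),
      u.1 ≫ j = ((pre e).map (basicι (E k) (gE k l)).op (z k)).1 :=
    fun k l => hfac _ _ fun v => (hC _ _ _ _ v).2 ((hgE k _).2 ⟨l, v.2⟩)
  choose uE huE using hDE
  -- the system on the open part
  obtain ⟨SU, hSU⟩ := IH ((Σ k, Fin (rE k)) ⊕ (μV × Fin r)) inferInstance
    (Sum.elim (fun p => basic (E p.1) (gE p.1 p.2)) fun p => basic EV (g p.2))
    (by rintro (p | p) <;> exact aff_basic (by first | exact hE _ | exact hEV) _)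
    (fun p => match p with
      | Sum.inl p => uE p.1 p.2
      | Sum.inr p => uD p.2)
    (fun p => match p with
      | Sum.inl p => res M (basicι (E p.1) (gE p.1 p.2)) (m p.1)
      | Sum.inr p => res M (basicι EV (g p.2)) p.1.1)
  have hgen := fun l => exists_gen SU (basic EV (g l)) (aff_basic hEV (g l)) (uD l)
  choose Q hQm hQs using hgen
  -- extension of the generators
  have hext : ∀ l, ∀ q ∈ Q l, ∃ μ' : sectModEt M EV,
      (∀ l', Mem SU (basic EV (g l')) (uD l') (res M (basicι EV (g l')) μ')) ∧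
        q ∈ spanAt M ({μ'} : Set (sectModEt M EV)) (basicι EV (g l)) := by
    intro l q hq
    obtain ⟨a, μ₀, hμ₀⟩ := exists_res_basic hEV (g l) q
    have hN : ∀ l', ∃ N : ℕ, rmap (basicι EV (g l')) (g l) ^ N • res M (basicι EV (g l')) μ₀ ∈
        Submodule.span (Fn (basic EV (g l'))) (↑(Q l') : Set (sectModEt M (basic EV (g l')))) := by
      intro l'
      refine exists_pow_mem (aff_basic hEV (g l')) (rmap (basicι EV (g l')) (g l)) _ _ ?_
      set W' := basic (basic EV (g l')) (rmap (basicι EV (g l')) (g l))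
      set ι' := basicι (basic EV (g l')) (rmap (basicι EV (g l')) (g l))
      refine mem_spanAt_of_local M _ (aff_basic (aff_basic hEV (g l')) _) ι'
        (R := ⟨fun W'' h => ∃ k : W'' ⟶ basic EV (g l), k ≫ basicι EV (g l) = h ≫ ι' ≫ basicι EV (g l'),
          fun ⟨k, hk⟩ g' => ⟨g' ≫ k, by rw [Category.assoc, hk, Category.assoc]⟩⟩)
        (mem_etTop_factor (fun _ : Fin 1 => EV.obj.left.left.basicOpen (g l)) (ι' ≫ basicι EV (g l'))
          (fun v => ⟨0, by
        have hv : ι'.hom.left.left v ∈ (basic EV (g l')).obj.left.left.basicOpen (rmap (basicι EV (g l')) (g l)) :=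
          v.2
        have e1 := Scheme.preimage_basicOpen (basicι EV (g l')).hom.left.left (g l) (U := ⊤)
        exact (congrArg (ι'.hom.left.left v ∈ ·) e1).mpr hv⟩) _ fun W'' h l'' k hk => ⟨k, hk⟩) fun W'' h hW'' hh => ?_
      · obtain ⟨k, hk⟩ := hh
        have h1 : res M (h ≫ ι') (res M (basicι EV (g l')) μ₀) = rmap k (rmap (basicι EV (g l)) (g l) ^ a) • res M k q := by
          rw [← res_smul, hμ₀, ← res_comp, ← res_comp, hk, Category.assoc]
        rw [← res_comp, h1]
        refine Submodule.smul_mem _ _ (hQs l' W'' hW'' (h ≫ ι') (res M k q) ?_)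
        have hu : (pre (j ≫ e)).map (h ≫ ι').op (uD l') = (pre (j ≫ e)).map k.op (uD l) := by
          refine pre_congr ?_
          show ((yon S).map (h ≫ ι').hom.left ≫ (uD l').1) ≫ j = ((yon S).map k.hom.left ≫ (uD l).1) ≫ j
          rw [Category.assoc, Category.assoc, huD, huD]
          show ((pre e).map (h ≫ ι').op ((pre e).map (basicι EV (g l')).op yV)).1 =
            ((pre e).map k.op ((pre e).map (basicι EV (g l)).op yV)).1
          rw [pre_map_map, pre_map_map, hk, Category.assoc]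
        rw [hu]
        exact (hQm l q hq).res SU k
    choose N hN using hN
    letI : Module (Fn EV) (sectModEt M EV) := QCart13.modΓ M EV
    refine ⟨(g l ^ (Finset.univ.sup N) : Fn EV) • μ₀, fun l' => ?_, ?_⟩
    · rw [res_smul, map_pow, ← Nat.sub_add_cancel (Finset.le_sup (Finset.mem_univ l') : N l' ≤ Finset.univ.sup N),
        pow_add, mul_smul]
      exact (mem_of_mem_span (hQm l') (hN l')).smul _
    · obtain ⟨w, hw⟩ := (isUnit_rmap_basicι EV (g l)).pow (Finset.univ.sup N + a)
      have e1 : q = (↑w⁻¹ : Fn (basic EV (g l))) • res M (basicι EV (g l)) ((g l ^ (Finset.univ.sup N) : Fn EV) • μ₀) := by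
        rw [res_smul, map_pow, ← hμ₀, smul_smul, smul_smul, mul_assoc, ← pow_add, ← hw, Units.inv_mul, one_smul]
      rw [e1]
      exact Submodule.smul_mem _ _ (Submodule.subset_span ⟨_, Set.mem_singleton _, rfl⟩)
  choose! μQ hμQm hμQs using hext
  let PV : Finset (sectModEt M EV) := μV ∪ Finset.univ.biUnion fun l => (Q l).image (μQ l)
  have hA : ∀ p ∈ PV, ∀ l, Mem SU (basic EV (g l)) (uD l) (res M (basicι EV (g l)) p) := by
    intro p hp l
    rcases Finset.mem_union.1 hp with hp | hp
    · exact hSU (Sum.inr (⟨p, hp⟩, l))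
    · obtain ⟨l₀, -, hp⟩ := Finset.mem_biUnion.1 hp
      obtain ⟨q, hq, rfl⟩ := Finset.mem_image.1 hp
      exact hμQm l₀ q hq l
  -- local factorisation through the basic opens of the chart
  have hloc : ∀ (Z : EtOver X) (b : Z ⟶ EV), (∀ v, v ∈ C Z ((pre e).map b.op yV)) →
      ∃ R ∈ etTop X Z, ∀ (Z' : EtOver X) (h : Z' ⟶ Z), R h → ∃ l, ∃ k : Z' ⟶ basic EV (g l),
        k ≫ basicι EV (g l) = h ≫ b :=
    fun Z b hb => ⟨⟨fun Z' h => ∃ l, ∃ k : Z' ⟶ basic EV (g l), k ≫ basicι EV (g l) = h ≫ b,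
      fun ⟨l, k, hk⟩ g' => ⟨l, g' ≫ k, by rw [Category.assoc, hk, Category.assoc]⟩⟩,
      mem_etTop_factor (fun l => EV.obj.left.left.basicOpen (g l)) b
        (fun v => (hgC _).1 ((hC _ _ _ _ v).1 (hb v))) _ fun W'' h l k hk => ⟨l, k, hk⟩, fun Z' h hh => hh⟩
  have hlift : ∀ (Z : EtOver X) (v : (pre (j ≫ e)).obj (op Z)) (b : Z ⟶ EV), v.1 ≫ j = ((pre e).map b.op yV).1 →
      ∀ (Z' : EtOver X) (h : Z' ⟶ Z) (l : Fin r) (k : Z' ⟶ basic EV (g l)), k ≫ basicι EV (g l) = h ≫ b →
        (pre (j ≫ e)).map h.op v = (pre (j ≫ e)).map k.op (uD l) := by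
    intro Z v b hv Z' h l k hk
    refine pre_congr ?_
    show ((yon S).map h.hom.left ≫ v.1) ≫ j = ((yon S).map k.hom.left ≫ (uD l).1) ≫ j
    rw [Category.assoc, Category.assoc, huD, hv]
    show ((pre e).map h.op ((pre e).map b.op yV)).1 = ((pre e).map k.op ((pre e).map (basicι EV (g l)).op yV)).1
    rw [pre_map_map, pre_map_map, hk]
  have K1 : ∀ (Z : EtOver X), Aff Z → ∀ (b : Z ⟶ EV) (v : (pre (j ≫ e)).obj (op Z)) (s : sectModEt M Z),
      v.1 ≫ j = ((pre e).map b.op yV).1 → Mem SU Z v s → s ∈ spanAt M (↑PV) b := by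
    intro Z hZ b v s hv hs
    obtain ⟨R, hR, hRf⟩ := hloc Z b (hCu Z v _ hv)
    refine mem_spanAt_of_local M _ hZ b hR fun Z' h hZ' hh => ?_
    obtain ⟨l, k, hk⟩ := hRf Z' h hh
    have h1 := hQs l Z' hZ' k (res M h s) (by rw [← hlift Z v b hv Z' h l k hk]; exact hs.res SU h)
    rw [← hk]
    refine Submodule.span_le.2 ?_ h1
    rintro _ ⟨q, hq, rfl⟩
    refine res_mem_spanAt M _ k (basicι EV (g l)) (spanAt_mono ?_ _ (hμQs l q hq))
    rintro _ rfl
    exact Finset.mem_union_right _ (Finset.mem_biUnion.2 ⟨l, Finset.mem_univ _, Finset.mem_image_of_mem _ hq⟩)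
  have K2 : ∀ (Z : EtOver X) (a : Z ⟶ EV) (v : (pre (j ≫ e)).obj (op Z)), v.1 ≫ j = ((pre e).map a.op yV).1 →
      ∀ p ∈ PV, Mem SU Z v (res M a p) := by
    intro Z a v hv p hp V' hV' c i b hb
    obtain ⟨R, hR, hRf⟩ := hloc Z a (hCu Z v _ hv)
    refine mem_spanAt_of_local M _ hV' b ((etTop X).pullback_stable c hR) fun Z' h hZ' hh => ?_
    obtain ⟨l, k, hk⟩ := hRf Z' (h ≫ c) hh
    rw [← res_comp, ← res_comp, ← hk, res_comp]
    refine hA p hp l Z' hZ' k i (h ≫ b) ?_
    rw [← pre_map_map, hb, pre_map_map, hlift Z v a hv Z' (h ≫ c) l k hk]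
  -- the glued system
  let Sg : Sys M e :=
    { ι := Option SU.ι
      fin := haveI := SU.fin; inferInstance
      E := fun o => match o with
        | some i => SU.E i
        | none => EV
      aff := fun o => match o with
        | some i => SU.aff i
        | none => hEV
      y := fun o => match o with
        | some i => (preMap j rfl).app (op (SU.E i)) (SU.y i)
        | none => yV
      P := fun o => match o with
        | some i => SU.P i
        | none => PV
      cover := fun Z w => ?_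
      good := ?_ }
  rotate_left
  · -- cover
    refine ⟨⟨fun Z' h => ∃ (o : Option SU.ι), match o with
        | some i => ∃ b : Z' ⟶ SU.E i, (pre e).map b.op ((preMap j rfl).app (op (SU.E i)) (SU.y i)) = (pre e).map h.op w
        | none => ∃ b : Z' ⟶ EV, (pre e).map b.op yV = (pre e).map h.op w, ?_⟩, ?_, ?_⟩
    · rintro Z' Z'' h ⟨o, ho⟩ h'
      refine ⟨o, ?_⟩
      rcases o with _ | i
      all_goals
        obtain ⟨b, hb⟩ := ho
        exact ⟨h' ≫ b, by rw [← pre_map_map, hb, pre_map_map]⟩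
    · refine (etTop X).transitive (MVSheaf.piece_mem hF hj hsq θ Z w) _ fun Z' h hh => ?_
      rcases hh with ⟨u', hu'⟩ | ⟨v', hv'⟩
      · obtain ⟨R, hR, hRf⟩ := SU.cover Z' u'
        refine (etTop X).superset_covering (fun Z'' g' hg' => ?_) hR
        obtain ⟨i, b, hb⟩ := hRf Z'' g' hg'
        refine ⟨some i, b, Subtype.ext ?_⟩
        show (yon S).map b.hom.left ≫ (SU.y i).1 ≫ j = (yon S).map (g' ≫ h).hom.left ≫ w.1
        refine ((Category.assoc _ _ _).symm.trans (congrArg (· ≫ j) (congrArg Subtype.val hb))).trans ?_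
        show ((yon S).map g'.hom.left ≫ u'.1) ≫ j = (yon S).map (g'.hom.left ≫ h.hom.left) ≫ w.1
        rw [Category.assoc, hu', Functor.map_comp, Category.assoc]
      · refine (etTop X).superset_covering (fun Z'' g' _ => ?_) ((etTop X).top_mem Z')
        obtain ⟨k, hk⟩ := (yon S).map_surjective (v'.1 ≫ θ.inv)
        have hk' : (yon S).map k ≫ θ.hom ≫ f = (yon S).map h.hom.left ≫ w.1 := by
          exact ((Category.assoc _ _ _).symm.trans (congrArg (· ≫ f) ((congrArg (· ≫ θ.hom) hk).trans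
            ((Category.assoc _ _ _).trans ((congrArg (v'.1 ≫ ·) θ.inv_hom_id).trans (Category.comp_id _)))))).trans hv'
        let b : Z' ⟶ EV := EtOver.homMk k (by
          show (yon S).map k ≫ (θ.hom ≫ f) ≫ e = _
          rw [← Category.assoc, hk', Category.assoc, w.2]
          exact EtOver.w h)
        exact ⟨none, g' ≫ b, by rw [← pre_map_map, show (pre e).map b.op yV = (pre e).map h.op w from Subtype.ext hk', pre_map_map]⟩
    · rintro Z' h ⟨o, ho⟩
      rcases o with _ | i
      · exact ⟨none, ho⟩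
      · exact ⟨some i, ho⟩
  · rintro o o' Z hZ a b hab p hp
    rcases o with _ | i <;> rcases o' with _ | i'
    · -- the chart with itself
      obtain ⟨O, hOc, hO⟩ := exists_apart_clopen hg a.hom.left b.hom.left (congrArg Subtype.val hab)
      let C₁ : Z.obj.left.left.Opens := ⟨(O : Set Z.obj.left.left)ᶜ, hOc.isOpen_compl⟩
      refine mem_spanAt_of_local M _ hZ b
        (R := ⟨fun Z' h => h ≫ a = h ≫ b ∨ ∀ v, v ∈ C Z' ((pre e).map (h ≫ a).op yV), ?_⟩)
        (QCart13.mem_etTop_of_exists _ fun w => ?_) fun Z' h hZ' hh => ?_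
      · rintro Z' Z'' h (hh | hh) g'
        · exact Or.inl (by rw [Category.assoc, hh, Category.assoc])
        · refine Or.inr fun v => ?_
          rw [Category.assoc, ← pre_map_map]
          exact (hC _ _ g' _ v).2 (hh _)
      · by_cases hw : w ∈ C Z ((pre e).map a.op yV)
        · obtain ⟨W', k, hkw, hk⟩ := MVSheaf.exists_open_piece Z (C Z ((pre e).map a.op yV)) hw
          refine ⟨W', k, Or.inr fun v => ?_, hkw⟩
          rw [← pre_map_map]
          exact (hC _ _ k _ v).2 (hk v)
        · have hw1 : w ∈ C₁ := by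
            intro hwO
            have hy : (yon S).map (ptOver w) ≫ ((yon S).map a.hom.left ≫ θ.hom) =
                (yon S).map (ptOver w) ≫ ((yon S).map b.hom.left ≫ θ.hom) := by
              haveI : IsReduced (Over.mk (Z.obj.left.left.fromSpecResidueField w ≫ Z.obj.left.hom)).left :=
                inferInstanceAs (IsReduced (Spec (Z.obj.left.left.residueField w)))
              have hab' : ((yon S).map a.hom.left ≫ θ.hom) ≫ f = ((yon S).map b.hom.left ≫ θ.hom) ≫ f := by
                rw [Category.assoc, Category.assoc]; exact congrArg Subtype.val hab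
              refine MVSheaf.lift_unique hsq _ _ ((Category.assoc _ _ _).trans ((congrArg ((yon S).map (ptOver w) ≫ ·) hab').trans (Category.assoc _ _ _).symm)) fun t => ?_
              rw [Category.assoc, AlgSpLib.ofPt_comp, ptOver_apply, Category.assoc]
              exact hw
            refine (hO _ (ptOver w)).1 (fun t => by rw [ptOver_apply]; exact hwO) inferInstance
              ((yon S).map_injective ((cancel_mono θ.hom).1 ?_))
            rw [Functor.map_comp, Functor.map_comp, Category.assoc, Category.assoc, hy]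
          obtain ⟨W', k, hkw, hk⟩ := MVSheaf.exists_open_piece Z C₁ hw1
          exact ⟨W', k, Or.inl (EtOver.hom_ext _ _ ((hO _ k.hom.left).2 hk)), hkw⟩
      · rw [← res_comp]
        rcases hh with hh | hh
        · rw [hh]; exact Submodule.subset_span ⟨p, hp, rfl⟩
        · obtain ⟨v, hv⟩ := hfac Z' _ hh
          refine K1 Z' hZ' (h ≫ b) v _ ?_ (K2 Z' (h ≫ a) v hv p hp)
          rw [hv, ← pre_map_map, hab, pre_map_map]
    · -- the chart, then the open part
      have hv : ((pre (j ≫ e)).map b.op (SU.y i')).1 ≫ j = ((pre e).map a.op yV).1 := by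
        rw [hab]; exact Category.assoc _ _ _
      have h1 := K2 Z a _ hv p hp Z hZ (𝟙 Z) i' b (by rw [op_id, CategoryTheory.Functor.map_id]; rfl)
      rwa [res_id] at h1
    · have hv : ((pre (j ≫ e)).map a.op (SU.y i)).1 ≫ j = ((pre e).map b.op yV).1 := by
        rw [← hab]; exact Category.assoc _ _ _
      exact K1 Z hZ b _ _ hv ((mem_of_P SU i hp).res SU a)
    · refine SU.good i i' Z hZ a b (pre_congr ?_) p hp
      show ((yon S).map a.hom.left ≫ (SU.y i).1) ≫ j = ((yon S).map b.hom.left ≫ (SU.y i').1) ≫ j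
      rw [Category.assoc, Category.assoc]
      exact congrArg Subtype.val hab
  · -- the tested sections
    refine ⟨Sg, fun k V' hV' a o b hb => ?_⟩
    rcases o with _ | i
    · obtain ⟨R, hR, hRf⟩ := hWf k V' a b hb
      refine mem_spanAt_of_local M _ hV' b hR fun Z' h hZ' hh => ?_
      obtain ⟨l, c, hca, hcb⟩ := hRf Z' h hh
      rw [← res_comp, ← hca, ← hcb, res_comp]
      refine res_mem_spanAt M _ c (pb k l) (spanAt_mono ?_ _ (hμ k l))
      intro x hx
      exact Finset.mem_union_left _ (Finset.mem_biUnion.2 ⟨k, Finset.mem_univ _, Finset.mem_biUnion.2 ⟨l, Finset.mem_univ _, hx⟩⟩)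
    · let R : Sieve V' := ⟨fun Z' h => ∃ l, ∃ c : Z' ⟶ basic (E k) (gE k l), c ≫ basicι (E k) (gE k l) = h ≫ a,
        fun ⟨l, c, hc⟩ g' => ⟨l, g' ≫ c, by rw [Category.assoc, hc, Category.assoc]⟩⟩
      have hR : R ∈ etTop X V' := mem_etTop_factor (fun l => (E k).obj.left.left.basicOpen (gE k l)) a (fun v => by
        refine (hgE k _).1 ((hC _ _ a (z k) v).1 ?_)
        rw [← hb]
        exact hCu V' ((pre (j ≫ e)).map b.op (SU.y i)) _ (Category.assoc _ _ _) v) _
        fun W'' h l c hc => ⟨l, c, hc⟩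
      refine mem_spanAt_of_local M _ hV' b hR fun Z' h hZ' hh => ?_
      obtain ⟨l, c, hc⟩ := hh
      rw [← res_comp, ← hc, res_comp]
      refine hSU (Sum.inl ⟨k, l⟩) Z' hZ' c i (h ≫ b) (pre_congr ?_)
      show ((yon S).map (h ≫ b).hom.left ≫ (SU.y i).1) ≫ j = ((yon S).map c.hom.left ≫ (uE k l).1) ≫ j
      rw [Category.assoc, Category.assoc, huE]
      show ((pre e).map (h ≫ b).op ((preMap j rfl).app (op (SU.E i)) (SU.y i))).1 =
        ((pre e).map c.op ((pre e).map (basicι (E k) (gE k l)).op (z k))).1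
      rw [pre_map_map, hc, ← pre_map_map, hb, pre_map_map]

end Groth.Agent.AlgSpWA.FinSys
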