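import Groth.Agent.AlgSpWA.ThickPOSpace
import Groth.Agent.AlgSpWA.RingPOProps

/-!
# Charts of pushouts along thickenings and affine morphisms

Every pushout has a chart over a given chart of the affine target; a pushout of algebraic spaces can be recognised on
an etale atlas.
-/

set_option autoImplicit false
set_option backward.isDefEq.respectTransparency false
set_option backward.isDefEq.respectTransparency.types false
set_option linter.style.haveILetI false

noncomputable section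

universe u

open CategoryTheory CategoryTheory.Limits AlgebraicGeometry Opposite AlgSp

namespace Groth.Agent.AlgSpWA.ThickPO

open Groth.Agent.AlgSpDec Groth.Agent.AlgSpLib Groth.Agent.AlgSpPts

variable {S : Scheme.{u}}

/-- Every pushout along a thickening and an affine morphism has a chart. -/
theorem exists_chart {X X' Y Y' : Space S} (t : X ⟶ X') (ht : IsThickMor t.hom) (f : X ⟶ Y)
    (hf : IsAffineMor f.hom) {f' : X' ⟶ Y'} {t' : Y ⟶ Y'} (hY' : IsPushout t f f' t') {V : Over S}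
    (b : (yon S).obj V ⟶ Y.obj) (hb : RepWith @Etale b) (hbs : RepWith @Surjective b) :
    Nonempty (Chart t.hom f.hom f'.hom t'.hom b) := by
  obtain ⟨Y₁, f₁, t₁, hY₁, -, ⟨C⟩⟩ := exists_pushout_chart t ht f hf b hb hbs
  let e : Y₁ ≅ Y' := hY₁.isoIsPushout _ _ hY'
  let e' : Y₁.obj ≅ Y'.obj := (ObjectProperty.ι _).mapIso e
  have h₁ : f₁.hom ≫ e'.hom = f'.hom :=
    congrArg InducedCategory.Hom.hom (IsPushout.inl_isoIsPushout_hom _ _ hY₁ hY')
  have h₂ : t₁.hom ≫ e'.hom = t'.hom :=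
    congrArg InducedCategory.Hom.hom (IsPushout.inr_isoIsPushout_hom _ _ hY₁ hY')
  exact ⟨{ C with
    π := C.π ≫ e'.hom
    etπ := repWith_comp C.etπ (repWith_of_isIso _ _)
    surjπ := repWith_comp C.surjπ (repWith_of_isIso _ _)
    sqV' := C.sqV'.of_iso (Iso.refl _) (Iso.refl _) (Iso.refl _) e' (by simp) (by simp) (by simp) (by simp [h₂])
    sqU'' := C.sqU''.of_iso (Iso.refl _) (Iso.refl _) (Iso.refl _) e' (by simp) (by simp) (by simp) (by simp [h₁]) }⟩

/-- A square of algebraic spaces is a pushout if it is one on an etale atlas of the corner. -/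
theorem isPushout_of_atlas {WX WY WX' W' : Space S} {cX' : WX ⟶ WX'} {cY : WX ⟶ WY} {aX' : WX' ⟶ W'}
    {aY : WY ⟶ W'} (hcomm : cX' ≫ aX' = cY ≫ aY) {W₀ P₀ A₀ B₀ : Over S} (p : (yon S).obj W₀ ⟶ W'.obj)
    (hp : RepWith @Etale p) (hps : RepWith @Surjective p) {i : P₀ ⟶ A₀} {j : P₀ ⟶ B₀} {a : A₀ ⟶ W₀} {b : B₀ ⟶ W₀}
    (h : IsTPO i j a b) (cA : (yon S).obj A₀ ⟶ WX'.obj) (cB : (yon S).obj B₀ ⟶ WY.obj)
    (cP : (yon S).obj P₀ ⟶ WX.obj) (sqA : IsPullback ((yon S).map a) cA p aX'.hom)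
    (sqB : IsPullback ((yon S).map b) cB p aY.hom) (wi : (yon S).map i ≫ cA = cP ≫ cX'.hom)
    (wj : (yon S).map j ≫ cB = cP ≫ cY.hom) : IsPushout cX' cY aX' aY := by
  let R := hp.rep.pullback p
  let r₁ : R ⟶ W₀ := hp.rep.fst' p
  let r₂ : R ⟶ W₀ := hp.rep.snd p
  have sqR : IsPullback ((yon S).map r₁) ((yon S).map r₂) p p := hp.rep.isPullback' p
  haveI : Etale r₁.left := (repWith_yon_map_iff _ _).1 (repWith_of_isPullback sqR.flip hp)
  let RA := pullback a r₁
  let RB := pullback b r₁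
  let RP := pullback (i ≫ a) r₁
  let iR : RP ⟶ RA := pullback.lift (pullback.fst _ _ ≫ i) (pullback.snd _ _)
    (by rw [Category.assoc, pullback.condition])
  let jR : RP ⟶ RB := pullback.lift (pullback.fst _ _ ≫ j) (pullback.snd _ _)
    (by rw [Category.assoc, ← h.w, pullback.condition])
  have hRA : IsPullback (pullback.fst (i ≫ a) r₁) iR i (pullback.fst a r₁) := by
    refine IsPullback.of_bot ?_ ?_ (IsPullback.of_hasPullback a r₁)
    · simpa [iR] using IsPullback.of_hasPullback (i ≫ a) r₁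
    · simp [iR]
  have hRB : IsPullback (pullback.fst (i ≫ a) r₁) jR j (pullback.fst b r₁) := by
    refine IsPullback.of_bot ?_ ?_ (IsPullback.of_hasPullback b r₁)
    · simpa [jR, ← h.w] using IsPullback.of_hasPullback (i ≫ a) r₁
    · simp [jR]
  have hR : IsTPO iR jR (pullback.snd a r₁) (pullback.snd b r₁) :=
    h.baseChange r₁ (IsPullback.of_hasPullback a r₁) (IsPullback.of_hasPullback b r₁) hRA hRB (by simp [iR, jR])
  haveI := isLocallySurjective_of_etale_surjective hp hps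
  haveI := epi_of_etale_surjective hp hps
  have ex : ∀ c : PushoutCocone cX' cY, ∃! g : W'.obj ⟶ c.pt.obj,
      aX'.hom ≫ g = c.inl.hom ∧ aY.hom ≫ g = c.inr.hom := by
    intro c
    have hc : cX'.hom ≫ c.inl.hom = cY.hom ≫ c.inr.hom := congrArg InducedCategory.Hom.hom c.condition
    let mkh : ∀ {T : Over S}, ((yon S).obj T ⟶ c.pt.obj) → ((AlgSp.ofScheme S).obj T ⟶ c.pt) :=
      fun g => ObjectProperty.homMk g
    have hw : (AlgSp.ofScheme S).map i ≫ mkh (cA ≫ c.inl.hom) =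
        (AlgSp.ofScheme S).map j ≫ mkh (cB ≫ c.inr.hom) := ObjectProperty.hom_ext _ (by
      show (yon S).map i ≫ cA ≫ c.inl.hom = (yon S).map j ≫ cB ≫ c.inr.hom
      rw [reassoc_of% wi, reassoc_of% wj, hc])
    let g₀ : (yon S).obj W₀ ⟶ c.pt.obj := (h.spacePO.desc _ _ hw).hom
    have hg₁ : (yon S).map a ≫ g₀ = cA ≫ c.inl.hom :=
      congrArg InducedCategory.Hom.hom (h.spacePO.inl_desc _ _ hw)
    have hg₂ : (yon S).map b ≫ g₀ = cB ≫ c.inr.hom :=
      congrArg InducedCategory.Hom.hom (h.spacePO.inr_desc _ _ hw)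
    have hgA : ∀ {T : Over S} (x : T ⟶ W₀) (y : (yon S).obj T ⟶ WX'.obj), (yon S).map x ≫ p = y ≫ aX'.hom →
        (yon S).map x ≫ g₀ = y ≫ c.inl.hom := fun x y e => by
      obtain ⟨z, hz₁, hz₂⟩ := sqA.exists_lift ((yon S).map x) y e
      rw [← hz₁, ← hz₂, Category.assoc, Category.assoc, hg₁]
    have hgB : ∀ {T : Over S} (x : T ⟶ W₀) (y : (yon S).obj T ⟶ WY.obj), (yon S).map x ≫ p = y ≫ aY.hom →
        (yon S).map x ≫ g₀ = y ≫ c.inr.hom := fun x y e => by
      obtain ⟨z, hz₁, hz₂⟩ := sqB.exists_lift ((yon S).map x) y e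
      rw [← hz₁, ← hz₂, Category.assoc, Category.assoc, hg₂]
    have heq : (yon S).map r₁ ≫ g₀ = (yon S).map r₂ ≫ g₀ := by
      refine congrArg InducedCategory.Hom.hom
        (hR.spacePO.hom_ext (k := mkh ((yon S).map r₁ ≫ g₀)) (l := mkh ((yon S).map r₂ ≫ g₀))
          (ObjectProperty.hom_ext _ ?_) (ObjectProperty.hom_ext _ ?_))
      · show (yon S).map (pullback.snd a r₁) ≫ (yon S).map r₁ ≫ g₀ =
          (yon S).map (pullback.snd a r₁) ≫ (yon S).map r₂ ≫ g₀
        rw [← Category.assoc, ← Category.assoc, ← Functor.map_comp, ← Functor.map_comp]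
        refine (hgA _ ((yon S).map (pullback.fst a r₁) ≫ cA) ?_).trans (hgA _ _ ?_).symm
        · rw [← pullback.condition, Functor.map_comp, Category.assoc, Category.assoc, sqA.w]
        · rw [Category.assoc, ← sqA.w, ← Category.assoc, ← Functor.map_comp, pullback.condition]
          simp only [Functor.map_comp, Category.assoc, sqR.w]
      · show (yon S).map (pullback.snd b r₁) ≫ (yon S).map r₁ ≫ g₀ =
          (yon S).map (pullback.snd b r₁) ≫ (yon S).map r₂ ≫ g₀
        rw [← Category.assoc, ← Category.assoc, ← Functor.map_comp, ← Functor.map_comp]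
        refine (hgB _ ((yon S).map (pullback.fst b r₁) ≫ cB) ?_).trans (hgB _ _ ?_).symm
        · rw [← pullback.condition, Functor.map_comp, Category.assoc, Category.assoc, sqB.w]
        · rw [Category.assoc, ← sqB.w, ← Category.assoc, ← Functor.map_comp, pullback.condition]
          simp only [Functor.map_comp, Category.assoc, sqR.w]
    obtain ⟨g, hg⟩ := exists_desc_of_kernelPair sqR g₀ heq
    haveI : Epi cA := epi_of_etale_surjective (repWith_of_isPullback sqA hp) (repWith_of_isPullback sqA hps)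
    haveI : Epi cB := epi_of_etale_surjective (repWith_of_isPullback sqB hp) (repWith_of_isPullback sqB hps)
    refine ⟨g, ⟨?_, ?_⟩, fun g' hg' => ?_⟩
    · rw [← cancel_epi cA, ← reassoc_of% sqA.w, hg, hg₁]
    · rw [← cancel_epi cB, ← reassoc_of% sqB.w, hg, hg₂]
    · rw [← cancel_epi p, hg]
      refine congrArg InducedCategory.Hom.hom
        (h.spacePO.hom_ext (k := mkh (p ≫ g')) (l := mkh g₀) (ObjectProperty.hom_ext _ ?_)
          (ObjectProperty.hom_ext _ ?_))
      · show (yon S).map a ≫ p ≫ g' = (yon S).map a ≫ g₀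
        rw [hg₁, reassoc_of% sqA.w, hg'.1]
      · show (yon S).map b ≫ p ≫ g' = (yon S).map b ≫ g₀
        rw [hg₂, reassoc_of% sqB.w, hg'.2]
  exact IsPushout.of_isColimit (PushoutCocone.IsColimit.mk hcomm
    (fun c => ObjectProperty.homMk (ex c).choose)
    (fun c => ObjectProperty.hom_ext _ (ex c).choose_spec.1.1)
    (fun c => ObjectProperty.hom_ext _ (ex c).choose_spec.1.2)
    (fun c m h₁ h₂ => ObjectProperty.hom_ext _ ((ex c).choose_spec.2 m.hom
      ⟨congrArg InducedCategory.Hom.hom h₁, congrArg InducedCategory.Hom.hom h₂⟩)))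

/-- An atlas of a space over a chart. -/
theorem exists_atlas_over {W V Y : Sp S} {v : W ⟶ Y} {T : Over S} (θ : (yon S).obj T ≅ V) {π : V ⟶ Y}
    (hW : IsAlgSpace W) (hY : IsAlgSpace Y) (hπ : RepWith @Etale π) (hπs : RepWith @Surjective π) :
    ∃ (W₀ : Over S) (p : (yon S).obj W₀ ⟶ W) (g : W₀ ⟶ T),
      RepWith @Etale p ∧ RepWith @Surjective p ∧ p ≫ v = (yon S).map g ≫ θ.hom ≫ π := by
  have hQ : IsAlgSpace (pullback v π) := isAlgSpace_pullback hW ((IsAlgSpace.yon_obj T).of_iso θ) hY v π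
  obtain ⟨W₀, w₀, hw₀, hw₀s⟩ := hQ.atlas
  obtain ⟨g, hg⟩ := (yon S).map_surjective (w₀ ≫ pullback.snd v π ≫ θ.inv)
  refine ⟨W₀, w₀ ≫ pullback.fst v π, g,
    repWith_comp hw₀ (repWith_of_isPullback (IsPullback.of_hasPullback v π).flip hπ),
    repWith_comp hw₀s (repWith_of_isPullback (IsPullback.of_hasPullback v π).flip hπs), ?_⟩
  rw [hg]
  simp [pullback.condition]

/-- A flat space over a pushout is the pushout of its restrictions. -/
theorem isPushout_of_flat {X X' Y Y' W' WY WX' WX : Space S} (t : X ⟶ X') (ht : IsThickMor t.hom) (f : X ⟶ Y)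
    (hf : IsAffineMor f.hom) {f' : X' ⟶ Y'} {t' : Y ⟶ Y'} (hY' : IsPushout t f f' t') (w : W' ⟶ Y')
    (hw : LocP @Flat w.hom) {aY : WY ⟶ W'} {bY : WY ⟶ Y} (hWY : IsPullback aY.hom bY.hom w.hom t'.hom)
    {aX' : WX' ⟶ W'} {bX' : WX' ⟶ X'} (hWX' : IsPullback aX'.hom bX'.hom w.hom f'.hom) {cY : WX ⟶ WY}
    {cX' : WX ⟶ WX'} {bX : WX ⟶ X} (hWX₁ : IsPullback cY.hom bX.hom bY.hom f.hom)
    (hWX₂ : IsPullback cX'.hom bX.hom bX'.hom t.hom) (hcomm : cY ≫ aY = cX' ≫ aX') :
    IsPushout cY cX' aY aX' := by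
  obtain ⟨V, b, hb, hbs⟩ := Y.property.atlas
  obtain ⟨C⟩ := exists_chart t ht f hf hY' b hb hbs
  obtain ⟨W₀, p, g, hp, hps, hpg⟩ :=
    exists_atlas_over (v := w.hom) (Iso.refl _) W'.property Y'.property C.etπ C.surjπ
  rw [Iso.refl_hom, Category.id_comp] at hpg
  haveI : Flat g.left := hw p C.π g hp C.etπ hpg
  let A := pullback C.cU g
  let B := pullback C.cV g
  let P := pullback C.iU (pullback.fst C.cU g)
  let iT : P ⟶ A := pullback.snd _ _
  let jT : P ⟶ B := pullback.lift (pullback.fst _ _ ≫ C.jU) (pullback.snd _ _ ≫ pullback.snd _ _) (by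
    rw [Category.assoc, ← C.tpo.w, ← Category.assoc, pullback.condition, Category.assoc, pullback.condition,
      Category.assoc])
  have hZY : IsPullback (pullback.fst C.iU (pullback.fst C.cU g)) jT C.jU (pullback.fst C.cV g) := by
    refine IsPullback.of_bot ?_ (by simp [jT]) (IsPullback.of_hasPullback C.cV g)
    rw [← C.tpo.w, pullback.lift_snd]
    exact (IsPullback.of_hasPullback C.iU (pullback.fst C.cU g)).paste_vert (IsPullback.of_hasPullback C.cU g)
  have hT : IsTPO iT jT (pullback.snd C.cU g) (pullback.snd C.cV g) :=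
    C.tpo.baseChange g (IsPullback.of_hasPullback _ _) (IsPullback.of_hasPullback _ _)
      (IsPullback.of_hasPullback _ _) hZY (by simp [iT, jT])
  have hbig : ∀ {V₁ T₁ : Over S} {F Fc : Sp S} {c : V₁ ⟶ C.V'} {bc : (yon S).obj V₁ ⟶ F} {φ : F ⟶ Y'.obj}
      (_ : IsPullback ((yon S).map c) bc C.π φ) {aF : Fc ⟶ W'.obj} {bF : Fc ⟶ F} (_ : IsPullback aF bF w.hom φ)
      {fs : T₁ ⟶ V₁} {sn : T₁ ⟶ W₀} (_ : IsPullback fs sn c g),
      ∃ cc : (yon S).obj T₁ ⟶ Fc, IsPullback ((yon S).map sn) cc p aF ∧ cc ≫ bF = (yon S).map fs ≫ bc := by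
    intro V₁ T₁ F Fc c bc φ sqc aF bF hF fs sn sq₁
    have h1 : IsPullback ((yon S).map sn) ((yon S).map fs ≫ bc) (p ≫ w.hom) φ := by
      rw [hpg]
      exact (sq₁.map (yon S)).flip.paste_vert sqc
    obtain ⟨cc, hcc₁, hcc₂⟩ := hF.exists_lift ((yon S).map sn ≫ p) ((yon S).map fs ≫ bc)
      (by rw [Category.assoc]; exact h1.w)
    refine ⟨cc, IsPullback.of_bot ?_ hcc₁.symm hF, hcc₂⟩
    rw [hcc₂]
    exact h1
  obtain ⟨cA, hA, hA₂⟩ := hbig C.sqU'' hWX' (IsPullback.of_hasPullback C.cU g)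
  obtain ⟨cB, hB, hB₂⟩ := hbig C.sqV' hWY (IsPullback.of_hasPullback C.cV g)
  have e₀ : ((yon S).map iT ≫ cA) ≫ bX'.hom = ((yon S).map (pullback.fst C.iU (pullback.fst C.cU g)) ≫ C.aU) ≫ t.hom := by
    rw [Category.assoc, hA₂, ← Category.assoc, ← Functor.map_comp, ← pullback.condition, Functor.map_comp,
      Category.assoc, Category.assoc, C.sqU'.w]
  obtain ⟨cP, hcP₁, hcP₂⟩ := hWX₂.exists_lift ((yon S).map iT ≫ cA)
    ((yon S).map (pullback.fst C.iU (pullback.fst C.cU g)) ≫ C.aU) e₀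
  have wj : (yon S).map jT ≫ cB = cP ≫ cY.hom := by
    apply hWY.hom_ext
    · have hc := congrArg InducedCategory.Hom.hom hcomm
      simp only [Category.assoc]
      rw [← hB.w, show cY.hom ≫ aY.hom = cX'.hom ≫ aX'.hom from hc, reassoc_of% hcP₁, ← hA.w,
        ← Category.assoc, ← Category.assoc, ← Functor.map_comp, ← Functor.map_comp]
      simp [iT, jT]
    · rw [Category.assoc, hB₂, Category.assoc, hWX₁.w, reassoc_of% hcP₂, ← C.sqU.w, ← Category.assoc,
        ← Category.assoc, ← Functor.map_comp, ← Functor.map_comp]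
      simp [jT]
  exact (isPushout_of_atlas hcomm.symm p hp hps hT cA cB cP hA hB hcP₁.symm wj).flip

end Groth.Agent.AlgSpWA.ThickPO

end
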