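import Groth.Agent.AlgSpWA.ThickPOChart
import Groth.Agent.AlgSpLib.EtTopInv

/-!
# Morphisms between pushouts along thickenings and affine morphisms

A morphism of pushouts induced by cartesian pieces is, on charts, a morphism of pushouts of schemes.
-/

set_option autoImplicit false
set_option backward.isDefEq.respectTransparency false
set_option backward.isDefEq.respectTransparency.types false
set_option linter.style.haveILetI false

noncomputable section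

universe u

open CategoryTheory CategoryTheory.Limits AlgebraicGeometry Opposite AlgSp

namespace Groth.Agent.AlgSpWA.ThickPO

open Groth.Agent.AlgSpDec Groth.Agent.AlgSpLib Groth.Agent.AlgSpPts

variable {S : Scheme.{u}}

/-- A piece is cartesian when it is so on charts. -/
theorem isPullback_of_charts {F G V' Y' : Sp S} {φ : F ⟶ V'} {u : F ⟶ G} {v' : V' ⟶ Y'} {ψ : G ⟶ Y'}
    (w : φ ≫ v' = u ≫ ψ) {A Bv Wv Wy : Over S} {c : A ⟶ Wv} {a : (yon S).obj A ⟶ F} {π : (yon S).obj Wv ⟶ V'}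
    (hπ : RepWith @Etale π) (hπs : RepWith @Surjective π) (sqA : IsPullback ((yon S).map c) a π φ) {cB : Bv ⟶ Wy}
    {aB : (yon S).obj Bv ⟶ G} {πY : (yon S).obj Wy ⟶ Y'} (sqB : IsPullback ((yon S).map cB) aB πY ψ) {m : A ⟶ Bv}
    {k : Wv ⟶ Wy} (sqm : IsPullback c m k cB) (ha : a ≫ u = (yon S).map m ≫ aB)
    (hk : π ≫ v' = (yon S).map k ≫ πY) : IsPullback φ u v' ψ := by
  let κ : F ⟶ pullback v' ψ := pullback.lift φ u w
  have hκ₁ : κ ≫ pullback.fst v' ψ = φ := pullback.lift_fst _ _ _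
  have hκ₂ : κ ≫ pullback.snd v' ψ = u := pullback.lift_snd _ _ _
  have sqQ : IsPullback ((yon S).map c) (a ≫ κ) π (pullback.fst v' ψ) := by
    refine IsPullback.of_bot ?_ ?_ (IsPullback.of_hasPullback v' ψ)
    · rw [Category.assoc, hκ₂, ha, hk]
      exact (sqm.map (yon S)).paste_vert sqB
    · rw [Category.assoc, hκ₁, sqA.w]
  have hq := repWith_of_isPullback sqQ hπ
  have hqs := repWith_of_isPullback sqQ hπs
  haveI := isLocallySurjective_of_etale_surjective hq hqs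
  haveI : Sheaf.IsLocallySurjective κ := isLocallySurjective_of_lifts κ fun T ξ => by
    haveI : Etale (hq.rep.snd ξ).left := hq.property_snd _
    haveI : Surjective (hq.rep.snd ξ).left := hqs.property_snd _
    exact ⟨_, hq.rep.snd ξ, hq.rep.fst ξ ≫ a, fppf_of_etale _, by rw [Category.assoc]; exact hq.rep.w ξ⟩
  haveI : Mono κ := mono_of_yon_injective fun T x y h => by
    let e₁ := hπ.rep.snd (x ≫ φ)
    let z := hπ.rep.fst' (x ≫ φ)
    haveI : Etale e₁.left := hπ.property_snd _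
    haveI : Surjective e₁.left := hπs.property_snd _
    have hz : (yon S).map z ≫ π = (yon S).map e₁ ≫ x ≫ φ := (hπ.rep.isPullback' _).w
    have hxy : x ≫ φ = y ≫ φ := by
      have := congrArg (· ≫ pullback.fst v' ψ) h
      simpa [hκ₁] using this
    refine hom_ext_of_fppf e₁ (fppf_of_etale _) x y ?_
    obtain ⟨α, hα₁, hα₂⟩ := sqA.exists_lift ((yon S).map z) ((yon S).map e₁ ≫ x) (by rw [hz, Category.assoc])
    obtain ⟨β, hβ₁, hβ₂⟩ := sqA.exists_lift ((yon S).map z) ((yon S).map e₁ ≫ y) (hz.trans ((congrArg (_ ≫ ·) hxy).trans (Category.assoc _ _ _).symm))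
    have e : α = β := sqQ.hom_ext (hα₁.trans hβ₁.symm) (by
      rw [reassoc_of% hα₂, reassoc_of% hβ₂, h])
    rw [← hα₂, ← hβ₂, e]
  haveI := isIso_of_mono_of_locallySurjective κ
  exact IsPullback.of_iso_pullback ⟨w⟩ (asIso κ) hκ₁ hκ₂

/-- Charts of a morphism of pushouts. -/
structure MapChart {X' Y Y' U' V V' : Sp S} (f' : X' ⟶ Y') (t' : Y ⟶ Y') (v : V ⟶ Y) (u' : U' ⟶ X')
    (iV : V ⟶ V') (iU' : U' ⟶ V') (v' : V' ⟶ Y') where
  Z₀ : Over S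
  A₀ : Over S
  B₀ : Over S
  P₀ : Over S
  Z₁ : Over S
  A₁ : Over S
  B₁ : Over S
  P₁ : Over S
  i₀ : Z₀ ⟶ A₀
  j₀ : Z₀ ⟶ B₀
  a₀ : A₀ ⟶ P₀
  b₀ : B₀ ⟶ P₀
  i₁ : Z₁ ⟶ A₁
  j₁ : Z₁ ⟶ B₁
  a₁ : A₁ ⟶ P₁
  b₁ : B₁ ⟶ P₁
  tpo₀ : IsTPO i₀ j₀ a₀ b₀
  tpo₁ : IsTPO i₁ j₁ a₁ b₁
  c : Z₁ ⟶ Z₀
  m : A₁ ⟶ A₀
  g : B₁ ⟶ B₀
  k : P₁ ⟶ P₀
  hX : IsPullback i₁ c m i₀
  hY : IsPullback j₁ c g j₀
  ha : a₁ ≫ k = m ≫ a₀
  hb : b₁ ≫ k = g ≫ b₀
  αY : (yon S).obj B₀ ⟶ Y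
  αX' : (yon S).obj A₀ ⟶ X'
  αY' : (yon S).obj P₀ ⟶ Y'
  αV : (yon S).obj B₁ ⟶ V
  αU' : (yon S).obj A₁ ⟶ U'
  αV' : (yon S).obj P₁ ⟶ V'
  etY : RepWith @Etale αY
  etX' : RepWith @Etale αX'
  etY' : RepWith @Etale αY'
  etV : RepWith @Etale αV
  etU' : RepWith @Etale αU'
  etV' : RepWith @Etale αV'
  surjV : RepWith @Surjective αV
  surjU' : RepWith @Surjective αU'
  surjV' : RepWith @Surjective αV'
  sqY' : IsPullback ((yon S).map b₀) αY αY' t'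
  sqX' : IsPullback ((yon S).map a₀) αX' αY' f'
  sqV' : IsPullback ((yon S).map b₁) αV αV' iV
  sqU' : IsPullback ((yon S).map a₁) αU' αV' iU'
  wV : αV ≫ v = (yon S).map g ≫ αY
  wU' : αU' ≫ u' = (yon S).map m ≫ αX'
  wV' : αV' ≫ v' = (yon S).map k ≫ αY'

/-- Two sections of an etale scheme agree if they agree on a thickening. -/
theorem exists_lift_etale {Z T : Over S} {P : Over S} (c : Z ⟶ T) (hc : AlgSp.thick c.left) (π : P ⟶ T)
    (hπ : Etale π.left) (k : Z ⟶ P) (hk : k ≫ π = c) : ∃ σ : T ⟶ P, σ ≫ π = 𝟙 T ∧ c ≫ σ = k := by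
  haveI := hc.1
  haveI := hc.2
  haveI := hπ
  haveI : Mono c.left := inferInstance
  obtain ⟨σ, ⟨hσ₁, hσ₂⟩, -⟩ := Groth.Agent.AlgSpLib.EtTopInv.existsUnique_extend π.left c.left k.left
    (congrArg (fun x : Z ⟶ T => x.left) hk)
  refine ⟨Over.homMk σ ?_, Over.OverMorphism.ext hσ₁, Over.OverMorphism.ext hσ₂⟩
  rw [← Over.w π, ← Category.assoc, hσ₁, Category.id_comp]

/-- Every morphism of pushouts with cartesian pieces has charts. -/
theorem exists_mapChart {X X' Y Y' U U' V V' : Space S} (t : X ⟶ X') (ht : IsThickMor t.hom) (f : X ⟶ Y)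
    (hf : IsAffineMor f.hom) {f' : X' ⟶ Y'} {t' : Y ⟶ Y'} (hY' : IsPushout t f f' t') {v : V ⟶ Y} {u' : U' ⟶ X'}
    {uV : U ⟶ V} {uU' : U ⟶ U'} {uX : U ⟶ X} (hUV : IsPullback uV.hom uX.hom v.hom f.hom)
    (hUU' : IsPullback uU'.hom uX.hom u'.hom t.hom) {iV : V ⟶ V'} {iU' : U' ⟶ V'}
    (hV' : IsPushout uV uU' iV iU') {v' : V' ⟶ Y'} (hv'₁ : iV ≫ v' = v ≫ t') (hv'₂ : iU' ≫ v' = u' ≫ f') :
    Nonempty (MapChart f'.hom t'.hom v.hom u'.hom iV.hom iU'.hom v'.hom) := by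
  obtain ⟨B₀, b, hb, hbs⟩ := Y.property.atlas
  obtain ⟨C⟩ := exists_chart t ht f hf hY' b hb hbs
  obtain ⟨B₁, p, g, hp, hps, hpg⟩ :=
    exists_atlas_over (v := v.hom) (Iso.refl _) V.property Y.property hb hbs
  rw [Iso.refl_hom, Category.id_comp] at hpg
  have huU' : IsThickMor uU'.hom := repWith_of_isPullback hUU'.flip ht
  have huV : IsAffineMor uV.hom := isAffineMor_of_repWith le_rfl
    (repWith_of_isPullback hUV.flip (repWith_isAffineHom_of_isAffineMor hf))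
  obtain ⟨D⟩ := exists_chart uU' huU' uV huV hV'.flip p hp hps
  obtain ⟨c, hc₁, hc₂⟩ := C.sqU.exists_lift ((yon S).map (D.jU ≫ g)) (D.aU ≫ uX.hom) (by
    rw [Functor.map_comp, Category.assoc, ← hpg, reassoc_of% D.sqU.w, Category.assoc, hUV.w])
  obtain ⟨c, rfl⟩ := (yon S).map_surjective c
  have hcY : c ≫ C.jU = D.jU ≫ g := (yon S).map_injective (by rw [Functor.map_comp]; exact hc₁)
  have hY : IsPullback D.jU c g C.jU := by
    refine IsPullback.of_map (yon S) hcY.symm (IsPullback.of_bot ?_ ?_ C.sqU)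
    · rw [hc₂, ← hpg]
      exact D.sqU.paste_vert hUV
    · rw [← Functor.map_comp, ← Functor.map_comp, hcY]
  let P := C.etU'.rep.pullback (D.aU' ≫ u'.hom)
  let πP : P ⟶ D.U' := C.etU'.rep.snd (D.aU' ≫ u'.hom)
  obtain ⟨k₀, hk₀⟩ := (yon S).map_surjective ((C.etU'.rep.isPullback' (D.aU' ≫ u'.hom)).lift
    ((yon S).map (c ≫ C.iU)) ((yon S).map D.iU) (by
      rw [Functor.map_comp, Category.assoc, C.sqU'.w, reassoc_of% hc₂, reassoc_of% D.sqU'.w, hUU'.w]))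
  have hk₁ : k₀ ≫ πP = D.iU := (yon S).map_injective (by
    rw [Functor.map_comp, hk₀, (C.etU'.rep.isPullback' (D.aU' ≫ u'.hom)).lift_snd])
  have hk₂ : k₀ ≫ C.etU'.rep.fst' (D.aU' ≫ u'.hom) = c ≫ C.iU := (yon S).map_injective (by
    rw [Functor.map_comp, hk₀, (C.etU'.rep.isPullback' (D.aU' ≫ u'.hom)).lift_fst])
  obtain ⟨σ, hσ₁, hσ₂⟩ := exists_lift_etale D.iU D.tpo.thick_i πP (C.etU'.property_snd _) k₀ hk₁
  let m : D.U' ⟶ C.U' := σ ≫ C.etU'.rep.fst' (D.aU' ≫ u'.hom)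
  have hm₁ : D.iU ≫ m = c ≫ C.iU := by rw [← hk₂, ← hσ₂, Category.assoc]
  have hm₂ : D.aU' ≫ u'.hom = (yon S).map m ≫ C.aU' := by
    rw [Functor.map_comp, Category.assoc, (C.etU'.rep.isPullback' (D.aU' ≫ u'.hom)).w, ← Category.assoc,
      ← Functor.map_comp, hσ₁]
    simp
  have hX : IsPullback D.iU c m C.iU := by
    refine IsPullback.of_map (yon S) hm₁ (IsPullback.of_bot ?_ ?_ C.sqU')
    · rw [hc₂, ← hm₂]
      exact D.sqU'.paste_vert hUU'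
    · rw [← Functor.map_comp, ← Functor.map_comp, hm₁]
  have w : D.iU ≫ m ≫ C.cU = D.jU ≫ g ≫ C.cV := by rw [reassoc_of% hm₁, C.tpo.w, reassoc_of% hcY]
  let k : D.V' ⟶ C.V' := D.tpo.overPO.desc (m ≫ C.cU) (g ≫ C.cV) w
  have ha : D.cU ≫ k = m ≫ C.cU := D.tpo.overPO.inl_desc _ _ _
  have hbk : D.cV ≫ k = g ≫ C.cV := D.tpo.overPO.inr_desc _ _ _
  have e₁ : iU'.hom ≫ v'.hom = u'.hom ≫ f'.hom := congrArg InducedCategory.Hom.hom hv'₂
  have e₂ : iV.hom ≫ v'.hom = v.hom ≫ t'.hom := congrArg InducedCategory.Hom.hom hv'₁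
  have hwV' : D.π ≫ v'.hom = (yon S).map k ≫ C.π := by
    let mkh : ∀ {T : Over S}, ((yon S).obj T ⟶ Y'.obj) → ((AlgSp.ofScheme S).obj T ⟶ Y') :=
      fun g => ObjectProperty.homMk g
    refine congrArg InducedCategory.Hom.hom
      (D.tpo.spacePO.hom_ext (k := mkh (D.π ≫ v'.hom)) (l := mkh ((yon S).map k ≫ C.π))
        (ObjectProperty.hom_ext _ ?_) (ObjectProperty.hom_ext _ ?_))
    · show (yon S).map D.cU ≫ D.π ≫ v'.hom = (yon S).map D.cU ≫ (yon S).map k ≫ C.π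
      rw [← (yon S).map_comp_assoc D.cU k, ha, Functor.map_comp, Category.assoc, C.sqU''.w, ← reassoc_of% hm₂,
        ← e₁, reassoc_of% D.sqU''.w]
    · show (yon S).map D.cV ≫ D.π ≫ v'.hom = (yon S).map D.cV ≫ (yon S).map k ≫ C.π
      rw [← (yon S).map_comp_assoc D.cV k, hbk, Functor.map_comp, Category.assoc, C.sqV'.w, ← reassoc_of% hpg,
        ← e₂, reassoc_of% D.sqV'.w]
  exact ⟨{
    Z₀ := C.U, A₀ := C.U', B₀ := B₀, P₀ := C.V', Z₁ := D.U, A₁ := D.U', B₁ := B₁, P₁ := D.V'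
    i₀ := C.iU, j₀ := C.jU, a₀ := C.cU, b₀ := C.cV, i₁ := D.iU, j₁ := D.jU, a₁ := D.cU, b₁ := D.cV
    tpo₀ := C.tpo, tpo₁ := D.tpo, c := c, m := m, g := g, k := k, hX := hX, hY := hY, ha := ha, hb := hbk
    αY := b, αX' := C.aU', αY' := C.π, αV := p, αU' := D.aU', αV' := D.π
    etY := hb, etX' := C.etU', etY' := C.etπ, etV := hp, etU' := D.etU', etV' := D.etπ
    surjV := hps, surjU' := D.surjU', surjV' := D.surjπ
    sqY' := C.sqV', sqX' := C.sqU'', sqV' := D.sqV', sqU' := D.sqU''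
    wV := hpg, wU' := hm₂, wV' := hwV' }⟩

namespace MapChart

variable {X' Y Y' U' V V' : Sp S} {f' : X' ⟶ Y'} {t' : Y ⟶ Y'} {v : V ⟶ Y} {u' : U' ⟶ X'} {iV : V ⟶ V'}
  {iU' : U' ⟶ V'} {v' : V' ⟶ Y'} (M : MapChart f' t' v u' iV iU' v')

theorem props :
    (LocallyOfFiniteType M.k.left ↔ LocallyOfFiniteType M.m.left ∧ LocallyOfFiniteType M.g.left) ∧
    (Flat M.k.left ↔ Flat M.m.left ∧ Flat M.g.left) ∧
    ((Flat M.k.left ∧ LocallyOfFinitePresentation M.k.left) ↔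
      (Flat M.m.left ∧ LocallyOfFinitePresentation M.m.left) ∧ (Flat M.g.left ∧ LocallyOfFinitePresentation M.g.left)) ∧
    (Smooth M.k.left ↔ Smooth M.m.left ∧ Smooth M.g.left) ∧
    (Etale M.k.left ↔ Etale M.m.left ∧ Etale M.g.left) :=
  haveI := M.tpo₀.thick_i.1
  haveI := M.tpo₁.thick_i.1
  haveI := M.tpo₀.affine_j
  haveI := M.tpo₁.affine_j
  haveI := M.tpo₀.affine_a
  haveI := M.tpo₁.affine_a
  haveI := M.tpo₀.thick_b.1
  haveI := M.tpo₁.thick_b.1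
  have hX : CategoryTheory.IsPullback M.i₁.left M.c.left M.m.left M.i₀.left := M.hX.map (Over.forget S)
  have hY : CategoryTheory.IsPullback M.j₁.left M.c.left M.g.left M.j₀.left := M.hY.map (Over.forget S)
  RingPOProps.props_corner M.tpo₀.po M.tpo₀.chart M.tpo₁.po M.tpo₁.chart hX hY
    (congrArg (fun x : M.A₁ ⟶ M.P₀ => x.left) M.ha) (congrArg (fun x : M.B₁ ⟶ M.P₀ => x.left) M.hb)

theorem cart : IsPullback M.a₁ M.m M.k M.a₀ ∧ IsPullback M.b₁ M.g M.k M.b₀ := by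
  haveI := M.tpo₀.thick_i.1
  haveI := M.tpo₁.thick_i.1
  haveI := M.tpo₀.affine_j
  haveI := M.tpo₁.affine_j
  haveI := M.tpo₀.affine_a
  haveI := M.tpo₁.affine_a
  haveI := M.tpo₀.thick_b.1
  haveI := M.tpo₁.thick_b.1
  have hX : CategoryTheory.IsPullback M.i₁.left M.c.left M.m.left M.i₀.left := M.hX.map (Over.forget S)
  have hY : CategoryTheory.IsPullback M.j₁.left M.c.left M.g.left M.j₀.left := M.hY.map (Over.forget S)
  obtain ⟨h₁, h₂⟩ := RingPOProps.cart_corner M.tpo₀.po M.tpo₀.chart M.tpo₁.po M.tpo₁.chart hX hY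
    (congrArg (fun x : M.A₁ ⟶ M.P₀ => x.left) M.ha) (congrArg (fun x : M.B₁ ⟶ M.P₀ => x.left) M.hb)
  exact ⟨IsPullback.of_map (Over.forget S) M.ha h₁, IsPullback.of_map (Over.forget S) M.hb h₂⟩

theorem locP_iff {P : MorphismProperty Scheme.{u}} [IsEtLocal P] :
    (LocP P v' ↔ P M.k.left) ∧ (LocP P v ↔ P M.g.left) ∧ (LocP P u' ↔ P M.m.left) :=
  ⟨⟨fun h => h M.αV' M.αY' M.k M.etV' M.etY' M.wV', locP_of_chart M.etV' M.surjV' M.etY' M.wV'⟩,
    ⟨fun h => h M.αV M.αY M.g M.etV M.etY M.wV, locP_of_chart M.etV M.surjV M.etY M.wV⟩,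
    ⟨fun h => h M.αU' M.αX' M.m M.etU' M.etX' M.wU', locP_of_chart M.etU' M.surjU' M.etX' M.wU'⟩⟩

end MapChart

end Groth.Agent.AlgSpWA.ThickPO

end
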