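import Groth.Agent.AlgSpWA.ThickPOScheme
import Groth.Prelude.Def_AlgSpGpd
import Mathlib.AlgebraicGeometry.Morphisms.FormallyUnramified

/-!
# The glued relation of two kernel pairs

Kernel pairs of etale charts of the three corners glue to an etale equivalence relation on the pushout of the charts.
-/

set_option autoImplicit false
set_option backward.isDefEq.respectTransparency false
set_option backward.isDefEq.respectTransparency.types false
set_option linter.style.haveILetI false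

noncomputable section

universe u

open CategoryTheory CategoryTheory.Limits AlgebraicGeometry Opposite AlgSp

namespace Groth.Agent.AlgSpWA.ThickPO

variable {S : Scheme.{u}}

/-- The pairs of composable relations restrict to a piece. -/
theorem isPullback_piece {C : Type*} [Category C] [HasPullbacks C] {R V R₀ V₀ : C} {s t : R ⟶ V} {s₀ t₀ : R₀ ⟶ V₀}
    {d : R₀ ⟶ R} {c : V₀ ⟶ V} (ht : IsPullback d t₀ t c) (hs : d ≫ s = s₀ ≫ c) :
    IsPullback (pullback.fst s₀ t₀) (pullback.map s₀ t₀ s t d d c hs.symm ht.w.symm) d (pullback.fst s t) := by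
  have h := (IsPullback.of_hasPullback s₀ t₀).flip.paste_horiz ht
  rw [← hs] at h
  refine (IsPullback.of_right ?_ ?_ (IsPullback.of_hasPullback s t).flip).flip
  · simpa using h
  · simp

/-- A reduced point lifts through a thickening. -/
theorem exists_lift_thick {T A B : Scheme.{u}} [IsReduced T] (d : A ⟶ B) (hd : AlgSp.thick d) (x : T ⟶ B) :
    ∃ x₀, x₀ ≫ d = x := by
  haveI := hd.1
  haveI := hd.2
  haveI : IsClosedImmersion (pullback.snd d x) := inferInstance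
  haveI : Surjective (pullback.snd d x) := inferInstance
  haveI : IsIso (pullback.snd d x) := isIso_of_isClosedImmersion_of_surjective _
  exact ⟨inv (pullback.snd d x) ≫ pullback.fst d x, by rw [Category.assoc, pullback.condition, IsIso.inv_hom_id_assoc]⟩

/-- Kernel pairs of charts of the three corners, with their pushouts. -/
structure Glue (S : Scheme.{u}) where
  V : Over S
  R : Over S
  U : Over S
  RU : Over S
  U' : Over S
  RU' : Over S
  V' : Over S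
  R' : Over S
  r₁ : R ⟶ V
  r₂ : R ⟶ V
  q₁ : RU ⟶ U
  q₂ : RU ⟶ U
  p₁ : RU' ⟶ U'
  p₂ : RU' ⟶ U'
  iU : U ⟶ U'
  jU : U ⟶ V
  iR : RU ⟶ RU'
  jR : RU ⟶ R
  cU : U' ⟶ V'
  cV : V ⟶ V'
  dU : RU' ⟶ R'
  dV : R ⟶ R'
  s : R' ⟶ V'
  t : R' ⟶ V'
  FY : Sp S
  FX : Sp S
  FX' : Sp S
  b : (yon S).obj V ⟶ FY
  aU : (yon S).obj U ⟶ FX
  aU' : (yon S).obj U' ⟶ FX'
  sqR : IsPullback ((yon S).map r₁) ((yon S).map r₂) b b
  sqRU : IsPullback ((yon S).map q₁) ((yon S).map q₂) aU aU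
  sqRU' : IsPullback ((yon S).map p₁) ((yon S).map p₂) aU' aU'
  etr₁ : Etale r₁.left
  etr₂ : Etale r₂.left
  etp₁ : Etale p₁.left
  etp₂ : Etale p₂.left
  hi₁ : IsPullback iR q₁ p₁ iU
  hi₂ : IsPullback iR q₂ p₂ iU
  hj₁ : IsPullback jR q₁ r₁ jU
  hj₂ : IsPullback jR q₂ r₂ jU
  hU : IsTPO iU jU cU cV
  hR : IsTPO iR jR dU dV
  hs₁ : dU ≫ s = p₁ ≫ cU
  hs₂ : dV ≫ s = r₁ ≫ cV
  ht₁ : dU ≫ t = p₂ ≫ cU
  ht₂ : dV ≫ t = r₂ ≫ cV

namespace Glue

variable (G : Glue S)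

theorem cart_s : Etale G.s.left ∧ IsPullback G.dU G.p₁ G.s G.cU ∧ IsPullback G.dV G.r₁ G.s G.cV :=
  etale_map G.hU G.hR G.etp₁ G.etr₁ G.hi₁ G.hj₁ G.hs₁ G.hs₂

theorem cart_t : Etale G.t.left ∧ IsPullback G.dU G.p₂ G.t G.cU ∧ IsPullback G.dV G.r₂ G.t G.cV :=
  etale_map G.hU G.hR G.etp₂ G.etr₂ G.hi₂ G.hj₂ G.ht₁ G.ht₂

theorem ext_R {T : Over S} {x y : T ⟶ G.R} (h₁ : x ≫ G.r₁ = y ≫ G.r₁) (h₂ : x ≫ G.r₂ = y ≫ G.r₂) : x = y :=
  (yon S).map_injective (G.sqR.hom_ext (by rw [← Functor.map_comp, ← Functor.map_comp, h₁])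
    (by rw [← Functor.map_comp, ← Functor.map_comp, h₂]))

theorem ext_RU' {T : Over S} {x y : T ⟶ G.RU'} (h₁ : x ≫ G.p₁ = y ≫ G.p₁) (h₂ : x ≫ G.p₂ = y ≫ G.p₂) : x = y :=
  (yon S).map_injective (G.sqRU'.hom_ext (by rw [← Functor.map_comp, ← Functor.map_comp, h₁])
    (by rw [← Functor.map_comp, ← Functor.map_comp, h₂]))

theorem lift_R {T : Over S} (x y : T ⟶ G.V) (h : (yon S).map x ≫ G.b = (yon S).map y ≫ G.b) :
    ∃ z : T ⟶ G.R, z ≫ G.r₁ = x ∧ z ≫ G.r₂ = y := by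
  obtain ⟨z, hz⟩ := (yon S).map_surjective (G.sqR.lift _ _ h)
  exact ⟨z, (yon S).map_injective (by rw [Functor.map_comp, hz, G.sqR.lift_fst]),
    (yon S).map_injective (by rw [Functor.map_comp, hz, G.sqR.lift_snd])⟩

theorem lift_RU {T : Over S} (x y : T ⟶ G.U) (h : (yon S).map x ≫ G.aU = (yon S).map y ≫ G.aU) :
    ∃ z : T ⟶ G.RU, z ≫ G.q₁ = x ∧ z ≫ G.q₂ = y := by
  obtain ⟨z, hz⟩ := (yon S).map_surjective (G.sqRU.lift _ _ h)
  exact ⟨z, (yon S).map_injective (by rw [Functor.map_comp, hz, G.sqRU.lift_fst]),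
    (yon S).map_injective (by rw [Functor.map_comp, hz, G.sqRU.lift_snd])⟩

theorem lift_RU' {T : Over S} (x y : T ⟶ G.U') (h : (yon S).map x ≫ G.aU' = (yon S).map y ≫ G.aU') :
    ∃ z : T ⟶ G.RU', z ≫ G.p₁ = x ∧ z ≫ G.p₂ = y := by
  obtain ⟨z, hz⟩ := (yon S).map_surjective (G.sqRU'.lift _ _ h)
  exact ⟨z, (yon S).map_injective (by rw [Functor.map_comp, hz, G.sqRU'.lift_fst]),
    (yon S).map_injective (by rw [Functor.map_comp, hz, G.sqRU'.lift_snd])⟩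

/-- The relation is injective on points. -/
theorem injective {T : Over S} (x y : T ⟶ G.R') (ht : x ≫ G.t = y ≫ G.t) (hs : x ≫ G.s = y ≫ G.s) : x = y := by
  let m : G.R'.left ⟶ pullback G.V'.hom G.V'.hom :=
    pullback.lift G.s.left G.t.left ((Over.w G.s).trans (Over.w G.t).symm)
  haveI := G.cart_s.1
  haveI : FormallyUnramified m := by
    haveI : FormallyUnramified (m ≫ pullback.fst _ _) := by rw [pullback.lift_fst]; infer_instance
    exact FormallyUnramified.of_comp m (pullback.fst _ _)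
  haveI : LocallyOfFiniteType m := by
    haveI : LocallyOfFiniteType (m ≫ pullback.fst _ _) := by rw [pullback.lift_fst]; infer_instance
    exact locallyOfFiniteType_of_comp m (pullback.fst _ _)
  haveI : Surjective (pullback.diagonal m) := ⟨fun e => by
    let K := Spec ((pullback m m).residueField e)
    let ξ : K ⟶ pullback m m := (pullback m m).fromSpecResidueField e
    obtain ⟨x₀, hx₀⟩ := exists_lift_thick G.dV.left G.hR.thick_b (ξ ≫ pullback.fst m m)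
    obtain ⟨y₀, hy₀⟩ := exists_lift_thick G.dV.left G.hR.thick_b (ξ ≫ pullback.snd m m)
    have hm : (x₀ ≫ G.dV.left) ≫ m = (y₀ ≫ G.dV.left) ≫ m := by
      rw [hx₀, hy₀, Category.assoc, Category.assoc, pullback.condition]
    have e₁ := congrArg (· ≫ pullback.fst _ _) hm
    have e₂ := congrArg (· ≫ pullback.snd _ _) hm
    simp only [m, Category.assoc, pullback.lift_fst, pullback.lift_snd] at e₁ e₂
    rw [← Over.comp_left, G.hs₂, Over.comp_left] at e₁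
    rw [← Over.comp_left, G.ht₂, Over.comp_left] at e₂
    haveI : IsClosedImmersion G.cV.left := G.hU.thick_b.1
    simp only [← Category.assoc, cancel_mono] at e₁ e₂
    have hR : y₀ ≫ G.R.hom = x₀ ≫ G.R.hom := by
      rw [← Over.w G.r₁, ← Category.assoc, ← e₁, Category.assoc]
    let x₁ : Over.mk (x₀ ≫ G.R.hom) ⟶ G.R := Over.homMk x₀ rfl
    let y₁ : Over.mk (x₀ ≫ G.R.hom) ⟶ G.R := Over.homMk y₀ hR
    have hxy : x₀ = y₀ := congrArg (fun z : Over.mk (x₀ ≫ G.R.hom) ⟶ G.R => z.left)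
      (G.ext_R (x := x₁) (y := y₁) (Over.OverMorphism.ext e₁) (Over.OverMorphism.ext e₂))
    have hd : (ξ ≫ pullback.fst m m) ≫ pullback.diagonal m = ξ := by
      apply pullback.hom_ext
      · simp
      · rw [Category.assoc, pullback.diagonal_snd, Category.comp_id, ← hx₀, hxy, hy₀]
    obtain ⟨z⟩ : Nonempty ↥K := inferInstanceAs (Nonempty ↥(Spec ((pullback m m).residueField e)))
    refine ⟨(ξ ≫ pullback.fst m m) z, ?_⟩
    rw [← Scheme.Hom.comp_apply, hd, Scheme.fromSpecResidueField_apply]⟩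
  haveI : IsOpenImmersion (pullback.diagonal m) := inferInstance
  haveI : IsIso (pullback.diagonal m) :=
    (isIso_iff_isOpenImmersion_and_epi_base _).2
      ⟨inferInstance, (TopCat.epi_iff_surjective _).2 (pullback.diagonal m).surjective⟩
  haveI : Mono m := (pullback.isIso_diagonal_iff m).1 inferInstance
  refine Over.OverMorphism.ext ((cancel_mono m).1 (pullback.hom_ext ?_ ?_))
  · simp only [m, Category.assoc, pullback.lift_fst]
    exact congrArg (fun z : T ⟶ G.V' => z.left) hs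
  · simp only [m, Category.assoc, pullback.lift_snd]
    exact congrArg (fun z : T ⟶ G.V' => z.left) ht

theorem exists_refl : ∃ e : G.V' ⟶ G.R', e ≫ G.s = 𝟙 _ ∧ e ≫ G.t = 𝟙 _ := by
  obtain ⟨eV, hV₁, hV₂⟩ := G.lift_R (𝟙 _) (𝟙 _) rfl
  obtain ⟨eU, hU₁, hU₂⟩ := G.lift_RU (𝟙 _) (𝟙 _) rfl
  obtain ⟨eX, hX₁, hX₂⟩ := G.lift_RU' (𝟙 _) (𝟙 _) rfl
  have hi : G.iU ≫ eX = eU ≫ G.iR := G.ext_RU'
    (by simp [hX₁, G.hi₁.w, reassoc_of% hU₁]) (by simp [hX₂, G.hi₂.w, reassoc_of% hU₂])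
  have hj : G.jU ≫ eV = eU ≫ G.jR := G.ext_R
    (by simp [hV₁, G.hj₁.w, reassoc_of% hU₁]) (by simp [hV₂, G.hj₂.w, reassoc_of% hU₂])
  have w : G.iU ≫ eX ≫ G.dU = G.jU ≫ eV ≫ G.dV := by rw [reassoc_of% hi, reassoc_of% hj, G.hR.w]
  refine ⟨G.hU.overPO.desc (eX ≫ G.dU) (eV ≫ G.dV) w, G.hU.hom_ext ?_ ?_, G.hU.hom_ext ?_ ?_⟩
  · simp [G.hs₁, reassoc_of% hX₁]
  · simp [G.hs₂, reassoc_of% hV₁]
  · simp [G.ht₁, reassoc_of% hX₂]
  · simp [G.ht₂, reassoc_of% hV₂]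

theorem exists_symm : ∃ σ : G.R' ⟶ G.R', σ ≫ G.s = G.t ∧ σ ≫ G.t = G.s := by
  obtain ⟨σV, hV₁, hV₂⟩ := G.lift_R G.r₂ G.r₁ G.sqR.w.symm
  obtain ⟨σU, hU₁, hU₂⟩ := G.lift_RU G.q₂ G.q₁ G.sqRU.w.symm
  obtain ⟨σX, hX₁, hX₂⟩ := G.lift_RU' G.p₂ G.p₁ G.sqRU'.w.symm
  have hi : G.iR ≫ σX = σU ≫ G.iR := G.ext_RU'
    (by simp [hX₁, G.hi₁.w, G.hi₂.w, reassoc_of% hU₁]) (by simp [hX₂, G.hi₁.w, G.hi₂.w, reassoc_of% hU₂])
  have hj : G.jR ≫ σV = σU ≫ G.jR := G.ext_R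
    (by simp [hV₁, G.hj₁.w, G.hj₂.w, reassoc_of% hU₁]) (by simp [hV₂, G.hj₁.w, G.hj₂.w, reassoc_of% hU₂])
  have w : G.iR ≫ σX ≫ G.dU = G.jR ≫ σV ≫ G.dV := by rw [reassoc_of% hi, reassoc_of% hj, G.hR.w]
  refine ⟨G.hR.overPO.desc (σX ≫ G.dU) (σV ≫ G.dV) w, G.hR.hom_ext ?_ ?_, G.hR.hom_ext ?_ ?_⟩
  · simp [G.hs₁, G.ht₁, reassoc_of% hX₁]
  · simp [G.hs₂, G.ht₂, reassoc_of% hV₁]
  · simp [G.hs₁, G.ht₁, reassoc_of% hX₂]
  · simp [G.hs₂, G.ht₂, reassoc_of% hV₂]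

theorem exists_trans : ∃ μ : pullback G.s G.t ⟶ G.R',
    μ ≫ G.t = pullback.fst G.s G.t ≫ G.t ∧ μ ≫ G.s = pullback.snd G.s G.t ≫ G.s := by
  let κX : pullback G.p₁ G.p₂ ⟶ pullback G.s G.t :=
    pullback.map _ _ _ _ G.dU G.dU G.cU G.hs₁.symm G.cart_t.2.1.w.symm
  let κV : pullback G.r₁ G.r₂ ⟶ pullback G.s G.t :=
    pullback.map _ _ _ _ G.dV G.dV G.cV G.hs₂.symm G.cart_t.2.2.w.symm
  let iC : pullback G.q₁ G.q₂ ⟶ pullback G.p₁ G.p₂ :=
    pullback.map _ _ _ _ G.iR G.iR G.iU G.hi₁.w.symm G.hi₂.w.symm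
  let jC : pullback G.q₁ G.q₂ ⟶ pullback G.r₁ G.r₂ :=
    pullback.map _ _ _ _ G.jR G.jR G.jU G.hj₁.w.symm G.hj₂.w.symm
  haveI := G.cart_t.1
  haveI : Etale (pullback.fst G.s G.t).left :=
    MorphismProperty.of_isPullback (P := @Etale) ((IsPullback.of_hasPullback G.s G.t).map (Over.forget S)).flip
      G.cart_t.1
  have hC : IsTPO iC jC κX κV := by
    refine G.hR.baseChange (pullback.fst G.s G.t) (isPullback_piece G.cart_t.2.1 G.hs₁)
      (isPullback_piece G.cart_t.2.2 G.hs₂) (isPullback_piece G.hi₂ G.hi₁.w) (isPullback_piece G.hj₂ G.hj₁.w) ?_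
    apply pullback.hom_ext <;> simp [iC, jC, κX, κV, G.hR.w]
  obtain ⟨μV, hV₂, hV₁⟩ := G.lift_R (pullback.snd G.r₁ G.r₂ ≫ G.r₁) (pullback.fst G.r₁ G.r₂ ≫ G.r₂) (by
    rw [Functor.map_comp, Functor.map_comp, Category.assoc, Category.assoc, G.sqR.w, ← G.sqR.w,
      ← Category.assoc, ← Category.assoc, ← Functor.map_comp, ← Functor.map_comp]
    simp only [Functor.map_comp, Category.assoc, G.sqR.w]
    rw [← Category.assoc, ← Functor.map_comp, ← pullback.condition, Functor.map_comp, Category.assoc, G.sqR.w])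
  obtain ⟨μU, hU₂, hU₁⟩ := G.lift_RU (pullback.snd G.q₁ G.q₂ ≫ G.q₁) (pullback.fst G.q₁ G.q₂ ≫ G.q₂) (by
    rw [Functor.map_comp, Functor.map_comp, Category.assoc, Category.assoc, G.sqRU.w, ← Category.assoc,
      ← Functor.map_comp, ← pullback.condition, Functor.map_comp, Category.assoc, G.sqRU.w])
  obtain ⟨μX, hX₂, hX₁⟩ := G.lift_RU' (pullback.snd G.p₁ G.p₂ ≫ G.p₁) (pullback.fst G.p₁ G.p₂ ≫ G.p₂) (by
    rw [Functor.map_comp, Functor.map_comp, Category.assoc, Category.assoc, G.sqRU'.w, ← Category.assoc,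
      ← Functor.map_comp, ← pullback.condition, Functor.map_comp, Category.assoc, G.sqRU'.w])
  have hi : iC ≫ μX = μU ≫ G.iR := G.ext_RU'
    (by simp [iC, hX₂, G.hi₁.w, reassoc_of% hU₂]) (by simp [iC, hX₁, G.hi₂.w, reassoc_of% hU₁])
  have hj : jC ≫ μV = μU ≫ G.jR := G.ext_R
    (by simp [jC, hV₂, G.hj₁.w, reassoc_of% hU₂]) (by simp [jC, hV₁, G.hj₂.w, reassoc_of% hU₁])
  have w : iC ≫ μX ≫ G.dU = jC ≫ μV ≫ G.dV := by rw [reassoc_of% hi, reassoc_of% hj, G.hR.w]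
  refine ⟨hC.overPO.desc (μX ≫ G.dU) (μV ≫ G.dV) w, hC.hom_ext ?_ ?_, hC.hom_ext ?_ ?_⟩
  · simp [κX, G.ht₁, reassoc_of% hX₁]
  · simp [κV, G.ht₂, reassoc_of% hV₁]
  · simp [κX, G.hs₁, reassoc_of% hX₂]
  · simp [κV, G.hs₂, reassoc_of% hV₂]

/-- The glued relation is an equivalence relation. -/
theorem isEqvRelSp : IsEqvRelSp ((yon S).map G.s) ((yon S).map G.t) := by
  constructor
  · intro T r r' h₁ h₂
    obtain ⟨r, rfl⟩ := (yon S).map_surjective r
    obtain ⟨r', rfl⟩ := (yon S).map_surjective r'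
    exact congrArg (yon S).map (G.injective r r' ((yon S).map_injective (by simpa using h₁))
      ((yon S).map_injective (by simpa using h₂)))
  · intro T
    obtain ⟨e, he₁, he₂⟩ := G.exists_refl
    obtain ⟨σ, hσ₁, hσ₂⟩ := G.exists_symm
    obtain ⟨μ, hμ₁, hμ₂⟩ := G.exists_trans
    refine ⟨fun a => ?_, ?_, ?_⟩
    · exact ⟨a ≫ (yon S).map e, by rw [Category.assoc, ← Functor.map_comp, he₂]; simp,
        by rw [Category.assoc, ← Functor.map_comp, he₁]; simp⟩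
    · rintro a b ⟨r, rfl, rfl⟩
      exact ⟨r ≫ (yon S).map σ, by rw [Category.assoc, ← Functor.map_comp, hσ₂],
        by rw [Category.assoc, ← Functor.map_comp, hσ₁]⟩
    · rintro a b c ⟨r, rfl, rfl⟩ ⟨r', hr', rfl⟩
      obtain ⟨r, rfl⟩ := (yon S).map_surjective r
      obtain ⟨r', rfl⟩ := (yon S).map_surjective r'
      have h : r ≫ G.s = r' ≫ G.t := (yon S).map_injective (by simpa using hr'.symm)
      refine ⟨(yon S).map (pullback.lift r r' h ≫ μ), ?_, ?_⟩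
      · simp only [← Functor.map_comp, Category.assoc, hμ₁, pullback.lift_fst_assoc]
      · simp only [← Functor.map_comp, Category.assoc, hμ₂, pullback.lift_snd_assoc]

end Glue

end Groth.Agent.AlgSpWA.ThickPO

end
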