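import Groth.Agent.AlgSpWA.FerrandSpace
import Groth.Prelude.Def_AlgSpInf

/-!
# Pushouts of schemes along a thickening and an affine morphism, over a base
-/

set_option autoImplicit false
set_option backward.isDefEq.respectTransparency false
set_option backward.isDefEq.respectTransparency.types false
set_option linter.style.haveILetI false

noncomputable section

universe u

open CategoryTheory CategoryTheory.Limits AlgebraicGeometry Opposite AlgSp RingPO

namespace Groth.Agent.AlgSpWA.ThickPO

variable {S : Scheme.{u}}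

/-- A pushout of schemes over `S` along a thickening and an affine morphism. -/
structure IsTPO {Z X Y P : Over S} (i : Z ⟶ X) (j : Z ⟶ Y) (a : X ⟶ P) (b : Y ⟶ P) : Prop where
  thick_i : AlgSp.thick i.left
  affine_j : IsAffineHom j.left
  w : i ≫ a = j ≫ b
  po : IsPushout i.left j.left a.left b.left

namespace IsTPO

variable {Z X Y P : Over S} {i : Z ⟶ X} {j : Z ⟶ Y} {a : X ⟶ P} {b : Y ⟶ P}

theorem chart (h : IsTPO i j a b) (y : ↥Y.left) : ∃ k : Chart i.left j.left, y ∈ k.V :=
  haveI := h.thick_i.1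
  haveI := h.affine_j
  chart_of_thickening (j := j.left) h.thick_i.2.surj y

theorem affine_a (h : IsTPO i j a b) : IsAffineHom a.left :=
  haveI := h.thick_i.1
  isAffineHom_inl h.po h.chart

theorem thick_b (h : IsTPO i j a b) : AlgSp.thick b.left :=
  haveI := h.thick_i.1
  ⟨isClosedImmersion_inr h.po h.chart, ⟨surjective_inr h.po h.chart h.thick_i.2.surj⟩⟩

/-- The square is a pushout over the base. -/
theorem overPO (h : IsTPO i j a b) : IsPushout i j a b :=
  IsPushout.of_map (Over.forget S) h.w h.po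

theorem hom_ext (h : IsTPO i j a b) {T : Over S} {x y : P ⟶ T} (ha : a ≫ x = a ≫ y) (hb : b ≫ x = b ≫ y) : x = y :=
  h.overPO.hom_ext ha hb

theorem isPullback (h : IsTPO i j a b) : IsPullback i j a b :=
  haveI := h.thick_i.1
  haveI := h.affine_j
  have hp : CategoryTheory.IsPullback i.left j.left a.left b.left := RingPO.isPullback_of_isPushout h.po h.chart
  IsPullback.of_map (Over.forget S) h.w hp

/-- The square is a pushout among algebraic spaces. -/
theorem spacePO (h : IsTPO i j a b) :
    IsPushout ((AlgSp.ofScheme S).map i) ((AlgSp.ofScheme S).map j) ((AlgSp.ofScheme S).map a)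
      ((AlgSp.ofScheme S).map b) := by
  haveI := h.thick_i.1
  haveI := h.affine_j
  refine FerrandSpace.isPushout_ofScheme h.overPO h.chart ?_
  intro Z' X' Y' i' _ j' _ f g c _ _ hX _ y
  haveI : Surjective i' := MorphismProperty.of_isPullback hX.flip h.thick_i.2
  exact RingPO.chart_of_thickening (j := j') i'.surjective y

/-- Every point comes from one of the two parts. -/
theorem exists_point (h : IsTPO i j a b) (x : ↥P.left) : ∃ y, b.left y = x :=
  h.thick_b.2.surj x

end IsTPO

/-- Pushouts along a thickening and an affine morphism exist. -/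
theorem exists_isTPO {Z X Y : Over S} (i : Z ⟶ X) (j : Z ⟶ Y) (hi : AlgSp.thick i.left) (hj : IsAffineHom j.left) :
    ∃ (P : Over S) (a : X ⟶ P) (b : Y ⟶ P), IsTPO i j a b := by
  haveI := hi.1
  haveI := hj
  have hY := fun y => chart_of_thickening (j := j.left) hi.2.surj y
  have h := isPushout_glued hY
  let p := h.desc X.hom Y.hom ((Over.w i).trans (Over.w j).symm)
  exact ⟨Over.mk p, Over.homMk (inX hY) (h.inl_desc _ _ _), Over.homMk (inY hY) (h.inr_desc _ _ _),
    hi, hj, Over.OverMorphism.ext h.w, h⟩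

/-- A map of pushouts with etale cartesian pieces is etale and cartesian. -/
theorem etale_map {Z X Y P Z' X' Y' P' : Over S} {i : Z ⟶ X} {j : Z ⟶ Y} {a : X ⟶ P} {b : Y ⟶ P}
    {i' : Z' ⟶ X'} {j' : Z' ⟶ Y'} {a' : X' ⟶ P'} {b' : Y' ⟶ P'} (h : IsTPO i j a b) (h' : IsTPO i' j' a' b')
    {f : X' ⟶ X} {g : Y' ⟶ Y} {c : Z' ⟶ Z} {k : P' ⟶ P} (hf : Etale f.left) (hg : Etale g.left)
    (hX : IsPullback i' c f i) (hY : IsPullback j' c g j) (ha : a' ≫ k = f ≫ a) (hb : b' ≫ k = g ≫ b) :
    Etale k.left ∧ IsPullback a' f k a ∧ IsPullback b' g k b := by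
  haveI := h.thick_i.1
  haveI := h'.thick_i.1
  haveI := h.affine_j
  haveI := h'.affine_j
  haveI := h.affine_a
  haveI := h'.affine_a
  haveI := h.thick_b.1
  haveI := h'.thick_b.1
  haveI := hf
  haveI := hg
  have hX' : CategoryTheory.IsPullback i'.left c.left f.left i.left := hX.map (Over.forget S)
  have hY' : CategoryTheory.IsPullback j'.left c.left g.left j.left := hY.map (Over.forget S)
  obtain ⟨h1, h2, h3⟩ := RingPOEtale.etale_corner h.po h.chart h'.po h'.chart hX'
    hY' (congrArg (fun m : X' ⟶ P => m.left) ha) (congrArg (fun m : Y' ⟶ P => m.left) hb)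
  exact ⟨h1, IsPullback.of_map (Over.forget S) ha h2, IsPullback.of_map (Over.forget S) hb h3⟩

/-- Flat base change of a pushout. -/
theorem IsTPO.baseChange {Z X Y P Z' X' Y' T : Over S} {i : Z ⟶ X} {j : Z ⟶ Y} {a : X ⟶ P} {b : Y ⟶ P}
    (h : IsTPO i j a b) (g : T ⟶ P) [Flat g.left] {pX : X' ⟶ X} {aT : X' ⟶ T} (hX : IsPullback pX aT a g)
    {pY : Y' ⟶ Y} {bT : Y' ⟶ T} (hY : IsPullback pY bT b g) {pZ : Z' ⟶ Z} {iT : Z' ⟶ X'} {jT : Z' ⟶ Y'}
    (hZX : IsPullback pZ iT i pX) (hZY : IsPullback pZ jT j pY) (w : iT ≫ aT = jT ≫ bT) : IsTPO iT jT aT bT := by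
  haveI := h.thick_i.1
  haveI := h.affine_j
  haveI := h.affine_a
  refine ⟨MorphismProperty.of_isPullback (P := AlgSp.thick) (hZX.map (Over.forget S)) h.thick_i,
    MorphismProperty.of_isPullback (P := @IsAffineHom) (hZY.map (Over.forget S)) h.affine_j, w, ?_⟩
  exact isPushout_baseChange h.po h.chart (𝟙 P.left) g.left (Or.inr inferInstance) (pP := g.left) (sT := 𝟙 _)
    (IsPullback.of_vert_isIso ⟨by simp⟩) (hX.map (Over.forget S)) (hY.map (Over.forget S))
    (hZX.map (Over.forget S)) (congrArg (fun m : Z' ⟶ Y => m.left) hZY.w.symm)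
    (congrArg (fun m : Z' ⟶ T => m.left) w)

end Groth.Agent.AlgSpWA.ThickPO

end
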