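import Groth.Agent.AlgSpWA.ThickPORel
import Groth.Agent.AlgSpLib.EtLift
import Groth.Agent.AlgSpLib.ThickTop
import Groth.Agent.AlgSpDec.SpQuot
import Groth.Agent.AlgSpDec.AffineRep
import Groth.Agent.AlgSpDec.ImmCover

/-!
# Pushouts of algebraic spaces along a thickening and an affine morphism

An etale chart of the affine target lifts to the three corners; the pushouts of the charts and of their kernel pairs
give an etale equivalence relation whose quotient is the pushout.
-/

set_option autoImplicit false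
set_option backward.isDefEq.respectTransparency false
set_option backward.isDefEq.respectTransparency.types false
set_option linter.style.haveILetI false

noncomputable section

universe u

open CategoryTheory CategoryTheory.Limits AlgebraicGeometry Opposite AlgSp

namespace Groth.Agent.AlgSpWA.ThickPO

open Groth.Agent.AlgSpDec Groth.Agent.AlgSpLib Groth.Agent.AlgSpPts

variable {S : Scheme.{u}}

/-- The kernel pair of a base change is the base change of the kernel pair. -/
theorem isPullback_kernelPair {C : Type*} [Category C] {U V X Y RU R : C} {j : U ⟶ V} {a : U ⟶ X} {b : V ⟶ Y}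
    {f : X ⟶ Y} (sq : IsPullback j a b f) {q₁ q₂ : RU ⟶ U} (hU : IsPullback q₁ q₂ a a) {r₁ r₂ : R ⟶ V}
    (hR : IsPullback r₁ r₂ b b) {jR : RU ⟶ R} (h₁ : jR ≫ r₁ = q₁ ≫ j) (h₂ : jR ≫ r₂ = q₂ ≫ j) :
    IsPullback jR q₁ r₁ j ∧ IsPullback jR q₂ r₂ j := by
  constructor
  · refine IsPullback.of_right ?_ h₁ hR.flip
    rw [h₂, sq.w]
    exact hU.flip.paste_horiz sq
  · refine IsPullback.of_right ?_ h₂ hR
    rw [h₁, sq.w]
    exact hU.paste_horiz sq

/-- A chart of a piece is the base change of the chart of the quotient. -/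
theorem isPullback_quot_chart {A V' RA R' : Over S} {F Q : Sp S} {a : (yon S).obj A ⟶ F} (ha : RepWith @Etale a)
    (has : RepWith @Surjective a) {π : (yon S).obj V' ⟶ Q} {φ : F ⟶ Q} {c : A ⟶ V'} {d : RA ⟶ R'} {ρ₁ ρ₂ : RA ⟶ A}
    {s t : R' ⟶ V'} (hinj : IsEqvRelSp ((yon S).map s) ((yon S).map t))
    (hπ : IsPullback ((yon S).map t) ((yon S).map s) π π) (sqA : IsPullback ((yon S).map ρ₁) ((yon S).map ρ₂) a a)
    (hd : IsPullback d ρ₁ s c) (hdt : d ≫ t = ρ₂ ≫ c) (w : (yon S).map c ≫ π = a ≫ φ) :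
    IsPullback ((yon S).map c) a π φ := by
  let κ : (yon S).obj A ⟶ pullback π φ := pullback.lift ((yon S).map c) a w
  have hκ₁ : κ ≫ pullback.fst π φ = (yon S).map c := pullback.lift_fst _ _ _
  have hκ₂ : κ ≫ pullback.snd π φ = a := pullback.lift_snd _ _ _
  haveI : Mono κ := mono_of_yon_injective fun T α β h => by
    obtain ⟨α, rfl⟩ := (yon S).map_surjective α
    obtain ⟨β, rfl⟩ := (yon S).map_surjective β
    have hc : α ≫ c = β ≫ c := (yon S).map_injective (by
      have := congrArg (· ≫ pullback.fst π φ) h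
      simpa [hκ₁] using this)
    have haa : (yon S).map α ≫ a = (yon S).map β ≫ a := by
      have := congrArg (· ≫ pullback.snd π φ) h
      simpa [hκ₂] using this
    obtain ⟨γ, hγ⟩ := (yon S).map_surjective (sqA.lift _ _ haa)
    obtain ⟨δ, hδ⟩ := (yon S).map_surjective (sqA.lift ((yon S).map α) ((yon S).map α) rfl)
    have hγ₁ : γ ≫ ρ₁ = α := (yon S).map_injective (by rw [Functor.map_comp, hγ, sqA.lift_fst])
    have hγ₂ : γ ≫ ρ₂ = β := (yon S).map_injective (by rw [Functor.map_comp, hγ, sqA.lift_snd])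
    have hδ₁ : δ ≫ ρ₁ = α := (yon S).map_injective (by rw [Functor.map_comp, hδ, sqA.lift_fst])
    have hδ₂ : δ ≫ ρ₂ = α := (yon S).map_injective (by rw [Functor.map_comp, hδ, sqA.lift_snd])
    have e : γ ≫ d = δ ≫ d := (yon S).map_injective (hinj.injective T _ _
      (by rw [← Functor.map_comp, ← Functor.map_comp, Category.assoc, Category.assoc, hdt, reassoc_of% hγ₂,
        reassoc_of% hδ₂, hc])
      (by rw [← Functor.map_comp, ← Functor.map_comp, Category.assoc, Category.assoc, hd.w, reassoc_of% hγ₁,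
        reassoc_of% hδ₁]))
    have e' : γ = δ := hd.hom_ext e (hγ₁.trans hδ₁.symm)
    rw [← hγ₂, e', hδ₂]
  haveI : Sheaf.IsLocallySurjective κ := isLocallySurjective_of_lifts κ fun T ξ => by
    haveI : Etale (ha.rep.snd (ξ ≫ pullback.snd π φ)).left := ha.property_snd _
    haveI : Surjective (ha.rep.snd (ξ ≫ pullback.snd π φ)).left := has.property_snd _
    let e := ha.rep.snd (ξ ≫ pullback.snd π φ)
    let α := ha.rep.fst' (ξ ≫ pullback.snd π φ)
    obtain ⟨v, hv⟩ := (yon S).map_surjective ((yon S).map e ≫ ξ ≫ pullback.fst π φ)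
    have hα : (yon S).map α ≫ a = (yon S).map e ≫ ξ ≫ pullback.snd π φ := (ha.rep.isPullback' _).w
    have hvπ : (yon S).map v ≫ π = (yon S).map (α ≫ c) ≫ π := by
      rw [hv, Functor.map_comp, Category.assoc, Category.assoc, Category.assoc, w, reassoc_of% hα,
        pullback.condition]
    obtain ⟨r, hr⟩ := (yon S).map_surjective (hπ.lift _ _ hvπ)
    have hr₁ : r ≫ t = v := (yon S).map_injective (by rw [Functor.map_comp, hr, hπ.lift_fst])
    have hr₂ : r ≫ s = α ≫ c := (yon S).map_injective (by rw [Functor.map_comp, hr, hπ.lift_snd])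
    obtain ⟨γ, hγd, hγ₁⟩ := hd.exists_lift r α hr₂
    refine ⟨_, e, (yon S).map (γ ≫ ρ₂), fppf_of_etale _, pullback.hom_ext ?_ ?_⟩
    · rw [Category.assoc, hκ₁, ← Functor.map_comp, Category.assoc, ← hdt, reassoc_of% hγd, hr₁, hv, Category.assoc]
    · rw [Category.assoc, hκ₂, Functor.map_comp, Category.assoc, ← sqA.w, ← Category.assoc, ← Functor.map_comp,
        hγ₁, hα, Category.assoc]
  haveI := isIso_of_mono_of_locallySurjective κ
  exact IsPullback.of_iso_pullback ⟨w⟩ (asIso κ) hκ₁ hκ₂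

/-- An etale chart of a pushout along a thickening and an affine morphism. -/
structure Chart {X X' Y Y' : Sp S} (t : X ⟶ X') (f : X ⟶ Y) (f' : X' ⟶ Y') (t' : Y ⟶ Y') {V : Over S}
    (b : (yon S).obj V ⟶ Y) where
  U : Over S
  U' : Over S
  V' : Over S
  iU : U ⟶ U'
  jU : U ⟶ V
  cU : U' ⟶ V'
  cV : V ⟶ V'
  aU : (yon S).obj U ⟶ X
  aU' : (yon S).obj U' ⟶ X'
  π : (yon S).obj V' ⟶ Y'
  sqU : IsPullback ((yon S).map jU) aU b f
  sqU' : IsPullback ((yon S).map iU) aU aU' t
  etU' : RepWith @Etale aU'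
  surjU' : RepWith @Surjective aU'
  etπ : RepWith @Etale π
  surjπ : RepWith @Surjective π
  tpo : IsTPO iU jU cU cV
  sqV' : IsPullback ((yon S).map cV) b π t'
  sqU'' : IsPullback ((yon S).map cU) aU' π f'

variable {X X' Y : Space S}

/-- The pushout along a thickening and an affine morphism, with a chart over a given chart of the target. -/
theorem exists_pushout_chart (t : X ⟶ X') (ht : IsThickMor t.hom) (f : X ⟶ Y) (hf : IsAffineMor f.hom) {V : Over S}
    (b : (yon S).obj V ⟶ Y.obj) (hb : RepWith @Etale b) (hbs : RepWith @Surjective b) :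
    ∃ (Y' : Space S) (f' : X' ⟶ Y') (t' : Y ⟶ Y'), IsPushout t f f' t' ∧ IsThickMor t'.hom ∧
      Nonempty (Chart t.hom f.hom f'.hom t'.hom b) := by
  have hfA := repWith_isAffineHom_of_isAffineMor hf
  -- the charts of the corners
  let U := hfA.rep.pullback b
  let jU : U ⟶ V := hfA.rep.snd b
  let aU : (yon S).obj U ⟶ X.obj := hfA.rep.fst b
  have sqU : IsPullback ((yon S).map jU) aU b f.hom := (hfA.rep.isPullback b).flip
  have haU : RepWith @Etale aU := repWith_of_isPullback sqU hb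
  have haUs : RepWith @Surjective aU := repWith_of_isPullback sqU hbs
  haveI : IsAffineHom jU.left := hfA.property_snd b
  obtain ⟨U', aU', ε, haU', hε⟩ := EtLift.exists_lift X.property X'.property ht aU haU
  obtain ⟨iU, hiU⟩ := (yon S).map_surjective (ε.hom ≫ pullback.snd t.hom aU')
  have sqU' : IsPullback ((yon S).map iU) aU aU' t.hom :=
    ((IsPullback.of_hasPullback t.hom aU').of_iso ε.symm (Iso.refl _) (Iso.refl _) (Iso.refl _)
      (by simp [← hε]) (by simp [hiU]) (by simp) (by simp)).flip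
  have hiUt : AlgSp.thick iU.left :=
    (repWith_yon_map_iff AlgSp.thick iU).1 (repWith_of_isPullback sqU'.flip ht)
  have hts : Function.Surjective (Points.map t.hom) := (isHomeomorph_map_of_thick X'.property ht).surjective
  have haUs' : RepWith @Surjective aU' := repWith_surjective_of_surjective haU'.rep fun x => by
    obtain ⟨x₀, rfl⟩ := hts x
    obtain ⟨u, rfl⟩ := surjective_map_of_repWith haUs x₀
    exact ⟨Points.map ((yon S).map iU) u, by rw [← Points.map_comp, sqU'.w, Points.map_comp]⟩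
  -- kernel pairs
  let R := hb.rep.pullback b
  let r₁ : R ⟶ V := hb.rep.fst' b
  let r₂ : R ⟶ V := hb.rep.snd b
  have sqR : IsPullback ((yon S).map r₁) ((yon S).map r₂) b b := hb.rep.isPullback' b
  let RU := haU.rep.pullback aU
  let q₁ : RU ⟶ U := haU.rep.fst' aU
  let q₂ : RU ⟶ U := haU.rep.snd aU
  have sqRU : IsPullback ((yon S).map q₁) ((yon S).map q₂) aU aU := haU.rep.isPullback' aU
  let RU' := haU'.rep.pullback aU'
  let p₁ : RU' ⟶ U' := haU'.rep.fst' aU'
  let p₂ : RU' ⟶ U' := haU'.rep.snd aU'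
  have sqRU' : IsPullback ((yon S).map p₁) ((yon S).map p₂) aU' aU' := haU'.rep.isPullback' aU'
  obtain ⟨jR, hjR⟩ := (yon S).map_surjective (sqR.lift ((yon S).map (q₁ ≫ jU)) ((yon S).map (q₂ ≫ jU)) (by
    rw [Functor.map_comp, Functor.map_comp, Category.assoc, Category.assoc, sqU.w, reassoc_of% sqRU.w]))
  have hjR₁ : jR ≫ r₁ = q₁ ≫ jU := (yon S).map_injective (by rw [Functor.map_comp, hjR, sqR.lift_fst])
  have hjR₂ : jR ≫ r₂ = q₂ ≫ jU := (yon S).map_injective (by rw [Functor.map_comp, hjR, sqR.lift_snd])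
  obtain ⟨iR, hiR⟩ := (yon S).map_surjective (sqRU'.lift ((yon S).map (q₁ ≫ iU)) ((yon S).map (q₂ ≫ iU)) (by
    rw [Functor.map_comp, Functor.map_comp, Category.assoc, Category.assoc, sqU'.w, reassoc_of% sqRU.w]))
  have hiR₁ : iR ≫ p₁ = q₁ ≫ iU := (yon S).map_injective (by rw [Functor.map_comp, hiR, sqRU'.lift_fst])
  have hiR₂ : iR ≫ p₂ = q₂ ≫ iU := (yon S).map_injective (by rw [Functor.map_comp, hiR, sqRU'.lift_snd])
  obtain ⟨hj₁', hj₂'⟩ := isPullback_kernelPair sqU sqRU sqR (jR := (yon S).map jR)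
    (by rw [← Functor.map_comp, ← Functor.map_comp, hjR₁]) (by rw [← Functor.map_comp, ← Functor.map_comp, hjR₂])
  obtain ⟨hi₁', hi₂'⟩ := isPullback_kernelPair sqU' sqRU sqRU' (jR := (yon S).map iR)
    (by rw [← Functor.map_comp, ← Functor.map_comp, hiR₁]) (by rw [← Functor.map_comp, ← Functor.map_comp, hiR₂])
  have hj₁ : IsPullback jR q₁ r₁ jU := IsPullback.of_map (yon S) hjR₁ hj₁'
  have hj₂ : IsPullback jR q₂ r₂ jU := IsPullback.of_map (yon S) hjR₂ hj₂'
  have hi₁ : IsPullback iR q₁ p₁ iU := IsPullback.of_map (yon S) hiR₁ hi₁'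
  have hi₂ : IsPullback iR q₂ p₂ iU := IsPullback.of_map (yon S) hiR₂ hi₂'
  obtain ⟨V', cU, cV, hU⟩ := exists_isTPO iU jU hiUt ‹_›
  obtain ⟨R', dU, dV, hR⟩ := exists_isTPO iR jR
    (MorphismProperty.of_isPullback (P := AlgSp.thick) (hi₁.map (Over.forget S)).flip hiUt)
    (MorphismProperty.of_isPullback (P := @IsAffineHom) (hj₁.map (Over.forget S)).flip ‹IsAffineHom jU.left›)
  have ws : iR ≫ p₁ ≫ cU = jR ≫ r₁ ≫ cV := by rw [reassoc_of% hiR₁, reassoc_of% hjR₁, hU.w]
  have wt : iR ≫ p₂ ≫ cU = jR ≫ r₂ ≫ cV := by rw [reassoc_of% hiR₂, reassoc_of% hjR₂, hU.w]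
  let G : Glue S :=
    { V := V, R := R, U := U, RU := RU, U' := U', RU' := RU', V' := V', R' := R'
      r₁ := r₁, r₂ := r₂, q₁ := q₁, q₂ := q₂, p₁ := p₁, p₂ := p₂
      iU := iU, jU := jU, iR := iR, jR := jR, cU := cU, cV := cV, dU := dU, dV := dV
      s := hR.overPO.desc (p₁ ≫ cU) (r₁ ≫ cV) ws
      t := hR.overPO.desc (p₂ ≫ cU) (r₂ ≫ cV) wt
      FY := Y.obj, FX := X.obj, FX' := X'.obj, b := b, aU := aU, aU' := aU'
      sqR := sqR, sqRU := sqRU, sqRU' := sqRU'
      etr₁ := (repWith_yon_map_iff _ _).1 (repWith_of_isPullback sqR.flip hb)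
      etr₂ := hb.property_snd b
      etp₁ := (repWith_yon_map_iff _ _).1 (repWith_of_isPullback sqRU'.flip haU')
      etp₂ := haU'.property_snd aU'
      hi₁ := hi₁, hi₂ := hi₂, hj₁ := hj₁, hj₂ := hj₂, hU := hU, hR := hR
      hs₁ := hR.overPO.inl_desc _ _ _, hs₂ := hR.overPO.inr_desc _ _ _
      ht₁ := hR.overPO.inl_desc _ _ _, ht₂ := hR.overPO.inr_desc _ _ _ }
  haveI := G.cart_s.1
  haveI := G.cart_t.1
  have hE := G.isEqvRelSp
  have hsF : LocP @Flat ((yon S).map G.s) ∧ LocP @LocallyOfFinitePresentation ((yon S).map G.s) :=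
    ⟨locP_of_repWith ((repWith_yon_map_iff _ _).2 (inferInstanceAs (Flat G.s.left))),
      locP_of_repWith ((repWith_yon_map_iff _ _).2 (inferInstanceAs (LocallyOfFinitePresentation G.s.left)))⟩
  have htF : LocP @Flat ((yon S).map G.t) ∧ LocP @LocallyOfFinitePresentation ((yon S).map G.t) :=
    ⟨locP_of_repWith ((repWith_yon_map_iff _ _).2 (inferInstanceAs (Flat G.t.left))),
      locP_of_repWith ((repWith_yon_map_iff _ _).2 (inferInstanceAs (LocallyOfFinitePresentation G.t.left)))⟩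
  have hQ := isAlgSpace_quotSp (IsAlgSpace.yon_obj _) (IsAlgSpace.yon_obj _) hE hsF htF
  have hker := isPullback_quotSpπ (IsAlgSpace.yon_obj _) (IsAlgSpace.yon_obj _) hE hsF htF
  let π : (yon S).obj V' ⟶ quotSp ((yon S).map G.s) ((yon S).map G.t) := quotSpπ _ _
  haveI : Sheaf.IsLocallySurjective π :=
    (Sheaf.isLocallySurjective_iff_epi π).2 (inferInstanceAs (Epi (coequalizer.π _ _)))
  have hπr : Representable π := hQ.representable_from_yon π
  obtain ⟨e, he₁, -⟩ := G.exists_refl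
  have hss : Surjective G.s.left := ⟨fun x => ⟨e.left x, congrArg (fun m : V' ⟶ V' => m.left x) he₁⟩⟩
  haveI := Groth.Agent.AlgSpPts.isLocalAtTarget_fppf (@Etale : MorphismProperty Scheme.{u})
  haveI := Groth.Agent.AlgSpPts.isLocalAtTarget_fppf (@Surjective : MorphismProperty Scheme.{u})
  have hπe : RepWith @Etale π :=
    repWith_of_locallySurjective hπr _ hker @Etale ((repWith_yon_map_iff _ _).2 G.cart_s.1)
  have hπs : RepWith @Surjective π :=
    repWith_of_locallySurjective hπr _ hker @Surjective ((repWith_yon_map_iff _ _).2 hss)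
  have hcond : (yon S).map G.s ≫ π = (yon S).map G.t ≫ π := quotSp_condition _ _
  haveI := isLocallySurjective_of_etale_surjective hb hbs
  haveI := isLocallySurjective_of_etale_surjective haU' haUs'
  obtain ⟨t', ht'⟩ := exists_desc_of_kernelPair sqR ((yon S).map cV ≫ π) (by
    rw [← Category.assoc, ← Category.assoc, ← Functor.map_comp, ← Functor.map_comp, ← G.hs₂, ← G.ht₂,
      Functor.map_comp, Functor.map_comp, Category.assoc, Category.assoc, hcond])
  obtain ⟨f', hf'⟩ := exists_desc_of_kernelPair sqRU' ((yon S).map cU ≫ π) (by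
    rw [← Category.assoc, ← Category.assoc, ← Functor.map_comp, ← Functor.map_comp, ← G.hs₁, ← G.ht₁,
      Functor.map_comp, Functor.map_comp, Category.assoc, Category.assoc, hcond])
  have w : t.hom ≫ f' = f.hom ≫ t' := by
    haveI := epi_of_etale_surjective haU haUs
    rw [← cancel_epi aU, ← reassoc_of% sqU'.w, ← reassoc_of% sqU.w, hf', ht', ← Category.assoc,
      ← Category.assoc, ← Functor.map_comp, ← Functor.map_comp, hU.w]
  have sqV' : IsPullback ((yon S).map cV) b π t' :=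
    isPullback_quot_chart hb hbs hE hker sqR G.cart_s.2.2 G.ht₂ ht'.symm
  have sqU'' : IsPullback ((yon S).map cU) aU' π f' :=
    isPullback_quot_chart haU' haUs' hE hker sqRU' G.cart_s.2.1 G.ht₁ hf'.symm
  have hcl : RepWith @IsClosedImmersion t' :=
    repWith_isClosedImmersion_of_etale_cover hπe hπs sqV'.flip ((repWith_yon_map_iff _ _).2 hU.thick_b.1)
  have hsurj : RepWith @Surjective t' := repWith_surjective_of_surjective hcl.rep fun y => by
    obtain ⟨v, rfl⟩ := surjective_map_of_repWith hπs y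
    obtain ⟨v₀, rfl⟩ := surjective_map_of_repWith ((repWith_yon_map_iff _ cV).2 hU.thick_b.2) v
    exact ⟨Points.map b v₀, by rw [← Points.map_comp, ← sqV'.w, Points.map_comp]⟩
  let Y' : Space S := ⟨_, hQ⟩
  refine ⟨Y', ObjectProperty.homMk f', ObjectProperty.homMk t', ?_,
    ⟨hcl.rep, fun _ _ g fst snd sq => ⟨hcl.property g fst snd sq, hsurj.property g fst snd sq⟩⟩,
    ⟨⟨U, U', V', iU, jU, cU, cV, aU, aU', π, sqU, sqU', haU', haUs', hπe, hπs, hU, sqV', sqU''⟩⟩⟩
  have ex : ∀ c : PushoutCocone t f, ∃! g : Y'.obj ⟶ c.pt.obj, f' ≫ g = c.inl.hom ∧ t' ≫ g = c.inr.hom := by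
    intro c
    have hc : t.hom ≫ c.inl.hom = f.hom ≫ c.inr.hom := congrArg InducedCategory.Hom.hom c.condition
    let mkh : ∀ {T : Over S}, ((yon S).obj T ⟶ c.pt.obj) → ((AlgSp.ofScheme S).obj T ⟶ c.pt) :=
      fun g => ObjectProperty.homMk g
    have hw : (AlgSp.ofScheme S).map iU ≫ mkh (aU' ≫ c.inl.hom) =
        (AlgSp.ofScheme S).map jU ≫ mkh (b ≫ c.inr.hom) := ObjectProperty.hom_ext _ (by
      show (yon S).map iU ≫ aU' ≫ c.inl.hom = (yon S).map jU ≫ b ≫ c.inr.hom
      rw [reassoc_of% sqU'.w, reassoc_of% sqU.w, hc])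
    let g₀ : (yon S).obj V' ⟶ c.pt.obj := (hU.spacePO.desc _ _ hw).hom
    have hg₁ : (yon S).map cU ≫ g₀ = aU' ≫ c.inl.hom :=
      congrArg InducedCategory.Hom.hom (hU.spacePO.inl_desc _ _ hw)
    have hg₂ : (yon S).map cV ≫ g₀ = b ≫ c.inr.hom :=
      congrArg InducedCategory.Hom.hom (hU.spacePO.inr_desc _ _ hw)
    have heq : (yon S).map G.t ≫ g₀ = (yon S).map G.s ≫ g₀ := by
      refine congrArg InducedCategory.Hom.hom
        (hR.spacePO.hom_ext (k := mkh ((yon S).map G.t ≫ g₀)) (l := mkh ((yon S).map G.s ≫ g₀))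
          (ObjectProperty.hom_ext _ ?_) (ObjectProperty.hom_ext _ ?_))
      · show (yon S).map dU ≫ (yon S).map G.t ≫ g₀ = (yon S).map dU ≫ (yon S).map G.s ≫ g₀
        rw [← Category.assoc, ← Category.assoc, ← Functor.map_comp, ← Functor.map_comp, G.ht₁, G.hs₁,
          Functor.map_comp, Functor.map_comp, Category.assoc, Category.assoc, hg₁, reassoc_of% sqRU'.w]
      · show (yon S).map dV ≫ (yon S).map G.t ≫ g₀ = (yon S).map dV ≫ (yon S).map G.s ≫ g₀
        rw [← Category.assoc, ← Category.assoc, ← Functor.map_comp, ← Functor.map_comp, G.ht₂, G.hs₂,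
          Functor.map_comp, Functor.map_comp, Category.assoc, Category.assoc, hg₂, reassoc_of% sqR.w]
    obtain ⟨g, hg⟩ := exists_desc_of_kernelPair hker g₀ heq
    haveI := epi_of_etale_surjective hb hbs
    haveI := epi_of_etale_surjective haU' haUs'
    haveI := epi_of_etale_surjective hπe hπs
    refine ⟨g, ⟨?_, ?_⟩, fun g' hg' => ?_⟩
    · rw [← cancel_epi aU', reassoc_of% hf', hg, hg₁]
    · rw [← cancel_epi b, reassoc_of% ht', hg, hg₂]
    · rw [← cancel_epi π, hg]
      refine congrArg InducedCategory.Hom.hom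
        (hU.spacePO.hom_ext (k := mkh (π ≫ g')) (l := mkh g₀) (ObjectProperty.hom_ext _ ?_)
          (ObjectProperty.hom_ext _ ?_))
      · show (yon S).map cU ≫ π ≫ g' = (yon S).map cU ≫ g₀
        rw [hg₁, ← reassoc_of% hf', hg'.1]
      · show (yon S).map cV ≫ π ≫ g' = (yon S).map cV ≫ g₀
        rw [hg₂, ← reassoc_of% ht', hg'.2]
  exact IsPushout.of_isColimit (PushoutCocone.IsColimit.mk
    (show t ≫ (ObjectProperty.homMk f' : X' ⟶ Y') = f ≫ (ObjectProperty.homMk t' : Y ⟶ Y') from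
      ObjectProperty.hom_ext _ w)
    (fun c => ObjectProperty.homMk (ex c).choose)
    (fun c => ObjectProperty.hom_ext _ (ex c).choose_spec.1.1)
    (fun c => ObjectProperty.hom_ext _ (ex c).choose_spec.1.2)
    (fun c m h₁ h₂ => ObjectProperty.hom_ext _ ((ex c).choose_spec.2 m.hom
      ⟨congrArg InducedCategory.Hom.hom h₁, congrArg InducedCategory.Hom.hom h₂⟩)))

end Groth.Agent.AlgSpWA.ThickPO

end
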