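import Groth.Agent.AlgSpWA.CohColim

/-!
# A module covered by a filtered family of submodules is their colimit
-/

set_option autoImplicit false
set_option linter.style.haveILetI false
set_option backward.isDefEq.respectTransparency false
set_option backward.isDefEq.respectTransparency.types false

noncomputable section

universe u v w

open CategoryTheory CategoryTheory.Limits AlgebraicGeometry Opposite AlgSp
open Groth.Agent.QCart13

namespace Groth.Agent.AlgSpWA.UnionColim

variable {S : Scheme.{u}} {X : Sp S} {J : Type w} [Category.{v} J] [IsFiltered J] {D : J ⥤ ModEt X}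

/-- A component of a cocone. -/
abbrev comp (c : Cocone D) (j : J) : D.obj j ⟶ c.pt := c.ι.app j

variable (c₀ : Cocone D)
  (hmono : ∀ j, Mono (comp c₀ j))
  (hlift : ∀ (W : EtOver X), Aff W → ∀ s : sectModEt c₀.pt W, ∃ j t, appL (comp c₀ j) W t = s)

omit [IsFiltered J] in
theorem cι_w (c : Cocone D) {i j : J} (f : i ⟶ j) {E : EtOver X} (x : sectModEt (D.obj i) E) :
    appL (comp c j) E (appL (D.map f) E x) = appL (comp c i) E x :=
  (appL_appL (D.map f) (comp c j) E x).trans (congrArg (fun h : D.obj i ⟶ c.pt => appL h E x) (c.w f))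

variable (c : Cocone D)

include hmono in
theorem cι_indep {i j : J} {E : EtOver X} (x : sectModEt (D.obj i) E) (y : sectModEt (D.obj j) E)
    (h : appL (comp c₀ i) E x = appL (comp c₀ j) E y) : appL (comp c i) E x = appL (comp c j) E y := by
  haveI := hmono (IsFiltered.max i j)
  have he : appL (D.map (IsFiltered.leftToMax i j)) E x = appL (D.map (IsFiltered.rightToMax i j)) E y :=
    injective_appL (comp c₀ (IsFiltered.max i j)) E (by rw [cι_w, cι_w]; exact h)
  rw [← cι_w c (IsFiltered.leftToMax i j), he, cι_w c]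

/-- A value of the descended map. -/
def IsVal {E : EtOver X} (s : sectModEt c₀.pt E) (y : sectModEt c.pt E) : Prop :=
  ∀ (W : EtOver X) (k : W ⟶ E) (i : J) (t : sectModEt (D.obj i) W),
    appL (comp c₀ i) W t = res c₀.pt k s → res c.pt k y = appL (comp c i) W t

/-- The morphisms on which a section lies in some member. -/
def liftSieve {E : EtOver X} (s : sectModEt c₀.pt E) : Sieve E where
  arrows W k := ∃ (i : J) (t : sectModEt (D.obj i) W), appL (comp c₀ i) W t = res c₀.pt k s
  downward_closed := fun ⟨i, t, ht⟩ l => ⟨i, res (D.obj i) l t, by rw [← res_appL, ht, res_comp]⟩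

include hlift in
omit [IsFiltered J] in
theorem liftSieve_mem {E : EtOver X} (s : sectModEt c₀.pt E) : liftSieve c₀ s ∈ etTop X E :=
  covering_of_affine fun W k hW => hlift W hW (res c₀.pt k s)

include hlift in
omit [IsFiltered J] in
theorem isVal_unique {E : EtOver X} {s : sectModEt c₀.pt E} {y y' : sectModEt c.pt E} (h : IsVal c₀ c s y)
    (h' : IsVal c₀ c s y') : y = y' := by
  refine sub_eq_zero.1 (Gen.eq_zero_of_local c.pt (y - y') (liftSieve_mem c₀ hlift s) fun W k hk => ?_)
  obtain ⟨A, t, ht⟩ := hk
  change res c.pt k (y - y') = 0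
  rw [map_sub, h W k A t ht, h' W k A t ht, sub_self]

include hmono hlift in
set_option maxHeartbeats 1000000 in
theorem exists_isVal {E : EtOver X} (s : sectModEt c₀.pt E) : ∃ y, IsVal c₀ c s y := by
  have hF := ((isSheaf_iff_isSheaf_of_type _ _).1
    ((Presheaf.isSheaf_iff_isSheaf_forget (etTop X) c.pt.val.presheaf
      (CategoryTheory.forget AddCommGrpCat.{u + 1})).1 c.pt.isSheaf)) (liftSieve c₀ s)
        (liftSieve_mem c₀ hlift s)
  obtain ⟨y, hy, -⟩ := hF (fun W k hk => appL (comp c hk.choose) W hk.choose_spec.choose) (by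
    intro W₁ W₂ Z g₁ g₂ k₁ k₂ h₁ h₂ e
    show res c.pt g₁ _ = res c.pt g₂ _
    rw [res_appL, res_appL]
    refine cι_indep c₀ hmono c _ _ ?_
    rw [← res_appL, ← res_appL, h₁.choose_spec.choose_spec, h₂.choose_spec.choose_spec, ← res_comp, ← res_comp, e])
  refine ⟨y, fun W k A t ht => ?_⟩
  have hk : liftSieve c₀ s k := ⟨A, t, ht⟩
  exact (hy k hk).trans (cι_indep c₀ hmono c _ _ (hk.choose_spec.choose_spec.trans ht.symm))

include hmono hlift in
theorem exists_desc : ∃ m : c₀.pt ⟶ c.pt, ∀ (E : EtOver X) (s : sectModEt c₀.pt E), IsVal c₀ c s (appL m E s) := by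
  choose v hv using fun (E : EtOver X) (s : sectModEt c₀.pt E) => exists_isVal c₀ hmono hlift c s
  have hnat : ∀ {E E' : EtOver X} (g : E' ⟶ E) (s : sectModEt c₀.pt E), v E' (res c₀.pt g s) = res c.pt g (v E s) :=
    fun g s => isVal_unique c₀ hlift c (hv _ _) fun W k A t ht => by
      rw [← res_comp]
      exact hv _ s W (k ≫ g) A t (ht.trans (res_comp c₀.pt k g s).symm)
  have hadd : ∀ {E : EtOver X} (s s' : sectModEt c₀.pt E), v E (s + s') = v E s + v E s' := fun {E} s s' => by
    refine sub_eq_zero.1 (Gen.eq_zero_of_local c.pt _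
      ((etTop X).intersection_covering (liftSieve_mem c₀ hlift s) (liftSieve_mem c₀ hlift s')) fun W k hk => ?_)
    obtain ⟨⟨A, t, ht⟩, B, t', ht'⟩ := hk
    let f := IsFiltered.leftToMax A B
    let g := IsFiltered.rightToMax A B
    have e1 : appL (comp c₀ (IsFiltered.max A B)) W (appL (D.map f) W t) = res c₀.pt k s := by
      rw [cι_w, ht]
    have e2 : appL (comp c₀ (IsFiltered.max A B)) W (appL (D.map g) W t') = res c₀.pt k s' := by
      rw [cι_w, ht']
    change res c.pt k (v E (s + s') - (v E s + v E s')) = 0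
    rw [map_sub, map_add, hv E s W k _ _ e1, hv E s' W k _ _ e2,
      hv E (s + s') W k _ _ ((map_add _ _ _).trans ((congrArg₂ (· + ·) e1 e2).trans (map_add _ s s').symm)),
      map_add, sub_self]
  have hsmul : ∀ {E : EtOver X} (r : Fn E) (s : sectModEt c₀.pt E), v E (r • s) = r • v E s := fun {E} r s => by
    refine sub_eq_zero.1 (Gen.eq_zero_of_local c.pt _ (liftSieve_mem c₀ hlift s) fun W k hk => ?_)
    obtain ⟨A, t, ht⟩ := hk
    change res c.pt k (v E (r • s) - r • v E s) = 0
    rw [map_sub, res_smul, hv E s W k A t ht,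
      hv E (r • s) W k A (rmap k r • t) (by rw [map_smul, ht, res_smul]), map_smul, sub_self]
  refine ⟨⟨PresheafOfModules.homMk
    { app := fun E => AddCommGrpCat.ofHom (AddMonoidHom.mk' (v E.unop) fun a b => hadd a b)
      naturality := fun E E' g => by
        ext s
        exact hnat g.unop s } fun E r s => hsmul (E := E.unop) r.down s⟩, fun E s => hv E s⟩

include hmono hlift in
theorem nonempty_isColimit : Nonempty (IsColimit c₀) := by
  choose m hm using fun c => exists_desc c₀ hmono hlift c
  refine ⟨{ desc := m, fac := fun c A => ?_, uniq := fun c f hf => ?_ }⟩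
  · refine SheafOfModules.hom_ext (PresheafOfModules.hom_ext fun E => ModuleCat.hom_ext (LinearMap.ext fun t => ?_))
    show appL (m c) E.unop (appL (comp c₀ A) E.unop t) = appL (comp c A) E.unop t
    have := hm c E.unop (appL (comp c₀ A) E.unop t) E.unop (𝟙 _) A t (res_id c₀.pt _ _).symm
    rwa [res_id] at this
  · refine SheafOfModules.hom_ext (PresheafOfModules.hom_ext fun E => ModuleCat.hom_ext (LinearMap.ext fun s => ?_))
    refine isVal_unique c₀ hlift c (y := appL f E.unop s) (fun W k A t ht => ?_) (hm c _ s)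
    refine (res_appL f k s).trans ((congrArg (appL f W) ht.symm).trans ?_)
    refine (appL_appL (comp c₀ A) f W t).trans ?_
    exact congrArg (fun h : D.obj A ⟶ c.pt => appL h W t) (hf A)

end Groth.Agent.AlgSpWA.UnionColim
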