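import Groth.Agent.AlgSpWA.MVBound

/-!
# Mayer-Vietoris for the opens of an affine chart
-/

set_option autoImplicit false
set_option backward.isDefEq.respectTransparency false
set_option backward.isDefEq.respectTransparency.types false
set_option linter.style.haveILetI false

noncomputable section

universe u

open CategoryTheory CategoryTheory.Limits AlgebraicGeometry Opposite AlgSp Abelian

namespace Groth.Agent.AlgSpWA.ZarMV

open Groth.Agent.AlgSpDec Groth.Agent.AlgSpLib MVSheaf MVBound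

variable {S : Scheme.{u}} {X : Sp S}

theorem shortExact_sc {E U V UV : Sp S} {e : E ⟶ X} {j : U ⟶ E} {f : V ⟶ E} {p : UV ⟶ U} {q : UV ⟶ V}
    (hE : IsAlgSpace E) (hj : RepWith @IsOpenImmersion j) (sq : IsPullback p q j f) (hsq : IsElemDistSq j f)
    {T : Over S} (θ : (yon S).obj T ≅ V) (hT : IsAffine T.left) {e1 : U ⟶ X} {e2 : V ⟶ X} {e12 : UV ⟶ X}
    (h1 : j ≫ e = e1) (h2 : f ≫ e = e2) (h12 : p ≫ e1 = e12) (h12' : q ≫ e2 = e12)
    (w : biprod.lift (AMap p h12) (-AMap q h12') ≫ biprod.desc (AMap j h1) (AMap f h2) = 0) :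
    (ShortComplex.mk _ _ w).ShortExact := by
  subst h1 h2 h12
  let sq' := freeSq e sq
  have hc := (isPushout_freeSq (e := e) hE hj sq hsq θ hT).isColimitCokernelCofork
  haveI := mono_of_openImm hj
  haveI : Mono q := PullbackCone.mono_snd_of_is_pullback_of_mono sq.isLimit
  haveI : Mono sq'.f₁₃ := mono_AMap q _
  let Sc : ShortComplex (AbEt X) := ShortComplex.mk (biprod.lift sq'.f₁₂ (-sq'.f₁₃)) (biprod.desc sq'.f₂₄ sq'.f₃₄)
    sq'.cokernelCofork.condition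
  show Sc.ShortExact
  haveI : Mono Sc.f := by
    haveI : Mono (Sc.f ≫ biprod.snd) := by
      show Mono (biprod.lift sq'.f₁₂ (-sq'.f₁₃) ≫ biprod.snd)
      rw [biprod.lift_snd]
      infer_instance
    exact mono_of_mono _ biprod.snd
  haveI : Epi Sc.g := Cofork.IsColimit.epi hc
  exact { exact := ShortComplex.exact_of_g_is_cokernel Sc hc }

variable {T : Over S} (e : (yon S).obj T ⟶ X)

/-- An open of the chart as a scheme over the base. -/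
abbrev sob (O : T.left.Opens) : Over S := Over.mk (O.ι ≫ T.hom)

/-- The inclusion of opens. -/
def inc {O O' : T.left.Opens} (h : O ≤ O') : sob O ⟶ sob O' :=
  Over.homMk (T.left.homOfLE h) (by
    show T.left.homOfLE h ≫ O'.ι ≫ T.hom = O.ι ≫ T.hom
    rw [← Category.assoc, Scheme.homOfLE_ι])

/-- The inclusion of an open. -/
def incT (O : T.left.Opens) : sob O ⟶ T := Over.homMk O.ι rfl

theorem inc_incT {O O' : T.left.Opens} (h : O ≤ O') : inc h ≫ incT O' = incT O :=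
  Over.OverMorphism.ext (T.left.homOfLE_ι h)

theorem inc_inc {O O' O'' : T.left.Opens} (h : O ≤ O') (h' : O' ≤ O'') : inc h ≫ inc h' = inc (h.trans h') :=
  Over.OverMorphism.ext (T.left.homOfLE_homOfLE h h')

theorem inc_rfl (O : T.left.Opens) : inc (le_refl O) = 𝟙 (sob O) :=
  Over.OverMorphism.ext (T.left.homOfLE_rfl O)

/-- The structure map of an open. -/
abbrev eO (O : T.left.Opens) : (yon S).obj (sob O) ⟶ X := (yon S).map (incT O) ≫ e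

theorem eO_inc {O O' : T.left.Opens} (h : O ≤ O') : (yon S).map (inc h) ≫ eO e O' = eO e O := by
  rw [eO, ← Category.assoc, ← Functor.map_comp, inc_incT]

/-- The free sheaf of an open. -/
abbrev B (O : T.left.Opens) : AbEt X := A (eO e O)

/-- The inclusion of free sheaves. -/
abbrev r {O O' : T.left.Opens} (h : O ≤ O') : B e O ⟶ B e O' := AMap ((yon S).map (inc h)) (eO_inc e h)

theorem AMap_congr {F F' : Sp S} {e : F ⟶ X} {e' : F' ⟶ X} {φ φ' : F ⟶ F'} (h : φ ≫ e' = e) (e0 : φ = φ') :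
    AMap φ h = AMap φ' (e0 ▸ h) := by
  subst e0; rfl

theorem AMap_comp_eq {F F' F'' : Sp S} {e : F ⟶ X} {e' : F' ⟶ X} {e'' : F'' ⟶ X} {φ : F ⟶ F'} {ψ : F' ⟶ F''}
    {χ : F ⟶ F''} (h : φ ≫ e' = e) (h' : ψ ≫ e'' = e') (h'' : χ ≫ e'' = e) (he : φ ≫ ψ = χ) :
    AMap φ h ≫ AMap ψ h' = AMap χ h'' := by
  subst he; exact AMap_comp φ h ψ h'

theorem r_trans {O O' O'' : T.left.Opens} (h : O ≤ O') (h' : O' ≤ O'') : r e h ≫ r e h' = r e (h.trans h') :=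
  AMap_comp_eq (eO_inc e h) (eO_inc e h') (eO_inc e (h.trans h'))
    (((yon S).map_comp (inc h) (inc h')).symm.trans (congrArg (yon S).map (inc_inc h h')))

theorem r_rfl (O : T.left.Opens) (h : O ≤ O) : r e h = 𝟙 (B e O) := by
  rw [r, AMap_congr (eO_inc e h) (show (yon S).map (inc h) = 𝟙 _ by rw [inc_rfl, CategoryTheory.Functor.map_id])]
  show (presheafToSheaf (etTop X) AddCommGrpCat.{u + 1}).map _ = _
  rw [show preMap (𝟙 ((yon S).obj (sob O))) (Category.id_comp (eO e O)) = 𝟙 (pre (eO e O)) from ?_,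
    Functor.whiskerRight_id', CategoryTheory.Functor.map_id]
  · rfl
  · ext W y
    exact Subtype.ext (Category.comp_id _)

theorem repWith_inc {O O' : T.left.Opens} (h : O ≤ O') : RepWith @IsOpenImmersion ((yon S).map (inc h)) :=
  (repWith_yon_map_iff _ _).2 (inferInstanceAs (IsOpenImmersion (T.left.homOfLE h)))

theorem isPullback_inc {O₁ O₂ : T.left.Opens} :
    IsPullback ((yon S).map (inc (inf_le_left : O₁ ⊓ O₂ ≤ O₁))) ((yon S).map (inc inf_le_right))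
      ((yon S).map (inc (le_sup_left : O₁ ≤ O₁ ⊔ O₂))) ((yon S).map (inc le_sup_right)) :=
  (IsPullback.of_map (Over.forget S) (show inc (inf_le_left : O₁ ⊓ O₂ ≤ O₁) ≫ inc le_sup_left =
      inc (inf_le_right : O₁ ⊓ O₂ ≤ O₂) ≫ inc (le_sup_right : O₂ ≤ O₁ ⊔ O₂) by rw [inc_inc, inc_inc])
    (isPullback_opens_inf_le (X := T.left) (le_sup_left : O₁ ≤ O₁ ⊔ O₂)
      (le_sup_right : O₂ ≤ O₁ ⊔ O₂))).map (yon S)

theorem isElemDistSq_inc {O₁ O₂ : T.left.Opens} :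
    IsElemDistSq ((yon S).map (inc (le_sup_left : O₁ ≤ O₁ ⊔ O₂))) ((yon S).map (inc le_sup_right)) := by
  haveI := mono_of_openImm (repWith_inc (le_sup_right : O₂ ≤ O₁ ⊔ O₂))
  refine InductionPrinciple.isElemDistSq_of_unique (IsAlgSpace.yon_obj _) (repWith_inc _) _
    (repWith_mono (fun _ _ m (_ : IsOpenImmersion m) => inferInstanceAs (Etale m)) _ (repWith_inc _))
    (fun x hx => ?_) fun Z y y' h _ => (yon S).map_injective ((cancel_mono _).1 h)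
  have hxO := (Points.toScheme (sob (O₁ ⊔ O₂)) x).2
  rcases hxO with h1 | h2
  · refine absurd ⟨Points.ofScheme (sob O₁) ⟨_, h1⟩, ?_⟩ hx
    rw [← Points.ofPt_eq_map_ofScheme]
    refine (Function.LeftInverse.injective (Points.ofScheme_toScheme (sob (O₁ ⊔ O₂)))) ?_
    rw [Points.toScheme_ofPt]
    exact Subtype.ext (congrArg Subtype.val (T.left.homOfLE_apply' (le_sup_left : O₁ ≤ O₁ ⊔ O₂) _ h1))
  · refine ⟨⟨_, h2⟩, ?_⟩
    refine (Function.LeftInverse.injective (Points.ofScheme_toScheme (sob (O₁ ⊔ O₂)))) ?_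
    rw [Points.toScheme_ofPt]
    exact Subtype.ext (congrArg Subtype.val (T.left.homOfLE_apply' (le_sup_right : O₂ ≤ O₁ ⊔ O₂) _ h2))

/-- The Mayer-Vietoris sequence of two opens. -/
abbrev sc (O₁ O₂ : T.left.Opens) : ShortComplex (AbEt X) :=
  ShortComplex.mk (biprod.lift (r e (inf_le_left : O₁ ⊓ O₂ ≤ O₁)) (-r e (inf_le_right : O₁ ⊓ O₂ ≤ O₂)))
    (biprod.desc (r e (le_sup_left : O₁ ≤ O₁ ⊔ O₂)) (r e le_sup_right))
    (by rw [biprod.lift_desc, Preadditive.neg_comp, r_trans, r_trans, add_neg_cancel])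

theorem shortExact_mv (O₁ O₂ : T.left.Opens) (h₂ : IsAffine (O₂ : Scheme.{u})) : (sc e O₁ O₂).ShortExact :=
  shortExact_sc (e := eO e (O₁ ⊔ O₂)) (IsAlgSpace.yon_obj _) (repWith_inc _) isPullback_inc
    isElemDistSq_inc (Iso.refl _) h₂ (eO_inc e le_sup_left) (eO_inc e le_sup_right)
    (eO_inc e inf_le_left) (eO_inc e inf_le_right) _

variable (G : AbEt X)

/-- Restriction of classes. -/
def ρ {O O' : T.left.Opens} (h : O ≤ O') (n : ℕ) : Ext (B e O') G n →+ Ext (B e O) G n :=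
  AddMonoidHom.mk' (fun z => (Ext.mk₀ (r e h)).comp z (zero_add n)) fun a b => Ext.comp_add _ _ _ _

theorem ρ_apply {O O' : T.left.Opens} (h : O ≤ O') {n : ℕ} (z : Ext (B e O') G n) :
    ρ e G h n z = (Ext.mk₀ (r e h)).comp z (zero_add n) := rfl

theorem ρ_trans {O O' O'' : T.left.Opens} (h : O ≤ O') (h' : O' ≤ O'') {n : ℕ} (z : Ext (B e O'') G n) :
    ρ e G h n (ρ e G h' n z) = ρ e G (h.trans h') n z := by
  rw [ρ_apply, ρ_apply, ρ_apply, Ext.mk₀_comp_mk₀_assoc, r_trans]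

theorem ρ_rfl {O : T.left.Opens} (h : O ≤ O) {n : ℕ} (z : Ext (B e O) G n) : ρ e G h n z = z := by
  rw [ρ_apply, r_rfl, Ext.mk₀_id_comp]

theorem ρ_bijective {O O' : T.left.Opens} (h : O ≤ O') (h' : O' ≤ O) (n : ℕ) : Function.Bijective (ρ e G h n) :=
  ⟨fun a b hab => by
      simpa [ρ_trans, ρ_rfl] using congrArg (ρ e G h' n) hab,
    fun z => ⟨ρ e G h' n z, by rw [ρ_trans, ρ_rfl]⟩⟩

/-- The connecting map. -/
def δ (O₁ O₂ : T.left.Opens) (h₂ : IsAffine (O₂ : Scheme.{u})) (n : ℕ) :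
    Ext (B e (O₁ ⊓ O₂)) G n →+ Ext (B e (O₁ ⊔ O₂)) G (n + 1) :=
  AddMonoidHom.mk' (fun z => (shortExact_mv e O₁ O₂ h₂).extClass.comp z (add_comm 1 n))
    fun a b => Ext.comp_add _ _ _ _

theorem δ_surjective (O₁ O₂ : T.left.Opens) (h₂ : IsAffine (O₂ : Scheme.{u})) (n : ℕ)
    (a1 : Subsingleton (Ext (B e O₁) G (n + 1))) (a2 : Subsingleton (Ext (B e O₂) G (n + 1))) :
    Function.Surjective (δ e G O₁ O₂ h₂ n) := fun x => by
  haveI : Subsingleton (Ext (sc e O₁ O₂).X₂ G (n + 1)) :=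
    @Equiv.subsingleton _ _ Ext.biprodAddEquiv.toEquiv (@instSubsingletonProd _ _ a1 a2)
  obtain ⟨x₁, hx₁⟩ := Ext.contravariant_sequence_exact₃ (shortExact_mv e O₁ O₂ h₂) G x (Subsingleton.elim _ _)
    (add_comm 1 n)
  exact ⟨x₁, hx₁⟩

theorem δ_ρ_left (O₁ O₂ : T.left.Opens) (h₂ : IsAffine (O₂ : Scheme.{u})) {n : ℕ} (y : Ext (B e O₁) G n) :
    δ e G O₁ O₂ h₂ n (ρ e G inf_le_left n y) = 0 := by
  have h : (sc e O₁ O₂).f ≫ biprod.fst = r e (inf_le_left : O₁ ⊓ O₂ ≤ O₁) := biprod.lift_fst _ _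
  show (shortExact_mv e O₁ O₂ h₂).extClass.comp ((Ext.mk₀ (r e inf_le_left)).comp y (zero_add n)) (add_comm 1 n) = 0
  rw [← h, ← Ext.mk₀_comp_mk₀_assoc]
  exact (shortExact_mv e O₁ O₂ h₂).extClass_comp_assoc _

theorem δ_ρ_right (O₁ O₂ : T.left.Opens) (h₂ : IsAffine (O₂ : Scheme.{u})) {n : ℕ} (y : Ext (B e O₂) G n) :
    δ e G O₁ O₂ h₂ n (ρ e G inf_le_right n y) = 0 := by
  have h : (sc e O₁ O₂).f ≫ (-biprod.snd) = r e (inf_le_right : O₁ ⊓ O₂ ≤ O₂) := by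
    rw [Preadditive.comp_neg]
    show -(biprod.lift _ _ ≫ biprod.snd) = _
    rw [biprod.lift_snd, neg_neg]
  show (shortExact_mv e O₁ O₂ h₂).extClass.comp ((Ext.mk₀ (r e inf_le_right)).comp y (zero_add n)) (add_comm 1 n) = 0
  rw [← h, ← Ext.mk₀_comp_mk₀_assoc]
  exact (shortExact_mv e O₁ O₂ h₂).extClass_comp_assoc _

theorem δ_natural {O₁ O₂ O₁' O₂' : T.left.Opens} (h₂ : IsAffine (O₂ : Scheme.{u}))
    (h₂' : IsAffine (O₂' : Scheme.{u})) (l₁ : O₁' ≤ O₁) (l₂ : O₂' ≤ O₂) {n : ℕ} (y : Ext (B e (O₁ ⊓ O₂)) G n) :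
    δ e G O₁' O₂' h₂' n (ρ e G (inf_le_inf l₁ l₂) n y) =
      ρ e G (sup_le_sup l₁ l₂) (n + 1) (δ e G O₁ O₂ h₂ n y) := by
  let φ : sc e O₁' O₂' ⟶ sc e O₁ O₂ :=
    { τ₁ := r e (inf_le_inf l₁ l₂)
      τ₂ := biprod.map (r e l₁) (r e l₂)
      τ₃ := r e (sup_le_sup l₁ l₂)
      comm₁₂ := by
        apply biprod.hom_ext <;> simp [r_trans]
      comm₂₃ := by
        apply biprod.hom_ext' <;> simp [r_trans] }
  show (shortExact_mv e O₁' O₂' h₂').extClass.comp ((Ext.mk₀ φ.τ₁).comp y (zero_add n)) (add_comm 1 n) =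
    (Ext.mk₀ φ.τ₃).comp ((shortExact_mv e O₁ O₂ h₂).extClass.comp y (add_comm 1 n)) (zero_add (n + 1))
  rw [← Ext.comp_assoc (a₁₂ := 1) _ _ _ (add_zero 1) _ (by lia),
    ShortComplex.ShortExact.extClass_naturality (shortExact_mv e O₁' O₂' h₂') (shortExact_mv e O₁ O₂ h₂) φ,
    Ext.comp_assoc (a₂₃ := n + 1) _ _ _ _ (add_comm 1 n) (by lia)]

/-- The connecting map, with its source and target replaced by given opens. -/
def δc {O₁ O₂ O O₁₂ : T.left.Opens} (h₂ : IsAffine (O₂ : Scheme.{u})) (a : O ≤ O₁ ⊔ O₂) (b : O₁ ⊓ O₂ ≤ O₁₂)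
    (n : ℕ) : Ext (B e O₁₂) G n →+ Ext (B e O) G (n + 1) :=
  ((ρ e G a (n + 1)).comp (δ e G O₁ O₂ h₂ n)).comp (ρ e G b n)

variable {O₁ O₂ O O₁₂ : T.left.Opens} (h₂ : IsAffine (O₂ : Scheme.{u})) (a : O ≤ O₁ ⊔ O₂) (b : O₁ ⊓ O₂ ≤ O₁₂)

theorem δc_apply {n : ℕ} (z : Ext (B e O₁₂) G n) :
    δc e G h₂ a b n z = ρ e G a (n + 1) (δ e G O₁ O₂ h₂ n (ρ e G b n z)) := rfl

theorem δc_surjective (a' : O₁ ⊔ O₂ ≤ O) (b' : O₁₂ ≤ O₁ ⊓ O₂) (n : ℕ)
    (a1 : Subsingleton (Ext (B e O₁) G (n + 1))) (a2 : Subsingleton (Ext (B e O₂) G (n + 1))) :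
    Function.Surjective (δc e G h₂ a b n) := fun z => by
  obtain ⟨z₁, rfl⟩ := (ρ_bijective e G a a' (n + 1)).surjective z
  obtain ⟨z₂, rfl⟩ := δ_surjective e G O₁ O₂ h₂ n a1 a2 z₁
  obtain ⟨z₃, rfl⟩ := (ρ_bijective e G b b' n).surjective z₂
  exact ⟨z₃, rfl⟩

theorem δc_left {Q : T.left.Opens} (h : O₁₂ ≤ Q) (h' : O₁ ≤ Q) {n : ℕ} (y : Ext (B e Q) G n) :
    δc e G h₂ a b n (ρ e G h n y) = 0 := by
  rw [δc_apply, ρ_trans, show ρ e G (b.trans h) n y = ρ e G inf_le_left n (ρ e G h' n y) from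
    (ρ_trans e G _ h' y).symm, δ_ρ_left, map_zero]

theorem δc_right {Q : T.left.Opens} (h : O₁₂ ≤ Q) (h' : O₂ ≤ Q) {n : ℕ} (y : Ext (B e Q) G n) :
    δc e G h₂ a b n (ρ e G h n y) = 0 := by
  rw [δc_apply, ρ_trans, show ρ e G (b.trans h) n y = ρ e G inf_le_right n (ρ e G h' n y) from
    (ρ_trans e G _ h' y).symm, δ_ρ_right, map_zero]

theorem δc_natural {P₁ P₂ P P₁₂ : T.left.Opens} (hp₂ : IsAffine (P₂ : Scheme.{u})) (c : P ≤ P₁ ⊔ P₂)
    (c' : P₁ ⊔ P₂ ≤ P) (d : P₁ ⊓ P₂ ≤ P₁₂) (l₁ : O₁ ≤ P₁) (l₂ : O₂ ≤ P₂) (l : O ≤ P) {Q : T.left.Opens}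
    (h : O₁₂ ≤ Q) (h' : P₁₂ ≤ Q) {n : ℕ} (y : Ext (B e Q) G n) :
    δc e G h₂ a b n (ρ e G h n y) = ρ e G l (n + 1) (δc e G hp₂ c d n (ρ e G h' n y)) := by
  rw [δc_apply, δc_apply, ρ_trans, ρ_trans, ρ_trans,
    show ρ e G (b.trans h) n y = ρ e G (inf_le_inf l₁ l₂) n (ρ e G (d.trans h') n y) from
      (ρ_trans e G _ (d.trans h') y).symm, δ_natural e G hp₂ h₂ l₁ l₂, ρ_trans]

end Groth.Agent.AlgSpWA.ZarMV
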