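import Groth.Agent.AlgSpWA.ZarMV

/-!
# The top cohomology of a union of basic opens of an affine chart
-/

set_option autoImplicit false
set_option backward.isDefEq.respectTransparency false
set_option backward.isDefEq.respectTransparency.types false
set_option linter.style.haveILetI false

noncomputable section

universe u

open CategoryTheory CategoryTheory.Limits AlgebraicGeometry Opposite AlgSp Abelian

namespace Groth.Agent.AlgSpWA.ZarTop

open Groth.Agent.AlgSpDec Groth.Agent.AlgSpLib MVSheaf MVBound ZarMV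

variable {S : Scheme.{u}} {X : Sp S} {T : Over S}

/-- The basic open. -/
abbrev D (a : Γ(T.left, ⊤)) : T.left.Opens := T.left.basicOpen a

/-- The union of the basic opens of a list. -/
def supD : List Γ(T.left, ⊤) → T.left.Opens
  | [] => ⊥
  | x :: l => D x ⊔ supD l

/-- The union of the basic opens of a list, cut with a basic open. -/
def U (l : List Γ(T.left, ⊤)) (f : Γ(T.left, ⊤)) : T.left.Opens := D f ⊓ supD l

theorem supD_eq (l : List Γ(T.left, ⊤)) : supD l = ⨆ x ∈ l, D x := by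
  induction l with
  | nil => simp [supD]
  | cons x l ih => simp [supD, ih, iSup_or, iSup_sup_eq]

theorem U_cons (x : Γ(T.left, ⊤)) (l : List Γ(T.left, ⊤)) (f : Γ(T.left, ⊤)) :
    U (x :: l) f = U l f ⊔ D (x * f) := by
  simp only [U, supD, D, Scheme.basicOpen_mul]
  rw [inf_sup_left, sup_comm, inf_comm (T.left.basicOpen f) (T.left.basicOpen x)]

theorem U_mul (x : Γ(T.left, ⊤)) (l : List Γ(T.left, ⊤)) (f : Γ(T.left, ⊤)) :
    U l f ⊓ D (x * f) = U l (x * f) := by
  simp only [U, D, Scheme.basicOpen_mul]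
  exact le_antisymm (le_inf inf_le_right (inf_le_left.trans inf_le_right))
    (le_inf (le_inf (inf_le_left.trans inf_le_right) inf_le_right) inf_le_left)

theorem U_single (y f : Γ(T.left, ⊤)) : U [y] f = D (y * f) := by
  simp only [U, supD, sup_bot_eq, D, Scheme.basicOpen_mul]
  rw [inf_comm]

theorem U_mono (l : List Γ(T.left, ⊤)) {f h : Γ(T.left, ⊤)} (hf : D f ≤ D h) : U l f ≤ U l h :=
  inf_le_inf_right _ hf

theorem D_mul_mono (x : Γ(T.left, ⊤)) {f h : Γ(T.left, ⊤)} (hf : D f ≤ D h) : D (x * f) ≤ D (x * h) := by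
  rw [D, D, Scheme.basicOpen_mul, Scheme.basicOpen_mul]
  exact inf_le_inf_left _ hf

theorem D_mul_le_right (x f : Γ(T.left, ⊤)) : D (x * f) ≤ D f := by
  rw [D, Scheme.basicOpen_mul]; exact inf_le_right

theorem isAffine_D [IsAffine T.left] (a : Γ(T.left, ⊤)) : IsAffine (D a : Scheme.{u}) :=
  (isAffineOpen_top T.left).basicOpen a

variable (e : (yon S).obj T ⟶ X) (G : AbEt X) [IsAffine T.left]

/-- The connecting map of adding a basic open. -/
abbrev δ' (x : Γ(T.left, ⊤)) (l : List Γ(T.left, ⊤)) (f : Γ(T.left, ⊤)) (n : ℕ) :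
    Ext (B e (U l (x * f))) G n →+ Ext (B e (U (x :: l) f)) G (n + 1) :=
  δc e G (isAffine_D (x * f)) (U_cons x l f).le (U_mul x l f).le n

theorem δ'_surjective (x : Γ(T.left, ⊤)) (l : List Γ(T.left, ⊤)) (f : Γ(T.left, ⊤)) (n : ℕ)
    (a1 : Subsingleton (Ext (B e (U l f)) G (n + 1))) (a2 : Subsingleton (Ext (B e (D (x * f))) G (n + 1))) :
    Function.Surjective (δ' e G x l f n) :=
  δc_surjective e G _ _ _ (U_cons x l f).ge (U_mul x l f).ge n a1 a2

theorem δ'_natural (x : Γ(T.left, ⊤)) (l : List Γ(T.left, ⊤)) {f h : Γ(T.left, ⊤)} (hf : D f ≤ D h) {n : ℕ}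
    {Q : T.left.Opens} (h1 : U l (x * f) ≤ Q) (h1' : U l (x * h) ≤ Q) (y : Ext (B e Q) G n) :
    δ' e G x l f n (ρ e G h1 n y) =
      ρ e G (U_mono (x :: l) hf) (n + 1) (δ' e G x l h n (ρ e G h1' n y)) :=
  δc_natural e G _ _ _ _ _ (U_cons x l h).ge _ (U_mono l hf) (D_mul_mono x hf) _ h1 h1' y

/-- The classes coming from a larger open. -/
def img (n : ℕ) (O O' : T.left.Opens) : AddSubgroup (Ext (B e O) G n) :=
  ⨆ h : O ≤ O', (ρ e G h n).range

theorem mem_img {n : ℕ} {O O' : T.left.Opens} (h : O ≤ O') (y : Ext (B e O') G n) :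
    ρ e G h n y ∈ img e G n O O' :=
  le_iSup (fun h : O ≤ O' => (ρ e G h n).range) h ⟨y, rfl⟩

/-- The product of a list and a factor. -/
def P (x y : Γ(T.left, ⊤)) : List Γ(T.left, ⊤) → Γ(T.left, ⊤) → Γ(T.left, ⊤)
  | [], f => y * (x * f)
  | z :: l, f => P y z l (x * f)

/-- The factors whose sections have to be combined. -/
def K (x y : Γ(T.left, ⊤)) : List Γ(T.left, ⊤) → Γ(T.left, ⊤) → List Γ(T.left, ⊤) → List Γ(T.left, ⊤)
  | [], f, H => (y * f) :: (x * f) :: H.map fun h => y * (x * h)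
  | z :: l, f, H => K y z l (x * f) (f :: H.map (x * ·))

variable (hV : ∀ (a : Γ(T.left, ⊤)) (q : ℕ), Subsingleton (Ext (B e (D a)) G (q + 1)))

include hV in
theorem subsingleton_union : ∀ (l : List Γ(T.left, ⊤)) (x f : Γ(T.left, ⊤)) (q : ℕ), l.length ≤ q →
    Subsingleton (Ext (B e (U (x :: l) f)) G (q + 1))
  | [], x, f, q, _ => by
    rw [U_single]; exact hV _ q
  | y :: l, x, f, q, hq => by
    obtain ⟨q, rfl⟩ : ∃ m, q = m + 1 := ⟨q - 1, by simp only [List.length_cons] at hq; omega⟩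
    have hq' : l.length ≤ q := by simpa using hq
    haveI := subsingleton_union l y (x * f) q hq'
    exact (δ'_surjective e G x (y :: l) f (q + 1) (subsingleton_union l y f (q + 1) (by omega))
      (hV _ _)).subsingleton

set_option maxHeartbeats 1600000 in
include hV in
theorem top_le : ∀ (l : List Γ(T.left, ⊤)) (x y f : Γ(T.left, ⊤)) (H : List Γ(T.left, ⊤)),
    (∀ h ∈ H, D f ≤ D h) → ⊤ ≤ ⨆ g ∈ K x y l f H, img e G 0 (D (P x y l f)) (D g) →
    ⊤ ≤ ⨆ h ∈ H, img e G (l.length + 1) (U (x :: y :: l) f) (U (x :: y :: l) h)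
  | [], x, y, f, H, hH, hgen => by
    intro z _
    obtain ⟨z₁, rfl⟩ := δ'_surjective e G x [y] f 0 (subsingleton_union e G hV [] y f 0 le_rfl) (hV _ _) z
    obtain ⟨z₂, rfl⟩ := (ρ_bijective e G (U_single y (x * f)).le (U_single y (x * f)).ge 0).surjective z₁
    refine (show (⨆ g ∈ K x y [] f H, img e G 0 (D (P x y [] f)) (D g)) ≤
      AddSubgroup.comap ((δ' e G x [y] f 0).comp (ρ e G (U_single y (x * f)).le 0))
        (⨆ h ∈ H, img e G (0 + 1) (U [x, y] f) (U [x, y] h)) from iSup₂_le fun g hg => iSup_le fun hPg => ?_) (hgen trivial)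
    rintro _ ⟨w, rfl⟩
    rw [AddSubgroup.mem_comap]
    refine (congrArg (· ∈ _) (congrArg (δ' e G x [y] f 0) (ρ_trans e G (U_single y (x * f)).le hPg w))).mpr ?_
    rcases List.mem_cons.1 hg with rfl | hg
    · exact (congrArg (· ∈ _) (δc_left e G _ _ _ _ (U_single y f).le w)).mpr (zero_mem _)
    rcases List.mem_cons.1 hg with rfl | hg
    · exact (congrArg (· ∈ _) (δc_right e G _ _ _ _ le_rfl w)).mpr (zero_mem _)
    obtain ⟨h, hh, rfl⟩ := List.mem_map.1 hg
    exact (congrArg (· ∈ _) (δ'_natural e G x [y] (hH h hh) _ (U_single y (x * h)).le w)).mpr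
      (le_iSup₂ (f := fun h (_ : h ∈ H) => img e G (0 + 1) (U [x, y] f) (U [x, y] h)) h hh (mem_img e G _ _))
  | z' :: l, x, y, f, H, hH, hgen => by
    intro z _
    obtain ⟨z₁, rfl⟩ := δ'_surjective e G x (y :: z' :: l) f (l.length + 1)
      (subsingleton_union e G hV (z' :: l) y f (l.length + 1) le_rfl) (hV _ _) z
    have hH' : ∀ h ∈ f :: H.map (x * ·), D (x * f) ≤ D h := by
      intro h hh
      rcases List.mem_cons.1 hh with rfl | hh
      · exact D_mul_le_right x _
      · obtain ⟨h₀, hh₀, rfl⟩ := List.mem_map.1 hh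
        exact D_mul_mono x (hH h₀ hh₀)
    refine (show (⨆ h ∈ f :: H.map (x * ·), img e G (l.length + 1) (U (y :: z' :: l) (x * f)) (U (y :: z' :: l) h)) ≤
      AddSubgroup.comap (δ' e G x (y :: z' :: l) f (l.length + 1))
        (⨆ h ∈ H, img e G (l.length + 2) (U (x :: y :: z' :: l) f) (U (x :: y :: z' :: l) h)) from
      iSup₂_le fun g hg => iSup_le fun hPg => ?_) (top_le l y z' (x * f) _ hH' hgen trivial)
    rintro _ ⟨w, rfl⟩
    rw [AddSubgroup.mem_comap]
    rcases List.mem_cons.1 hg with rfl | hg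
    · exact (congrArg (· ∈ _) (δc_left e G _ _ _ hPg le_rfl w)).mpr (zero_mem _)
    obtain ⟨h, hh, rfl⟩ := List.mem_map.1 hg
    exact (congrArg (· ∈ _) (δ'_natural e G x (y :: z' :: l) (hH h hh) hPg le_rfl w)).mpr
      (le_iSup₂ (f := fun h (_ : h ∈ H) => img e G (l.length + 2) (U (x :: y :: z' :: l) f)
        (U (x :: y :: z' :: l) h)) h hh (mem_img e G _ _))

theorem P_mul : ∀ (l : List Γ(T.left, ⊤)) (x y f c : Γ(T.left, ⊤)), P x y l (f * c) = P x y l f * c
  | [], x, y, f, c => by simp only [P]; ring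
  | z :: l, x, y, f, c => by
    simp only [P]
    rw [← mul_assoc, P_mul l y z (x * f) c]

theorem P_eq_prod : ∀ (l : List Γ(T.left, ⊤)) (x y f : Γ(T.left, ⊤)), P x y l f = (x :: y :: l).prod * f
  | [], x, y, f => by simp [P]; ring
  | z :: l, x, y, f => by
    simp only [P, List.prod_cons]
    rw [P_eq_prod l y z (x * f)]
    simp only [List.prod_cons]; ring

/-- Every product missing one factor is among the combined ones. -/
theorem mem_K : ∀ (l : List Γ(T.left, ⊤)) (x y f : Γ(T.left, ⊤)) (H : List Γ(T.left, ⊤)),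
    (∀ h ∈ H, P x y l h ∈ K x y l f H) ∧ ∀ z ∈ x :: y :: l, ∃ g ∈ K x y l f H, g * z = P x y l f
  | [], x, y, f, H => by
    refine ⟨fun h hh => ?_, fun z hz => ?_⟩
    · simp only [K, P, List.mem_cons, List.mem_map]
      exact Or.inr (Or.inr ⟨h, hh, rfl⟩)
    · simp only [List.mem_cons, List.not_mem_nil, or_false] at hz
      rcases hz with rfl | rfl
      · exact ⟨y * f, by simp [K], by simp only [P]; ring⟩
      · exact ⟨x * f, by simp [K], by simp only [P]; ring⟩
  | w :: l, x, y, f, H => by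
    obtain ⟨h1, h2⟩ := mem_K l y w (x * f) (f :: H.map (x * ·))
    refine ⟨fun h hh => h1 _ (List.mem_cons_of_mem _ (List.mem_map.2 ⟨h, hh, rfl⟩)), fun z hz => ?_⟩
    rcases List.mem_cons.1 hz with rfl | hz
    · refine ⟨P y w l f, h1 _ (List.mem_cons_self), ?_⟩
      simp only [P]
      rw [mul_comm z f, P_mul]
    · exact h2 z hz

end Groth.Agent.AlgSpWA.ZarTop
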